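import Mathlib
import Cfsg.Prelude.Def_ClassicalGeometry

set_option autoImplicit false

namespace Cfsg.Agent.Lib.Helper13

open Matrix

/-- In a finite field of order `q ^ 2`, the map `a ↦ a ^ q` is a ring homomorphism. -/
theorem exists_powRingHom {F : Type*} [Field F] [Fintype F] {q : ℕ}
    (hF : Fintype.card F = q ^ 2) : ∃ φ : F →+* F, ∀ a, φ a = a ^ q := by
  obtain ⟨p, hchar, n, hp, hcard⟩ := FiniteField.card' F
  have hq : q ∣ p ^ (n : ℕ) := by
    rw [← hcard, hF]
    exact Dvd.intro_left (q ^ 1) (by ring)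
  obtain ⟨j, _, rfl⟩ := (Nat.dvd_prime_pow hp).mp hq
  haveI : Fact p.Prime := ⟨hp⟩
  haveI : ExpChar F p := ExpChar.prime hp
  exact ⟨iterateFrobenius F p j, fun a => iterateFrobenius_def p j a⟩

theorem pow_q_pow_q {F : Type*} [Field F] [Fintype F] {q : ℕ}
    (hF : Fintype.card F = q ^ 2) (a : F) : (a ^ q) ^ q = a := by
  rw [← pow_mul, ← sq, ← hF, FiniteField.pow_card]

theorem two_le_q {F : Type*} [Field F] [Fintype F] {q : ℕ}
    (hF : Fintype.card F = q ^ 2) : 2 ≤ q := by
  have h1 : 1 < Fintype.card F := Fintype.one_lt_card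
  rw [hF] at h1
  by_contra hcon
  push Not at hcon
  interval_cases q <;> simp at h1

variable {F : Type*} [Field F]

theorem hermForm_add_left (n q : ℕ) (x x' y : Fin n → F) :
    Cfsg.hermForm n F q (x + x') y = Cfsg.hermForm n F q x y + Cfsg.hermForm n F q x' y := by
  simp [Cfsg.hermForm, add_mul, Finset.sum_add_distrib]

theorem hermForm_smul_left (n q : ℕ) (a : F) (x y : Fin n → F) :
    Cfsg.hermForm n F q (a • x) y = a * Cfsg.hermForm n F q x y := by
  simp [Cfsg.hermForm, Finset.mul_sum, mul_assoc]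

theorem hermForm_add_right [Fintype F] {q : ℕ} (hF : Fintype.card F = q ^ 2) (n : ℕ)
    (x y y' : Fin n → F) :
    Cfsg.hermForm n F q x (y + y') = Cfsg.hermForm n F q x y + Cfsg.hermForm n F q x y' := by
  obtain ⟨φ, hφ⟩ := exists_powRingHom hF
  simp only [Cfsg.hermForm, Pi.add_apply, ← hφ, map_add, mul_add, Finset.sum_add_distrib]

theorem hermForm_smul_right (n q : ℕ) (a : F) (x y : Fin n → F) :
    Cfsg.hermForm n F q x (a • y) = a ^ q * Cfsg.hermForm n F q x y := by
  simp only [Cfsg.hermForm, Pi.smul_apply, smul_eq_mul, mul_pow, Finset.mul_sum]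
  apply Finset.sum_congr rfl
  intro i _
  ring

theorem hermForm_conj [Fintype F] {q : ℕ} (hF : Fintype.card F = q ^ 2) (n : ℕ)
    (x y : Fin n → F) :
    (Cfsg.hermForm n F q x y) ^ q = Cfsg.hermForm n F q y x := by
  obtain ⟨φ, hφ⟩ := exists_powRingHom hF
  simp only [Cfsg.hermForm]
  rw [← hφ, map_sum]
  apply Finset.sum_congr rfl
  intro i _
  rw [map_mul, hφ, hφ, pow_q_pow_q hF, mul_comm]

theorem unitaryTransvection_mulVec (n q : ℕ) (v : Fin n → F) (c : F) (x : Fin n → F) :
    Cfsg.unitaryTransvection n q v c *ᵥ x = x + (c * Cfsg.hermForm n F q x v) • v := by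
  unfold Cfsg.unitaryTransvection
  rw [add_mulVec, one_mulVec, smul_mulVec, vecMulVec_mulVec]
  congr 1
  ext i
  simp only [Cfsg.hermForm, dotProduct, Pi.smul_apply, MulOpposite.smul_eq_mul_unop,
    MulOpposite.unop_op, smul_eq_mul]
  rw [mul_comm (v i), ← mul_assoc]
  congr 2
  apply Finset.sum_congr rfl
  intro j _
  ring

theorem hermForm_unitaryTransvection [Fintype F] {q : ℕ} (hF : Fintype.card F = q ^ 2) (n : ℕ)
    (v : Fin n → F) (hv0 : Cfsg.hermForm n F q v v = 0) (c : F) (x y : Fin n → F) :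
    Cfsg.hermForm n F q (Cfsg.unitaryTransvection n q v c *ᵥ x)
        (Cfsg.unitaryTransvection n q v c *ᵥ y)
      = Cfsg.hermForm n F q x y
        + (c + c ^ q) * (Cfsg.hermForm n F q x v * Cfsg.hermForm n F q v y) := by
  rw [unitaryTransvection_mulVec, unitaryTransvection_mulVec]
  rw [hermForm_add_left, hermForm_add_right hF, hermForm_add_right hF, hermForm_smul_left,
    hermForm_smul_left, hermForm_smul_right, hermForm_smul_right, hv0, mul_pow, hermForm_conj hF]
  ring

end Cfsg.Agent.Lib.Helper13
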