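import Mathlib

set_option autoImplicit false

namespace Cfsg.Agent.Lib.Helper13

open Polynomial

/-- In a finite field, the elements with `a ^ q = a` lie in any subfield with `q` elements. -/
theorem mem_subfield_of_pow_card_eq {F : Type*} [Field F] [Fintype F] (K : Subfield F)
    [Fintype K] (a : F) (ha : a ^ Fintype.card K = a) : a ∈ K := by
  classical
  set q := Fintype.card K with hq
  have hq1 : 1 < q := Fintype.one_lt_card
  have hne : (X ^ q - X : F[X]) ≠ 0 := FiniteField.X_pow_card_sub_X_ne_zero F hq1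
  have hdeg : (X ^ q - X : F[X]).natDegree = q := FiniteField.X_pow_card_sub_X_natDegree_eq F hq1
  -- the image of `K` in `F`
  let K' : Finset F := Finset.univ.image (K.subtype)
  have hK'card : K'.card = q := by
    rw [Finset.card_image_of_injective _ K.subtype_injective, Finset.card_univ]
  have hroot : ∀ x : F, x ^ q = x → x ∈ (X ^ q - X : F[X]).roots := by
    intro x hx
    rw [mem_roots hne, IsRoot, eval_sub, eval_pow, eval_X, hx, sub_self]
  have hK'sub : K' ⊆ insert a K' := Finset.subset_insert _ _
  have hsub : (insert a K').val ⊆ (X ^ q - X : F[X]).roots := by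
    intro x hx
    rw [Finset.mem_val, Finset.mem_insert] at hx
    rcases hx with rfl | hx
    · exact hroot _ ha
    · obtain ⟨y, _, rfl⟩ := Finset.mem_image.mp hx
      apply hroot
      have := FiniteField.pow_card y
      have h2 := congrArg (K.subtype) this
      simpa using h2
  have hcard := card_le_degree_of_subset_roots hsub
  rw [hdeg] at hcard
  have : a ∈ K' := by
    by_contra hnot
    rw [Finset.card_insert_of_notMem hnot, hK'card] at hcard
    omega
  obtain ⟨y, _, rfl⟩ := Finset.mem_image.mp this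
  exact y.2

/-- A non-identity involutive automorphism of a finite field `F` is `a ↦ a ^ q`, where
`|F| = q ^ 2`. -/
theorem exists_card_sq_and_pow {F : Type*} [Field F] [Fintype F] (σ : F →+* F)
    (hσ : σ ≠ RingHom.id F) (hσ2 : ∀ a : F, σ (σ a) = a) :
    ∃ q : ℕ, Fintype.card F = q ^ 2 ∧ ∀ a : F, σ a = a ^ q := by
  classical
  let K : Subfield F := σ.eqLocusField (RingHom.id F)
  have hK : ∀ x : F, x ∈ K ↔ σ x = x := fun x => Iff.rfl
  set q := Fintype.card K with hq
  have hq1 : 1 < q := Fintype.one_lt_card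
  have hKpow : ∀ x : F, x ∈ K → x ^ q = x := by
    intro x hx
    have := FiniteField.pow_card (⟨x, hx⟩ : K)
    have h2 := congrArg (K.subtype) this
    simpa using h2
  -- `a ↦ a ^ q` is additive and multiplicative
  obtain ⟨p, hchar, n, hp, hcard⟩ := FiniteField.card' K
  haveI : CharP F p := by
    haveI := hchar
    exact charP_of_injective_ringHom K.subtype_injective p
  haveI : Fact p.Prime := ⟨hp⟩
  haveI : ExpChar F p := ExpChar.prime hp
  have hqp : q = p ^ (n : ℕ) := hcard
  have hfrob : ∀ x : F, iterateFrobenius F p n x = x ^ q := by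
    intro x
    rw [iterateFrobenius_def, hqp]
  -- the main identification
  have hmain : ∀ a : F, σ a = a ^ q := by
    intro a
    have hs : a + σ a ∈ K := by
      rw [hK, map_add, hσ2, add_comm]
    have ht : a * σ a ∈ K := by
      rw [hK, map_mul, hσ2, mul_comm]
    have h1 : a ^ 2 - (a + σ a) * a + a * σ a = 0 := by ring
    have h2 := congrArg (iterateFrobenius F p n) h1
    simp only [map_add, map_sub, map_mul, map_pow, map_zero] at h2
    simp only [hfrob] at h2
    have hs' : a ^ q + σ a ^ q = a + σ a := by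
      have := hKpow _ hs
      rw [← hfrob, map_add, hfrob, hfrob] at this
      exact this
    have ht' : a ^ q * σ a ^ q = a * σ a := by
      rw [← mul_pow]; exact hKpow _ ht
    rw [hs', ht'] at h2
    have h3 : (a ^ q - a) * (a ^ q - σ a) = 0 := by linear_combination h2
    rcases mul_eq_zero.mp h3 with h | h
    · have haq : a ^ q = a := sub_eq_zero.mp h
      have haK : a ∈ K := mem_subfield_of_pow_card_eq K a haq
      rw [(hK a).mp haK, haq]
    · exact (sub_eq_zero.mp h).symm
  refine ⟨q, ?_, hmain⟩
  -- cardinality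
  have hall : ∀ a : F, a ^ (q ^ 2) = a := by
    intro a
    rw [sq, pow_mul, ← hmain, ← hmain, hσ2]
  have hq2 : 1 < q ^ 2 := by nlinarith
  have hle : Fintype.card F ≤ q ^ 2 := by
    have hne : (X ^ (q ^ 2) - X : F[X]) ≠ 0 := FiniteField.X_pow_card_sub_X_ne_zero F hq2
    have hdeg : (X ^ (q ^ 2) - X : F[X]).natDegree = q ^ 2 :=
      FiniteField.X_pow_card_sub_X_natDegree_eq F hq2
    have hsub : (Finset.univ : Finset F).val ⊆ (X ^ (q ^ 2) - X : F[X]).roots := by
      intro x _
      rw [mem_roots hne, IsRoot, eval_sub, eval_pow, eval_X, hall, sub_self]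
    have := card_le_degree_of_subset_roots hsub
    rwa [hdeg, Finset.card_univ] at this
  have hpow : Fintype.card F = q ^ Module.finrank K F := Module.card_eq_pow_finrank
  set d := Module.finrank K F with hd
  have hd2 : d ≤ 2 := by
    by_contra hcon
    push Not at hcon
    have : q ^ 3 ≤ q ^ d := Nat.pow_le_pow_right (by omega) hcon
    have h3 : q ^ 2 < q ^ 3 := Nat.pow_lt_pow_right hq1 (by norm_num)
    omega
  have hd0 : d ≠ 0 := by
    intro h0
    rw [h0, pow_zero] at hpow
    have : 1 < Fintype.card F := Fintype.one_lt_card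
    omega
  have hd1 : d ≠ 1 := by
    intro h1
    rw [h1, pow_one] at hpow
    -- then K = F, contradiction with σ ≠ id
    apply hσ
    have hsurj : Function.Surjective (K.subtype) := by
      have hinj : Function.Injective (K.subtype) := K.subtype_injective
      exact ((Fintype.bijective_iff_injective_and_card _).mpr ⟨hinj, hpow.symm⟩).2
    ext a
    obtain ⟨y, rfl⟩ := hsurj a
    exact (hK _).mp y.2
  have : d = 2 := by omega
  rw [hpow, this]

/-- Surjectivity of the norm onto the fixed field of an involution of a finite field. -/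
theorem exists_mul_conj_eq {F : Type*} [Field F] [Fintype F] (σ : F →+* F)
    (hσ : σ ≠ RingHom.id F) (hσ2 : ∀ a : F, σ (σ a) = a) (μ : F) (hμ : μ ≠ 0) (hμσ : σ μ = μ) :
    ∃ a : F, a * σ a = μ := by
  classical
  obtain ⟨q, hcard, hpow⟩ := exists_card_sq_and_pow σ hσ hσ2
  have hq2 : 2 ≤ q := by
    have h1 : 1 < Fintype.card F := Fintype.one_lt_card
    rw [hcard] at h1
    by_contra hcon
    push Not at hcon
    interval_cases q <;> simp at h1
  have hfac : q ^ 2 - 1 = (q - 1) * (q + 1) := by
    obtain ⟨k, rfl⟩ : ∃ k, q = k + 2 := ⟨q - 2, by omega⟩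
    have : (k + 2) ^ 2 = (k + 1) * (k + 2 + 1) + 1 := by ring
    rw [this]
    simp
  have hcardU : Nat.card Fˣ = (q - 1) * (q + 1) := by
    rw [Nat.card_units, Nat.card_eq_fintype_card, hcard, hfac]
  have hrange : Nat.card (powMonoidHom (q + 1) : Fˣ →* Fˣ).range = q - 1 := by
    rw [IsCyclic.card_powMonoidHom_range, hcardU, Nat.gcd_mul_left_left]
    exact Nat.mul_div_cancel _ (by omega)
  have hkerP : Nat.card (powMonoidHom (q - 1) : Fˣ →* Fˣ).ker = q - 1 := by
    rw [IsCyclic.card_powMonoidHom_ker, hcardU]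
    exact Nat.gcd_mul_right_left _ _
  have hle : (powMonoidHom (q + 1) : Fˣ →* Fˣ).range ≤ (powMonoidHom (q - 1) : Fˣ →* Fˣ).ker := by
    rintro _ ⟨x, rfl⟩
    rw [MonoidHom.mem_ker, powMonoidHom_apply, powMonoidHom_apply, ← pow_mul, mul_comm, ← hcardU]
    exact pow_card_eq_one'
  have heq : (powMonoidHom (q + 1) : Fˣ →* Fˣ).range = (powMonoidHom (q - 1) : Fˣ →* Fˣ).ker := by
    apply Subgroup.eq_of_le_of_card_ge hle
    rw [hrange, hkerP]
  have hμq : μ ^ q = μ := by rw [← hpow, hμσ]
  have hμ1 : (Units.mk0 μ hμ) ^ (q - 1) = 1 := by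
    apply Units.ext
    rw [Units.val_pow_eq_pow_val, Units.val_mk0, Units.val_one]
    have h1 : μ ^ (q - 1) * μ = μ := by
      rw [← pow_succ]
      have : q - 1 + 1 = q := by omega
      rw [this, hμq]
    have h2 : (μ ^ (q - 1) - 1) * μ = 0 := by rw [sub_mul, h1, one_mul, sub_self]
    rcases mul_eq_zero.mp h2 with h | h
    · exact sub_eq_zero.mp h
    · exact absurd h hμ
  have hmem : Units.mk0 μ hμ ∈ (powMonoidHom (q + 1) : Fˣ →* Fˣ).range := by
    rw [heq, MonoidHom.mem_ker, powMonoidHom_apply]
    exact hμ1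
  obtain ⟨x₀, hx₀⟩ := hmem
  rw [powMonoidHom_apply] at hx₀
  refine ⟨(x₀ : F), ?_⟩
  rw [hpow, ← pow_succ']
  have := congrArg Units.val hx₀
  simpa using this

end Cfsg.Agent.Lib.Helper13
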