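import Mathlib
import Cfsg.Agent.Lib.Helper99.UnitaryTI

set_option autoImplicit false

namespace Cfsg.Agent.Lib.Helper13

open Matrix Cfsg.Agent.Lib.Helper99

section ucomm

variable {F : Type*} [Field F] [Fintype F] {q n : ℕ}

local notation "hh" => Cfsg.hermForm n F q

/-- the form vanishes on the span of two mutually orthogonal isotropic vectors -/
theorem span_pair_ti (hF : Fintype.card F = q ^ 2) (v v' : Fin n → F) (h1 : hh v v = 0)
    (h2 : hh v v' = 0) (h3 : hh v' v' = 0) :
    ∀ a ∈ Submodule.span F {v, v'}, ∀ b ∈ Submodule.span F {v, v'}, hh a b = 0 := by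
  have h2' : hh v' v = 0 := hermForm_eq_zero_comm hF h2
  intro a ha b hb
  rw [Submodule.mem_span_pair] at ha hb
  obtain ⟨α, β, rfl⟩ := ha
  obtain ⟨γ, δ, rfl⟩ := hb
  simp only [hermForm_add_left, hermForm_add_right hF, hermForm_smul_left, hermForm_smul_right,
    h1, h2, h2', h3]
  ring

theorem hermForm_list_sum_left (l : List (Fin n → F)) (y : Fin n → F) :
    hh l.sum y = (l.map (fun z => hh z y)).sum := by
  induction l with
  | nil => simp [Cfsg.Agent.Lib.Helper99.hermForm_zero_left]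
  | cons a l ih => rw [List.sum_cons, hermForm_add_left, ih, List.map_cons, List.sum_cons]

/-- product of transvections with directions in a totally isotropic subspace -/
theorem prod_utv_mulVec (W : Submodule F (Fin n → F))
    (hW : ∀ a ∈ W, ∀ b ∈ W, hh a b = 0) (L : List ((Fin n → F) × F))
    (hL : ∀ p ∈ L, p.1 ∈ W) (x : Fin n → F) :
    (((L.map (fun p => utv q p.1 p.2)).prod : GL (Fin n) F) : Matrix (Fin n) (Fin n) F) *ᵥ x
      = x + (L.map (fun p => (p.2 * hh x p.1) • p.1)).sum := by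
  induction L with
  | nil => simp
  | cons p L ih =>
    have hp : hh p.1 p.1 = 0 := hW _ (hL p (by simp)) _ (hL p (by simp))
    have hL' : ∀ p' ∈ L, p'.1 ∈ W := fun a ha => hL a (List.mem_cons_of_mem _ ha)
    rw [List.map_cons, List.prod_cons, Units.val_mul, ← mulVec_mulVec, ih hL',
      utv_mulVec p.1 hp, List.map_cons, List.sum_cons]
    have hmem : (L.map (fun p' => (p'.2 * hh x p'.1) • p'.1)).sum ∈ W := by
      apply list_sum_mem
      intro z hz
      rw [List.mem_map] at hz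
      obtain ⟨p', hp', rfl⟩ := hz
      exact W.smul_mem _ (hL' p' hp')
    rw [hermForm_add_left, hW _ hmem _ (hL p (by simp)), add_zero]
    abel


theorem utv3_mulVec (W : Submodule F (Fin n → F))
    (hW : ∀ a ∈ W, ∀ b ∈ W, hh a b = 0) (u1 u2 u3 : Fin n → F) (h1 : u1 ∈ W) (h2 : u2 ∈ W)
    (h3 : u3 ∈ W) (c1 c2 c3 : F) (x : Fin n → F) :
    ((utv q u1 c1 * utv q u2 c2 * utv q u3 c3 : GL (Fin n) F) : Matrix (Fin n) (Fin n) F) *ᵥ x
      = x + ((c1 * hh x u1) • u1 + ((c2 * hh x u2) • u2 + (c3 * hh x u3) • u3)) := by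
  have := prod_utv_mulVec W hW [(u1, c1), (u2, c2), (u3, c3)] (by
    intro p hp
    simp only [List.mem_cons, List.not_mem_nil, or_false] at hp
    rcases hp with rfl | rfl | rfl <;> assumption) x
  simpa [mul_assoc] using this

theorem utv4_mulVec (W : Submodule F (Fin n → F))
    (hW : ∀ a ∈ W, ∀ b ∈ W, hh a b = 0) (u0 u1 u2 u3 : Fin n → F) (h0 : u0 ∈ W) (h1 : u1 ∈ W)
    (h2 : u2 ∈ W) (h3 : u3 ∈ W) (c0 c1 c2 c3 : F) (x : Fin n → F) :
    ((utv q u0 c0 * (utv q u1 c1 * utv q u2 c2 * utv q u3 c3) : GL (Fin n) F) :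
        Matrix (Fin n) (Fin n) F) *ᵥ x
      = x + ((c0 * hh x u0) • u0 + ((c1 * hh x u1) • u1 + ((c2 * hh x u2) • u2
          + (c3 * hh x u3) • u3))) := by
  have := prod_utv_mulVec W hW [(u0, c0), (u1, c1), (u2, c2), (u3, c3)] (by
    intro p hp
    simp only [List.mem_cons, List.not_mem_nil, or_false] at hp
    rcases hp with rfl | rfl | rfl | rfl <;> assumption) x
  simpa [mul_assoc] using this

theorem trace_zero_neg (hF : Fintype.card F = q ^ 2) {c : F} (hc : c + c ^ q = 0) :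
    (-c) + (-c) ^ q = 0 := by
  rw [frob_neg hF]
  linear_combination (-1 : F) * hc

theorem trace_zero_mul_norm (hF : Fintype.card F = q ^ 2) {c : F} (hc : c + c ^ q = 0) (β : F) :
    (c * (β * β ^ q)) + (c * (β * β ^ q)) ^ q = 0 := by
  rw [mul_pow, mul_pow, Helper13.pow_q_pow_q hF]
  linear_combination (β * β ^ q) * hc

/-- the commutator identity realising a unitary transvection inside the stabiliser of a totally
isotropic plane -/
theorem utv_comm_siegel (hF : Fintype.card F = q ^ 2) (v v' w' : Fin n → F) (c τ x₀ : F)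
    (hvv : hh v v = 0) (hvv' : hh v v' = 0) (hv'v' : hh v' v' = 0) (hw'w' : hh w' w' = 0)
    (hvw' : hh v w' = 0) (hv'w' : hh v' w' = 1)
    (hc : c + c ^ q = 0) (hτ0 : τ ≠ 0) (hτ : τ + τ ^ q = 0) (hx₀ : x₀ + x₀ ^ q = 1) :
    ∃ B S : GL (Fin n) F, B ∈ suGL (F := F) n q ∧ S ∈ suGL (F := F) n q ∧
      B * S * B⁻¹ * S⁻¹ = utv q v c := by
  have hv'v : hh v' v = 0 := hermForm_eq_zero_comm hF hvv'
  have hw'v : hh w' v = 0 := hermForm_eq_zero_comm hF hvw'
  set β : F := (x₀ / τ) ^ q with hβdef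
  have hβ : β ^ q = x₀ / τ := by rw [hβdef, Helper13.pow_q_pow_q hF]
  have hτβ : τ * β ^ q = x₀ := by rw [hβ, mul_div_cancel₀ _ hτ0]
  -- totally isotropic planes
  have hW1 := span_pair_ti hF v w' hvv hvw' hw'w'
  have hW2 := span_pair_ti hF v v' hvv hvv' hv'v'
  have mem1 : ∀ a b : F, a • v + b • w' ∈ Submodule.span F {v, w'} := fun a b =>
    Submodule.add_mem _ (Submodule.smul_mem _ _ (Submodule.subset_span (by simp)))
      (Submodule.smul_mem _ _ (Submodule.subset_span (by simp)))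
  have mem2 : ∀ a b : F, a • v + b • v' ∈ Submodule.span F {v, v'} := fun a b =>
    Submodule.add_mem _ (Submodule.smul_mem _ _ (Submodule.subset_span (by simp)))
      (Submodule.smul_mem _ _ (Submodule.subset_span (by simp)))
  have m1a : v + β • w' ∈ Submodule.span F {v, w'} := by simpa using mem1 1 β
  have m1b : v ∈ Submodule.span F {v, w'} := by simpa using mem1 1 0
  have m1c : w' ∈ Submodule.span F {v, w'} := by simpa using mem1 0 1
  have m2a : v + v' ∈ Submodule.span F {v, v'} := by simpa using mem2 1 1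
  have m2b : v ∈ Submodule.span F {v, v'} := by simpa using mem2 1 0
  have m2c : v' ∈ Submodule.span F {v, v'} := by simpa using mem2 0 1
  have m2d : v + v' + x₀ • v ∈ Submodule.span F {v, v'} := by
    have := mem2 (1 + x₀) 1
    rw [add_smul, one_smul, one_smul] at this
    have e : v + v' + x₀ • v = v + x₀ • v + v' := by abel
    rw [e]; exact this
  have m2e : v' + x₀ • v ∈ Submodule.span F {v, v'} := by
    have := mem2 x₀ 1
    rw [one_smul, add_comm] at this
    exact this
  set B : GL (Fin n) F := utv q (v + β • w') τ * utv q v (-τ) * utv q w' (-(τ * (β * β ^ q)))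
    with hBdef
  set S : GL (Fin n) F := utv q (v + v') c * utv q v (-c) * utv q v' (-c) with hSdef
  have hBx : ∀ x, (B : Matrix (Fin n) (Fin n) F) *ᵥ x = x + ((τ * hh x (v + β • w')) • (v + β • w')
      + ((-τ * hh x v) • v + (-(τ * (β * β ^ q)) * hh x w') • w')) := fun x =>
    utv3_mulVec _ hW1 _ _ _ m1a m1b m1c _ _ _ x
  have hBmem : B ∈ suGL (F := F) n q := by
    refine Subgroup.mul_mem _ (Subgroup.mul_mem _ ?_ ?_) ?_
    · exact utv_mem_suGL hF _ (hW1 _ m1a _ m1a) _ hτ
    · exact utv_mem_suGL hF _ hvv _ (trace_zero_neg hF hτ)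
    · exact utv_mem_suGL hF _ hw'w' _ (trace_zero_neg hF (trace_zero_mul_norm hF hτ β))
  have hSmem : S ∈ suGL (F := F) n q := by
    refine Subgroup.mul_mem _ (Subgroup.mul_mem _ ?_ ?_) ?_
    · exact utv_mem_suGL hF _ (hW2 _ m2a _ m2a) _ hc
    · exact utv_mem_suGL hF _ hvv _ (trace_zero_neg hF hc)
    · exact utv_mem_suGL hF _ hv'v' _ (trace_zero_neg hF hc)
  have hBv : (B : Matrix (Fin n) (Fin n) F) *ᵥ v = v := by
    rw [hBx, hermForm_add_right hF, hermForm_smul_right, hvv, hvw']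
    simp
  have hBv' : (B : Matrix (Fin n) (Fin n) F) *ᵥ v' = v' + x₀ • v := by
    rw [hBx, hermForm_add_right hF, hermForm_smul_right, hv'v, hv'w', zero_add, mul_one, mul_zero,
      zero_smul, zero_add, mul_one, hτβ, smul_add, smul_smul]
    have : (x₀ * β) • w' + (-(τ * (β * β ^ q))) • w' = 0 := by
      rw [← add_smul]
      have : x₀ * β + -(τ * (β * β ^ q)) = 0 := by rw [← hτβ]; ring
      rw [this, zero_smul]
    rw [add_assoc (x₀ • v), this, add_zero]
  have hBGU : B ∈ Cfsg.GU n F q := hBmem.1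
  have hconj : B * S * B⁻¹ = utv q (v + v' + x₀ • v) c * utv q v (-c) * utv q (v' + x₀ • v) (-c) := by
    have e : B * S * B⁻¹ = (B * utv q (v + v') c * B⁻¹) * (B * utv q v (-c) * B⁻¹) *
        (B * utv q v' (-c) * B⁻¹) := by rw [hSdef]; group
    rw [e, conj_utv B hBGU _ (hW2 _ m2a _ m2a), conj_utv B hBGU _ hvv, conj_utv B hBGU _ hv'v',
      mulVec_add, hBv, hBv', ← add_assoc]
  have hkey : B * S * B⁻¹ = utv q v c * S := by
    rw [hconj, hSdef]
    apply Units.ext
    rw [Matrix.ext_iff_mulVec]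
    intro x
    rw [utv3_mulVec _ hW2 _ _ _ m2d m2b m2e, utv4_mulVec _ hW2 _ _ _ _ m2b m2a m2b m2c]
    congr 1
    simp only [hermForm_add_right hF, hermForm_smul_right, smul_add, smul_smul]
    have hx1 : x₀ ^ q = 1 - x₀ := by rw [← hx₀]; ring
    rw [hx1]
    module
  refine ⟨B, S, hBmem, hSmem, ?_⟩
  rw [hkey]
  group

end ucomm

end Cfsg.Agent.Lib.Helper13
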