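import Mathlib
import Cfsg.Agent.Lib.Helper13.UnitaryComm
import Cfsg.Agent.Lib.Helper13.Involution

set_option autoImplicit false

namespace Cfsg.Agent.Lib.Helper13

open Matrix Cfsg.Agent.Lib.Helper99

section ucfg

variable {F : Type*} [Field F] [Fintype F] {q n : ℕ}

local notation "hh" => Cfsg.hermForm n F q

omit [Fintype F] in
theorem hermForm_eq_zero_of_disjoint (x y : Fin n → F) (h : ∀ k, x k = 0 ∨ y k = 0)
    (hq : q ≠ 0) : hh x y = 0 := by
  unfold Cfsg.hermForm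
  apply Finset.sum_eq_zero
  intro k _
  rcases h k with h | h
  · rw [h, zero_mul]
  · rw [h, zero_pow hq, mul_zero]

theorem exists_norm_neg_one (hF : Fintype.card F = q ^ 2) : ∃ ζ : F, ζ * ζ ^ q = -1 := by
  obtain ⟨a, ha⟩ := exists_mul_conj_eq (frobU hF) (frobU_ne_id hF) (frobU_frobU hF) (-1)
    (neg_ne_zero.2 one_ne_zero) (by rw [map_neg, map_one])
  exact ⟨a, by rw [← frobU_apply hF]; exact ha⟩

/-- a hyperbolic pair supported on two given coordinates -/
theorem exists_hyp_pair_coords (hF : Fintype.card F = q ^ 2) (i j : Fin n) (hij : i ≠ j) :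
    ∃ e f : Fin n → F, hh e e = 0 ∧ hh f f = 0 ∧ hh e f = 1 ∧
      (∀ k, k ≠ i → k ≠ j → e k = 0 ∧ f k = 0) := by
  classical
  have hq2 := q_ge_two hF
  have hq0 : q ≠ 0 := by omega
  obtain ⟨ζ, hζ⟩ := exists_norm_neg_one hF
  obtain ⟨ε, hε, hε1⟩ := exists_normOne_ne_one hF
  have hεq : ε * ε ^ q = 1 := by rw [← pow_succ']; exact hε
  have hεq1 : 1 - ε ^ q ≠ 0 := by
    intro h
    have h1 : ε ^ q = 1 := (sub_eq_zero.1 h).symm
    rw [h1, mul_one] at hεq
    exact hε1 hεq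
  have hEs : ∀ a : Fin n, hh (Pi.single a 1) (Pi.single a 1) = 1 := fun a => by
    rw [hermForm_single_single n q hq0 a a, if_pos rfl]
  have hEn : ∀ a b : Fin n, a ≠ b → hh (Pi.single a 1) (Pi.single b 1) = 0 := fun a b hab => by
    rw [hermForm_single_single n q hq0 a b, if_neg hab]
  obtain ⟨μ, hμ⟩ : ∃ μ : F, μ ^ q = (1 - ε ^ q)⁻¹ := ⟨((1 - ε ^ q)⁻¹) ^ q, pow_q_pow_q hF _⟩
  have hji : j ≠ i := fun h => hij h.symm
  refine ⟨Pi.single i 1 + ζ • Pi.single j 1, μ • (Pi.single i 1 + (ζ * ε) • Pi.single j 1),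
    ?_, ?_, ?_, ?_⟩
  · simp only [hermForm_add_left, hermForm_add_right hF, hermForm_smul_left, hermForm_smul_right,
      hEs, hEn _ _ hij, hEn _ _ hji]
    linear_combination hζ
  · simp only [hermForm_add_left, hermForm_add_right hF, hermForm_smul_left, hermForm_smul_right,
      hEs, hEn _ _ hij, hEn _ _ hji, mul_pow]
    linear_combination (μ * μ ^ q) * hζ + (μ * μ ^ q * (ζ * ζ ^ q)) * hεq
  · simp only [hermForm_add_left, hermForm_add_right hF, hermForm_smul_left, hermForm_smul_right,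
      hEs, hEn _ _ hij, hEn _ _ hji, mul_pow, hμ]
    field_simp
    linear_combination (ε ^ q) * hζ
  · intro k hki hkj
    simp [hki, hkj]

/-- Witt's lemma for single vectors -/
theorem exists_isometry_map (hF : Fintype.card F = q ^ 2) (v₀ v : Fin n → F) (h0 : v₀ ≠ 0)
    (hv : v ≠ 0) (hN : hh v v = hh v₀ v₀) :
    ∃ g : (Fin n → F) ≃ₗ[F] (Fin n → F), (∀ a b, hh (g a) (g b) = hh a b) ∧ g v₀ = v := by
  obtain ⟨g, hg1, hg2⟩ := Cfsg.Agent.Lib.Helper8.witt_family_herm (frobU hF) (frobU_ne_id hF)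
    (frobU_frobU hF) (hermB hF n) (hermB_isSymm hF) (hermB_nondegenerate hF) 1
    (fun _ => v₀) (fun _ => v) (linearIndependent_unique_iff.2 h0) (linearIndependent_unique_iff.2 hv)
    (by intro _ _; rw [hermB_apply, hermB_apply, hN])
  refine ⟨g, fun a b => ?_, hg2 0⟩
  have := hg1 b a
  rw [hermB_apply, hermB_apply] at this
  exact this

/-- the configuration needed for the Siegel commutator, `n ≥ 4` -/
theorem exists_siegel_config (hF : Fintype.card F = q ^ 2) (hn : 4 ≤ n) (v : Fin n → F)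
    (hv0 : v ≠ 0) (hvv : hh v v = 0) :
    ∃ v' w' : Fin n → F, hh v v' = 0 ∧ hh v' v' = 0 ∧ hh w' w' = 0 ∧ hh v w' = 0 ∧
      hh v' w' = 1 := by
  have hq2 := q_ge_two hF
  have hq0 : q ≠ 0 := by omega
  obtain ⟨e1, f1, h11, -, h13, h14⟩ := exists_hyp_pair_coords hF (⟨0, by omega⟩ : Fin n)
    ⟨1, by omega⟩ (by simp [Fin.ext_iff])
  obtain ⟨e2, f2, h21, h22, h23, h24⟩ := exists_hyp_pair_coords hF (⟨2, by omega⟩ : Fin n)
    ⟨3, by omega⟩ (by simp [Fin.ext_iff])
  have hdisj : ∀ k : Fin n, e1 k = 0 ∨ (e2 k = 0 ∧ f2 k = 0) := by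
    intro k
    by_cases hk : (k : ℕ) = 0 ∨ (k : ℕ) = 1
    · right
      apply h24 k <;> (intro h; rw [h] at hk; simp at hk)
    · left
      push Not at hk
      exact (h14 k (by intro h; rw [h] at hk; simp at hk)
        (by intro h; rw [h] at hk; simp at hk)).1
  have he1 : e1 ≠ 0 := by
    rintro rfl
    rw [hermForm_zero_left] at h13
    exact zero_ne_one h13
  obtain ⟨g, hg, hgv⟩ := exists_isometry_map hF e1 v he1 hv0 (by rw [hvv, h11])
  refine ⟨g e2, g f2, ?_, ?_, ?_, ?_, ?_⟩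
  · rw [← hgv, hg]
    exact hermForm_eq_zero_of_disjoint _ _ (fun k => (hdisj k).imp id And.left) hq0
  · rw [hg, h21]
  · rw [hg, h22]
  · rw [← hgv, hg]
    exact hermForm_eq_zero_of_disjoint _ _ (fun k => (hdisj k).imp id And.right) hq0
  · rw [hg, h23]

/-- the configuration needed for the torus commutator, `n ≥ 3` -/
theorem exists_torus_config (hF : Fintype.card F = q ^ 2) (hn : 3 ≤ n) (v : Fin n → F)
    (hv0 : v ≠ 0) (hvv : hh v v = 0) :
    ∃ w a : Fin n → F, hh w w = 0 ∧ hh v w = 1 ∧ hh a a = 1 ∧ hh a v = 0 ∧ hh a w = 0 := by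
  classical
  have hq2 := q_ge_two hF
  have hq0 : q ≠ 0 := by omega
  obtain ⟨e1, f1, h11, h12, h13, h14⟩ := exists_hyp_pair_coords hF (⟨0, by omega⟩ : Fin n)
    ⟨1, by omega⟩ (by simp [Fin.ext_iff])
  have he1 : e1 ≠ 0 := by
    rintro rfl
    rw [hermForm_zero_left] at h13
    exact zero_ne_one h13
  obtain ⟨g, hg, hgv⟩ := exists_isometry_map hF e1 v he1 hv0 (by rw [hvv, h11])
  have hdisj : ∀ k : Fin n, (Pi.single (⟨2, by omega⟩ : Fin n) (1 : F) : Fin n → F) k = 0 ∨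
      (e1 k = 0 ∧ f1 k = 0) := by
    intro k
    by_cases hk : k = ⟨2, by omega⟩
    · right
      apply h14 k <;> (rw [hk]; simp [Fin.ext_iff])
    · left
      simp [hk]
  refine ⟨g f1, g (Pi.single ⟨2, by omega⟩ 1), ?_, ?_, ?_, ?_, ?_⟩
  · rw [hg, h12]
  · rw [← hgv, hg, h13]
  · rw [hg, hermForm_single_single n q hq0, if_pos rfl]
  · rw [← hgv, hg]
    exact hermForm_eq_zero_of_disjoint _ _ (fun k => (hdisj k).imp id And.left) hq0
  · rw [hg]
    exact hermForm_eq_zero_of_disjoint _ _ (fun k => (hdisj k).imp id And.right) hq0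

end ucfg

end Cfsg.Agent.Lib.Helper13
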