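import Mathlib
import Cfsg.Agent.Lib.Helper13.UnitaryConfig

set_option autoImplicit false

namespace Cfsg.Agent.Lib.Helper13

open Matrix Cfsg.Agent.Lib.Helper99

section utorus

variable {F : Type*} [Field F] [Fintype F] {q n : ℕ}

local notation "hh" => Cfsg.hermForm n F q

theorem utv_add (v : Fin n → F) (hv : hh v v = 0) (a b : F) :
    utv q v a * utv q v b = utv q v (a + b) := by
  apply Units.ext
  rw [Matrix.ext_iff_mulVec]
  intro x
  rw [Units.val_mul, ← mulVec_mulVec, utv_mulVec v hv, utv_mulVec v hv, utv_mulVec v hv,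
    hermForm_add_left, hermForm_smul_left, hv, mul_zero, add_zero, add_assoc, ← add_smul]
  congr 2
  ring

theorem utv_zero (v : Fin n → F) (hv : hh v v = 0) : utv q v 0 = 1 := by
  apply Units.ext
  rw [Matrix.ext_iff_mulVec]
  intro x
  rw [utv_mulVec v hv, zero_mul, zero_smul, add_zero, Units.val_one, one_mulVec]

theorem utv_inv (v : Fin n → F) (hv : hh v v = 0) (a : F) : (utv q v a)⁻¹ = utv q v (-a) := by
  apply inv_eq_of_mul_eq_one_right
  rw [utv_add v hv, add_neg_cancel, utv_zero v hv]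

/-- an element whose norm is not one, when `q ≥ 3` -/
theorem exists_norm_ne_one (hF : Fintype.card F = q ^ 2) (hq3 : 3 ≤ q) :
    ∃ l : F, l ≠ 0 ∧ l * l ^ q ≠ 1 := by
  classical
  obtain ⟨g, hg⟩ := IsCyclic.exists_generator (α := Fˣ)
  have hord : orderOf g = Fintype.card Fˣ := by
    rw [orderOf_eq_card_of_forall_mem_zpowers hg, Nat.card_eq_fintype_card]
  rw [Fintype.card_units, hF] at hord
  refine ⟨(g : F), g.ne_zero, ?_⟩
  intro h
  have h1 : g ^ (q + 1) = 1 := by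
    apply Units.ext
    rw [Units.val_pow_eq_pow_val, Units.val_one, pow_succ']
    exact h
  have hdvd := orderOf_dvd_of_pow_eq_one h1
  rw [hord] at hdvd
  have hle := Nat.le_of_dvd (by omega) hdvd
  have : q ^ 2 ≥ 3 * q := by nlinarith
  omega

/-- the torus element `v ↦ l v`, `w ↦ l^{-q} w`, corrected on an anisotropic vector so as to have
determinant one -/
theorem exists_torus_elt (hF : Fintype.card F = q ^ 2) (v w a : Fin n → F) (hvv : hh v v = 0)
    (hww : hh w w = 0) (hvw : hh v w = 1) (haa : hh a a = 1) (hav : hh a v = 0) (haw : hh a w = 0)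
    (l : F) (hl : l ≠ 0) :
    ∃ B : GL (Fin n) F, B ∈ suGL (F := F) n q ∧ (B : Matrix (Fin n) (Fin n) F) *ᵥ v = l • v := by
  have hwv : hh w v = 1 := by
    rw [← hermForm_conj hF n v w, hvw, one_pow]
  have hva : hh v a = 0 := hermForm_eq_zero_comm hF hav
  have hwa : hh w a = 0 := hermForm_eq_zero_comm hF haw
  have hlq : l ^ q ≠ 0 := pow_ne_zero _ hl
  set a' : F := (l ^ q)⁻¹ with ha'
  set δ : F := l ^ q / l with hδ
  have ha'0 : a' ≠ 0 := inv_ne_zero hlq
  have hδ0 : δ ≠ 0 := div_ne_zero hlq hl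
  have ha'q : a' ^ q = l⁻¹ := by rw [ha', inv_pow, pow_q_pow_q hF]
  have hδq : δ ^ q = l / l ^ q := by rw [hδ, div_pow, pow_q_pow_q hF]
  have hne₁ : 1 + (fun j => (a' - 1) * (v j) ^ q) ⬝ᵥ w ≠ 0 := by
    rw [utv_dot, hwv, mul_one, add_sub_cancel]
    exact ha'0
  have hne₂ : 1 + (fun j => (l - 1) * (w j) ^ q) ⬝ᵥ v ≠ 0 := by
    rw [utv_dot, hvw, mul_one, add_sub_cancel]
    exact hl
  have hne₃ : 1 + (fun j => (δ - 1) * (a j) ^ q) ⬝ᵥ a ≠ 0 := by
    rw [utv_dot, haa, mul_one, add_sub_cancel]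
    exact hδ0
  set d₁ : GL (Fin n) F := rk1GL w (fun j => (a' - 1) * (v j) ^ q) with hd₁
  set d₂ : GL (Fin n) F := rk1GL v (fun j => (l - 1) * (w j) ^ q) with hd₂
  set r : GL (Fin n) F := rk1GL a (fun j => (δ - 1) * (a j) ^ q) with hr
  have hd₁x : ∀ x, (d₁ : Matrix (Fin n) (Fin n) F) *ᵥ x = x + ((a' - 1) * hh x v) • w := by
    intro x
    rw [hd₁, coe_rk1GL _ _ hne₁, rk1_mulVec, utv_dot]
  have hd₂x : ∀ x, (d₂ : Matrix (Fin n) (Fin n) F) *ᵥ x = x + ((l - 1) * hh x w) • v := by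
    intro x
    rw [hd₂, coe_rk1GL _ _ hne₂, rk1_mulVec, utv_dot]
  have hrx : ∀ x, (r : Matrix (Fin n) (Fin n) F) *ᵥ x = x + ((δ - 1) * hh x a) • a := by
    intro x
    rw [hr, coe_rk1GL _ _ hne₃, rk1_mulVec, utv_dot]
  have hBx : ∀ x, ((d₁ * d₂ * r : GL (Fin n) F) : Matrix (Fin n) (Fin n) F) *ᵥ x =
      x + ((δ - 1) * hh x a) • a + ((l - 1) * hh x w) • v + ((a' - 1) * hh x v) • w := by
    intro x
    rw [Units.val_mul, Units.val_mul, ← mulVec_mulVec, ← mulVec_mulVec, hrx, hd₂x, hd₁x]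
    simp only [hermForm_add_left, hermForm_smul_left, haw, hav, hvv, mul_zero, add_zero]
  have hGU : d₁ * d₂ * r ∈ Cfsg.GU n F q := by
    rw [mem_GU_iff]
    intro x y
    rw [hBx, hBx]
    simp only [hermForm_add_left, hermForm_add_right hF, hermForm_smul_left, hermForm_smul_right,
      hvv, hww, hvw, hwv, haa, hav, haw, hva, hwa, mul_pow]
    have e1 : (hh y a) ^ q = hh a y := hermForm_conj hF n y a
    have e2 : (hh y w) ^ q = hh w y := hermForm_conj hF n y w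
    have e3 : (hh y v) ^ q = hh v y := hermForm_conj hF n y v
    rw [e1, e2, e3, frob_sub hF, frob_sub hF, frob_sub hF, one_pow, ha'q, hδq]
    have k1 : l * l⁻¹ = 1 := mul_inv_cancel₀ hl
    have k2 : l ^ q * (l ^ q)⁻¹ = 1 := mul_inv_cancel₀ hlq
    rw [hδ, ha']
    field_simp
    ring
  have hSL : d₁ * d₂ * r ∈ Cfsg.Geo.specialLinear (Fin n) F := by
    rw [mem_specialLinear_iff, Units.val_mul, Units.val_mul, Matrix.det_mul, Matrix.det_mul, hd₁,
      hd₂, hr, coe_rk1GL _ _ hne₁, coe_rk1GL _ _ hne₂, coe_rk1GL _ _ hne₃, det_rk1, det_rk1,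
      det_rk1, utv_dot, utv_dot, utv_dot, hwv, hvw, haa, mul_one, mul_one, mul_one, add_sub_cancel,
      add_sub_cancel, add_sub_cancel, ha', hδ]
    field_simp
  refine ⟨d₁ * d₂ * r, ⟨hGU, hSL⟩, ?_⟩
  · rw [hBx, hva, hvw, hvv]
    simp only [mul_zero, zero_smul, add_zero, mul_one]
    rw [sub_smul, one_smul]
    abel

/-- a unitary transvection is a commutator, using a torus element (`q ≥ 3`, `n ≥ 3`) -/
theorem utv_comm_torus (hF : Fintype.card F = q ^ 2) (hq3 : 3 ≤ q) (v w a : Fin n → F)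
    (hvv : hh v v = 0) (hww : hh w w = 0) (hvw : hh v w = 1) (haa : hh a a = 1) (hav : hh a v = 0)
    (haw : hh a w = 0) (c : F) (hc : c + c ^ q = 0) :
    ∃ B C : GL (Fin n) F, B ∈ suGL (F := F) n q ∧ C ∈ suGL (F := F) n q ∧
      B * C * B⁻¹ * C⁻¹ = utv q v c := by
  obtain ⟨l, hl0, hl1⟩ := exists_norm_ne_one hF hq3
  obtain ⟨B, hB, hBv⟩ := exists_torus_elt hF v w a hvv hww hvw haa hav haw l hl0
  have hN : l * l ^ q - 1 ≠ 0 := sub_ne_zero.2 hl1
  set c' : F := c / (l * l ^ q - 1) with hc'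
  have hc'q : c' + c' ^ q = 0 := by
    rw [hc', div_pow, frob_sub hF, mul_pow, pow_q_pow_q hF, one_pow, mul_comm (l ^ q) l]
    rw [← add_div, hc, zero_div]
  refine ⟨B, utv q v c', hB, utv_mem_suGL hF v hvv c' hc'q, ?_⟩
  rw [conj_utv B hB.1 v hvv, hBv, utv_smul v hvv, utv_inv v hvv, utv_add v hvv]
  congr 1
  rw [hc', pow_succ']
  field_simp
  ring

end utorus

end Cfsg.Agent.Lib.Helper13
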