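import Mathlib
import Cfsg.Agent.Lib.Helper13.UnitaryTorus

set_option autoImplicit false

namespace Cfsg.Agent.Lib.Helper13

open Matrix Cfsg.Agent.Lib.Helper99

section ugen1

variable {F : Type*} [Field F] [Fintype F] {q n : ℕ}

local notation "hh" => Cfsg.hermForm n F q
local notation "TT" => utvGroup n q F

theorem trace_zero_inv (_hF : Fintype.card F = q ^ 2) {c : F} (hc : c + c ^ q = 0) :
    c⁻¹ + (c⁻¹) ^ q = 0 := by
  have hcq : c ^ q = -c := eq_neg_of_add_eq_zero_right hc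
  rw [inv_pow, hcq, inv_neg, add_neg_cancel]

/-- moving an isotropic vector to an explicit multiple of a non-orthogonal isotropic vector -/
theorem utv_move_explicit (hF : Fintype.card F = q ^ 2) (p r : Fin n → F) (hp : hh p p = 0)
    (hr : hh r r = 0) (hpr : hh p r ≠ 0) (τ : F) (hτ0 : τ ≠ 0) (hτ : τ + τ ^ q = 0) :
    ∃ t ∈ TT, (t : Matrix (Fin n) (Fin n) F) *ᵥ p = ((τ / hh p r) ^ q) • r := by
  have hτq : τ ^ q = -τ := eq_neg_of_add_eq_zero_right hτ
  set l : F := (τ / hh p r) ^ q with hl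
  have hlq : l ^ q = τ / hh p r := by rw [hl, pow_q_pow_q hF]
  have hrp : hh r p = (hh p r) ^ q := (hermForm_conj hF n p r).symm
  set u : Fin n → F := p - l • r with hu
  have h1 : l ^ q * hh p r = τ := by rw [hlq, div_mul_cancel₀ _ hpr]
  have h2 : l * hh r p = τ ^ q := by
    rw [hl, hrp, ← mul_pow, div_mul_cancel₀ _ hpr]
  have hpu : hh p u = -τ := by
    rw [hu, hermForm_sub_right hF, hp, hermForm_smul_right, h1, zero_sub]
  have huu : hh u u = 0 := by
    have : hh u u = hh p u - l * hh r u := by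
      conv_lhs => rw [hu]
      rw [hermForm_sub_left, hermForm_smul_left]
    rw [this, hpu, hu, hermForm_sub_right hF, hermForm_smul_right, hr, mul_zero, sub_zero,
      h2, hτq]
    ring
  refine ⟨utv q u τ⁻¹, utv_mem_utvGroup u huu _ (trace_zero_inv hF hτ), ?_⟩
  rw [utv_mulVec u huu, hpu, mul_neg, inv_mul_cancel₀ hτ0, neg_one_smul, hu]
  abel

/-- scalars outside the fixed field are realised on any isotropic vector, `n ≥ 3` -/
theorem utv_scalar_of_not_fixed (hF : Fintype.card F = q ^ 2) (hn : 3 ≤ n) (v : Fin n → F)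
    (hv0 : v ≠ 0) (hvv : hh v v = 0) (l : F) (hl0 : l ≠ 0) (hl : l ^ q ≠ l) :
    ∃ t ∈ TT, (t : Matrix (Fin n) (Fin n) F) *ᵥ v = l • v := by
  obtain ⟨w, a, hww, hvw, haa, hav, haw⟩ := exists_torus_config hF hn v hv0 hvv
  obtain ⟨τ, hτ0, hτ⟩ := exists_trace_zero hF
  have hτq : τ ^ q = -τ := eq_neg_of_add_eq_zero_right hτ
  have hwv : hh w v = 1 := by rw [← hermForm_conj hF n v w, hvw, one_pow]
  have hva : hh v a = 0 := hermForm_eq_zero_comm hF hav
  have hwa : hh w a = 0 := hermForm_eq_zero_comm hF haw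
  have hlq0 : l ^ q ≠ 0 := pow_ne_zero _ hl0
  set α : F := -τ ^ 3 / l with hα
  have hαq : α ^ q = τ ^ 3 / l ^ q := by
    rw [hα, div_pow, frob_neg hF, ← pow_mul, mul_comm 3 q, pow_mul, hτq]
    ring
  have hα0 : α ≠ 0 := by
    rw [hα]
    exact div_ne_zero (neg_ne_zero.2 (pow_ne_zero _ hτ0)) hl0
  have hαq0 : α ^ q ≠ 0 := pow_ne_zero _ hα0
  -- the norm we need for `γ`
  set μ0 : F := -(α + α ^ q) with hμ0
  have hμ0ne : μ0 ≠ 0 := by
    rw [hμ0, hαq, hα]
    intro h
    apply hl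
    have h3 : τ ^ 3 ≠ 0 := pow_ne_zero _ hτ0
    field_simp at h
    have : τ ^ 3 * (l ^ q - l) = 0 := by linear_combination h
    rcases mul_eq_zero.1 this with h' | h'
    · exact absurd h' h3
    · exact sub_eq_zero.1 h'
  have hμ0q : frobU hF μ0 = μ0 := by
    rw [frobU_apply, hμ0, frob_neg hF, frob_add hF, pow_q_pow_q hF, add_comm]
  obtain ⟨γ, hγ⟩ := exists_mul_conj_eq (frobU hF) (frobU_ne_id hF) (frobU_frobU hF) μ0 hμ0ne hμ0q
  rw [frobU_apply] at hγ
  set s : Fin n → F := α • v + w + γ • a with hs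
  have hss : hh s s = 0 := by
    rw [hs]
    simp only [hermForm_add_left, hermForm_add_right hF, hermForm_smul_left, hermForm_smul_right,
      hvv, hww, hvw, hwv, haa, hav, haw, hva, hwa]
    rw [hμ0] at hγ
    linear_combination hγ
  have hws : hh w s = α ^ q := by
    rw [hs]
    simp only [hermForm_add_right hF, hermForm_smul_right, hww, hwv, hwa]
    ring
  have hsv : hh s v = 1 := by
    rw [hs]
    simp only [hermForm_add_left, hermForm_smul_left, hvv, hwv, hav]
    ring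
  obtain ⟨t1, ht1, h1⟩ := utv_move_explicit hF v w hvv hww (by rw [hvw]; exact one_ne_zero) τ hτ0 hτ
  obtain ⟨t2, ht2, h2⟩ := utv_move_explicit hF w s hww hss (by rw [hws]; exact hαq0) τ hτ0 hτ
  obtain ⟨t3, ht3, h3⟩ := utv_move_explicit hF s v hss hvv (by rw [hsv]; exact one_ne_zero) τ hτ0 hτ
  refine ⟨t3 * t2 * t1, Subgroup.mul_mem _ (Subgroup.mul_mem _ ht3 ht2) ht1, ?_⟩
  rw [Units.val_mul, Units.val_mul, ← mulVec_mulVec, ← mulVec_mulVec, h1, mulVec_smul, h2,
    mulVec_smul, mulVec_smul, h3, smul_smul, smul_smul, hvw, hws, hsv, div_one, div_pow,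
    pow_q_pow_q hF, hτq]
  congr 1
  rw [hα]
  field_simp

/-- all non-zero scalars are realised on isotropic vectors, `n ≥ 3` -/
theorem utv_scalar (hF : Fintype.card F = q ^ 2) (hn : 3 ≤ n) (v : Fin n → F)
    (hv0 : v ≠ 0) (hvv : hh v v = 0) (l : F) (hl0 : l ≠ 0) :
    ∃ t ∈ TT, (t : Matrix (Fin n) (Fin n) F) *ᵥ v = l • v := by
  by_cases hl : l ^ q = l
  · obtain ⟨l', hl'⟩ := exists_pow_q_ne hF
    have hl'0 : l' ≠ 0 := by
      rintro rfl
      apply hl'
      rw [zero_pow]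
      have := q_ge_two hF
      omega
    have hl'' : (l / l') ^ q ≠ l / l' := by
      rw [div_pow, hl]
      intro h
      apply hl'
      have h1 : l / l' ^ q * (l' ^ q * l') = l / l' * (l' ^ q * l') := by rw [h]
      have hq0 : l' ^ q ≠ 0 := pow_ne_zero _ hl'0
      field_simp at h1
      exact h1.symm
    obtain ⟨t1, ht1, h1⟩ := utv_scalar_of_not_fixed hF hn v hv0 hvv l' hl'0 hl'
    have hv1 : l' • v ≠ 0 := smul_ne_zero hl'0 hv0
    have hvv1 : hh (l' • v) (l' • v) = 0 := by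
      rw [hermForm_smul_left, hermForm_smul_right, hvv, mul_zero, mul_zero]
    obtain ⟨t2, ht2, h2⟩ := utv_scalar_of_not_fixed hF hn (l' • v) hv1 hvv1 (l / l')
      (div_ne_zero hl0 hl'0) hl''
    refine ⟨t2 * t1, Subgroup.mul_mem _ ht2 ht1, ?_⟩
    rw [Units.val_mul, ← mulVec_mulVec, h1, h2, smul_smul, div_mul_cancel₀ _ hl'0]
  · exact utv_scalar_of_not_fixed hF hn v hv0 hvv l hl0 hl

/-- the transvection group is transitive on non-zero isotropic vectors, `n ≥ 3` -/
theorem utv_transitive_isotropic (hF : Fintype.card F = q ^ 2) (hn : 3 ≤ n) (p r : Fin n → F)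
    (hp0 : p ≠ 0) (hr0 : r ≠ 0) (hp : hh p p = 0) (hr : hh r r = 0) :
    ∃ t ∈ TT, (t : Matrix (Fin n) (Fin n) F) *ᵥ p = r := by
  have hti : ∀ x : Fin n → F, hh x x = 0 → ∀ u ∈ Submodule.span F {x},
      ∀ v ∈ Submodule.span F {x}, hh u v = 0 := by
    intro x hx u hu v hv
    rw [Submodule.mem_span_singleton] at hu hv
    obtain ⟨a, rfl⟩ := hu
    obtain ⟨b, rfl⟩ := hv
    rw [hermForm_smul_left, hermForm_smul_right, hx, mul_zero, mul_zero]
  obtain ⟨t, ht, htW⟩ := utv_transitive_ti hF 1 (Submodule.span F {p}) (Submodule.span F {r})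
    (hti p hp) (hti r hr) (by rw [finrank_span_singleton hp0, finrank_span_singleton hr0])
    (by rw [finrank_span_singleton hp0]; omega)
  have h1 := htW p (Submodule.mem_span_singleton_self p)
  rw [Submodule.mem_span_singleton] at h1
  obtain ⟨l, hl⟩ := h1
  have hl0 : l ≠ 0 := by
    rintro rfl
    rw [zero_smul] at hl
    have : (t : Matrix (Fin n) (Fin n) F) *ᵥ p = (t : Matrix (Fin n) (Fin n) F) *ᵥ 0 := by
      rw [← hl, mulVec_zero]
    exact hp0 (mulVec_injective_of_GL t this)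
  have hlr0 : l • r ≠ 0 := smul_ne_zero hl0 hr0
  have hlr : hh (l • r) (l • r) = 0 := by
    rw [hermForm_smul_left, hermForm_smul_right, hr, mul_zero, mul_zero]
  obtain ⟨t', ht', h2⟩ := utv_scalar hF hn (l • r) hlr0 hlr l⁻¹ (inv_ne_zero hl0)
  refine ⟨t' * t, Subgroup.mul_mem _ ht' ht, ?_⟩
  rw [Units.val_mul, ← mulVec_mulVec, ← hl, h2, smul_smul, inv_mul_cancel₀ hl0, one_smul]

end ugen1

end Cfsg.Agent.Lib.Helper13
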