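import Mathlib
import Cfsg.Agent.Lib.Helper13.UnitaryGen1
import Cfsg.Agent.Lib.Helper99.UnitaryTI2

set_option autoImplicit false

namespace Cfsg.Agent.Lib.Helper13

open Matrix Cfsg.Agent.Lib.Helper99

section ugen2

variable {F : Type*} [Field F] [Fintype F] {q n : ℕ}

local notation "hh" => Cfsg.hermForm n F q
local notation "TT" => utvGroup n q F

/-- one transvection fixing `e` moves a partner `f` of `e` to another partner `f'`, when
`f' - f` is isotropic and `h(f, f') ≠ 0` -/
theorem iso_step_one (hF : Fintype.card F = q ^ 2) (e f f' : Fin n → F)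
    (hfe : hh f e = 1) (hf'e : hh f' e = 1) (hff : hh f f = 0) (hf'f' : hh f' f' = 0)
    (hd : hh (f' - f) (f' - f) = 0) (hη : hh f f' ≠ 0) :
    ∃ t ∈ TT, (t : Matrix (Fin n) (Fin n) F) *ᵥ e = e ∧
      (t : Matrix (Fin n) (Fin n) F) *ᵥ f = f' := by
  set d := f' - f with hddef
  have hde : hh d e = 0 := by rw [hddef, hermForm_sub_left, hfe, hf'e, sub_self]
  have hed : hh e d = 0 := hermForm_eq_zero_comm hF hde
  have hfd : hh f d = hh f f' := by rw [hddef, hermForm_sub_right hF, hff, sub_zero]
  have hdf : hh d f = (hh f f') ^ q := by rw [← hfd, hermForm_conj hF]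
  have htr : hh f f' + (hh f f') ^ q = 0 := by
    have h1 := hd
    rw [hddef] at h1
    simp only [hermForm_sub_left, hermForm_sub_right hF, hff, hf'f'] at h1
    have h2 : hh f' f = (hh f f') ^ q := (hermForm_conj hF n f f').symm
    rw [h2] at h1
    linear_combination (-1 : F) * h1
  refine ⟨utv q d (hh f f')⁻¹, utv_mem_utvGroup d hd _ (trace_zero_inv hF htr), ?_, ?_⟩
  · rw [utv_mulVec d hd, hed, mul_zero, zero_smul, add_zero]
  · rw [utv_mulVec d hd, hfd, inv_mul_cancel₀ hη, one_smul, hddef]
    abel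


/-- the transvection group, fixing `e`, moves a partner `f` of `e` to any partner `f'` with
`f' - f` isotropic -/
theorem iso_step (hF : Fintype.card F = q ^ 2) (e f f' : Fin n → F) (hee : hh e e = 0)
    (hfe : hh f e = 1) (hf'e : hh f' e = 1) (hff : hh f f = 0) (hf'f' : hh f' f' = 0)
    (hd : hh (f' - f) (f' - f) = 0) :
    ∃ t ∈ TT, (t : Matrix (Fin n) (Fin n) F) *ᵥ e = e ∧
      (t : Matrix (Fin n) (Fin n) F) *ᵥ f = f' := by
  by_cases hη : hh f f' = 0
  · obtain ⟨τ, hτ0, hτ⟩ := exists_trace_zero hF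
    have hτq : τ ^ q = -τ := eq_neg_of_add_eq_zero_right hτ
    have hef : hh e f = 1 := by rw [← hermForm_conj hF n f e, hfe, one_pow]
    have hef' : hh e f' = 1 := by rw [← hermForm_conj hF n f' e, hf'e, one_pow]
    have hf'f : hh f' f = 0 := hermForm_eq_zero_comm hF hη
    -- intermediate partner
    set f'' := f + τ • e with hf''
    have h1 : (utv q e τ : Matrix (Fin n) (Fin n) F) *ᵥ e = e := by
      rw [utv_mulVec e hee, hee, mul_zero, zero_smul, add_zero]
    have h2 : (utv q e τ : Matrix (Fin n) (Fin n) F) *ᵥ f = f'' := by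
      rw [utv_mulVec e hee, hfe, mul_one]
    have hf''e : hh f'' e = 1 := by
      rw [hf'', hermForm_add_left, hermForm_smul_left, hfe, hee, mul_zero, add_zero]
    have hf''f'' : hh f'' f'' = 0 := by
      rw [hf'']
      simp only [hermForm_add_left, hermForm_add_right hF, hermForm_smul_left,
        hermForm_smul_right, hff, hee, hfe, hef]
      linear_combination hτ
    have hd2 : hh (f' - f'') (f' - f'') = 0 := by
      have h3 := hd
      simp only [hermForm_sub_left, hermForm_sub_right hF, hff, hf'f', hη, hf'f] at h3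
      rw [hf'']
      simp only [hermForm_sub_left, hermForm_sub_right hF, hermForm_add_left,
        hermForm_add_right hF, hermForm_smul_left, hermForm_smul_right, hff, hf'f', hη, hf'f,
        hee, hfe, hef, hf'e, hef']
      ring
    have hη2 : hh f'' f' ≠ 0 := by
      rw [hf'', hermForm_add_left, hermForm_smul_left, hη, hef', zero_add, mul_one]
      exact hτ0
    obtain ⟨t2, ht2, h3, h4⟩ := iso_step_one hF e f'' f' hf''e hf'e hf''f'' hf'f' hd2 hη2
    refine ⟨t2 * utv q e τ, Subgroup.mul_mem _ ht2 (utv_mem_utvGroup e hee τ hτ), ?_, ?_⟩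
    · rw [Units.val_mul, ← mulVec_mulVec, h1, h3]
    · rw [Units.val_mul, ← mulVec_mulVec, h2, h4]
  · exact iso_step_one hF e f f' hfe hf'e hff hf'f' hd hη


/-- in dimension at least four there is a vector outside the span of three given ones -/
theorem exists_not_mem_span3 (hn : 4 ≤ n) (e f w : Fin n → F) :
    ∃ m : Fin n → F, m ∉ Submodule.span F {e, f, w} := by
  classical
  by_contra hcon
  push Not at hcon
  have htop : Submodule.span F ({e, f, w} : Set (Fin n → F)) = ⊤ := by
    rw [eq_top_iff]
    intro x _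
    exact hcon x
  have h1 := finrank_span_finset_le_card (R := F) ({e, f, w} : Finset (Fin n → F))
  have h2 : ((({e, f, w} : Finset (Fin n → F)) : Set (Fin n → F))) = {e, f, w} := by
    simp
  rw [Set.finrank, h2, htop, finrank_top, Module.finrank_fin_fun] at h1
  have h3 : ({e, f, w} : Finset (Fin n → F)).card ≤ 3 := Finset.card_le_three
  omega

/-- an isotropic vector orthogonal to a hyperbolic pair and not orthogonal to a given anisotropic
vector of the complement, `n ≥ 4` -/
theorem exists_iso_perp (hF : Fintype.card F = q ^ 2) (hn : 4 ≤ n) (e f w : Fin n → F)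
    (hee : hh e e = 0) (hff : hh f f = 0) (hef : hh e f = 1) (hwe : hh w e = 0)
    (hwf : hh w f = 0) (hww : hh w w ≠ 0) :
    ∃ u : Fin n → F, hh u u = 0 ∧ hh u e = 0 ∧ hh u f = 0 ∧ hh w u ≠ 0 := by
  have hfe : hh f e = 1 := by rw [← hermForm_conj hF n e f, hef, one_pow]
  have hew : hh e w = 0 := hermForm_eq_zero_comm hF hwe
  have hfw : hh f w = 0 := hermForm_eq_zero_comm hF hwf
  obtain ⟨m, hm⟩ := exists_not_mem_span3 hn e f w
  set m' : Fin n → F := m - hh m f • e - hh m e • f - (hh m w / hh w w) • w with hm'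
  have hm'e : hh m' e = 0 := by
    rw [hm']
    simp only [hermForm_sub_left, hermForm_smul_left, hee, hfe, hwe]
    ring
  have hm'f : hh m' f = 0 := by
    rw [hm']
    simp only [hermForm_sub_left, hermForm_smul_left, hff, hef, hwf]
    ring
  have hm'w : hh m' w = 0 := by
    rw [hm']
    simp only [hermForm_sub_left, hermForm_smul_left, hew, hfw]
    field_simp
    ring
  have hwm' : hh w m' = 0 := hermForm_eq_zero_comm hF hm'w
  have hm'0 : m' ≠ 0 := by
    intro h0
    apply hm
    have hmeq : m = m' + (hh m f • e + hh m e • f + (hh m w / hh w w) • w) := by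
      rw [hm']; abel
    rw [h0, zero_add] at hmeq
    rw [hmeq]
    refine Submodule.add_mem _ (Submodule.add_mem _ (Submodule.smul_mem _ _ ?_)
      (Submodule.smul_mem _ _ ?_)) (Submodule.smul_mem _ _ ?_) <;>
      exact Submodule.subset_span (by simp)
  by_cases hN : hh m' m' = 0
  · -- `m'` is isotropic: use that the complement is spanned by isotropic vectors
    by_contra hcon
    push Not at hcon
    have hperpmem : ∀ x : Fin n → F, x ∈ hperp q (Submodule.span F {e, f}) ↔
        hh x e = 0 ∧ hh x f = 0 := by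
      intro x
      rw [mem_hperp]
      constructor
      · intro h
        exact ⟨h e (Submodule.subset_span (by simp)), h f (Submodule.subset_span (by simp))⟩
      · rintro ⟨h1, h2⟩ y hy
        rw [Submodule.mem_span_pair] at hy
        obtain ⟨a, b, rfl⟩ := hy
        rw [hermForm_add_right hF, hermForm_smul_right, hermForm_smul_right, h1, h2]
        ring
    have hm'W : m' ∉ Submodule.span F {e, f} := by
      intro h
      rw [Submodule.mem_span_pair] at h
      obtain ⟨a, b, hab⟩ := h
      have h1 := hm'e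
      have h2 := hm'f
      rw [← hab] at h1 h2
      simp only [hermForm_add_left, hermForm_smul_left, hee, hfe, hff, hef] at h1 h2
      have ha : a = 0 := by linear_combination h2
      have hb : b = 0 := by linear_combination h1
      rw [ha, hb, zero_smul, zero_smul, zero_add] at hab
      exact hm'0 hab.symm
    have hspan := span_isotropic_hperp hF (Submodule.span F {e, f}) m'
      ((hperpmem m').2 ⟨hm'e, hm'f⟩) hN hm'W w ((hperpmem w).2 ⟨hwe, hwf⟩)
    have hzero : ∀ x ∈ Submodule.span F {z | z ∈ hperp q (Submodule.span F {e, f}) ∧ hh z z = 0},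
        hh w x = 0 := by
      intro x hx
      induction hx using Submodule.span_induction with
      | mem z hz =>
        obtain ⟨hz1, hz2⟩ := hz
        rw [hperpmem] at hz1
        exact hcon z hz2 hz1.1 hz1.2
      | zero => exact hermForm_zero_right hF w
      | add x y _ _ hx hy => rw [hermForm_add_right hF, hx, hy, add_zero]
      | smul a x _ hx => rw [hermForm_smul_right, hx, mul_zero]
    exact hww (hzero w hspan)
  · -- `m'` anisotropic: combine `w` and `m'`
    have hval : -(hh w w) / hh m' m' ≠ 0 := div_ne_zero (neg_ne_zero.2 hww) hN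
    have hfix : frobU hF (-(hh w w) / hh m' m') = -(hh w w) / hh m' m' := by
      rw [frobU_apply, div_pow, frob_neg hF, hermForm_self_pow hF, hermForm_self_pow hF]
    obtain ⟨μ, hμ⟩ := exists_mul_conj_eq (frobU hF) (frobU_ne_id hF) (frobU_frobU hF) _ hval hfix
    rw [frobU_apply] at hμ
    refine ⟨w + μ • m', ?_, ?_, ?_, ?_⟩
    · simp only [hermForm_add_left, hermForm_add_right hF, hermForm_smul_left,
        hermForm_smul_right, hm'w, hwm']
      have : μ * (μ ^ q * hh m' m') = -(hh w w) := by
        rw [← mul_assoc, hμ, div_mul_cancel₀ _ hN]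
      linear_combination this
    · rw [hermForm_add_left, hermForm_smul_left, hwe, hm'e, mul_zero, add_zero]
    · rw [hermForm_add_left, hermForm_smul_left, hwf, hm'f, mul_zero, add_zero]
    · rw [hermForm_add_right hF, hermForm_smul_right, hwm', mul_zero, add_zero]
      exact hww

/-- the stabiliser of `e` in the transvection group is transitive on the partners of `e`,
`n ≥ 4` -/
theorem utv_partner_transitive (hF : Fintype.card F = q ^ 2) (hn : 4 ≤ n) (e f f' : Fin n → F)
    (hee : hh e e = 0) (hfe : hh f e = 1) (hf'e : hh f' e = 1) (hff : hh f f = 0)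
    (hf'f' : hh f' f' = 0) :
    ∃ t ∈ TT, (t : Matrix (Fin n) (Fin n) F) *ᵥ e = e ∧
      (t : Matrix (Fin n) (Fin n) F) *ᵥ f = f' := by
  have hef : hh e f = 1 := by rw [← hermForm_conj hF n f e, hfe, one_pow]
  have hef' : hh e f' = 1 := by rw [← hermForm_conj hF n f' e, hf'e, one_pow]
  by_cases hd : hh (f' - f) (f' - f) = 0
  · exact iso_step hF e f f' hee hfe hf'e hff hf'f' hd
  · set d := f' - f with hddef
    have hde : hh d e = 0 := by rw [hddef, hermForm_sub_left, hfe, hf'e, sub_self]
    have hed : hh e d = 0 := hermForm_eq_zero_comm hF hde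
    set w : Fin n → F := d - hh d f • e with hw
    have hwe : hh w e = 0 := by
      rw [hw, hermForm_sub_left, hermForm_smul_left, hde, hee, mul_zero, sub_zero]
    have hwf : hh w f = 0 := by
      rw [hw, hermForm_sub_left, hermForm_smul_left, hef, mul_one, sub_self]
    have hww : hh w w = hh d d := by
      rw [hw]
      simp only [hermForm_sub_left, hermForm_sub_right hF, hermForm_smul_left,
        hermForm_smul_right, hee, hde, hed]
      ring
    obtain ⟨u, huu, hue, huf, hwu⟩ := exists_iso_perp hF hn e f w hee hff hef hwe hwf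
      (by rw [hww]; exact hd)
    have heu : hh e u = 0 := hermForm_eq_zero_comm hF hue
    have hfu : hh f u = 0 := hermForm_eq_zero_comm hF huf
    have hdu : hh w u = hh d u := by
      rw [hw, hermForm_sub_left, hermForm_smul_left, heu, mul_zero, sub_zero]
    have hdu0 : hh d u ≠ 0 := by rw [← hdu]; exact hwu
    obtain ⟨ν, hν⟩ := exists_trace_eq' hF (hh d d) (hermForm_self_pow hF d)
    set lam : F := (ν / hh d u) ^ q with hlam
    have hlamq : lam ^ q = ν / hh d u := by rw [hlam, pow_q_pow_q hF]
    set f1 : Fin n → F := f + lam • u with hf1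
    have hf1e : hh f1 e = 1 := by
      rw [hf1, hermForm_add_left, hermForm_smul_left, hfe, hue, mul_zero, add_zero]
    have hf1f1 : hh f1 f1 = 0 := by
      rw [hf1]
      simp only [hermForm_add_left, hermForm_add_right hF, hermForm_smul_left,
        hermForm_smul_right, hff, huu, hfu, huf]
      ring
    have hd1 : hh (f1 - f) (f1 - f) = 0 := by
      have : f1 - f = lam • u := by rw [hf1]; abel
      rw [this, hermForm_smul_left, hermForm_smul_right, huu, mul_zero, mul_zero]
    have hud : hh u d = (hh d u) ^ q := (hermForm_conj hF n d u).symm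
    have hd2 : hh (f' - f1) (f' - f1) = 0 := by
      have : f' - f1 = d - lam • u := by rw [hf1, hddef]; abel
      rw [this]
      simp only [hermForm_sub_left, hermForm_sub_right hF, hermForm_smul_left,
        hermForm_smul_right, huu, hud]
      have e1 : lam ^ q * hh d u = ν := by rw [hlamq, div_mul_cancel₀ _ hdu0]
      have e2 : lam * (hh d u) ^ q = ν ^ q := by
        rw [hlam, ← mul_pow, div_mul_cancel₀ _ hdu0]
      linear_combination (-1 : F) * hν - e1 - e2
    obtain ⟨t1, ht1, h1, h2⟩ := iso_step hF e f f1 hee hfe hf1e hff hf1f1 hd1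
    obtain ⟨t2, ht2, h3, h4⟩ := iso_step hF e f1 f' hee hf1e hf'e hf1f1 hf'f' hd2
    refine ⟨t2 * t1, Subgroup.mul_mem _ ht2 ht1, ?_, ?_⟩
    · rw [Units.val_mul, ← mulVec_mulVec, h1, h3]
    · rw [Units.val_mul, ← mulVec_mulVec, h2, h4]


/-- the transvection group is transitive on hyperbolic pairs, `n ≥ 4` -/
theorem utv_transitive_hyp (hF : Fintype.card F = q ^ 2) (hn : 4 ≤ n) (e f e' f' : Fin n → F)
    (hee : hh e e = 0) (hff : hh f f = 0) (hfe : hh f e = 1)
    (he'e' : hh e' e' = 0) (hf'f' : hh f' f' = 0) (hf'e' : hh f' e' = 1) :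
    ∃ t ∈ TT, (t : Matrix (Fin n) (Fin n) F) *ᵥ e = e' ∧
      (t : Matrix (Fin n) (Fin n) F) *ᵥ f = f' := by
  have he0 : e ≠ 0 := by
    rintro rfl
    rw [hermForm_zero_right hF] at hfe
    exact zero_ne_one hfe
  have he'0 : e' ≠ 0 := by
    rintro rfl
    rw [hermForm_zero_right hF] at hf'e'
    exact zero_ne_one hf'e'
  obtain ⟨t1, ht1, h1⟩ := utv_transitive_isotropic hF (by omega) e e' he0 he'0 hee he'e'
  have ht1G : t1 ∈ Cfsg.GU n F q := (utvGroup_le_suGL hF ht1).1
  have h2 : hh ((t1 : Matrix (Fin n) (Fin n) F) *ᵥ f) e' = 1 := by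
    rw [← h1, GU_preserves ht1G, hfe]
  have h3 : hh ((t1 : Matrix (Fin n) (Fin n) F) *ᵥ f) ((t1 : Matrix (Fin n) (Fin n) F) *ᵥ f) = 0 := by
    rw [GU_preserves ht1G, hff]
  obtain ⟨t2, ht2, h4, h5⟩ := utv_partner_transitive hF hn e' _ f' he'e' h2 hf'e' h3 hf'f'
  refine ⟨t2 * t1, Subgroup.mul_mem _ ht2 ht1, ?_, ?_⟩
  · rw [Units.val_mul, ← mulVec_mulVec, h1, h4]
  · rw [Units.val_mul, ← mulVec_mulVec, h5]

/-- a vector of norm one is `e + ν • f` for a hyperbolic pair `(e, f)`, for any `ν` of trace one -/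
theorem norm_one_decomp (hF : Fintype.card F = q ^ 2) (hn : 2 ≤ n) (a : Fin n → F)
    (haa : hh a a = 1) (ν : F) (hν : ν + ν ^ q = 1) :
    ∃ e f : Fin n → F, hh e e = 0 ∧ hh f f = 0 ∧ hh f e = 1 ∧ a = e + ν • f := by
  classical
  have hq2 := q_ge_two hF
  have hq0 : q ≠ 0 := by omega
  -- an isotropic vector not orthogonal to `a`
  obtain ⟨e0, he0, hae0⟩ : ∃ e0 : Fin n → F, hh e0 e0 = 0 ∧ hh a e0 ≠ 0 := by
    obtain ⟨ζ, hζ⟩ := exists_norm_neg_one hF
    have hE00 : hh (Pi.single (⟨0, by omega⟩ : Fin n) 1) (Pi.single (⟨0, by omega⟩ : Fin n) 1) = 1 := by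
      rw [hermForm_single_single n q hq0, if_pos rfl]
    have hE11 : hh (Pi.single (⟨1, by omega⟩ : Fin n) 1) (Pi.single (⟨1, by omega⟩ : Fin n) 1) = 1 := by
      rw [hermForm_single_single n q hq0, if_pos rfl]
    have hE01 : hh (Pi.single (⟨0, by omega⟩ : Fin n) 1) (Pi.single (⟨1, by omega⟩ : Fin n) 1) = 0 := by
      rw [hermForm_single_single n q hq0, if_neg (by simp [Fin.ext_iff])]
    have hE10 : hh (Pi.single (⟨1, by omega⟩ : Fin n) 1) (Pi.single (⟨0, by omega⟩ : Fin n) 1) = 0 := by
      rw [hermForm_single_single n q hq0, if_neg (by simp [Fin.ext_iff])]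
    have hE0ne : (Pi.single (⟨0, by omega⟩ : Fin n) (1 : F) : Fin n → F) ≠ 0 := by
      intro h
      rw [h, hermForm_zero_left] at hE00
      exact zero_ne_one hE00
    have ha0 : a ≠ 0 := by
      rintro rfl
      rw [hermForm_zero_left] at haa
      exact zero_ne_one haa
    obtain ⟨g, hg, hga⟩ := exists_isometry_map hF (Pi.single (⟨0, by omega⟩ : Fin n) 1) a hE0ne ha0
      (by rw [haa, hE00])
    refine ⟨g (Pi.single ⟨0, by omega⟩ 1 + ζ • Pi.single ⟨1, by omega⟩ 1), ?_, ?_⟩
    · rw [hg]
      simp only [hermForm_add_left, hermForm_add_right hF, hermForm_smul_left,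
        hermForm_smul_right, hE00, hE11, hE01, hE10]
      linear_combination hζ
    · rw [← hga, hg]
      simp only [hermForm_add_right hF, hermForm_smul_right, hE00, hE01]
      simp
  set s := hh a e0 with hs
  set c : F := (1 / s) ^ q with hc
  have hcq : c ^ q = 1 / s := by rw [hc, pow_q_pow_q hF]
  have hff : hh (c • e0) (c • e0) = 0 := by
    rw [hermForm_smul_left, hermForm_smul_right, he0, mul_zero, mul_zero]
  have haf : hh a (c • e0) = 1 := by
    rw [hermForm_smul_right, hcq, ← hs, one_div, inv_mul_cancel₀ hae0]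
  have hfa : hh (c • e0) a = 1 := by
    rw [← hermForm_conj hF n a (c • e0), haf, one_pow]
  refine ⟨a - ν • (c • e0), c • e0, ?_, hff, ?_, ?_⟩
  · simp only [hermForm_sub_left, hermForm_sub_right hF, hermForm_smul_left (a := ν),
      hermForm_smul_right (a := ν), haa, haf, hfa, hff]
    linear_combination (-1 : F) * hν
  · rw [hermForm_sub_right hF, hermForm_smul_right (a := ν), hfa, hff, mul_zero, sub_zero]
  · abel

/-- the transvection group is transitive on vectors of norm one, `n ≥ 4` -/
theorem utv_transitive_norm_one (hF : Fintype.card F = q ^ 2) (hn : 4 ≤ n) (a b : Fin n → F)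
    (haa : hh a a = 1) (hbb : hh b b = 1) :
    ∃ t ∈ TT, (t : Matrix (Fin n) (Fin n) F) *ᵥ a = b := by
  obtain ⟨ν, hν⟩ := exists_trace_eq' hF (1 : F) (one_pow q)
  obtain ⟨e1, f1, h11, h12, h13, h14⟩ := norm_one_decomp hF (by omega) a haa ν hν
  obtain ⟨e2, f2, h21, h22, h23, h24⟩ := norm_one_decomp hF (by omega) b hbb ν hν
  obtain ⟨t, ht, hte, htf⟩ := utv_transitive_hyp hF hn e1 f1 e2 f2 h11 h12 h13 h21 h22 h23
  refine ⟨t, ht, ?_⟩
  rw [h14, mulVec_add, mulVec_smul, hte, htf, ← h24]

end ugen2

end Cfsg.Agent.Lib.Helper13
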