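import Mathlib
import Cfsg.Agent.Lib.Helper13.UnitaryGen2

set_option autoImplicit false

namespace Cfsg.Agent.Lib.Helper13

open Matrix Cfsg.Agent.Lib.Helper99

section ugen3

variable {F : Type*} [Field F] [Fintype F] {q n : ℕ}

local notation "hh" => Cfsg.hermForm n F q
local notation "TT" => utvGroup n q F

/-- the transvection group is normalised by the unitary group -/
theorem utvGroup_conj_mem (g : GL (Fin n) F) (hg : g ∈ Cfsg.GU n F q) (t : GL (Fin n) F)
    (ht : t ∈ TT) : g * t * g⁻¹ ∈ TT := by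
  unfold utvGroup at ht ⊢
  induction ht using Subgroup.closure_induction with
  | mem x hx =>
    obtain ⟨u, c, hu, hc, rfl⟩ := hx
    rw [conj_utv g hg u hu]
    apply Subgroup.subset_closure
    exact ⟨_, c, by rw [GU_preserves hg, hu], hc, rfl⟩
  | one => simp
  | mul x y _ _ hx hy =>
    have : g * (x * y) * g⁻¹ = (g * x * g⁻¹) * (g * y * g⁻¹) := by group
    rw [this]
    exact Subgroup.mul_mem _ hx hy
  | inv x _ hx =>
    have : g * x⁻¹ * g⁻¹ = (g * x * g⁻¹)⁻¹ := by group
    rw [this]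
    exact Subgroup.inv_mem _ hx

/-- the Eichler-type element `x ↦ x + h(x,e) w + (α h(x,e) - h(x,w)) e` -/
noncomputable def Gel (q : ℕ) (e w : Fin n → F) (α : F) : GL (Fin n) F :=
  rk1GL e (fun j => (-1 : F) * (w j) ^ q) *
    rk1GL (w + (α + Cfsg.hermForm n F q w w) • e) (fun j => (1 : F) * (e j) ^ q)

theorem Gel_aux (e w : Fin n → F) (α : F) (hee : hh e e = 0) (hew : hh e w = 0)
    (hwe : hh w e = 0) :
    1 + (fun j => (-1 : F) * (w j) ^ q) ⬝ᵥ e ≠ 0 ∧
    1 + (fun j => (1 : F) * (e j) ^ q) ⬝ᵥ (w + (α + hh w w) • e) ≠ 0 := by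
  constructor
  · rw [utv_dot, hew, mul_zero, add_zero]
    exact one_ne_zero
  · rw [utv_dot, hermForm_add_left, hermForm_smul_left, hwe, hee, mul_zero, add_zero, mul_zero,
      add_zero]
    exact one_ne_zero

theorem Gel_mulVec (e w : Fin n → F) (α : F) (hee : hh e e = 0) (hew : hh e w = 0)
    (hwe : hh w e = 0) (x : Fin n → F) :
    ((Gel q e w α : GL (Fin n) F) : Matrix (Fin n) (Fin n) F) *ᵥ x
      = x + hh x e • w + (α * hh x e - hh x w) • e := by
  obtain ⟨h1, h2⟩ := Gel_aux e w α hee hew hwe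
  unfold Gel
  rw [Units.val_mul, ← mulVec_mulVec, coe_rk1GL _ _ h1, coe_rk1GL _ _ h2, rk1_mulVec, rk1_mulVec,
    utv_dot, utv_dot]
  simp only [hermForm_add_left, hermForm_smul_left, hew, one_mul]
  module

theorem Gel_mem_SL (e w : Fin n → F) (α : F) (hee : hh e e = 0) (hew : hh e w = 0)
    (hwe : hh w e = 0) : Gel q e w α ∈ Cfsg.Geo.specialLinear (Fin n) F := by
  obtain ⟨h1, h2⟩ := Gel_aux e w α hee hew hwe
  rw [mem_specialLinear_iff]
  unfold Gel
  rw [Units.val_mul, det_mul, coe_rk1GL _ _ h1, coe_rk1GL _ _ h2, det_rk1, det_rk1, utv_dot,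
    utv_dot, hermForm_add_left, hermForm_smul_left, hew, hwe, hee]
  ring

theorem Gel_mem_GU (hF : Fintype.card F = q ^ 2) (e w : Fin n → F) (α : F) (hee : hh e e = 0)
    (hwe : hh w e = 0) (hα : α + α ^ q + hh w w = 0) : Gel q e w α ∈ Cfsg.GU n F q := by
  have hew : hh e w = 0 := hermForm_eq_zero_comm hF hwe
  rw [mem_GU_iff]
  intro x y
  rw [Gel_mulVec e w α hee hew hwe, Gel_mulVec e w α hee hew hwe]
  simp only [hermForm_add_left, hermForm_add_right hF, hermForm_smul_left, hermForm_smul_right,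
    hee, hew, hwe]
  have e1 : (hh y e) ^ q = hh e y := hermForm_conj hF n y e
  have e2 : (hh y w) ^ q = hh w y := hermForm_conj hF n y w
  rw [frob_sub hF, mul_pow, e1, e2]
  linear_combination (hh x e * hh e y) * hα

theorem Gel_conj (hF : Fintype.card F = q ^ 2) (t : GL (Fin n) F) (ht : t ∈ Cfsg.GU n F q)
    (e w : Fin n → F) (α : F) (hee : hh e e = 0) (hwe : hh w e = 0) :
    t * Gel q e w α * t⁻¹ = Gel q ((t : Matrix (Fin n) (Fin n) F) *ᵥ e)
      ((t : Matrix (Fin n) (Fin n) F) *ᵥ w) α := by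
  have hew : hh e w = 0 := hermForm_eq_zero_comm hF hwe
  have hee' : hh ((t : Matrix (Fin n) (Fin n) F) *ᵥ e) ((t : Matrix (Fin n) (Fin n) F) *ᵥ e) = 0 := by
    rw [GU_preserves ht, hee]
  have hwe' : hh ((t : Matrix (Fin n) (Fin n) F) *ᵥ w) ((t : Matrix (Fin n) (Fin n) F) *ᵥ e) = 0 := by
    rw [GU_preserves ht, hwe]
  have hew' : hh ((t : Matrix (Fin n) (Fin n) F) *ᵥ e) ((t : Matrix (Fin n) (Fin n) F) *ᵥ w) = 0 := by
    rw [GU_preserves ht, hew]
  apply Units.ext
  rw [Matrix.ext_iff_mulVec]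
  intro x
  rw [Units.val_mul, Units.val_mul, ← mulVec_mulVec, ← mulVec_mulVec, Gel_mulVec e w α hee hew hwe,
    Gel_mulVec _ _ α hee' hew' hwe', mulVec_add, mulVec_add, mulVec_smul, mulVec_smul,
    gl_mulVec_inv_mulVec, GU_preserves_inv ht, GU_preserves_inv ht]

end ugen3


section dim3

variable {F : Type*} [Field F] [Fintype F] {q : ℕ}

local notation "h3" => Cfsg.hermForm 3 F q

/-- coordinates with respect to a hyperbolic pair and a unit vector in dimension three -/
theorem decomp3 (hF : Fintype.card F = q ^ 2) (e f a : Fin 3 → F) (hee : h3 e e = 0)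
    (hff : h3 f f = 0) (hfe : h3 f e = 1) (haa : h3 a a = 1) (hae : h3 a e = 0) (haf : h3 a f = 0)
    (x : Fin 3 → F) : x = h3 x f • e + h3 x e • f + h3 x a • a := by
  have hef : h3 e f = 1 := by rw [← hermForm_conj hF 3 f e, hfe, one_pow]
  have hea : h3 e a = 0 := hermForm_eq_zero_comm hF hae
  have hfa : h3 f a = 0 := hermForm_eq_zero_comm hF haf
  have hli : LinearIndependent F ![e, f, a] := by
    rw [Fintype.linearIndependent_iff]
    intro g hg
    rw [Fin.sum_univ_three] at hg
    simp only [Matrix.cons_val_zero, Matrix.cons_val_one, Matrix.cons_val_two, Matrix.tail_cons,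
      Matrix.head_cons] at hg
    have k0 := congrArg (fun z => h3 z f) hg
    have k1 := congrArg (fun z => h3 z e) hg
    have k2 := congrArg (fun z => h3 z a) hg
    simp only [hermForm_add_left, hermForm_smul_left, hef, hff, haf, hee, hfe, hae, hea, hfa, haa,
      hermForm_zero_left] at k0 k1 k2
    intro i
    fin_cases i
    · simpa using k0
    · simpa using k1
    · simpa using k2
  have hspan := hli.span_eq_top_of_card_eq_finrank' (by simp)
  set y := x - (h3 x f • e + h3 x e • f + h3 x a • a) with hy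
  have hye : h3 y e = 0 := by
    rw [hy]
    simp only [hermForm_sub_left, hermForm_add_left, hermForm_smul_left, hee, hfe, hae]
    ring
  have hyf : h3 y f = 0 := by
    rw [hy]
    simp only [hermForm_sub_left, hermForm_add_left, hermForm_smul_left, hef, hff, haf]
    ring
  have hya : h3 y a = 0 := by
    rw [hy]
    simp only [hermForm_sub_left, hermForm_add_left, hermForm_smul_left, hea, hfa, haa]
    ring
  have hy0 : y = 0 := by
    apply hermForm_nd_left hF
    intro z
    have hz : z ∈ Submodule.span F (Set.range ![e, f, a]) := by rw [hspan]; trivial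
    induction hz using Submodule.span_induction with
    | mem z hz =>
      obtain ⟨i, rfl⟩ := hz
      fin_cases i
      · simpa using hye
      · simpa using hyf
      · simpa using hya
    | zero => exact hermForm_zero_right hF y
    | add z1 z2 _ _ h1 h2 => rw [hermForm_add_right hF, h1, h2, add_zero]
    | smul c z _ h1 => rw [hermForm_smul_right, h1, mul_zero]
  have := sub_eq_zero.1 (hy ▸ hy0 : x - (h3 x f • e + h3 x e • f + h3 x a • a) = 0)
  exact this

/-- an element of `SU_3` fixing a hyperbolic pair is trivial -/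
theorem eq_one_of_fix_hyp3 (hF : Fintype.card F = q ^ 2) (e f a : Fin 3 → F) (hee : h3 e e = 0)
    (hff : h3 f f = 0) (hfe : h3 f e = 1) (haa : h3 a a = 1) (hae : h3 a e = 0) (haf : h3 a f = 0)
    (g : GL (Fin 3) F) (hg : g ∈ suGL (F := F) 3 q)
    (hge : (g : Matrix (Fin 3) (Fin 3) F) *ᵥ e = e) (hgf : (g : Matrix (Fin 3) (Fin 3) F) *ᵥ f = f) :
    g = 1 := by
  have hdec := decomp3 hF e f a hee hff hfe haa hae haf
  set δ := h3 ((g : Matrix (Fin 3) (Fin 3) F) *ᵥ a) a with hδ
  have hga : (g : Matrix (Fin 3) (Fin 3) F) *ᵥ a = δ • a := by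
    have h1 : h3 ((g : Matrix (Fin 3) (Fin 3) F) *ᵥ a) e = 0 := by
      conv_lhs => rw [← hge]
      rw [GU_preserves hg.1, hae]
    have h2 : h3 ((g : Matrix (Fin 3) (Fin 3) F) *ᵥ a) f = 0 := by
      conv_lhs => rw [← hgf]
      rw [GU_preserves hg.1, haf]
    have := hdec ((g : Matrix (Fin 3) (Fin 3) F) *ᵥ a)
    rw [h1, h2, zero_smul, zero_smul, zero_add, zero_add] at this
    exact this
  have hgx : ∀ x, (g : Matrix (Fin 3) (Fin 3) F) *ᵥ x = x + ((δ - 1) * h3 x a) • a := by
    intro x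
    conv_lhs => rw [hdec x]
    rw [mulVec_add, mulVec_add, mulVec_smul, mulVec_smul, mulVec_smul, hge, hgf, hga]
    conv_rhs => rw [hdec x]
    have hea : h3 e a = 0 := hermForm_eq_zero_comm hF hae
    have hfa : h3 f a = 0 := hermForm_eq_zero_comm hF haf
    simp only [hermForm_add_left, hermForm_smul_left, hea, hfa, haa]
    module
  have hmat : (g : Matrix (Fin 3) (Fin 3) F) = rk1 a (fun j => (δ - 1) * (a j) ^ q) := by
    rw [Matrix.ext_iff_mulVec]
    intro x
    rw [hgx, rk1_mulVec, utv_dot]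
  have hdet : (g : Matrix (Fin 3) (Fin 3) F).det = δ := by
    rw [hmat, det_rk1, utv_dot, haa]
    ring
  have hδ1 : δ = 1 := by
    rw [← hdet]
    exact (mem_specialLinear_iff g).1 hg.2
  apply Units.ext
  rw [Matrix.ext_iff_mulVec]
  intro x
  rw [hgx, hδ1, sub_self, zero_mul, zero_smul, add_zero, Units.val_one, one_mulVec]

end dim3

end Cfsg.Agent.Lib.Helper13
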