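import Mathlib
import Cfsg.Agent.Lib.Helper13.UnitaryGen3

set_option autoImplicit false

namespace Cfsg.Agent.Lib.Helper13

open Matrix Cfsg.Agent.Lib.Helper99

section dim3b

variable {F : Type*} [Field F] [Fintype F] {q : ℕ}

local notation "h3" => Cfsg.hermForm 3 F q

/-- a unit vector orthogonal to a given hyperbolic pair, `n ≥ 3` -/
theorem exists_unit_perp {n : ℕ} (hF : Fintype.card F = q ^ 2) (hn : 3 ≤ n) (e f : Fin n → F)
    (hee : Cfsg.hermForm n F q e e = 0) (hff : Cfsg.hermForm n F q f f = 0)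
    (hfe : Cfsg.hermForm n F q f e = 1) :
    ∃ a : Fin n → F, Cfsg.hermForm n F q a a = 1 ∧ Cfsg.hermForm n F q a e = 0 ∧
      Cfsg.hermForm n F q a f = 0 := by
  have hef : Cfsg.hermForm n F q e f = 1 := by rw [← hermForm_conj hF n f e, hfe, one_pow]
  have he0 : e ≠ 0 := by
    rintro rfl
    rw [hermForm_zero_right hF] at hfe
    exact zero_ne_one hfe
  obtain ⟨w, a0, hww, hew, ha0a0, ha0e, ha0w⟩ := exists_torus_config hF hn e he0 hee
  have hwe : Cfsg.hermForm n F q w e = 1 := by rw [← hermForm_conj hF n e w, hew, one_pow]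
  have hli : ∀ x : Fin n → F, Cfsg.hermForm n F q e x = 1 → Cfsg.hermForm n F q x e = 1 →
      Cfsg.hermForm n F q x x = 0 → LinearIndependent F ![e, x] := by
    intro x h1 h2 h4
    rw [LinearIndependent.pair_iff]
    intro s t hst
    have k1 := congrArg (fun z => Cfsg.hermForm n F q z x) hst
    have k2 := congrArg (fun z => Cfsg.hermForm n F q z e) hst
    simp only [hermForm_add_left, hermForm_smul_left, h1, h2, h4, hee, hermForm_zero_left] at k1 k2
    exact ⟨by simpa using k1, by simpa using k2⟩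
  obtain ⟨g, hg1, hg2⟩ := Cfsg.Agent.Lib.Helper8.witt_family_herm (frobU hF) (frobU_ne_id hF)
    (frobU_frobU hF) (hermB hF n) (hermB_isSymm hF) (hermB_nondegenerate hF) 2
    ![e, w] ![e, f] (hli w hew hwe hww) (hli f hef hfe hff) (by
      intro i j
      rw [hermB_apply, hermB_apply]
      fin_cases i <;> fin_cases j <;> simp [hee, hww, hff, hew, hwe, hef, hfe])
  have hge : g e = e := by simpa using hg2 0
  have hgw : g w = f := by simpa using hg2 1
  have hg : ∀ x y, Cfsg.hermForm n F q (g x) (g y) = Cfsg.hermForm n F q x y := by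
    intro x y
    have := hg1 y x
    rw [hermB_apply, hermB_apply] at this
    exact this
  refine ⟨g a0, ?_, ?_, ?_⟩
  · rw [hg, ha0a0]
  · conv_lhs => rw [← hge]
    rw [hg, ha0e]
  · conv_lhs => rw [← hgw]
    rw [hg, ha0w]

/-- in dimension three, for `q ≥ 3`, the stabiliser of `e` in the transvection group is
transitive on the partners of `e` -/
theorem utv_partner_transitive3 (hF : Fintype.card F = q ^ 2) (hq3 : 3 ≤ q) (e f f' : Fin 3 → F)
    (hee : h3 e e = 0) (hfe : h3 f e = 1) (hf'e : h3 f' e = 1) (hff : h3 f f = 0)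
    (hf'f' : h3 f' f' = 0) :
    ∃ t ∈ utvGroup 3 q F, (t : Matrix (Fin 3) (Fin 3) F) *ᵥ e = e ∧
      (t : Matrix (Fin 3) (Fin 3) F) *ᵥ f = f' := by
  have hef : h3 e f = 1 := by rw [← hermForm_conj hF 3 f e, hfe, one_pow]
  have he0 : e ≠ 0 := by
    rintro rfl
    rw [hermForm_zero_right hF] at hfe
    exact zero_ne_one hfe
  obtain ⟨a, haa, hae, haf⟩ := exists_unit_perp hF le_rfl e f hee hff hfe
  have hea : h3 e a = 0 := hermForm_eq_zero_comm hF hae
  have hfa : h3 f a = 0 := hermForm_eq_zero_comm hF haf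
  have hdec := decomp3 hF e f a hee hff hfe haa hae haf
  set d := f' - f with hddef
  have hde : h3 d e = 0 := by rw [hddef, hermForm_sub_left, hfe, hf'e, sub_self]
  have hd : d = h3 d f • e + h3 d a • a := by
    have := hdec d
    rw [hde, zero_smul, add_zero] at this
    exact this
  by_cases hγ : h3 d a = 0
  · apply iso_step hF e f f' hee hfe hf'e hff hf'f'
    rw [← hddef, hd, hγ, zero_smul, add_zero, hermForm_smul_left, hermForm_smul_right, hee, mul_zero,
      mul_zero]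
  · obtain ⟨l, hl0, hl1⟩ := exists_norm_ne_one hF hq3
    obtain ⟨t, ht, hte⟩ := utv_scalar hF le_rfl e he0 hee l hl0
    have htG : t ∈ Cfsg.GU 3 F q := (utvGroup_le_suGL hF ht).1
    -- the image of `a`
    have htae : h3 ((t : Matrix (Fin 3) (Fin 3) F) *ᵥ a) e = 0 := by
      have h1 : h3 ((t : Matrix (Fin 3) (Fin 3) F) *ᵥ a) ((t : Matrix (Fin 3) (Fin 3) F) *ᵥ e) = 0 := by
        rw [GU_preserves htG, hae]
      rw [hte, hermForm_smul_right] at h1
      rcases mul_eq_zero.1 h1 with h | h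
      · exact absurd h (pow_ne_zero _ hl0)
      · exact h
    set κ := h3 ((t : Matrix (Fin 3) (Fin 3) F) *ᵥ a) a with hκ
    set θ := h3 ((t : Matrix (Fin 3) (Fin 3) F) *ᵥ a) f with hθ
    have hta : (t : Matrix (Fin 3) (Fin 3) F) *ᵥ a = θ • e + κ • a := by
      have := hdec ((t : Matrix (Fin 3) (Fin 3) F) *ᵥ a)
      rw [htae, zero_smul, add_zero] at this
      exact this
    have hκN : κ * κ ^ q = 1 := by
      have h1 : h3 ((t : Matrix (Fin 3) (Fin 3) F) *ᵥ a) ((t : Matrix (Fin 3) (Fin 3) F) *ᵥ a) = 1 := by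
        rw [GU_preserves htG, haa]
      rw [hta] at h1
      simp only [hermForm_add_left, hermForm_add_right hF, hermForm_smul_left,
        hermForm_smul_right, hee, hea, hae, haa] at h1
      linear_combination h1
    have hμ : l ^ q * κ - 1 ≠ 0 := by
      intro h
      apply hl1
      have h1 : l ^ q * κ = 1 := sub_eq_zero.1 h
      have h2 : (l ^ q * κ) ^ q = 1 := by rw [h1, one_pow]
      rw [mul_pow, pow_q_pow_q hF] at h2
      have : l * l ^ q * (κ * κ ^ q) = 1 := by
        calc l * l ^ q * (κ * κ ^ q) = (l ^ q * κ) * (l * κ ^ q) := by ring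
          _ = 1 := by rw [h1, h2, one_mul]
      rw [hκN, mul_one] at this
      exact this
    obtain ⟨ρ, hρ⟩ : ∃ ρ : F, ρ * (l ^ q * κ - 1) = h3 d a := ⟨h3 d a / (l ^ q * κ - 1), by
      rw [div_mul_cancel₀ _ hμ]⟩
    obtain ⟨w, hw⟩ : ∃ w : Fin 3 → F, w = ρ • a := ⟨_, rfl⟩
    have hwe : h3 w e = 0 := by rw [hw, hermForm_smul_left, hae, mul_zero]
    have hew : h3 e w = 0 := hermForm_eq_zero_comm hF hwe
    have hfw : h3 f w = 0 := by rw [hw, hermForm_smul_right, hfa, mul_zero]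
    obtain ⟨α, hα⟩ := exists_trace_eq' hF (-(h3 w w)) (by rw [frob_neg hF, hermForm_self_pow hF])
    have hα' : α + α ^ q + h3 w w = 0 := by rw [hα]; ring
    set G := Gel q e w α with hG
    have hGGU : G ∈ Cfsg.GU 3 F q := Gel_mem_GU hF e w α hee hwe hα'
    have hGx := Gel_mulVec e w α hee hew hwe
    -- the commutator
    set y := t * G * t⁻¹ * G⁻¹ with hy
    have hyT : y ∈ utvGroup 3 q F := by
      have h1 : G * t⁻¹ * G⁻¹ ∈ utvGroup 3 q F :=
        utvGroup_conj_mem G hGGU t⁻¹ (Subgroup.inv_mem _ ht)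
      have : y = t * (G * t⁻¹ * G⁻¹) := by rw [hy]; group
      rw [this]
      exact Subgroup.mul_mem _ ht h1
    have hyG : y ∈ Cfsg.GU 3 F q := (utvGroup_le_suGL hF hyT).1
    have hconj : t * G * t⁻¹ = Gel q (l • e) ((t : Matrix (Fin 3) (Fin 3) F) *ᵥ w) α := by
      rw [hG, Gel_conj hF t htG e w α hee hwe, hte]
    have hle : h3 (l • e) (l • e) = 0 := by
      rw [hermForm_smul_left, hermForm_smul_right, hee, mul_zero, mul_zero]
    have htwe : h3 ((t : Matrix (Fin 3) (Fin 3) F) *ᵥ w) (l • e) = 0 := by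
      rw [← hte, GU_preserves htG, hwe]
    have hetw : h3 (l • e) ((t : Matrix (Fin 3) (Fin 3) F) *ᵥ w) = 0 := hermForm_eq_zero_comm hF htwe
    have hCx := Gel_mulVec (l • e) ((t : Matrix (Fin 3) (Fin 3) F) *ᵥ w) α hle hetw htwe
    have hGe : (G : Matrix (Fin 3) (Fin 3) F) *ᵥ e = e := by
      rw [hGx, hee, hew]
      simp
    have hGinve : ((G⁻¹ : GL (Fin 3) F) : Matrix (Fin 3) (Fin 3) F) *ᵥ e = e := by
      conv_lhs => rw [← hGe]
      rw [gl_inv_mulVec_mulVec]
    have hetw' : h3 e ((t : Matrix (Fin 3) (Fin 3) F) *ᵥ w) = 0 := by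
      have h1 := hetw
      rw [hermForm_smul_left] at h1
      rcases mul_eq_zero.1 h1 with h | h
      · exact absurd h hl0
      · exact h
    have hysplit : y = (t * G * t⁻¹) * G⁻¹ := by rw [hy]
    have hye : (y : Matrix (Fin 3) (Fin 3) F) *ᵥ e = e := by
      rw [hysplit, Units.val_mul, ← mulVec_mulVec, hGinve, hconj, hCx, hermForm_smul_right, hee,
        hetw']
      simp
    -- the preimage of `f` under `G`
    obtain ⟨z, hz⟩ : ∃ z : Fin 3 → F, z = f - w + α ^ q • e := ⟨_, rfl⟩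
    have hze : h3 z e = 1 := by
      rw [hz, hermForm_add_left, hermForm_sub_left, hermForm_smul_left, hfe, hwe, hee]
      ring
    have hzw : h3 z w = -(h3 w w) := by
      rw [hz, hermForm_add_left, hermForm_sub_left, hermForm_smul_left, hfw, hew]
      ring
    have hGz : (G : Matrix (Fin 3) (Fin 3) F) *ᵥ z = f := by
      rw [hGx, hze, hzw, hz]
      have : α * 1 - -(h3 w w) = -(α ^ q) := by linear_combination hα'
      rw [this]
      module
    have hGinvf : ((G⁻¹ : GL (Fin 3) F) : Matrix (Fin 3) (Fin 3) F) *ᵥ f = z := by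
      conv_lhs => rw [← hGz]
      rw [gl_inv_mulVec_mulVec]
    obtain ⟨β, hβ⟩ : ∃ β : F, β = h3 z ((t : Matrix (Fin 3) (Fin 3) F) *ᵥ w) := ⟨_, rfl⟩
    have hzle : h3 z (l • e) = l ^ q := by rw [hermForm_smul_right, hze, mul_one]
    have hyf : (y : Matrix (Fin 3) (Fin 3) F) *ᵥ f
        = z + l ^ q • ((t : Matrix (Fin 3) (Fin 3) F) *ᵥ w) + (α * l ^ q - β) • (l • e) := by
      rw [hysplit, Units.val_mul, ← mulVec_mulVec, hGinvf, hconj, hCx, hzle, ← hβ]
    have htw : (t : Matrix (Fin 3) (Fin 3) F) *ᵥ w = ρ • (θ • e + κ • a) := by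
      rw [hw, mulVec_smul, hta]
    obtain ⟨σ, hσ⟩ : ∃ σ : F, d = σ • e + (ρ * (l ^ q * κ - 1)) • a := ⟨h3 d f, by
      rw [hρ]; exact hd⟩
    have hf' : f' = f + σ • e + (ρ * (l ^ q * κ - 1)) • a := by
      rw [add_assoc f, ← hσ, hddef]
      abel
    have hdiff : f' - (y : Matrix (Fin 3) (Fin 3) F) *ᵥ f
        = (σ - α ^ q - l ^ q * ρ * θ - (α * l ^ q - β) * l) • e := by
      rw [hyf, htw, hf', hz, hw]
      module
    have hyfe : h3 ((y : Matrix (Fin 3) (Fin 3) F) *ᵥ f) e = 1 := by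
      have h1 : h3 ((y : Matrix (Fin 3) (Fin 3) F) *ᵥ f) ((y : Matrix (Fin 3) (Fin 3) F) *ᵥ e) = 1 := by
        rw [GU_preserves hyG, hfe]
      rw [hye] at h1
      exact h1
    have hyff : h3 ((y : Matrix (Fin 3) (Fin 3) F) *ᵥ f) ((y : Matrix (Fin 3) (Fin 3) F) *ᵥ f) = 0 := by
      rw [GU_preserves hyG, hff]
    obtain ⟨t2, ht2, h21, h22⟩ := iso_step hF e ((y : Matrix (Fin 3) (Fin 3) F) *ᵥ f) f' hee hyfe
      hf'e hyff hf'f' (by
        rw [hdiff, hermForm_smul_left, hermForm_smul_right, hee, mul_zero, mul_zero])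
    refine ⟨t2 * y, Subgroup.mul_mem _ ht2 hyT, ?_, ?_⟩
    · rw [Units.val_mul, ← mulVec_mulVec, hye, h21]
    · rw [Units.val_mul, ← mulVec_mulVec, h22]
end dim3b

end Cfsg.Agent.Lib.Helper13
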