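import Mathlib
import Cfsg.Agent.Lib.Helper13.UnitaryGen2
import Cfsg.Agent.Lib.Helper5.UnitaryCard

set_option autoImplicit false

namespace Cfsg.Agent.Lib.Helper13

open Matrix Cfsg.Agent.Lib.Helper99 Cfsg.Agent.Lib.Helper5

section ulift

variable {F : Type*} [Field F] {q n : ℕ}

theorem uliftMat_mul (A B : Matrix (Fin n) (Fin n) F) :
    uliftMat (A * B) = uliftMat A * uliftMat B := by
  rw [Matrix.ext_iff_mulVec]
  intro x
  rw [← mulVec_mulVec, uliftMat_mulVec, uliftMat_mulVec, uliftMat_mulVec, Fin.cons_zero,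
    Fin.tail_cons, mulVec_mulVec]

theorem uliftMat_one : uliftMat (1 : Matrix (Fin n) (Fin n) F) = 1 := by
  rw [Matrix.ext_iff_mulVec]
  intro x
  rw [uliftMat_mulVec, one_mulVec, one_mulVec, Fin.cons_self_tail]

/-- the lift as a monoid homomorphism on matrices -/
def uliftHom (F : Type*) [Field F] (n : ℕ) :
    Matrix (Fin n) (Fin n) F →* Matrix (Fin (n + 1)) (Fin (n + 1)) F where
  toFun := uliftMat
  map_one' := uliftMat_one
  map_mul' := uliftMat_mul

/-- the lift on general linear groups -/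
def liftGL (F : Type*) [Field F] (n : ℕ) : GL (Fin n) F →* GL (Fin (n + 1)) F :=
  Units.map (uliftHom F n)

theorem liftGL_val (g : GL (Fin n) F) :
    ((liftGL F n g : GL (Fin (n + 1)) F) : Matrix (Fin (n + 1)) (Fin (n + 1)) F)
      = uliftMat (g : Matrix (Fin n) (Fin n) F) := rfl

theorem uliftMat_apply_zero_zero (A : Matrix (Fin n) (Fin n) F) : uliftMat A 0 0 = 1 := by
  have := congrFun (uliftMat_mulVec A (Pi.single 0 1)) 0
  rw [mulVec_single_one, col_apply, Fin.cons_zero] at this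
  rw [this]; simp

theorem uliftMat_apply_succ_zero (A : Matrix (Fin n) (Fin n) F) (i : Fin n) :
    uliftMat A i.succ 0 = 0 := by
  have := congrFun (uliftMat_mulVec A (Pi.single 0 1)) i.succ
  rw [mulVec_single_one, col_apply, Fin.cons_succ] at this
  rw [this]
  have h0 : Fin.tail (Pi.single 0 1 : Fin (n + 1) → F) = 0 := by
    funext k
    simp [Fin.tail, Fin.succ_ne_zero]
  rw [h0, mulVec_zero]
  rfl

theorem uliftMat_apply_succ_succ (A : Matrix (Fin n) (Fin n) F) (i j : Fin n) :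
    uliftMat A i.succ j.succ = A i j := by
  have := congrFun (uliftMat_mulVec A (Pi.single j.succ 1)) i.succ
  rw [mulVec_single_one, col_apply, Fin.cons_succ] at this
  rw [this]
  have h0 : Fin.tail (Pi.single j.succ 1 : Fin (n + 1) → F) = Pi.single j 1 := by
    funext k
    simp [Fin.tail, Pi.single_apply, Fin.succ_inj]
  rw [h0, mulVec_single_one, col_apply]

theorem det_uliftMat (A : Matrix (Fin n) (Fin n) F) : (uliftMat A).det = A.det := by
  rw [Matrix.det_succ_column_zero, Fin.sum_univ_succ]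
  rw [uliftMat_apply_zero_zero]
  have h1 : ∀ i : Fin n, (-1 : F) ^ (i.succ : ℕ) * uliftMat A i.succ 0 *
      ((uliftMat A).submatrix i.succ.succAbove Fin.succ).det = 0 := by
    intro i
    rw [uliftMat_apply_succ_zero, mul_zero, zero_mul]
  rw [Finset.sum_eq_zero (fun i _ => h1 i), add_zero]
  have h2 : (uliftMat A).submatrix (Fin.succAbove 0) Fin.succ = A := by
    ext i j
    rw [submatrix_apply, Fin.succAbove_zero, uliftMat_apply_succ_succ]
  rw [h2]
  simp

end ulift

section ulift2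

variable {F : Type*} [Field F] [Fintype F] {q n : ℕ}

theorem liftGL_utv (hq0 : q ≠ 0) (u : Fin n → F) (hu : Cfsg.hermForm n F q u u = 0) (c : F) :
    liftGL F n (utv q u c) = utv q (Fin.cons 0 u : Fin (n + 1) → F) c := by
  have hq : ∀ x : Fin (n + 1) → F, Cfsg.hermForm (n + 1) F q x (Fin.cons 0 u)
      = x 0 * (0 : F) ^ q + Cfsg.hermForm n F q (Fin.tail x) u := by
    intro x
    rw [herm_succ, Fin.cons_zero, Fin.tail_cons]
  have hu' : Cfsg.hermForm (n + 1) F q (Fin.cons 0 u : Fin (n + 1) → F) (Fin.cons 0 u) = 0 := by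
    rw [hq, Fin.cons_zero, zero_mul, zero_add, Fin.tail_cons, hu]
  apply Units.ext
  rw [liftGL_val, Matrix.ext_iff_mulVec]
  intro x
  rw [uliftMat_mulVec, utv_mulVec u hu, utv_mulVec _ hu', hq]
  funext i
  refine Fin.cases ?_ (fun j => ?_) i
  · simp
  · simp [Fin.tail, hq0]

theorem liftGL_mem_utvGroup (hq0 : q ≠ 0) (g : GL (Fin n) F) (hg : g ∈ utvGroup n q F) :
    liftGL F n g ∈ utvGroup (n + 1) q F := by
  have : (utvGroup n q F).map (liftGL F n) ≤ utvGroup (n + 1) q F := by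
    unfold utvGroup
    rw [MonoidHom.map_closure, Subgroup.closure_le]
    rintro _ ⟨g, ⟨u, c, hu, hc, rfl⟩, rfl⟩
    rw [liftGL_utv hq0 u hu]
    apply Subgroup.subset_closure
    refine ⟨Fin.cons 0 u, c, ?_, hc, rfl⟩
    rw [herm_succ, Fin.cons_zero, zero_mul, zero_add, Fin.tail_cons, hu]
  exact this ⟨g, hg, rfl⟩

/-- an element of `SU_{n+1}` fixing the first basis vector is a lift of an element of `SU_n` -/
theorem exists_lift_of_fix (hF : Fintype.card F = q ^ 2) (g : GL (Fin (n + 1)) F)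
    (hg : g ∈ suGL (F := F) (n + 1) q)
    (hfix : (g : Matrix (Fin (n + 1)) (Fin (n + 1)) F) *ᵥ Pi.single 0 1 = Pi.single 0 1) :
    ∃ g' : GL (Fin n) F, g' ∈ suGL (F := F) n q ∧ liftGL F n g' = g := by
  have hiso : IsHermIso (n + 1) F q (g : Matrix (Fin (n + 1)) (Fin (n + 1)) F) := hg.1
  have hdown := udownMat_isHermIso hF hiso hfix
  have hup := uliftMat_udownMat hF hiso hfix
  have hdet : (udownMat (g : Matrix (Fin (n + 1)) (Fin (n + 1)) F)).det = 1 := by
    rw [← det_uliftMat, hup]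
    exact (mem_specialLinear_iff g).1 hg.2
  have hSL : ((mkGU hF _ hdown : Cfsg.GU n F q) : GL (Fin n) F) ∈
      Cfsg.Geo.specialLinear (Fin n) F := by
    rw [mem_specialLinear_iff, mkGU_val]
    exact hdet
  refine ⟨((mkGU hF _ hdown : Cfsg.GU n F q) : GL (Fin n) F), ⟨(mkGU hF _ hdown).2, hSL⟩, ?_⟩
  · apply Units.ext
    rw [liftGL_val, mkGU_val, hup]

/-- the inductive step: from transitivity on vectors of norm one -/
theorem suGL_le_utvGroup_succ (hF : Fintype.card F = q ^ 2)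
    (hN : ∀ a b : Fin (n + 1) → F, Cfsg.hermForm (n + 1) F q a a = 1 →
      Cfsg.hermForm (n + 1) F q b b = 1 →
      ∃ t ∈ utvGroup (n + 1) q F, (t : Matrix (Fin (n + 1)) (Fin (n + 1)) F) *ᵥ a = b)
    (hC : suGL (F := F) n q ≤ utvGroup n q F) :
    suGL (F := F) (n + 1) q ≤ utvGroup (n + 1) q F := by
  intro g hg
  have hq2 := q_ge_two hF
  have hE : Cfsg.hermForm (n + 1) F q (Pi.single 0 1) (Pi.single 0 1) = 1 := by
    rw [hermForm_single_single (n + 1) q (by omega), if_pos rfl]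
  have hgE : Cfsg.hermForm (n + 1) F q ((g : Matrix (Fin (n + 1)) (Fin (n + 1)) F) *ᵥ Pi.single 0 1)
      ((g : Matrix (Fin (n + 1)) (Fin (n + 1)) F) *ᵥ Pi.single 0 1) = 1 := by
    rw [GU_preserves hg.1, hE]
  obtain ⟨t, ht, htg⟩ := hN _ _ hgE hE
  have htS : t ∈ suGL (F := F) (n + 1) q := utvGroup_le_suGL hF ht
  have hfix : ((t * g : GL (Fin (n + 1)) F) : Matrix (Fin (n + 1)) (Fin (n + 1)) F) *ᵥ
      Pi.single 0 1 = Pi.single 0 1 := by
    rw [Units.val_mul, ← mulVec_mulVec, htg]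
  obtain ⟨g', hg', hlift⟩ := exists_lift_of_fix hF (t * g) (Subgroup.mul_mem _ htS hg) hfix
  have h1 : t * g ∈ utvGroup (n + 1) q F := by
    rw [← hlift]
    exact liftGL_mem_utvGroup (by omega) g' (hC hg')
  have : g = t⁻¹ * (t * g) := by group
  rw [this]
  exact Subgroup.mul_mem _ (Subgroup.inv_mem _ ht) h1

end ulift2

end Cfsg.Agent.Lib.Helper13
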