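import Mathlib
import Cfsg.Agent.Lib.Helper13.UnitaryGen4
import Cfsg.Agent.Lib.Helper13.UnitaryLift

set_option autoImplicit false

namespace Cfsg.Agent.Lib.Helper13

open Matrix Cfsg.Agent.Lib.Helper99 Cfsg.Agent.Lib.Helper5

section claim3

variable {F : Type*} [Field F] [Fintype F] {q : ℕ}

local notation "h3" => Cfsg.hermForm 3 F q

omit [Fintype F] in
theorem gl_mulVec_ne_zero {n : ℕ} (g : GL (Fin n) F) (x : Fin n → F) (hx : x ≠ 0) :
    (g : Matrix (Fin n) (Fin n) F) *ᵥ x ≠ 0 := by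
  intro h
  apply hx
  rw [← gl_inv_mulVec_mulVec g x, h, mulVec_zero]

/-- `SU_3(q)` is generated by transvections for `q ≥ 3` -/
theorem suGL_le_utvGroup_three (hF : Fintype.card F = q ^ 2) (hq3 : 3 ≤ q) :
    suGL (F := F) 3 q ≤ utvGroup 3 q F := by
  intro g hg
  obtain ⟨e, f, hee, hff, hef, -⟩ := exists_hyp_pair_coords (n := 3) hF (0 : Fin 3) 1 (by decide)
  have hfe : h3 f e = 1 := by rw [← hermForm_conj hF 3 e f, hef, one_pow]
  obtain ⟨a, haa, hae, haf⟩ := exists_unit_perp hF le_rfl e f hee hff hfe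
  have he0 : e ≠ 0 := by
    rintro rfl
    rw [hermForm_zero_right hF] at hfe
    exact zero_ne_one hfe
  have hge0 : (g : Matrix (Fin 3) (Fin 3) F) *ᵥ e ≠ 0 := gl_mulVec_ne_zero g e he0
  have hgee : h3 ((g : Matrix (Fin 3) (Fin 3) F) *ᵥ e) ((g : Matrix (Fin 3) (Fin 3) F) *ᵥ e) = 0 := by
    rw [GU_preserves hg.1, hee]
  obtain ⟨t1, ht1, h1⟩ := utv_transitive_isotropic hF le_rfl _ e hge0 he0 hgee hee
  have hg1 : t1 * g ∈ suGL (F := F) 3 q := Subgroup.mul_mem _ (utvGroup_le_suGL hF ht1) hg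
  have hg1e : ((t1 * g : GL (Fin 3) F) : Matrix (Fin 3) (Fin 3) F) *ᵥ e = e := by
    rw [Units.val_mul, ← mulVec_mulVec, h1]
  have hf1e : h3 (((t1 * g : GL (Fin 3) F) : Matrix (Fin 3) (Fin 3) F) *ᵥ f) e = 1 := by
    have := GU_preserves hg1.1 f e
    rw [hg1e, hfe] at this
    exact this
  have hf1f1 : h3 (((t1 * g : GL (Fin 3) F) : Matrix (Fin 3) (Fin 3) F) *ᵥ f)
      (((t1 * g : GL (Fin 3) F) : Matrix (Fin 3) (Fin 3) F) *ᵥ f) = 0 := by
    rw [GU_preserves hg1.1, hff]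
  obtain ⟨t2, ht2, h21, h22⟩ := utv_partner_transitive3 hF hq3 e _ f hee hf1e hfe hf1f1 hff
  have hg2 : t2 * (t1 * g) ∈ suGL (F := F) 3 q :=
    Subgroup.mul_mem _ (utvGroup_le_suGL hF ht2) hg1
  have hg2e : ((t2 * (t1 * g) : GL (Fin 3) F) : Matrix (Fin 3) (Fin 3) F) *ᵥ e = e := by
    rw [Units.val_mul, ← mulVec_mulVec, hg1e, h21]
  have hg2f : ((t2 * (t1 * g) : GL (Fin 3) F) : Matrix (Fin 3) (Fin 3) F) *ᵥ f = f := by
    rw [Units.val_mul, ← mulVec_mulVec, h22]
  have hone := eq_one_of_fix_hyp3 hF e f a hee hff hfe haa hae haf _ hg2 hg2e hg2f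
  have : g = t1⁻¹ * t2⁻¹ := by
    have h : t2 * (t1 * g) = 1 := hone
    calc g = t1⁻¹ * t2⁻¹ * (t2 * (t1 * g)) := by group
      _ = t1⁻¹ * t2⁻¹ := by rw [h, mul_one]
  rw [this]
  exact Subgroup.mul_mem _ (Subgroup.inv_mem _ ht1) (Subgroup.inv_mem _ ht2)

end claim3

section addtwo

variable {F : Type*} [Field F] [Fintype F] {q n : ℕ}

local notation "hh" => Cfsg.hermForm n F q

/-- a hyperbolic pair supported on two given coordinates, whose fixers fix the two coordinate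
vectors -/
theorem exists_hyp_pair_fix (hF : Fintype.card F = q ^ 2) (i j : Fin n) (hij : i ≠ j) :
    ∃ e f : Fin n → F, hh e e = 0 ∧ hh f f = 0 ∧ hh e f = 1 ∧
      (∀ A : Matrix (Fin n) (Fin n) F, A *ᵥ e = e → A *ᵥ f = f →
        A *ᵥ Pi.single i 1 = Pi.single i 1 ∧ A *ᵥ Pi.single j 1 = Pi.single j 1) := by
  classical
  have hq2 := q_ge_two hF
  have hq0 : q ≠ 0 := by omega
  obtain ⟨ζ, hζ⟩ := exists_norm_neg_one hF
  obtain ⟨ε, hε, hε1⟩ := exists_normOne_ne_one hF
  have hεq : ε * ε ^ q = 1 := by rw [← pow_succ']; exact hε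
  have hεq1 : 1 - ε ^ q ≠ 0 := by
    intro h
    have h1 : ε ^ q = 1 := (sub_eq_zero.1 h).symm
    rw [h1, mul_one] at hεq
    exact hε1 hεq
  have hEs : ∀ a : Fin n, hh (Pi.single a 1) (Pi.single a 1) = 1 := fun a => by
    rw [hermForm_single_single n q hq0 a a, if_pos rfl]
  have hEn : ∀ a b : Fin n, a ≠ b → hh (Pi.single a 1) (Pi.single b 1) = 0 := fun a b hab => by
    rw [hermForm_single_single n q hq0 a b, if_neg hab]
  obtain ⟨μ, hμ⟩ : ∃ μ : F, μ ^ q = (1 - ε ^ q)⁻¹ := ⟨((1 - ε ^ q)⁻¹) ^ q, pow_q_pow_q hF _⟩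
  have hμ0 : μ ≠ 0 := by
    rintro rfl
    rw [zero_pow hq0] at hμ
    exact inv_ne_zero hεq1 hμ.symm
  have hζ0 : ζ ≠ 0 := by
    rintro rfl
    rw [zero_mul] at hζ
    exact one_ne_zero (neg_eq_zero.1 hζ.symm)
  have hε1' : ε - 1 ≠ 0 := sub_ne_zero.2 hε1
  have hji : j ≠ i := fun h => hij h.symm
  refine ⟨Pi.single i 1 + ζ • Pi.single j 1, μ • (Pi.single i 1 + (ζ * ε) • Pi.single j 1),
    ?_, ?_, ?_, ?_⟩
  · simp only [hermForm_add_left, hermForm_add_right hF, hermForm_smul_left, hermForm_smul_right,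
      hEs, hEn _ _ hij, hEn _ _ hji]
    linear_combination hζ
  · simp only [hermForm_add_left, hermForm_add_right hF, hermForm_smul_left, hermForm_smul_right,
      hEs, hEn _ _ hij, hEn _ _ hji, mul_pow]
    linear_combination (μ * μ ^ q) * hζ + (μ * μ ^ q * (ζ * ζ ^ q)) * hεq
  · simp only [hermForm_add_left, hermForm_add_right hF, hermForm_smul_left, hermForm_smul_right,
      hEs, hEn _ _ hij, hEn _ _ hji, mul_pow, hμ]
    field_simp
    linear_combination (ε ^ q) * hζ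
  · intro A hAe hAf
    have hEj : (Pi.single j 1 : Fin n → F) = (ζ * (ε - 1))⁻¹ •
        (μ⁻¹ • (μ • (Pi.single i 1 + (ζ * ε) • Pi.single j 1))
          - (Pi.single i 1 + ζ • Pi.single j 1)) := by
      rw [smul_smul, inv_mul_cancel₀ hμ0, one_smul]
      have : (Pi.single i 1 + (ζ * ε) • Pi.single j 1 - (Pi.single i 1 + ζ • Pi.single j 1) : Fin n → F)
          = (ζ * (ε - 1)) • Pi.single j 1 := by module
      rw [this, smul_smul, inv_mul_cancel₀ (mul_ne_zero hζ0 hε1'), one_smul]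
    have hAj : A *ᵥ Pi.single j 1 = Pi.single j 1 := by
      conv_lhs => rw [hEj]
      rw [mulVec_smul, mulVec_sub, mulVec_smul, hAf, hAe, ← hEj]
    refine ⟨?_, hAj⟩
    have hEi : (Pi.single i 1 : Fin n → F) = (Pi.single i 1 + ζ • Pi.single j 1) - ζ • Pi.single j 1 := by
      abel
    conv_lhs => rw [hEi]
    rw [mulVec_sub, mulVec_smul, hAe, hAj]
    abel

end addtwo

section addtwo2

variable {F : Type*} [Field F] [Fintype F] {q n : ℕ}

omit [Fintype F] in
theorem tail_single_one : Fin.tail (Pi.single 1 1 : Fin (n + 2) → F) = Pi.single 0 1 := by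
  funext k
  unfold Fin.tail
  rw [Pi.single_apply, Pi.single_apply, ← Fin.succ_zero_eq_one]
  simp only [Fin.succ_inj]

/-- the step `n → n + 2`, from transitivity on hyperbolic pairs -/
theorem suGL_le_utvGroup_add_two (hF : Fintype.card F = q ^ 2) (hn : 4 ≤ n + 2)
    (hC : suGL (F := F) n q ≤ utvGroup n q F) :
    suGL (F := F) (n + 2) q ≤ utvGroup (n + 2) q F := by
  intro g hg
  have hq2 := q_ge_two hF
  obtain ⟨e, f, hee, hff, hef, hfix⟩ := exists_hyp_pair_fix (n := n + 2) hF (0 : Fin (n + 2)) 1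
    (by simp)
  have hfe : Cfsg.hermForm (n + 2) F q f e = 1 := by
    rw [← hermForm_conj hF (n + 2) e f, hef, one_pow]
  obtain ⟨t, ht, hte, htf⟩ := utv_transitive_hyp hF hn
    ((g : Matrix (Fin (n + 2)) (Fin (n + 2)) F) *ᵥ e) ((g : Matrix (Fin (n + 2)) (Fin (n + 2)) F) *ᵥ f)
    e f (by rw [GU_preserves hg.1, hee]) (by rw [GU_preserves hg.1, hff])
    (by rw [GU_preserves hg.1, hfe]) hee hff hfe
  have hg1 : t * g ∈ suGL (F := F) (n + 2) q := Subgroup.mul_mem _ (utvGroup_le_suGL hF ht) hg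
  have hg1e : ((t * g : GL (Fin (n + 2)) F) : Matrix (Fin (n + 2)) (Fin (n + 2)) F) *ᵥ e = e := by
    rw [Units.val_mul, ← mulVec_mulVec, hte]
  have hg1f : ((t * g : GL (Fin (n + 2)) F) : Matrix (Fin (n + 2)) (Fin (n + 2)) F) *ᵥ f = f := by
    rw [Units.val_mul, ← mulVec_mulVec, htf]
  obtain ⟨hE0, hE1⟩ := hfix _ hg1e hg1f
  obtain ⟨g', hg', hlift⟩ := exists_lift_of_fix hF (t * g) hg1 hE0
  have hfix' : (g' : Matrix (Fin (n + 1)) (Fin (n + 1)) F) *ᵥ Pi.single 0 1 = Pi.single 0 1 := by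
    rw [← hlift, liftGL_val, uliftMat_mulVec] at hE1
    have := congrArg Fin.tail hE1
    rw [Fin.tail_cons, tail_single_one] at this
    exact this
  obtain ⟨g'', hg'', hlift'⟩ := exists_lift_of_fix hF g' hg' hfix'
  have h1 : g' ∈ utvGroup (n + 1) q F := by
    rw [← hlift']
    exact liftGL_mem_utvGroup (by omega) g'' (hC hg'')
  have h2 : t * g ∈ utvGroup (n + 2) q F := by
    rw [← hlift]
    exact liftGL_mem_utvGroup (by omega) g' h1
  have : g = t⁻¹ * (t * g) := by group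
  rw [this]
  exact Subgroup.mul_mem _ (Subgroup.inv_mem _ ht) h2

end addtwo2

section claim2

variable {F : Type*} [Field F] [Fintype F]

theorem two_eq_zero_of_card_four (hF : Fintype.card F = 2 ^ 2) : (2 : F) = 0 := by
  have := Nat.cast_card_eq_zero F
  rw [hF] at this
  have h4 : (2 : F) ^ 2 = 0 := by exact_mod_cast this
  exact (pow_eq_zero_iff (by norm_num)).1 h4

theorem pow_three_eq_one_of_card_four (hF : Fintype.card F = 2 ^ 2) (x : F) (hx : x ≠ 0) :
    x ^ 3 = 1 := by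
  have := FiniteField.pow_card_sub_one_eq_one x hx
  rw [hF] at this
  exact this

omit [Fintype F] in
theorem herm_two_two (x y : Fin 2 → F) :
    Cfsg.hermForm 2 F 2 x y = x 0 * (y 0) ^ 2 + x 1 * (y 1) ^ 2 := by
  unfold Cfsg.hermForm
  rw [Fin.sum_univ_two]

theorem tau_props (hF : Fintype.card F = 2 ^ 2) (s : F) (hs : s ^ 3 = 1) :
    Cfsg.hermForm 2 F 2 ![1, s] ![1, s] = 0 ∧
    ((utv 2 ![1, s] 1 : GL (Fin 2) F) : Matrix (Fin 2) (Fin 2) F) *ᵥ ![1, 0] = ![0, s] ∧
    ((utv 2 ![1, s] 1 : GL (Fin 2) F) : Matrix (Fin 2) (Fin 2) F) *ᵥ ![0, 1] = ![s ^ 2, 0] := by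
  have h2 := two_eq_zero_of_card_four hF
  have hu : Cfsg.hermForm 2 F 2 ![1, s] ![1, s] = 0 := by
    rw [herm_two_two]
    simp only [Matrix.cons_val_zero, Matrix.cons_val_one]
    linear_combination hs + h2
  refine ⟨hu, ?_, ?_⟩
  · rw [utv_mulVec _ hu, herm_two_two]
    ext i
    fin_cases i
    · simp
      linear_combination h2
    · simp
  · rw [utv_mulVec _ hu, herm_two_two]
    ext i
    fin_cases i
    · simp
    · simp
      linear_combination hs + h2

omit [Fintype F] in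
theorem mulVec_e0_two (A : Matrix (Fin 2) (Fin 2) F) : A *ᵥ ![1, 0] = ![A 0 0, A 1 0] := by
  ext i
  fin_cases i <;> simp [Matrix.mulVec, dotProduct, Fin.sum_univ_two]

omit [Fintype F] in
theorem mulVec_e1_two (A : Matrix (Fin 2) (Fin 2) F) : A *ᵥ ![0, 1] = ![A 0 1, A 1 1] := by
  ext i
  fin_cases i <;> simp [Matrix.mulVec, dotProduct, Fin.sum_univ_two]

omit [Fintype F] in
theorem gl_ext_two (g g' : GL (Fin 2) F)
    (h0 : (g : Matrix (Fin 2) (Fin 2) F) *ᵥ ![1, 0] = (g' : Matrix (Fin 2) (Fin 2) F) *ᵥ ![1, 0])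
    (h1 : (g : Matrix (Fin 2) (Fin 2) F) *ᵥ ![0, 1] = (g' : Matrix (Fin 2) (Fin 2) F) *ᵥ ![0, 1]) :
    g = g' := by
  apply Units.ext
  rw [mulVec_e0_two, mulVec_e0_two] at h0
  rw [mulVec_e1_two, mulVec_e1_two] at h1
  ext i j
  fin_cases i <;> fin_cases j
  · exact congrFun h0 0
  · exact congrFun h1 0
  · exact congrFun h0 1
  · exact congrFun h1 1

/-- `SU_2(2)` is generated by transvections -/
theorem suGL_le_utvGroup_two_two (hF : Fintype.card F = 2 ^ 2) :
    suGL (F := F) 2 2 ≤ utvGroup 2 2 F := by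
  intro g hg
  have h2 := two_eq_zero_of_card_four hF
  have h3 := pow_three_eq_one_of_card_four hF
  obtain ⟨a, ha⟩ : ∃ a : F, a = (g : Matrix (Fin 2) (Fin 2) F) 0 0 := ⟨_, rfl⟩
  obtain ⟨b, hb⟩ : ∃ b : F, b = (g : Matrix (Fin 2) (Fin 2) F) 1 0 := ⟨_, rfl⟩
  obtain ⟨c, hc⟩ : ∃ c : F, c = (g : Matrix (Fin 2) (Fin 2) F) 0 1 := ⟨_, rfl⟩
  obtain ⟨d, hd⟩ : ∃ d : F, d = (g : Matrix (Fin 2) (Fin 2) F) 1 1 := ⟨_, rfl⟩
  have hv : (g : Matrix (Fin 2) (Fin 2) F) *ᵥ ![1, 0] = ![a, b] := by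
    rw [mulVec_e0_two, ha, hb]
  have hw : (g : Matrix (Fin 2) (Fin 2) F) *ᵥ ![0, 1] = ![c, d] := by
    rw [mulVec_e1_two, hc, hd]
  have hvv : a * a ^ 2 + b * b ^ 2 = 1 := by
    have := GU_preserves hg.1 ![1, 0] ![1, 0]
    rw [hv, herm_two_two, herm_two_two] at this
    simpa using this
  have hvw : a * c ^ 2 + b * d ^ 2 = 0 := by
    have := GU_preserves hg.1 ![1, 0] ![0, 1]
    rw [hv, hw, herm_two_two, herm_two_two] at this
    simpa using this
  have hdet : a * d - c * b = 1 := by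
    have := (mem_specialLinear_iff g).1 hg.2
    rw [Matrix.det_fin_two, ← ha, ← hb, ← hc, ← hd] at this
    exact this
  by_cases ha0 : a = 0
  · have hb3 : b ^ 3 = 1 := by rw [ha0] at hvv; linear_combination hvv
    have hb0 : b ≠ 0 := by
      rintro rfl
      rw [zero_pow (by norm_num)] at hb3
      exact zero_ne_one hb3
    have hd0 : d = 0 := by
      rw [ha0] at hvw
      have : b * d ^ 2 = 0 := by linear_combination hvw
      rcases mul_eq_zero.1 this with h | h
      · exact absurd h hb0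
      · exact (pow_eq_zero_iff (by norm_num)).1 h
    have hcb : c * b = 1 := by
      rw [ha0, hd0] at hdet
      linear_combination (-1 : F) * hdet - h2
    have hc2 : c = b ^ 2 := by
      calc c = c * b ^ 3 := by rw [hb3, mul_one]
        _ = (c * b) * b ^ 2 := by ring
        _ = b ^ 2 := by rw [hcb, one_mul]
    obtain ⟨hu, k1, k2⟩ := tau_props hF b hb3
    have : g = utv 2 ![1, b] 1 := by
      apply gl_ext_two
      · rw [hv, k1, ha0]
      · rw [hw, k2, hc2, hd0]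
    rw [this]
    exact utv_mem_utvGroup _ hu 1 (by linear_combination h2)
  · have ha3 : a ^ 3 = 1 := h3 a ha0
    have hb0 : b = 0 := by
      have : b ^ 3 = 0 := by linear_combination hvv - ha3
      exact (pow_eq_zero_iff (by norm_num)).1 this
    have hc0 : c = 0 := by
      rw [hb0] at hvw
      have : a * c ^ 2 = 0 := by linear_combination hvw
      rcases mul_eq_zero.1 this with h | h
      · exact absurd h ha0
      · exact (pow_eq_zero_iff (by norm_num)).1 h
    have had : a * d = 1 := by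
      rw [hb0] at hdet
      linear_combination hdet
    have hd0 : d ≠ 0 := by
      rintro rfl
      rw [mul_zero] at had
      exact zero_ne_one had
    have hd3 : d ^ 3 = 1 := h3 d hd0
    have ha2 : a = d ^ 2 := by
      calc a = a * d ^ 3 := by rw [hd3, mul_one]
        _ = (a * d) * d ^ 2 := by ring
        _ = d ^ 2 := by rw [had, one_mul]
    obtain ⟨hu, k1, k2⟩ := tau_props hF d hd3
    obtain ⟨hu1, l1, l2⟩ := tau_props hF (1 : F) (one_pow 3)
    have : g = utv 2 ![1, d] 1 * utv 2 ![1, 1] 1 := by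
      apply gl_ext_two
      · rw [hv, Units.val_mul, ← mulVec_mulVec, l1, k2, ha2, hb0]
      · rw [hw, Units.val_mul, ← mulVec_mulVec, l2, one_pow, k1, hc0]
    rw [this]
    exact Subgroup.mul_mem _ (utv_mem_utvGroup _ hu 1 (by linear_combination h2))
      (utv_mem_utvGroup _ hu1 1 (by linear_combination h2))

end claim2

section mainclaim

variable {F : Type*} [Field F] [Fintype F] {q : ℕ}

/-- `SU_n(q)` is generated by unitary transvections for `n ≥ 3`, `(n, q) ≠ (3, 2)` (in `GL`) -/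
theorem suGL_le_utvGroup (hF : Fintype.card F = q ^ 2) (n : ℕ) (hn : 3 ≤ n)
    (h32 : ¬ (n = 3 ∧ q = 2)) : suGL (F := F) n q ≤ utvGroup n q F := by
  have hq2 := q_ge_two hF
  have hstep : ∀ m, 3 ≤ m → suGL (F := F) m q ≤ utvGroup m q F →
      suGL (F := F) (m + 1) q ≤ utvGroup (m + 1) q F := by
    intro m hm hC
    exact suGL_le_utvGroup_succ hF
      (fun a b ha hb => utv_transitive_norm_one hF (by omega) a b ha hb) hC
  by_cases hq3 : 3 ≤ q
  · have key : ∀ m, 3 ≤ m → suGL (F := F) m q ≤ utvGroup m q F := by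
      intro m hm
      induction m, hm using Nat.le_induction with
      | base => exact suGL_le_utvGroup_three hF hq3
      | succ m hm ih => exact hstep m hm ih
    exact key n hn
  · obtain rfl : q = 2 := by omega
    have key : ∀ m, 4 ≤ m → suGL (F := F) m 2 ≤ utvGroup m 2 F := by
      intro m hm
      induction m, hm using Nat.le_induction with
      | base => exact suGL_le_utvGroup_add_two hF (by norm_num) (suGL_le_utvGroup_two_two hF)
      | succ m hm ih => exact hstep m (by omega) ih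
    apply key n
    by_contra h
    exact h32 ⟨by omega, rfl⟩

end mainclaim

end Cfsg.Agent.Lib.Helper13
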