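import Mathlib
import Cfsg.Prelude.Def_ClassicalGeometry

set_option autoImplicit false

namespace Cfsg.Agent.Lib.Helper13

open Matrix

/-- An injective matrix mapping a (finite-dimensional) submodule into itself stabilises it. -/
theorem mem_iff_mulVec_mem_of_mapsTo {F : Type*} [Field F] {ι : Type*} [Fintype ι] [DecidableEq ι]
    (W : Submodule F (ι → F)) (M : Matrix ι ι F) (hinj : Function.Injective M.mulVec)
    (hmaps : ∀ w ∈ W, M *ᵥ w ∈ W) (v : ι → F) : v ∈ W ↔ M *ᵥ v ∈ W := by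
  constructor
  · exact hmaps v
  · intro hMv
    have hmaps' : ∀ w ∈ W, Matrix.toLin' M w ∈ W := by
      intro w hw
      rw [Matrix.toLin'_apply]
      exact hmaps w hw
    let f : W →ₗ[F] W := (Matrix.toLin' M).restrict hmaps'
    have hinjf : Function.Injective f := by
      intro x y hxy
      apply Subtype.ext
      apply hinj
      have := congrArg Subtype.val hxy
      simpa [f, LinearMap.restrict_apply] using this
    have hsurj : Function.Surjective f := LinearMap.injective_iff_surjective.mp hinjf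
    obtain ⟨w, hw⟩ := hsurj ⟨M *ᵥ v, hMv⟩
    have h1 : M *ᵥ (w : ι → F) = M *ᵥ v := by
      have := congrArg Subtype.val hw
      simpa [f, LinearMap.restrict_apply] using this
    have h2 : (w : ι → F) = v := hinj h1
    rw [← h2]
    exact w.2

/-- The flag subspaces `⟨e_0, …, e_k⟩` in the first half of the symplectic space. -/
def flagSubmodule (F : Type*) [Field F] (m k : ℕ) : Submodule F (Fin m ⊕ Fin m → F) where
  carrier := {v | (∀ i : Fin m, k < (i : ℕ) → v (Sum.inl i) = 0) ∧ ∀ i : Fin m, v (Sum.inr i) = 0}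
  add_mem' := by
    rintro a b ⟨ha1, ha2⟩ ⟨hb1, hb2⟩
    exact ⟨fun i hi => by simp [ha1 i hi, hb1 i hi], fun i => by simp [ha2 i, hb2 i]⟩
  zero_mem' := ⟨fun _ _ => rfl, fun _ => rfl⟩
  smul_mem' := by
    rintro c a ⟨ha1, ha2⟩
    exact ⟨fun i hi => by simp [ha1 i hi], fun i => by simp [ha2 i]⟩

theorem symplectic_mulVec_injective {F : Type*} [Field F] (m : ℕ)
    (A : Matrix.symplecticGroup (Fin m) F) :
    Function.Injective ((A : Matrix (Fin m ⊕ Fin m) (Fin m ⊕ Fin m) F).mulVec) := by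
  intro x y hxy
  have h := congrArg (fun z => ((A⁻¹ : Matrix.symplecticGroup (Fin m) F) :
    Matrix (Fin m ⊕ Fin m) (Fin m ⊕ Fin m) F) *ᵥ z) hxy
  simp only [Matrix.mulVec_mulVec] at h
  have h1 : ((A⁻¹ : Matrix.symplecticGroup (Fin m) F) : Matrix (Fin m ⊕ Fin m) (Fin m ⊕ Fin m) F)
      * (A : Matrix (Fin m ⊕ Fin m) (Fin m ⊕ Fin m) F) = 1 := by
    have := congrArg Subtype.val (inv_mul_cancel A)
    exact this
  rw [h1, Matrix.one_mulVec, Matrix.one_mulVec] at h
  exact h

/-- Membership in the Borel subgroup of `Sp`: the `(2,1)` block vanishes and the `(1,1)` block is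
upper triangular. -/
theorem mem_borel_iff {F : Type*} [Field F] (m : ℕ) (A : Matrix.symplecticGroup (Fin m) F) :
    A ∈ (⨅ k : Fin m, Cfsg.stabilizing (Cfsg.spToMat m F)
      {v : Fin m ⊕ Fin m → F | (∀ i : Fin m, (k : ℕ) < (i : ℕ) → v (Sum.inl i) = 0) ∧
        ∀ i : Fin m, v (Sum.inr i) = 0}) ↔
    (∀ i j : Fin m, (j : ℕ) < (i : ℕ) →
      (A : Matrix (Fin m ⊕ Fin m) (Fin m ⊕ Fin m) F) (Sum.inl i) (Sum.inl j) = 0) ∧
    (∀ i j : Fin m, (A : Matrix (Fin m ⊕ Fin m) (Fin m ⊕ Fin m) F) (Sum.inr i) (Sum.inl j) = 0) := by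
  rw [Subgroup.mem_iInf]
  constructor
  · intro h
    have hcol : ∀ j : Fin m, (∀ i : Fin m, (j : ℕ) < (i : ℕ) →
        (A : Matrix (Fin m ⊕ Fin m) (Fin m ⊕ Fin m) F) (Sum.inl i) (Sum.inl j) = 0) ∧
        ∀ i : Fin m, (A : Matrix (Fin m ⊕ Fin m) (Fin m ⊕ Fin m) F) (Sum.inr i) (Sum.inl j) = 0 := by
      intro j
      have h1 := (h j (Pi.single (Sum.inl j) 1)).mp ⟨by
        intro i hi
        have : (Sum.inl i : Fin m ⊕ Fin m) ≠ Sum.inl j := by
          intro h'
          have := Sum.inl.inj h'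
          rw [this] at hi
          omega
        rw [Pi.single_apply, if_neg this], by
        intro i
        rw [Pi.single_apply, if_neg (by simp)]⟩
      change (A : Matrix (Fin m ⊕ Fin m) (Fin m ⊕ Fin m) F) *ᵥ Pi.single (Sum.inl j) 1 ∈ _ at h1
      rw [Matrix.mulVec_single_one] at h1
      exact h1
    exact ⟨fun i j hij => (hcol j).1 i hij, fun i j => (hcol j).2 i⟩
  · rintro ⟨h1, h2⟩ k v
    change v ∈ flagSubmodule F m k ↔
      (A : Matrix (Fin m ⊕ Fin m) (Fin m ⊕ Fin m) F) *ᵥ v ∈ flagSubmodule F m k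
    apply mem_iff_mulVec_mem_of_mapsTo _ _ (symplectic_mulVec_injective m A)
    rintro w ⟨hw1, hw2⟩
    refine ⟨?_, ?_⟩
    · intro i hi
      rw [Matrix.mulVec, dotProduct, Fintype.sum_sum_type]
      have e1 : ∑ j : Fin m, (A : Matrix (Fin m ⊕ Fin m) (Fin m ⊕ Fin m) F) (Sum.inl i) (Sum.inl j)
          * w (Sum.inl j) = 0 := by
        apply Finset.sum_eq_zero
        intro j _
        by_cases hj : (k : ℕ) < (j : ℕ)
        · rw [hw1 j hj, mul_zero]
        · rw [h1 i j (by omega), zero_mul]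
      have e2 : ∑ j : Fin m, (A : Matrix (Fin m ⊕ Fin m) (Fin m ⊕ Fin m) F) (Sum.inl i) (Sum.inr j)
          * w (Sum.inr j) = 0 := by
        apply Finset.sum_eq_zero
        intro j _
        rw [hw2 j, mul_zero]
      rw [e1, e2, add_zero]
    · intro i
      rw [Matrix.mulVec, dotProduct, Fintype.sum_sum_type]
      have e1 : ∑ j : Fin m, (A : Matrix (Fin m ⊕ Fin m) (Fin m ⊕ Fin m) F) (Sum.inr i) (Sum.inl j)
          * w (Sum.inl j) = 0 := by
        apply Finset.sum_eq_zero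
        intro j _
        rw [h2 i j, zero_mul]
      have e2 : ∑ j : Fin m, (A : Matrix (Fin m ⊕ Fin m) (Fin m ⊕ Fin m) F) (Sum.inr i) (Sum.inr j)
          * w (Sum.inr j) = 0 := by
        apply Finset.sum_eq_zero
        intro j _
        rw [hw2 j, mul_zero]
      rw [e1, e2, add_zero]

end Cfsg.Agent.Lib.Helper13
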