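import Mathlib
import Cfsg.Prelude.Def_ClassicalGeometry
import Cfsg.Agent.Lib.Helper13.Borel

set_option autoImplicit false

namespace Cfsg.Agent.Lib.Helper13

open Matrix

/-- `Fin k ⊕ Fin (m-k) ≃ Fin m` -/
def splitFin (m k : ℕ) (hk : k ≤ m) : Fin k ⊕ Fin (m - k) ≃ Fin m :=
  finSumFinEquiv.trans (finCongr (by omega))

/-- the index equivalence separating the first `k` hyperbolic pairs from the others -/
def splitIdx (m k : ℕ) (hk : k ≤ m) :
    (Fin k ⊕ Fin k) ⊕ (Fin (m - k) ⊕ Fin (m - k)) ≃ Fin m ⊕ Fin m :=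
  (Equiv.sumSumSumComm _ _ _ _).trans (Equiv.sumCongr (splitFin m k hk) (splitFin m k hk))

theorem J_submatrix_splitIdx (F : Type*) [Field F] (m k : ℕ) (hk : k ≤ m) :
    (Matrix.J (Fin m) F).submatrix (splitIdx m k hk) (splitIdx m k hk)
      = Matrix.fromBlocks (Matrix.J (Fin k) F) 0 0 (Matrix.J (Fin (m - k)) F) := by
  ext ((i | i) | (i | i)) ((j | j) | (j | j)) <;>
    simp [splitIdx, Matrix.J, Matrix.one_apply, Matrix.neg_apply]

variable {F : Type*} [Field F]

/-- symplectic condition after reindexing -/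
theorem mem_symplectic_iff_split (m k : ℕ) (hk : k ≤ m)
    (A : Matrix (Fin m ⊕ Fin m) (Fin m ⊕ Fin m) F) :
    A ∈ Matrix.symplecticGroup (Fin m) F ↔
      (A.submatrix (splitIdx m k hk) (splitIdx m k hk))ᵀ *
        Matrix.fromBlocks (Matrix.J (Fin k) F) 0 0 (Matrix.J (Fin (m - k)) F) *
        A.submatrix (splitIdx m k hk) (splitIdx m k hk)
      = Matrix.fromBlocks (Matrix.J (Fin k) F) 0 0 (Matrix.J (Fin (m - k)) F) := by
  rw [SymplecticGroup.mem_iff', ← J_submatrix_splitIdx F m k hk, Matrix.transpose_submatrix,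
    Matrix.submatrix_mul_equiv, Matrix.submatrix_mul_equiv]
  constructor
  · intro h
    rw [h]
  · intro h
    have := congrArg (fun X => X.submatrix (splitIdx m k hk).symm (splitIdx m k hk).symm) h
    simpa using this

/-- the standard non-degenerate subspace spanned by the first `k` hyperbolic pairs -/
def stdW (F : Type*) [Field F] (m k : ℕ) (hk : k ≤ m) : Submodule F (Fin m ⊕ Fin m → F) where
  carrier := {v | ∀ t : Fin (m - k) ⊕ Fin (m - k), v (splitIdx m k hk (Sum.inr t)) = 0}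
  add_mem' := by
    intro a b ha hb t
    simp [ha t, hb t]
  zero_mem' := fun _ => rfl
  smul_mem' := by
    intro c a ha t
    simp [ha t]

theorem mem_stdW (m k : ℕ) (hk : k ≤ m) (v : Fin m ⊕ Fin m → F) :
    v ∈ stdW F m k hk ↔ ∀ t : Fin (m - k) ⊕ Fin (m - k), v (splitIdx m k hk (Sum.inr t)) = 0 :=
  Iff.rfl

theorem mulVec_splitIdx (m k : ℕ) (hk : k ≤ m) (A : Matrix (Fin m ⊕ Fin m) (Fin m ⊕ Fin m) F)
    (v : Fin m ⊕ Fin m → F) (s : (Fin k ⊕ Fin k) ⊕ (Fin (m - k) ⊕ Fin (m - k))) :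
    (A *ᵥ v) (splitIdx m k hk s) =
      ∑ s', (A.submatrix (splitIdx m k hk) (splitIdx m k hk)) s s' * v (splitIdx m k hk s') := by
  rw [Matrix.mulVec, dotProduct]
  exact (Equiv.sum_comp (splitIdx m k hk) (fun j => A (splitIdx m k hk s) j * v j)).symm

/-- Membership in the stabiliser of the standard subspace. -/
theorem mem_stab_stdW_iff (m k : ℕ) (hk : k ≤ m) (A : Matrix.symplecticGroup (Fin m) F) :
    A ∈ Cfsg.stabilizing (Cfsg.spToMat m F) (stdW F m k hk : Set (Fin m ⊕ Fin m → F)) ↔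
      ((A : Matrix (Fin m ⊕ Fin m) (Fin m ⊕ Fin m) F).submatrix (splitIdx m k hk)
        (splitIdx m k hk)).toBlocks₂₁ = 0 := by
  classical
  constructor
  · intro h
    ext t u
    have h1 := (h (Pi.single (splitIdx m k hk (Sum.inl u)) 1)).mp (by
      intro t'
      rw [Pi.single_apply, if_neg]
      intro h'
      have := (splitIdx m k hk).injective h'
      simp at this)
    have h2 := h1 t
    change ((A : Matrix (Fin m ⊕ Fin m) (Fin m ⊕ Fin m) F) *ᵥ _) _ = 0 at h2
    rw [Matrix.mulVec_single_one, Matrix.col_apply] at h2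
    exact h2
  · intro h v
    change v ∈ stdW F m k hk ↔ (A : Matrix (Fin m ⊕ Fin m) (Fin m ⊕ Fin m) F) *ᵥ v ∈ stdW F m k hk
    apply mem_iff_mulVec_mem_of_mapsTo _ _ (symplectic_mulVec_injective m A)
    intro w hw t
    rw [mulVec_splitIdx, Fintype.sum_sum_type]
    have e1 : ∑ u : Fin k ⊕ Fin k, ((A : Matrix (Fin m ⊕ Fin m) (Fin m ⊕ Fin m) F).submatrix
        (splitIdx m k hk) (splitIdx m k hk)) (Sum.inr t) (Sum.inl u)
        * w (splitIdx m k hk (Sum.inl u)) = 0 := by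
      apply Finset.sum_eq_zero
      intro u _
      have := congrFun (congrFun h t) u
      simp only [Matrix.toBlocks₂₁, Matrix.of_apply, Matrix.zero_apply] at this
      rw [this, zero_mul]
    have e2 : ∑ u : Fin (m - k) ⊕ Fin (m - k), ((A : Matrix (Fin m ⊕ Fin m) (Fin m ⊕ Fin m) F).submatrix
        (splitIdx m k hk) (splitIdx m k hk)) (Sum.inr t) (Sum.inr u)
        * w (splitIdx m k hk (Sum.inr u)) = 0 := by
      apply Finset.sum_eq_zero
      intro u _
      rw [hw u, mul_zero]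
    rw [e1, e2, add_zero]


/-- the standard embedding of `Sp_2k × Sp_(2m-2k)` in `Sp_2m`, on matrices -/
def spEmbedMat (m k : ℕ) (hk : k ≤ m) (a : Matrix (Fin k ⊕ Fin k) (Fin k ⊕ Fin k) F)
    (b : Matrix (Fin (m - k) ⊕ Fin (m - k)) (Fin (m - k) ⊕ Fin (m - k)) F) :
    Matrix (Fin m ⊕ Fin m) (Fin m ⊕ Fin m) F :=
  (Matrix.fromBlocks a 0 0 b).submatrix (splitIdx m k hk).symm (splitIdx m k hk).symm

theorem spEmbedMat_submatrix (m k : ℕ) (hk : k ≤ m) (a : Matrix (Fin k ⊕ Fin k) (Fin k ⊕ Fin k) F)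
    (b : Matrix (Fin (m - k) ⊕ Fin (m - k)) (Fin (m - k) ⊕ Fin (m - k)) F) :
    (spEmbedMat m k hk a b).submatrix (splitIdx m k hk) (splitIdx m k hk)
      = Matrix.fromBlocks a 0 0 b := by
  simp [spEmbedMat]

theorem spEmbedMat_mul (m k : ℕ) (hk : k ≤ m) (a a' : Matrix (Fin k ⊕ Fin k) (Fin k ⊕ Fin k) F)
    (b b' : Matrix (Fin (m - k) ⊕ Fin (m - k)) (Fin (m - k) ⊕ Fin (m - k)) F) :
    spEmbedMat m k hk (a * a') (b * b') = spEmbedMat m k hk a b * spEmbedMat m k hk a' b' := by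
  unfold spEmbedMat
  rw [Matrix.submatrix_mul_equiv, Matrix.fromBlocks_multiply]
  simp

theorem spEmbedMat_one (m k : ℕ) (hk : k ≤ m) :
    spEmbedMat (F := F) m k hk 1 1 = 1 := by
  unfold spEmbedMat
  rw [Matrix.fromBlocks_one, Matrix.submatrix_one_equiv]

theorem spEmbedMat_mem (m k : ℕ) (hk : k ≤ m) {a : Matrix (Fin k ⊕ Fin k) (Fin k ⊕ Fin k) F}
    {b : Matrix (Fin (m - k) ⊕ Fin (m - k)) (Fin (m - k) ⊕ Fin (m - k)) F}
    (ha : a ∈ Matrix.symplecticGroup (Fin k) F) (hb : b ∈ Matrix.symplecticGroup (Fin (m - k)) F) :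
    spEmbedMat m k hk a b ∈ Matrix.symplecticGroup (Fin m) F := by
  rw [mem_symplectic_iff_split m k hk, spEmbedMat_submatrix, Matrix.fromBlocks_transpose,
    Matrix.fromBlocks_multiply, Matrix.fromBlocks_multiply]
  simp only [Matrix.transpose_zero, Matrix.zero_mul, Matrix.mul_zero, add_zero, zero_add]
  rw [SymplecticGroup.mem_iff'.mp ha, SymplecticGroup.mem_iff'.mp hb]

/-- The standard embedding as a homomorphism into the stabiliser of the standard subspace. -/
def spEmbed (F : Type*) [Field F] (m k : ℕ) (hk : k ≤ m) :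
    Matrix.symplecticGroup (Fin k) F × Matrix.symplecticGroup (Fin (m - k)) F →*
      ↥(Cfsg.stabilizing (Cfsg.spToMat m F) (stdW F m k hk : Set (Fin m ⊕ Fin m → F))) where
  toFun x := ⟨⟨spEmbedMat m k hk x.1.1 x.2.1, spEmbedMat_mem m k hk x.1.2 x.2.2⟩, by
    rw [mem_stab_stdW_iff]
    change ((spEmbedMat m k hk x.1.1 x.2.1).submatrix (splitIdx m k hk) (splitIdx m k hk)).toBlocks₂₁ = 0
    rw [spEmbedMat_submatrix, Matrix.toBlocks_fromBlocks₂₁]⟩
  map_one' := by
    apply Subtype.ext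
    apply Subtype.ext
    exact spEmbedMat_one m k hk
  map_mul' := by
    intro x y
    apply Subtype.ext
    apply Subtype.ext
    exact spEmbedMat_mul m k hk _ _ _ _

theorem spEmbed_val (m k : ℕ) (hk : k ≤ m)
    (x : Matrix.symplecticGroup (Fin k) F × Matrix.symplecticGroup (Fin (m - k)) F) :
    (((spEmbed F m k hk x : Matrix.symplecticGroup (Fin m) F)) :
      Matrix (Fin m ⊕ Fin m) (Fin m ⊕ Fin m) F) = spEmbedMat m k hk x.1.1 x.2.1 := rfl

theorem spEmbed_bijective (m k : ℕ) (hk : k ≤ m) : Function.Bijective (spEmbed F m k hk) := by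
  constructor
  · rintro ⟨a, b⟩ ⟨a', b'⟩ h
    have h1 := congrArg (fun y : ↥(Cfsg.stabilizing (Cfsg.spToMat m F)
      (stdW F m k hk : Set (Fin m ⊕ Fin m → F))) =>
      ((((y : Matrix.symplecticGroup (Fin m) F)) :
        Matrix (Fin m ⊕ Fin m) (Fin m ⊕ Fin m) F)).submatrix (splitIdx m k hk) (splitIdx m k hk)) h
    simp only [spEmbed_val, spEmbedMat_submatrix] at h1
    rw [Matrix.fromBlocks_inj] at h1
    obtain ⟨h2, _, _, h3⟩ := h1
    have ha : a = a' := Subtype.ext h2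
    have hb : b = b' := Subtype.ext h3
    rw [ha, hb]
  · rintro ⟨⟨A, hA⟩, hst⟩
    rw [mem_stab_stdW_iff] at hst
    change (A.submatrix (splitIdx m k hk) (splitIdx m k hk)).toBlocks₂₁ = 0 at hst
    obtain ⟨X, hX⟩ : ∃ X, X = A.submatrix (splitIdx m k hk) (splitIdx m k hk) := ⟨_, rfl⟩
    rw [← hX] at hst
    have hXeq : X = Matrix.fromBlocks X.toBlocks₁₁ X.toBlocks₁₂ 0 X.toBlocks₂₂ := by
      rw [← hst, Matrix.fromBlocks_toBlocks]
    have hsp := (mem_symplectic_iff_split m k hk A).mp hA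
    rw [← hX, hXeq, Matrix.fromBlocks_transpose, Matrix.fromBlocks_multiply,
      Matrix.fromBlocks_multiply, Matrix.fromBlocks_inj] at hsp
    simp only [Matrix.transpose_zero, Matrix.zero_mul, Matrix.mul_zero, add_zero, zero_add] at hsp
    obtain ⟨h11, h12, _, h22⟩ := hsp
    have ha : X.toBlocks₁₁ ∈ Matrix.symplecticGroup (Fin k) F := SymplecticGroup.mem_iff'.mpr h11
    -- the (1,2) block vanishes
    have hx : X.toBlocks₁₂ = 0 := by
      have hdet : (X.toBlocks₁₁ᵀ * Matrix.J (Fin k) F).det ≠ 0 := by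
        have h1 := congrArg Matrix.det h11
        rw [Matrix.det_mul] at h1
        intro h0
        rw [h0, zero_mul] at h1
        exact (Matrix.isUnit_det_J (Fin k) F).ne_zero h1.symm
      have := congrArg (fun Z => (X.toBlocks₁₁ᵀ * Matrix.J (Fin k) F)⁻¹ * Z) h12
      simp only [Matrix.mul_zero] at this
      rw [← Matrix.mul_assoc, Matrix.nonsing_inv_mul _ (isUnit_iff_ne_zero.mpr hdet),
        Matrix.one_mul] at this
      exact this
    rw [hx] at h22
    simp only [Matrix.transpose_zero, Matrix.zero_mul, Matrix.mul_zero, zero_add] at h22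
    have hb : X.toBlocks₂₂ ∈ Matrix.symplecticGroup (Fin (m - k)) F :=
      SymplecticGroup.mem_iff'.mpr h22
    refine ⟨(⟨X.toBlocks₁₁, ha⟩, ⟨X.toBlocks₂₂, hb⟩), ?_⟩
    apply Subtype.ext
    apply Subtype.ext
    rw [spEmbed_val]
    change spEmbedMat m k hk X.toBlocks₁₁ X.toBlocks₂₂ = A
    unfold spEmbedMat
    rw [← hx, ← hXeq, hX]
    ext i j
    simp

end Cfsg.Agent.Lib.Helper13
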