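import Mathlib
import Cfsg.Prelude.Def_ClassicalGeometry

set_option autoImplicit false

namespace Cfsg.Agent.Lib.Helper13

open Matrix

variable {F : Type*} [CommRing F] (m : ℕ)

theorem sympForm_def (u v : Fin m ⊕ Fin m → F) :
    Cfsg.sympForm m F u v = u ⬝ᵥ (Matrix.J (Fin m) F *ᵥ v) := rfl

theorem sympForm_expand (u v : Fin m ⊕ Fin m → F) :
    Cfsg.sympForm m F u v =
      ∑ i : Fin m, (u (Sum.inr i) * v (Sum.inl i) - u (Sum.inl i) * v (Sum.inr i)) := by
  unfold Cfsg.sympForm Matrix.J
  simp only [dotProduct, Fintype.sum_sum_type, mulVec, fromBlocks_apply₁₁, fromBlocks_apply₁₂,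
    fromBlocks_apply₂₁, fromBlocks_apply₂₂, Matrix.zero_apply, Matrix.neg_apply, Matrix.one_apply,
    zero_mul, Finset.sum_const_zero, zero_add, add_zero, ite_mul, one_mul, neg_mul,
    Finset.sum_neg_distrib, Finset.sum_ite_eq, Finset.mem_univ, if_true, mul_neg]
  rw [Finset.sum_sub_distrib]
  ring

theorem sympForm_self (v : Fin m ⊕ Fin m → F) : Cfsg.sympForm m F v v = 0 := by
  rw [sympForm_expand]
  apply Finset.sum_eq_zero
  intro i _
  ring

theorem sympForm_swap (u v : Fin m ⊕ Fin m → F) :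
    Cfsg.sympForm m F u v = - Cfsg.sympForm m F v u := by
  rw [sympForm_expand, sympForm_expand, ← Finset.sum_neg_distrib]
  apply Finset.sum_congr rfl
  intro i _
  ring

theorem sympForm_add_left (u u' v : Fin m ⊕ Fin m → F) :
    Cfsg.sympForm m F (u + u') v = Cfsg.sympForm m F u v + Cfsg.sympForm m F u' v := by
  simp [Cfsg.sympForm, add_dotProduct]

theorem sympForm_add_right (u v v' : Fin m ⊕ Fin m → F) :
    Cfsg.sympForm m F u (v + v') = Cfsg.sympForm m F u v + Cfsg.sympForm m F u v' := by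
  simp [Cfsg.sympForm, mulVec_add, dotProduct_add]

theorem sympForm_smul_left (a : F) (u v : Fin m ⊕ Fin m → F) :
    Cfsg.sympForm m F (a • u) v = a * Cfsg.sympForm m F u v := by
  simp [Cfsg.sympForm, smul_dotProduct]

theorem sympForm_smul_right (a : F) (u v : Fin m ⊕ Fin m → F) :
    Cfsg.sympForm m F u (a • v) = a * Cfsg.sympForm m F u v := by
  simp [Cfsg.sympForm, mulVec_smul, dotProduct_smul]

theorem sympForm_sub_left (u u' v : Fin m ⊕ Fin m → F) :
    Cfsg.sympForm m F (u - u') v = Cfsg.sympForm m F u v - Cfsg.sympForm m F u' v := by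
  simp [Cfsg.sympForm, sub_dotProduct]

theorem sympForm_sub_right (u v v' : Fin m ⊕ Fin m → F) :
    Cfsg.sympForm m F u (v - v') = Cfsg.sympForm m F u v - Cfsg.sympForm m F u v' := by
  simp [Cfsg.sympForm, mulVec_sub, dotProduct_sub]

theorem sympForm_zero_left (v : Fin m ⊕ Fin m → F) : Cfsg.sympForm m F 0 v = 0 := by
  simp [Cfsg.sympForm]

theorem sympForm_zero_right (v : Fin m ⊕ Fin m → F) : Cfsg.sympForm m F v 0 = 0 := by
  simp [Cfsg.sympForm]

/-- The action of a symplectic transvection on a vector. -/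
theorem sympTransvection_mulVec (v : Fin m ⊕ Fin m → F) (c : F) (x : Fin m ⊕ Fin m → F) :
    Cfsg.sympTransvection m v c *ᵥ x = x + (c * Cfsg.sympForm m F x v) • v := by
  unfold Cfsg.sympTransvection
  rw [add_mulVec, one_mulVec, smul_mulVec, vecMulVec_mulVec]
  congr 1
  rw [sympForm_def, dotProduct_comm x]
  ext i
  simp [mul_comm, mul_left_comm]

/-- A matrix preserving the symplectic form is symplectic. -/
theorem mem_symplectic_of_preserves (A : Matrix (Fin m ⊕ Fin m) (Fin m ⊕ Fin m) F)
    (h : ∀ u v, Cfsg.sympForm m F (A *ᵥ u) (A *ᵥ v) = Cfsg.sympForm m F u v) :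
    A ∈ Matrix.symplecticGroup (Fin m) F := by
  rw [SymplecticGroup.mem_iff']
  ext i j
  have := h (Pi.single i 1) (Pi.single j 1)
  simp only [sympForm_def] at this
  rw [mulVec_mulVec, dotProduct_mulVec, ← vecMul_transpose, vecMul_vecMul] at this
  simp only [single_one_vecMul, mulVec_single_one, dotProduct_single_one] at this
  simpa [Matrix.mul_assoc] using this

/-- A symplectic matrix preserves the symplectic form. -/
theorem preserves_of_mem_symplectic (A : Matrix (Fin m ⊕ Fin m) (Fin m ⊕ Fin m) F)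
    (hA : A ∈ Matrix.symplecticGroup (Fin m) F) (u v : Fin m ⊕ Fin m → F) :
    Cfsg.sympForm m F (A *ᵥ u) (A *ᵥ v) = Cfsg.sympForm m F u v := by
  rw [SymplecticGroup.mem_iff'] at hA
  simp only [sympForm_def]
  rw [mulVec_mulVec, dotProduct_mulVec, ← vecMul_transpose, vecMul_vecMul, ← Matrix.mul_assoc, hA,
    ← dotProduct_mulVec]

theorem sympTransvection_preserves (w : Fin m ⊕ Fin m → F) (c : F) (u v : Fin m ⊕ Fin m → F) :
    Cfsg.sympForm m F (Cfsg.sympTransvection m w c *ᵥ u) (Cfsg.sympTransvection m w c *ᵥ v)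
      = Cfsg.sympForm m F u v := by
  rw [sympTransvection_mulVec, sympTransvection_mulVec]
  simp only [sympForm_add_left, sympForm_add_right, sympForm_smul_left, sympForm_smul_right,
    sympForm_self]
  rw [sympForm_swap m w v]
  ring

theorem sympTransvection_mem (v : Fin m ⊕ Fin m → F) (c : F) :
    Cfsg.sympTransvection m v c ∈ Matrix.symplecticGroup (Fin m) F :=
  mem_symplectic_of_preserves m _ (sympTransvection_preserves m v c)

theorem sympTransvection_mul (v : Fin m ⊕ Fin m → F) (c d : F) :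
    Cfsg.sympTransvection m v c * Cfsg.sympTransvection m v d
      = Cfsg.sympTransvection m v (c + d) := by
  unfold Cfsg.sympTransvection
  rw [mul_add, add_mul, add_mul, one_mul, one_mul, mul_one, smul_mul_smul_comm,
    vecMulVec_mul_vecMulVec]
  have h0 : (Matrix.J (Fin m) F *ᵥ v) ⬝ᵥ v = 0 := by
    rw [dotProduct_comm]; exact sympForm_self m v
  rw [h0, zero_smul, vecMulVec_zero, smul_zero, add_zero, add_smul]
  abel

theorem sympTransvection_zero (v : Fin m ⊕ Fin m → F) :
    Cfsg.sympTransvection m v 0 = 1 := by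
  simp [Cfsg.sympTransvection]

end Cfsg.Agent.Lib.Helper13
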