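import Mathlib
import Cfsg.Prelude.Def_ClassicalGeometry
import Cfsg.Agent.Lib.Helper13.SpBlock
import Cfsg.Agent.Lib.Helper13.Symp
import Cfsg.Agent.Lib.Helper44.Darboux
import Cfsg.Agent.Lib.Helper8.WittAlt

set_option autoImplicit false

namespace Cfsg.Agent.Lib.Helper13

open Matrix Module

variable {F : Type*} [Field F]

/-- the symplectic form as a bilinear form -/
noncomputable def sympBilin (F : Type*) [Field F] (m : ℕ) :
    LinearMap.BilinForm F (Fin m ⊕ Fin m → F) :=
  Matrix.toBilin' (Matrix.J (Fin m) F)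

theorem sympBilin_apply (m : ℕ) (u v : Fin m ⊕ Fin m → F) :
    sympBilin F m u v = Cfsg.sympForm m F u v := by
  unfold sympBilin
  rw [Matrix.toBilin'_apply']
  rfl

theorem sympBilin_isAlt (m : ℕ) : (sympBilin F m).IsAlt := by
  intro v
  rw [sympBilin_apply, sympForm_self]

theorem sympBilin_nondegenerate (m : ℕ) : (sympBilin F m).Nondegenerate := by
  unfold sympBilin
  apply Matrix.Nondegenerate.toBilin'
  apply Matrix.nondegenerate_of_det_ne_zero
  exact (Matrix.isUnit_det_J (Fin m) F).ne_zero

theorem sympForm_single_single (m : ℕ) (p q : Fin m ⊕ Fin m) :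
    Cfsg.sympForm m F (Pi.single p 1) (Pi.single q 1) = Matrix.J (Fin m) F p q := by
  unfold Cfsg.sympForm
  rw [Matrix.mulVec_single_one, single_one_dotProduct, Matrix.col_apply]

/-- the standard family spanning `stdW`, with Gram matrix `gramJ` -/
def stdFam (F : Type*) [Field F] (m k : ℕ) (hk : k ≤ m) (s : Fin k ⊕ Fin k) : Fin m ⊕ Fin m → F :=
  Pi.single (splitIdx m k hk (Sum.inl (Sum.swap s))) 1

theorem stdFam_mem (m k : ℕ) (hk : k ≤ m) (s : Fin k ⊕ Fin k) : stdFam F m k hk s ∈ stdW F m k hk := by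
  intro t
  unfold stdFam
  rw [Pi.single_apply, if_neg]
  intro h
  have := (splitIdx m k hk).injective h
  simp at this

theorem stdFam_gram (m k : ℕ) (hk : k ≤ m) (s t : Fin k ⊕ Fin k) :
    Cfsg.sympForm m F (stdFam F m k hk s) (stdFam F m k hk t)
      = Cfsg.Agent.Lib.Helper44.gramJ k F s t := by
  unfold stdFam
  rw [sympForm_single_single]
  have h := congrFun (congrFun (J_submatrix_splitIdx F m k hk) (Sum.inl (Sum.swap s)))
    (Sum.inl (Sum.swap t))
  rw [Matrix.submatrix_apply] at h
  rw [h, Matrix.fromBlocks_apply₁₁]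
  rcases s with i | i <;> rcases t with j | j <;>
    simp [Matrix.J, Cfsg.Agent.Lib.Helper44.gramJ, Matrix.one_apply]

theorem stdFam_linearIndependent (m k : ℕ) (hk : k ≤ m) :
    LinearIndependent F (stdFam F m k hk) := by
  have h1 := (Pi.basisFun F (Fin m ⊕ Fin m)).linearIndependent
  have hinj : Function.Injective
      (fun s : Fin k ⊕ Fin k => splitIdx m k hk (Sum.inl (Sum.swap s))) := by
    intro s t hst
    have := (splitIdx m k hk).injective hst
    have h2 := Sum.inl.inj this
    exact Sum.swap_rightInverse.injective h2 |> fun h => by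
      have := congrArg Sum.swap h2
      simpa using this
  have h2 := h1.comp _ hinj
  convert h2 using 1
  ext s p
  simp [stdFam, Pi.basisFun_apply]

theorem mem_stdW_iff_sum (m k : ℕ) (hk : k ≤ m) (v : Fin m ⊕ Fin m → F) :
    v ∈ stdW F m k hk ↔ ∃ c : Fin k ⊕ Fin k → F, v = ∑ s, c s • stdFam F m k hk s := by
  constructor
  · intro hv
    refine ⟨fun s => v (splitIdx m k hk (Sum.inl (Sum.swap s))), ?_⟩
    ext p
    obtain ⟨p', rfl⟩ := (splitIdx m k hk).surjective p
    rw [Finset.sum_apply]
    simp only [Pi.smul_apply, stdFam, Pi.single_apply, smul_eq_mul, mul_ite, mul_one, mul_zero]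
    rcases p' with u | t
    · rw [Finset.sum_eq_single (Sum.swap u)]
      · simp
      · intro b _ hb
        rw [if_neg]
        intro h
        apply hb
        have := Sum.inl.inj ((splitIdx m k hk).injective h)
        rw [this]; simp
      · intro h; exact absurd (Finset.mem_univ _) h
    · rw [hv t]
      symm
      apply Finset.sum_eq_zero
      intro b _
      rw [if_neg]
      intro h
      have := (splitIdx m k hk).injective h
      simp at this
  · rintro ⟨c, rfl⟩
    exact (stdW F m k hk).sum_mem (fun s _ => (stdW F m k hk).smul_mem _ (stdFam_mem m k hk s))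

/-- Witt: a non-degenerate subspace of dimension `2k` is the image of the standard one under a
symplectic matrix. -/
theorem exists_sp_map_stdW (m k : ℕ) (hk : k ≤ m) (W : Submodule F (Fin m ⊕ Fin m → F))
    (hWk : Module.finrank F W = 2 * k)
    (hW : ∀ u ∈ W, (∀ v ∈ W, Cfsg.sympForm m F u v = 0) → u = 0) :
    ∃ Q : Matrix.symplecticGroup (Fin m) F, ∀ v : Fin m ⊕ Fin m → F,
      v ∈ stdW F m k hk ↔ (Q : Matrix (Fin m ⊕ Fin m) (Fin m ⊕ Fin m) F) *ᵥ v ∈ W := by
  classical
  -- restricted form
  let ωW : LinearMap.BilinForm F W := (sympBilin F m).restrict W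
  have hω : ∀ a b : W, ωW a b = Cfsg.sympForm m F (a : Fin m ⊕ Fin m → F) b := by
    intro a b
    simp only [ωW, LinearMap.BilinForm.restrict_apply, LinearMap.domRestrict_apply]
    exact sympBilin_apply m _ _
  have halt : ωW.IsAlt := by
    intro a
    rw [hω, sympForm_self]
  have hnd : ωW.Nondegenerate := by
    constructor
    · intro a ha
      apply Subtype.ext
      apply hW a a.2
      intro v hv
      have := ha ⟨v, hv⟩
      rw [hω] at this
      exact this
    · intro a ha
      apply Subtype.ext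
      apply hW a a.2
      intro v hv
      have := ha ⟨v, hv⟩
      rw [hω, sympForm_swap] at this
      exact neg_eq_zero.mp this
  obtain ⟨b₁, hb₁⟩ := Cfsg.Agent.Lib.Helper44.darboux_basis k W ωW halt hnd hWk
  have hgram : ∀ s t, Cfsg.sympForm m F (b₁ s : Fin m ⊕ Fin m → F) (b₁ t)
      = Cfsg.Agent.Lib.Helper44.gramJ k F s t := by
    intro s t
    rw [← hω, ← hb₁, LinearMap.BilinForm.toMatrix_apply]
  -- families indexed by `Fin (k + k)`
  let x' : Fin (k + k) → (Fin m ⊕ Fin m → F) := fun n => stdFam F m k hk (finSumFinEquiv.symm n)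
  let y' : Fin (k + k) → (Fin m ⊕ Fin m → F) :=
    fun n => (b₁ (finSumFinEquiv.symm n) : Fin m ⊕ Fin m → F)
  have hx' : LinearIndependent F x' :=
    (stdFam_linearIndependent m k hk).comp _ finSumFinEquiv.symm.injective
  have hy' : LinearIndependent F y' := by
    have h1 : LinearIndependent F (fun s => (b₁ s : Fin m ⊕ Fin m → F)) :=
      b₁.linearIndependent.map' W.subtype (Submodule.ker_subtype W)
    exact h1.comp _ finSumFinEquiv.symm.injective
  obtain ⟨g, hgiso, hgxy⟩ := Cfsg.Agent.Lib.Helper8.witt_family (sympBilin F m)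
    (sympBilin_nondegenerate m) (sympBilin_isAlt m) (k + k) x' y' hx' hy' (by
      intro i j
      rw [sympBilin_apply, sympBilin_apply, hgram, stdFam_gram])
  have hgs : ∀ s, g (stdFam F m k hk s) = (b₁ s : Fin m ⊕ Fin m → F) := by
    intro s
    have := hgxy (finSumFinEquiv s)
    simp only [x', y', Equiv.symm_apply_apply] at this
    exact this
  let Qm : Matrix (Fin m ⊕ Fin m) (Fin m ⊕ Fin m) F := LinearMap.toMatrix' g.toLinearMap
  have hQv : ∀ v, Qm *ᵥ v = g v := by
    intro v
    simp only [Qm, LinearMap.toMatrix'_mulVec]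
    rfl
  have hQmem : Qm ∈ Matrix.symplecticGroup (Fin m) F := by
    apply mem_symplectic_of_preserves
    intro u v
    rw [hQv, hQv, ← sympBilin_apply, ← sympBilin_apply, hgiso]
  refine ⟨⟨Qm, hQmem⟩, ?_⟩
  intro v
  change v ∈ stdW F m k hk ↔ Qm *ᵥ v ∈ W
  rw [hQv, mem_stdW_iff_sum]
  constructor
  · rintro ⟨c, rfl⟩
    rw [map_sum]
    apply W.sum_mem
    intro s _
    rw [map_smul, hgs]
    exact W.smul_mem _ (b₁ s).2
  · intro hgv
    refine ⟨fun s => b₁.repr ⟨g v, hgv⟩ s, ?_⟩
    apply g.injective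
    rw [map_sum]
    have h1 := b₁.sum_repr ⟨g v, hgv⟩
    have h2 := congrArg (fun w : W => (w : Fin m ⊕ Fin m → F)) h1
    simp only [Submodule.coe_sum, Submodule.coe_smul] at h2
    refine h2.symm.trans ?_
    apply Finset.sum_congr rfl
    intro s _
    rw [map_smul, hgs]

end Cfsg.Agent.Lib.Helper13
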