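import Mathlib
import Cfsg.Prelude.Def_ClassicalGeometry
import Cfsg.Agent.Lib.Helper13.SpWitt
import Cfsg.Agent.Lib.Helper13.Borel

set_option autoImplicit false

namespace Cfsg.Agent.Lib.Helper13

open Matrix

variable {F : Type*} [Field F] {m : ℕ}

/-- sign attached to an index: `-1` on the left block, `1` on the right block -/
def eta (F : Type*) [Field F] {m : ℕ} : Fin m ⊕ Fin m → F
  | Sum.inl _ => -1
  | Sum.inr _ => 1

theorem eta_inl (i : Fin m) : eta F (Sum.inl i : Fin m ⊕ Fin m) = -1 := rfl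

theorem eta_inr (i : Fin m) : eta F (Sum.inr i : Fin m ⊕ Fin m) = 1 := rfl

theorem eta_mul_self (a : Fin m ⊕ Fin m) : eta F a * eta F a = 1 := by
  cases a <;> simp [eta]

theorem eta_swap (a : Fin m ⊕ Fin m) : eta F a.swap = - eta F a := by
  cases a <;> simp [eta]

theorem eta_ne_zero (a : Fin m ⊕ Fin m) : eta F a ≠ 0 := by
  cases a <;> simp [eta]

theorem J_apply_eq (a b : Fin m ⊕ Fin m) :
    Matrix.J (Fin m) F a b = if b = a.swap then eta F a else 0 := by
  rcases a with i | i <;> rcases b with j | j <;>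
    simp [Matrix.J, eta, Matrix.one_apply, eq_comm, apply_ite]

theorem sympForm_single_single' (a b : Fin m ⊕ Fin m) :
    Cfsg.sympForm m F (Pi.single a 1) (Pi.single b 1) = if b = a.swap then eta F a else 0 := by
  rw [sympForm_single_single, J_apply_eq]

/-- the torus: elements stabilising every coordinate axis -/
def spTorus (F : Type*) [Field F] (m : ℕ) : Subgroup (Matrix.symplecticGroup (Fin m) F) :=
  ⨅ i : Fin m ⊕ Fin m, Cfsg.stabilizing (Cfsg.spToMat m F)
    ((Submodule.span F {(Pi.single i (1 : F) : Fin m ⊕ Fin m → F)} :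
      Submodule F (Fin m ⊕ Fin m → F)) : Set (Fin m ⊕ Fin m → F))

theorem mem_spTorus_iff (g : Matrix.symplecticGroup (Fin m) F) :
    g ∈ spTorus F m ↔ ∀ a s : Fin m ⊕ Fin m, a ≠ s →
      (g : Matrix (Fin m ⊕ Fin m) (Fin m ⊕ Fin m) F) a s = 0 := by
  classical
  unfold spTorus
  rw [Subgroup.mem_iInf]
  constructor
  · intro h a s has
    have h1 := (h s (Pi.single s 1)).1 (Submodule.subset_span rfl)
    change (g : Matrix (Fin m ⊕ Fin m) (Fin m ⊕ Fin m) F) *ᵥ Pi.single s 1 ∈
      Submodule.span F {(Pi.single s (1 : F) : Fin m ⊕ Fin m → F)} at h1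
    rw [Submodule.mem_span_singleton] at h1
    obtain ⟨c, hc⟩ := h1
    have h2 := congrFun hc a
    rw [Matrix.mulVec_single_one, Matrix.col_apply] at h2
    rw [← h2]
    simp [has]
  · intro h s v
    apply mem_iff_mulVec_mem_of_mapsTo _ _ (symplectic_mulVec_injective m g)
    intro w hw
    rw [Submodule.mem_span_singleton] at hw ⊢
    obtain ⟨c, rfl⟩ := hw
    refine ⟨c * (g : Matrix (Fin m ⊕ Fin m) (Fin m ⊕ Fin m) F) s s, ?_⟩
    rw [Matrix.mulVec_smul, Matrix.mulVec_single_one]
    ext a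
    by_cases has : a = s
    · subst has
      simp [mul_comm]
    · simp [has, h a s has]

theorem eq_diagonal_of_mem_spTorus (g : Matrix.symplecticGroup (Fin m) F) (hg : g ∈ spTorus F m) :
    (g : Matrix (Fin m ⊕ Fin m) (Fin m ⊕ Fin m) F) = Matrix.diagonal (fun s =>
      (g : Matrix (Fin m ⊕ Fin m) (Fin m ⊕ Fin m) F) s s) := by
  ext a s
  by_cases has : a = s
  · subst has; simp
  · rw [Matrix.diagonal_apply_ne _ has]
    exact (mem_spTorus_iff g).1 hg a s has

theorem diagonal_mem_symplectic (d : Fin m ⊕ Fin m → F) (hd : ∀ a, d a * d a.swap = 1) :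
    Matrix.diagonal d ∈ Matrix.symplecticGroup (Fin m) F := by
  rw [SymplecticGroup.mem_iff]
  ext a b
  rw [Matrix.diagonal_transpose, Matrix.mul_diagonal, Matrix.diagonal_mul, J_apply_eq]
  split_ifs with h
  · subst h
    rw [mul_comm (d a), mul_assoc, hd, mul_one]
  · simp

/-- a diagonal symplectic element -/
def spDiag (d : Fin m ⊕ Fin m → F) (hd : ∀ a, d a * d a.swap = 1) :
    Matrix.symplecticGroup (Fin m) F :=
  ⟨Matrix.diagonal d, diagonal_mem_symplectic d hd⟩

theorem spDiag_mem_spTorus (d : Fin m ⊕ Fin m → F) (hd : ∀ a, d a * d a.swap = 1) :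
    spDiag d hd ∈ spTorus F m := by
  rw [mem_spTorus_iff]
  intro a s has
  exact Matrix.diagonal_apply_ne _ has

end Cfsg.Agent.Lib.Helper13
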