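import Mathlib
import Cfsg.Prelude.Def_ClassicalGeometry
import Cfsg.Agent.Lib.Helper13.SpTorus

set_option autoImplicit false

namespace Cfsg.Agent.Lib.Helper13

open Matrix

variable {F : Type*} [Field F] {m : ℕ}

theorem exists_sq_ne_one [Fintype F] (hq : 4 ≤ Fintype.card F) : ∃ x : F, x ≠ 0 ∧ x * x ≠ 1 := by
  classical
  by_contra hcon
  push Not at hcon
  have hsub : (Finset.univ : Finset F) ⊆ {0, 1, -1} := by
    intro x _
    by_cases hx : x = 0
    · simp [hx]
    · have := hcon x hx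
      rcases mul_self_eq_one_iff.1 this with h | h <;> simp [h]
  have h2 := Finset.card_le_card hsub
  have h3 : ({0, 1, -1} : Finset F).card ≤ 3 := Finset.card_le_three
  rw [Finset.card_univ] at h2
  omega

/-- the diagonal entries of a one-parameter torus element -/
def torusVec (i : Fin m) (x : F) : Fin m ⊕ Fin m → F
  | Sum.inl j => if j = i then x else 1
  | Sum.inr j => if j = i then x⁻¹ else 1

theorem torusVec_mul_swap (i : Fin m) (x : F) (hx : x ≠ 0) (a : Fin m ⊕ Fin m) :
    torusVec i x a * torusVec i x a.swap = 1 := by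
  rcases a with j | j <;> by_cases hj : j = i <;> simp [torusVec, hj, hx]

theorem exists_torusVec_ne [Fintype F] (hq : 4 ≤ Fintype.card F) (a b : Fin m ⊕ Fin m)
    (hab : a ≠ b) : ∃ d : Fin m ⊕ Fin m → F, (∀ c, d c * d c.swap = 1) ∧ d a ≠ d b := by
  obtain ⟨x, hx0, hx1⟩ := exists_sq_ne_one hq
  have hx1' : x ≠ 1 := by
    rintro rfl
    exact hx1 (one_mul 1)
  have hxi : x⁻¹ ≠ 1 := by
    intro h
    exact hx1' (inv_eq_one.1 h)
  have hxx : x ≠ x⁻¹ := by
    intro h
    apply hx1
    nth_rewrite 2 [h]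
    exact mul_inv_cancel₀ hx0
  rcases a with i | i
  · refine ⟨torusVec i x, torusVec_mul_swap i x hx0, ?_⟩
    rcases b with j | j
    · have hji : j ≠ i := fun h => hab (by rw [h])
      simp [torusVec, hji, hx1']
    · by_cases hji : j = i
      · simp [torusVec, hji, hxx]
      · simp [torusVec, hji, hx1']
  · refine ⟨torusVec i x, torusVec_mul_swap i x hx0, ?_⟩
    rcases b with j | j
    · by_cases hji : j = i
      · simp [torusVec, hji, hxx.symm]
      · simp [torusVec, hji, hxi]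
    · have hji : j ≠ i := fun h => hab (by rw [h])
      simp [torusVec, hji, hxi]

theorem normalizer_col_unique [Fintype F] (hq : 4 ≤ Fintype.card F)
    (g : Matrix.symplecticGroup (Fin m) F)
    (hg : g ∈ Subgroup.normalizer (spTorus F m : Set (Matrix.symplecticGroup (Fin m) F)))
    (s a b : Fin m ⊕ Fin m)
    (ha : (g : Matrix (Fin m ⊕ Fin m) (Fin m ⊕ Fin m) F) a s ≠ 0)
    (hb : (g : Matrix (Fin m ⊕ Fin m) (Fin m ⊕ Fin m) F) b s ≠ 0) : a = b := by
  classical
  by_contra hab
  obtain ⟨d, hd, hdab⟩ := exists_torusVec_ne (m := m) hq a b hab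
  have ht' : g⁻¹ * spDiag d hd * g ∈ spTorus F m :=
    (Subgroup.mem_normalizer_iff''.1 hg (spDiag d hd)).1 (spDiag_mem_spTorus d hd)
  have e1 := eq_diagonal_of_mem_spTorus _ ht'
  have e2 : spDiag d hd * g = g * (g⁻¹ * spDiag d hd * g) := by group
  have e3 : (Matrix.diagonal d : Matrix (Fin m ⊕ Fin m) (Fin m ⊕ Fin m) F) *
      (g : Matrix (Fin m ⊕ Fin m) (Fin m ⊕ Fin m) F) =
      (g : Matrix (Fin m ⊕ Fin m) (Fin m ⊕ Fin m) F) *
      ((g⁻¹ * spDiag d hd * g : Matrix.symplecticGroup (Fin m) F) :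
        Matrix (Fin m ⊕ Fin m) (Fin m ⊕ Fin m) F) := congrArg Subtype.val e2
  rw [e1] at e3
  have e4 := congrFun (congrFun e3 a) s
  have e5 := congrFun (congrFun e3 b) s
  rw [Matrix.diagonal_mul, Matrix.mul_diagonal] at e4 e5
  have h4 : d a = ((g⁻¹ * spDiag d hd * g : Matrix.symplecticGroup (Fin m) F) :
        Matrix (Fin m ⊕ Fin m) (Fin m ⊕ Fin m) F) s s := by
    rw [mul_comm] at e4
    exact mul_left_cancel₀ ha e4
  have h5 : d b = ((g⁻¹ * spDiag d hd * g : Matrix.symplecticGroup (Fin m) F) :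
        Matrix (Fin m ⊕ Fin m) (Fin m ⊕ Fin m) F) s s := by
    rw [mul_comm] at e5
    exact mul_left_cancel₀ hb e5
  exact hdab (h4.trans h5.symm)

/-- `g` is monomial with permutation `π` and coefficients `d` -/
def IsMono (g : Matrix (Fin m ⊕ Fin m) (Fin m ⊕ Fin m) F) (π : Equiv.Perm (Fin m ⊕ Fin m))
    (d : Fin m ⊕ Fin m → F) : Prop :=
  ∀ a s, g a s = if a = π s then d s else 0

theorem IsMono.mulVec_single {g : Matrix (Fin m ⊕ Fin m) (Fin m ⊕ Fin m) F}
    {π : Equiv.Perm (Fin m ⊕ Fin m)} {d : Fin m ⊕ Fin m → F} (h : IsMono g π d)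
    (s : Fin m ⊕ Fin m) : g *ᵥ Pi.single s 1 = d s • Pi.single (π s) 1 := by
  ext a
  rw [Matrix.mulVec_single_one, Matrix.col_apply, h a s]
  simp [Pi.single_apply]

theorem isMono_of_mulVec_single {g : Matrix (Fin m ⊕ Fin m) (Fin m ⊕ Fin m) F}
    {π : Equiv.Perm (Fin m ⊕ Fin m)} {d : Fin m ⊕ Fin m → F}
    (h : ∀ s, g *ᵥ Pi.single s 1 = d s • Pi.single (π s) 1) : IsMono g π d := by
  intro a s
  have := congrFun (h s) a
  rw [Matrix.mulVec_single_one, Matrix.col_apply] at this
  rw [this]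
  simp [Pi.single_apply]

theorem IsMono.unique {g : Matrix (Fin m ⊕ Fin m) (Fin m ⊕ Fin m) F}
    {π π' : Equiv.Perm (Fin m ⊕ Fin m)} {d d' : Fin m ⊕ Fin m → F} (h : IsMono g π d)
    (h' : IsMono g π' d') (hd : ∀ s, d s ≠ 0) : π = π' ∧ d = d' := by
  have key : ∀ s, π s = π' s ∧ d s = d' s := by
    intro s
    have h1 := h (π s) s
    rw [if_pos rfl] at h1
    have h2 := h' (π s) s
    rw [h1] at h2
    by_cases hp : π s = π' s
    · rw [if_pos hp] at h2
      exact ⟨hp, h2⟩
    · rw [if_neg hp] at h2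
      exact absurd h2 (hd s)
  exact ⟨Equiv.ext fun s => (key s).1, funext fun s => (key s).2⟩

theorem exists_isMono_of_mem_normalizer [Fintype F] (hq : 4 ≤ Fintype.card F)
    (g : Matrix.symplecticGroup (Fin m) F)
    (hg : g ∈ Subgroup.normalizer (spTorus F m : Set (Matrix.symplecticGroup (Fin m) F))) :
    ∃ (π : Equiv.Perm (Fin m ⊕ Fin m)) (d : Fin m ⊕ Fin m → F),
      IsMono (g : Matrix (Fin m ⊕ Fin m) (Fin m ⊕ Fin m) F) π d := by
  classical
  have hex : ∀ s, ∃ a, (g : Matrix (Fin m ⊕ Fin m) (Fin m ⊕ Fin m) F) a s ≠ 0 := by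
    intro s
    by_contra hcon
    push Not at hcon
    have h0 : (g : Matrix (Fin m ⊕ Fin m) (Fin m ⊕ Fin m) F) *ᵥ Pi.single s 1
        = (g : Matrix (Fin m ⊕ Fin m) (Fin m ⊕ Fin m) F) *ᵥ 0 := by
      rw [Matrix.mulVec_zero, Matrix.mulVec_single_one]
      ext a
      exact hcon a
    have h1 := symplectic_mulVec_injective m g h0
    have h2 := congrFun h1 s
    simp at h2
  choose π0 hπ0 using hex
  have hcol : ∀ s a, (g : Matrix (Fin m ⊕ Fin m) (Fin m ⊕ Fin m) F) a s ≠ 0 → a = π0 s :=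
    fun s a ha => normalizer_col_unique hq g hg s a (π0 s) ha (hπ0 s)
  have hvec : ∀ s, (g : Matrix (Fin m ⊕ Fin m) (Fin m ⊕ Fin m) F) *ᵥ Pi.single s 1
      = (g : Matrix (Fin m ⊕ Fin m) (Fin m ⊕ Fin m) F) (π0 s) s • Pi.single (π0 s) 1 := by
    intro s
    ext a
    rw [Matrix.mulVec_single_one, Matrix.col_apply]
    by_cases ha : a = π0 s
    · subst ha; simp
    · have : (g : Matrix (Fin m ⊕ Fin m) (Fin m ⊕ Fin m) F) a s = 0 := by
        by_contra h
        exact ha (hcol s a h)
      simp [this, ha]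
  have hinj : Function.Injective π0 := by
    intro s s' hss
    by_contra hne
    have h0 : (g : Matrix (Fin m ⊕ Fin m) (Fin m ⊕ Fin m) F) *ᵥ
        ((g : Matrix (Fin m ⊕ Fin m) (Fin m ⊕ Fin m) F) (π0 s') s' • Pi.single s 1)
        = (g : Matrix (Fin m ⊕ Fin m) (Fin m ⊕ Fin m) F) *ᵥ
        ((g : Matrix (Fin m ⊕ Fin m) (Fin m ⊕ Fin m) F) (π0 s) s • Pi.single s' 1) := by
      rw [Matrix.mulVec_smul, Matrix.mulVec_smul, hvec s, hvec s', hss, smul_smul, smul_smul,
        mul_comm]
    have h1 := symplectic_mulVec_injective m g h0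
    have h2 := congrFun h1 s
    simp [hne] at h2
    exact hπ0 s' h2
  refine ⟨Equiv.ofBijective π0 (Finite.injective_iff_bijective.1 hinj),
    fun s => (g : Matrix (Fin m ⊕ Fin m) (Fin m ⊕ Fin m) F) (π0 s) s, ?_⟩
  apply isMono_of_mulVec_single
  intro s
  rw [hvec s]
  rfl


theorem mem_symplectic_of_preserves_basis (A : Matrix (Fin m ⊕ Fin m) (Fin m ⊕ Fin m) F)
    (h : ∀ s s', Cfsg.sympForm m F (A *ᵥ Pi.single s 1) (A *ᵥ Pi.single s' 1)
      = Cfsg.sympForm m F (Pi.single s 1) (Pi.single s' 1)) :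
    A ∈ Matrix.symplecticGroup (Fin m) F := by
  classical
  rw [SymplecticGroup.mem_iff']
  have key : ∀ (M : Matrix (Fin m ⊕ Fin m) (Fin m ⊕ Fin m) F) s s',
      M s s' = Pi.single s 1 ⬝ᵥ (M *ᵥ Pi.single s' 1) := by
    intro M s s'
    rw [Matrix.mulVec_single_one, single_one_dotProduct, Matrix.col_apply]
  ext s s'
  rw [key (Aᵀ * J (Fin m) F * A), key (J (Fin m) F), ← Matrix.mulVec_mulVec, ← Matrix.mulVec_mulVec,
    Matrix.dotProduct_mulVec, Matrix.vecMul_transpose]
  have := h s s'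
  rw [sympForm_def, sympForm_def] at this
  exact this

theorem IsMono.symp {g : Matrix (Fin m ⊕ Fin m) (Fin m ⊕ Fin m) F}
    (hg : g ∈ Matrix.symplecticGroup (Fin m) F)
    {π : Equiv.Perm (Fin m ⊕ Fin m)} {d : Fin m ⊕ Fin m → F} (h : IsMono g π d) :
    (∀ s, π s.swap = (π s).swap) ∧ (∀ s, d s * (d s.swap * eta F (π s)) = eta F s) := by
  have key : ∀ s, π s.swap = (π s).swap ∧ d s * (d s.swap * eta F (π s)) = eta F s := by
    intro s
    have h1 := preserves_of_mem_symplectic m g hg (Pi.single s 1) (Pi.single s.swap 1)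
    rw [h.mulVec_single, h.mulVec_single, sympForm_smul_left, sympForm_smul_right,
      sympForm_single_single', sympForm_single_single', if_pos rfl] at h1
    by_cases hp : π s.swap = (π s).swap
    · rw [if_pos hp] at h1
      exact ⟨hp, h1⟩
    · rw [if_neg hp, mul_zero, mul_zero] at h1
      exact absurd h1.symm (eta_ne_zero s)
  exact ⟨fun s => (key s).1, fun s => (key s).2⟩

theorem IsMono.ne_zero {g : Matrix (Fin m ⊕ Fin m) (Fin m ⊕ Fin m) F}
    (hg : g ∈ Matrix.symplecticGroup (Fin m) F)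
    {π : Equiv.Perm (Fin m ⊕ Fin m)} {d : Fin m ⊕ Fin m → F} (h : IsMono g π d)
    (s : Fin m ⊕ Fin m) : d s ≠ 0 := by
  intro h0
  have := (h.symp hg).2 s
  rw [h0, zero_mul] at this
  exact eta_ne_zero s this.symm

theorem mem_spTorus_iff_vec (g : Matrix.symplecticGroup (Fin m) F) :
    g ∈ spTorus F m ↔ ∀ s : Fin m ⊕ Fin m, ∃ c : F,
      (g : Matrix (Fin m ⊕ Fin m) (Fin m ⊕ Fin m) F) *ᵥ Pi.single s 1 = c • Pi.single s 1 := by
  classical
  rw [mem_spTorus_iff]
  constructor
  · intro h s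
    refine ⟨(g : Matrix (Fin m ⊕ Fin m) (Fin m ⊕ Fin m) F) s s, ?_⟩
    ext a
    rw [Matrix.mulVec_single_one, Matrix.col_apply]
    by_cases ha : a = s
    · subst ha; simp
    · simp [ha, h a s ha]
  · intro h a s has
    obtain ⟨c, hc⟩ := h s
    have := congrFun hc a
    rw [Matrix.mulVec_single_one, Matrix.col_apply] at this
    rw [this]
    simp [has]

theorem conj_mem_spTorus (g : Matrix.symplecticGroup (Fin m) F)
    (π : Equiv.Perm (Fin m ⊕ Fin m)) (d : Fin m ⊕ Fin m → F)
    (hmono : ∀ s, (g : Matrix (Fin m ⊕ Fin m) (Fin m ⊕ Fin m) F) *ᵥ Pi.single s 1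
      = d s • Pi.single (π s) 1) (hd : ∀ s, d s ≠ 0)
    (h : Matrix.symplecticGroup (Fin m) F) (hh : h ∈ spTorus F m) :
    g * h * g⁻¹ ∈ spTorus F m := by
  rw [mem_spTorus_iff_vec] at hh ⊢
  intro s'
  obtain ⟨s, rfl⟩ := π.surjective s'
  obtain ⟨c, hc⟩ := hh s
  refine ⟨c, ?_⟩
  have hinv : ((g⁻¹ : Matrix.symplecticGroup (Fin m) F) :
      Matrix (Fin m ⊕ Fin m) (Fin m ⊕ Fin m) F) *ᵥ Pi.single (π s) 1 = (d s)⁻¹ • Pi.single s 1 := by
    have h1 : (Pi.single (π s) 1 : Fin m ⊕ Fin m → F) =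
        (g : Matrix (Fin m ⊕ Fin m) (Fin m ⊕ Fin m) F) *ᵥ ((d s)⁻¹ • Pi.single s 1) := by
      rw [Matrix.mulVec_smul, hmono s, smul_smul, inv_mul_cancel₀ (hd s), one_smul]
    rw [h1, Matrix.mulVec_mulVec]
    have : ((g⁻¹ : Matrix.symplecticGroup (Fin m) F) :
        Matrix (Fin m ⊕ Fin m) (Fin m ⊕ Fin m) F) * (g : Matrix _ _ F) = 1 :=
      congrArg Subtype.val (inv_mul_cancel g)
    rw [this, Matrix.one_mulVec]
  change ((g : Matrix (Fin m ⊕ Fin m) (Fin m ⊕ Fin m) F) * (h : Matrix _ _ F) *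
    ((g⁻¹ : Matrix.symplecticGroup (Fin m) F) : Matrix _ _ F)) *ᵥ _ = _
  rw [← Matrix.mulVec_mulVec, ← Matrix.mulVec_mulVec, hinv, Matrix.mulVec_smul, hc,
    Matrix.mulVec_smul, Matrix.mulVec_smul, hmono s, smul_smul, smul_smul]
  congr 1
  field_simp [hd s]

theorem mem_normalizer_of_isMono (g : Matrix.symplecticGroup (Fin m) F)
    (π : Equiv.Perm (Fin m ⊕ Fin m)) (d : Fin m ⊕ Fin m → F)
    (hmono : IsMono (g : Matrix (Fin m ⊕ Fin m) (Fin m ⊕ Fin m) F) π d) :
    g ∈ Subgroup.normalizer (spTorus F m : Set (Matrix.symplecticGroup (Fin m) F)) := by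
  have hd : ∀ s, d s ≠ 0 := fun s => hmono.ne_zero g.2 s
  have hvec := fun s => hmono.mulVec_single s
  rw [Subgroup.mem_normalizer_iff]
  intro h
  constructor
  · exact conj_mem_spTorus g π d hvec hd h
  · intro hk
    have hinv : ∀ s, ((g⁻¹ : Matrix.symplecticGroup (Fin m) F) :
        Matrix (Fin m ⊕ Fin m) (Fin m ⊕ Fin m) F) *ᵥ Pi.single s 1
        = (d (π.symm s))⁻¹ • Pi.single (π.symm s) 1 := by
      intro s
      have h1 : (Pi.single s 1 : Fin m ⊕ Fin m → F) =
          (g : Matrix (Fin m ⊕ Fin m) (Fin m ⊕ Fin m) F) *ᵥ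
            ((d (π.symm s))⁻¹ • Pi.single (π.symm s) 1) := by
        rw [Matrix.mulVec_smul, hvec, smul_smul, inv_mul_cancel₀ (hd _), one_smul,
          Equiv.apply_symm_apply]
      nth_rewrite 1 [h1]
      rw [Matrix.mulVec_mulVec]
      have : ((g⁻¹ : Matrix.symplecticGroup (Fin m) F) :
          Matrix (Fin m ⊕ Fin m) (Fin m ⊕ Fin m) F) * (g : Matrix _ _ F) = 1 :=
        congrArg Subtype.val (inv_mul_cancel g)
      rw [this, Matrix.one_mulVec]
    have := conj_mem_spTorus g⁻¹ π.symm (fun s => (d (π.symm s))⁻¹) hinv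
      (fun s => inv_ne_zero (hd _)) _ hk
    have e : g⁻¹ * (g * h * g⁻¹) * g⁻¹⁻¹ = h := by group
    rw [e] at this
    exact this


/-- the swap permutation of `Fin m ⊕ Fin m` -/
def swapPerm (m : ℕ) : Equiv.Perm (Fin m ⊕ Fin m) := Equiv.sumComm (Fin m) (Fin m)

theorem swapPerm_apply (m : ℕ) (s : Fin m ⊕ Fin m) : swapPerm m s = s.swap := rfl

theorem swapPerm_cycleType (m : ℕ) : (swapPerm m).cycleType = Multiset.replicate m 2 := by
  rcases Nat.eq_zero_or_pos m with rfl | hm
  · have : swapPerm 0 = 1 := Subsingleton.elim _ _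
    rw [this]; simp
  · have hsq : swapPerm m * swapPerm m = 1 := by
      ext s
      simp [swapPerm_apply]
    have hne : swapPerm m ≠ 1 := by
      intro h
      have := congrArg (fun σ => σ (Sum.inl ⟨0, hm⟩)) h
      simp [swapPerm_apply] at this
    have hord : orderOf (swapPerm m) = 2 := orderOf_eq_prime (by rw [pow_two]; exact hsq) hne
    obtain ⟨n, hn⟩ := Equiv.Perm.cycleType_prime_order (σ := swapPerm m)
      (by rw [hord]; exact Nat.prime_two)
    rw [hord] at hn
    have hsum := Equiv.Perm.sum_cycleType (swapPerm m)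
    have hsupp : (swapPerm m).support = Finset.univ := by
      ext s
      simp only [Equiv.Perm.mem_support, swapPerm_apply, Finset.mem_univ, iff_true]
      cases s <;> simp
    rw [hn, hsupp, Multiset.sum_replicate, Finset.card_univ, Fintype.card_sum,
      Fintype.card_fin] at hsum
    have : n + 1 = m := by simp at hsum; omega
    rw [hn, this]

theorem card_centralizer_swapPerm (m : ℕ) :
    Nat.card (Subgroup.centralizer {swapPerm m}) = 2 ^ m * m.factorial := by
  rw [Equiv.Perm.nat_card_centralizer, swapPerm_cycleType]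
  rcases Nat.eq_zero_or_pos m with rfl | hm
  · simp
  · have h1 : (Multiset.replicate m 2).toFinset = {2} := by
      ext x
      simp only [Multiset.mem_toFinset, Multiset.mem_replicate, Finset.mem_singleton]
      constructor
      · exact fun h => h.2
      · exact fun h => ⟨by omega, h⟩
    rw [h1]
    simp [Multiset.sum_replicate, Multiset.prod_replicate, Fintype.card_sum,
      Multiset.count_replicate_self]
    left; omega

theorem mem_centralizer_swapPerm_iff (π : Equiv.Perm (Fin m ⊕ Fin m)) :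
    π ∈ Subgroup.centralizer {swapPerm m} ↔ ∀ s, π s.swap = (π s).swap := by
  rw [Subgroup.mem_centralizer_singleton_iff]
  constructor
  · intro h s
    have := congrArg (fun σ : Equiv.Perm (Fin m ⊕ Fin m) => σ s) h
    simp only [Equiv.Perm.mul_apply, swapPerm_apply] at this
    exact this
  · intro h
    ext s
    simp only [Equiv.Perm.mul_apply, swapPerm_apply]
    rw [h s]

/-- coefficient vector attached to a permutation and a family of units -/
def monoCoeff (π : Equiv.Perm (Fin m ⊕ Fin m)) (t : Fin m → Fˣ) : Fin m ⊕ Fin m → F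
  | Sum.inl i => (t i : F)
  | Sum.inr i => - eta F (π (Sum.inl i)) * ((t i : F))⁻¹

/-- the monomial matrix attached to a permutation and a family of units -/
def monoMat (π : Equiv.Perm (Fin m ⊕ Fin m)) (t : Fin m → Fˣ) :
    Matrix (Fin m ⊕ Fin m) (Fin m ⊕ Fin m) F :=
  Matrix.of fun a s => if a = π s then monoCoeff π t s else 0

theorem monoMat_isMono (π : Equiv.Perm (Fin m ⊕ Fin m)) (t : Fin m → Fˣ) :
    IsMono (monoMat π t) π (monoCoeff π t) := fun _ _ => rfl

theorem monoMat_mem (π : Equiv.Perm (Fin m ⊕ Fin m)) (hπ : ∀ s, π s.swap = (π s).swap)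
    (t : Fin m → Fˣ) : monoMat π t ∈ Matrix.symplecticGroup (Fin m) F := by
  apply mem_symplectic_of_preserves_basis
  intro s s'
  rw [(monoMat_isMono π t).mulVec_single, (monoMat_isMono π t).mulVec_single, sympForm_smul_left,
    sympForm_smul_right, sympForm_single_single', sympForm_single_single']
  by_cases hs : s' = s.swap
  · subst hs
    rw [if_pos rfl, if_pos (hπ s)]
    rcases s with i | i
    · have h1 := eta_mul_self (F := F) (π (Sum.inl i))
      have h2 : (t i : F) ≠ 0 := (t i).ne_zero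
      simp only [monoCoeff, Sum.swap_inl, eta_inl]
      field_simp
      linear_combination (-1 : F) * h1
    · have h1 := eta_mul_self (F := F) (π (Sum.inl i))
      have h2 : (t i : F) ≠ 0 := (t i).ne_zero
      have h3 := hπ (Sum.inl i)
      simp only [Sum.swap_inl] at h3
      simp only [monoCoeff, Sum.swap_inr, eta_inr, h3, eta_swap]
      field_simp
      linear_combination h1
  · rw [if_neg hs, if_neg]
    · simp
    · intro h
      apply hs
      apply π.injective
      rw [h, hπ]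

theorem card_normalizer_spTorus [Fintype F] (hq : 4 ≤ Fintype.card F) (m : ℕ) :
    Nat.card (Subgroup.normalizer (spTorus F m : Set (Matrix.symplecticGroup (Fin m) F)))
      = 2 ^ m * m.factorial * (Fintype.card F - 1) ^ m := by
  classical
  let f : (Subgroup.centralizer {swapPerm m}) × (Fin m → Fˣ) →
      Subgroup.normalizer (spTorus F m : Set (Matrix.symplecticGroup (Fin m) F)) :=
    fun p => ⟨⟨monoMat p.1.1 p.2, monoMat_mem p.1.1
      ((mem_centralizer_swapPerm_iff p.1.1).1 p.1.2) p.2⟩,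
      mem_normalizer_of_isMono _ p.1.1 (monoCoeff p.1.1 p.2) (monoMat_isMono p.1.1 p.2)⟩
  have hf : Function.Bijective f := by
    constructor
    · rintro ⟨⟨π, hπ⟩, t⟩ ⟨⟨π', hπ'⟩, t'⟩ h
      have h1 : monoMat (F := F) π t = monoMat π' t' :=
        congrArg (fun z : Subgroup.normalizer (spTorus F m :
          Set (Matrix.symplecticGroup (Fin m) F)) => ((z : Matrix.symplecticGroup (Fin m) F) :
          Matrix (Fin m ⊕ Fin m) (Fin m ⊕ Fin m) F)) h
      have h2 := monoMat_isMono (F := F) π' t'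
      rw [← h1] at h2
      have h3 := (monoMat_isMono (F := F) π t).unique h2
        (fun s => (monoMat_isMono π t).ne_zero
          (monoMat_mem π ((mem_centralizer_swapPerm_iff π).1 hπ) t) s)
      obtain ⟨rfl, h4⟩ := h3
      have : t = t' := by
        funext i
        apply Units.ext
        exact congrFun h4 (Sum.inl i)
      subst this
      rfl
    · rintro ⟨g, hg⟩
      obtain ⟨π, d, hmono⟩ := exists_isMono_of_mem_normalizer hq g hg
      obtain ⟨hπ, hrel⟩ := hmono.symp g.2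
      have hd := fun s => hmono.ne_zero g.2 s
      refine ⟨⟨⟨π, (mem_centralizer_swapPerm_iff π).2 hπ⟩,
        fun i => Units.mk0 (d (Sum.inl i)) (hd _)⟩, ?_⟩
      apply Subtype.ext
      apply Subtype.ext
      ext a s
      change monoMat π (fun i => Units.mk0 (d (Sum.inl i)) (hd _)) a s = _
      rw [hmono a s, (monoMat_isMono π _) a s]
      congr 1
      rcases s with i | i
      · rfl
      · have e := hrel (Sum.inl i)
        have ee := eta_mul_self (F := F) (π (Sum.inl i))
        have hdi := hd (Sum.inl i)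
        simp only [Sum.swap_inl, eta_inl] at e
        simp only [monoCoeff, Units.val_mk0]
        field_simp
        linear_combination ((d (Sum.inl i) * d (Sum.inr i))) * ee - (eta F (π (Sum.inl i))) * e
  rw [← Nat.card_congr (Equiv.ofBijective f hf), Nat.card_prod, card_centralizer_swapPerm,
    Nat.card_fun, Nat.card_eq_fintype_card (α := Fˣ), Fintype.card_units, Nat.card_eq_fintype_card,
    Fintype.card_fin]

end Cfsg.Agent.Lib.Helper13
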