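import Mathlib
import Cfsg.Prelude.Def_ClassicalGeometry

set_option autoImplicit false

namespace Cfsg.Agent.Lib.Helper13

open Matrix

variable {ι : Type} [Fintype ι] [DecidableEq ι] {F : Type*}

theorem polarVec_dotProduct [CommRing F] (Q : QuadraticForm F (ι → F)) (v x : ι → F) :
    Cfsg.polarVec (⇑Q) v ⬝ᵥ x = QuadraticMap.polar (⇑Q) v x := by
  have hx : x = ∑ j, x j • (Pi.single j (1 : F) : ι → F) := by
    ext i
    simp [Finset.sum_apply, Pi.single_apply]
  conv_rhs => rw [hx]
  have hlin : QuadraticMap.polar (⇑Q) v (∑ j, x j • (Pi.single j (1 : F) : ι → F))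
      = ∑ j, x j * QuadraticMap.polar (⇑Q) v (Pi.single j (1 : F)) := by
    have := map_sum (QuadraticMap.polarBilin Q v) (fun j => x j • (Pi.single j (1 : F) : ι → F))
      Finset.univ
    simp only [QuadraticMap.polarBilin_apply_apply, map_smul, smul_eq_mul] at this
    simpa [QuadraticMap.polar_smul_right] using this
  rw [hlin]
  simp only [dotProduct, Cfsg.polarVec]
  apply Finset.sum_congr rfl
  intro j _
  ring

theorem reflectionMatrix_mulVec [Field F] (Q : QuadraticForm F (ι → F)) (v x : ι → F) :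
    Cfsg.reflectionMatrix (⇑Q) v *ᵥ x = x - ((Q v)⁻¹ * QuadraticMap.polar (⇑Q) v x) • v := by
  unfold Cfsg.reflectionMatrix
  rw [sub_mulVec, one_mulVec, smul_mulVec, vecMulVec_mulVec, polarVec_dotProduct]
  congr 1
  ext i
  simp [mul_comm, mul_left_comm]

theorem siegelMatrix_mulVec [CommRing F] (Q : QuadraticForm F (ι → F)) (u v : ι → F) (c : F)
    (x : ι → F) :
    Cfsg.siegelMatrix (⇑Q) u v c *ᵥ x
      = x + (c * QuadraticMap.polar (⇑Q) u x) • v - (c * QuadraticMap.polar (⇑Q) v x) • u := by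
  unfold Cfsg.siegelMatrix
  rw [add_mulVec, one_mulVec, smul_mulVec, sub_mulVec, vecMulVec_mulVec, vecMulVec_mulVec,
    polarVec_dotProduct, polarVec_dotProduct]
  ext i
  simp only [Pi.add_apply, Pi.sub_apply, Pi.smul_apply, MulOpposite.smul_eq_mul_unop,
    MulOpposite.unop_op, smul_eq_mul]
  ring

end Cfsg.Agent.Lib.Helper13

namespace Cfsg.Agent.Lib.Helper13

open Matrix

variable {ι : Type} [Fintype ι] [DecidableEq ι] {F : Type*}

theorem det_one_sub_vecMulVec [CommRing F] (a b : ι → F) :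
    (1 - vecMulVec a b).det = 1 - b ⬝ᵥ a := by
  rw [vecMulVec_eq Unit, det_one_sub_mul_comm, det_unique, Matrix.sub_apply, Matrix.one_apply_eq,
    Matrix.replicateRow_mul_replicateCol_apply]

theorem reflectionMatrix_det [Field F] (Q : QuadraticForm F (ι → F)) (v : ι → F) (hv : Q v ≠ 0) :
    (Cfsg.reflectionMatrix (⇑Q) v).det = -1 := by
  unfold Cfsg.reflectionMatrix
  rw [← smul_vecMulVec, det_one_sub_vecMulVec, dotProduct_smul, polarVec_dotProduct,
    QuadraticMap.polar_self, smul_eq_mul, nsmul_eq_mul]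
  field_simp
  ring

theorem reflectionMatrix_preserves [Field F] (Q : QuadraticForm F (ι → F)) (v : ι → F)
    (hv : Q v ≠ 0) (x : ι → F) : Q (Cfsg.reflectionMatrix (⇑Q) v *ᵥ x) = Q x := by
  rw [reflectionMatrix_mulVec, sub_eq_add_neg, ← neg_smul, QuadraticMap.map_add (⇑Q),
    QuadraticMap.map_smul, QuadraticMap.polar_smul_right, QuadraticMap.polar_comm (⇑Q) x v]
  simp only [smul_eq_mul]
  field_simp
  ring

theorem reflectionMatrix_mulVec_self [Field F] (Q : QuadraticForm F (ι → F)) (v : ι → F)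
    (hv : Q v ≠ 0) : Cfsg.reflectionMatrix (⇑Q) v *ᵥ v = -v := by
  rw [reflectionMatrix_mulVec, QuadraticMap.polar_self, nsmul_eq_mul]
  have : (Q v)⁻¹ * ((2 : ℕ) * Q v) = 2 := by
    field_simp
    norm_num
  rw [this, two_smul]
  abel

theorem reflectionMatrix_mulVec_of_polar_eq_zero [Field F] (Q : QuadraticForm F (ι → F))
    (v x : ι → F) (h : QuadraticMap.polar (⇑Q) v x = 0) :
    Cfsg.reflectionMatrix (⇑Q) v *ᵥ x = x := by
  rw [reflectionMatrix_mulVec, h]
  simp

end Cfsg.Agent.Lib.Helper13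

namespace Cfsg.Agent.Lib.Helper13

open Matrix

variable {ι : Type} [Fintype ι] [DecidableEq ι] {F : Type*}

theorem mem_isometryGroup_iff [Field F] (Q : (ι → F) → F) (g : Matrix.GeneralLinearGroup ι F) :
    g ∈ Cfsg.isometryGroup F Q ↔ ∀ x, Q ((g : Matrix ι ι F) *ᵥ x) = Q x := by
  constructor
  · intro h x
    exact h x 0
  · intro h x _
    exact h x

theorem polar_mulVec_of_preserves [CommRing F] (Q : QuadraticForm F (ι → F)) (A : Matrix ι ι F)
    (hA : ∀ x, Q (A *ᵥ x) = Q x) (x y : ι → F) :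
    QuadraticMap.polar (⇑Q) (A *ᵥ x) (A *ᵥ y) = QuadraticMap.polar (⇑Q) x y := by
  unfold QuadraticMap.polar
  rw [← mulVec_add, hA, hA, hA]

theorem transpose_mul_polarMatrix_mul [CommRing F] (Q : QuadraticForm F (ι → F))
    (A : Matrix ι ι F) (hA : ∀ x, Q (A *ᵥ x) = Q x) :
    Aᵀ * LinearMap.BilinForm.toMatrix' (QuadraticMap.polarBilin Q) * A
      = LinearMap.BilinForm.toMatrix' (QuadraticMap.polarBilin Q) := by
  have h := LinearMap.BilinForm.toMatrix'_comp (QuadraticMap.polarBilin Q)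
    (Matrix.toLin' A) (Matrix.toLin' A)
  rw [LinearMap.toMatrix'_toLin'] at h
  rw [← h]
  congr 1
  apply LinearMap.ext
  intro x
  apply LinearMap.ext
  intro y
  rw [LinearMap.BilinForm.comp_apply, Matrix.toLin'_apply, Matrix.toLin'_apply,
    QuadraticMap.polarBilin_apply_apply, QuadraticMap.polarBilin_apply_apply]
  exact polar_mulVec_of_preserves Q A hA _ _

theorem det_sq_eq_one_of_preserves [Field F] (Q : QuadraticForm F (ι → F))
    (hQ : (QuadraticMap.polarBilin Q).Nondegenerate)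
    (A : Matrix ι ι F) (hA : ∀ x, Q (A *ᵥ x) = Q x) : A.det * A.det = 1 := by
  have h := transpose_mul_polarMatrix_mul Q A hA
  have hdet : (LinearMap.BilinForm.toMatrix' (QuadraticMap.polarBilin Q)).det ≠ 0 := by
    rw [← Matrix.nondegenerate_iff_det_ne_zero]
    exact LinearMap.BilinForm.nondegenerate_toMatrix'_iff.mpr hQ
  have h2 := congrArg Matrix.det h
  rw [det_mul, det_mul, det_transpose] at h2
  have h3 : (A.det * A.det - 1) *
      (LinearMap.BilinForm.toMatrix' (QuadraticMap.polarBilin Q)).det = 0 := by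
    linear_combination h2
  rcases mul_eq_zero.mp h3 with h4 | h4
  · exact sub_eq_zero.mp h4
  · exact absurd h4 hdet

theorem det_eq_one_or_neg_one_of_preserves [Field F] (Q : QuadraticForm F (ι → F))
    (hQ : (QuadraticMap.polarBilin Q).Nondegenerate)
    (A : Matrix ι ι F) (hA : ∀ x, Q (A *ᵥ x) = Q x) : A.det = 1 ∨ A.det = -1 := by
  have h := det_sq_eq_one_of_preserves Q hQ A hA
  exact mul_self_eq_one_iff.mp h

/-- The reflection as an element of the general linear group. -/
noncomputable def reflectionGL [Field F] (Q : QuadraticForm F (ι → F)) (v : ι → F) (hv : Q v ≠ 0) :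
    Matrix.GeneralLinearGroup ι F :=
  Matrix.GeneralLinearGroup.mkOfDetNeZero (Cfsg.reflectionMatrix (⇑Q) v) (by
    rw [reflectionMatrix_det Q v hv]; exact neg_ne_zero.mpr one_ne_zero)

theorem coe_reflectionGL [Field F] (Q : QuadraticForm F (ι → F)) (v : ι → F) (hv : Q v ≠ 0) :
    ((reflectionGL Q v hv : Matrix.GeneralLinearGroup ι F) : Matrix ι ι F)
      = Cfsg.reflectionMatrix (⇑Q) v := rfl

theorem reflectionGL_mem [Field F] (Q : QuadraticForm F (ι → F)) (v : ι → F) (hv : Q v ≠ 0) :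
    reflectionGL Q v hv ∈ Cfsg.isometryGroup F (⇑Q) := by
  rw [mem_isometryGroup_iff]
  intro x
  rw [coe_reflectionGL]
  exact reflectionMatrix_preserves Q v hv x

end Cfsg.Agent.Lib.Helper13
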