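import Mathlib
import Cfsg.Prelude.Def_ClassicalGeometry
import Cfsg.Agent.Lib.Helper13.Symp

set_option autoImplicit false

namespace Cfsg.Agent.Lib.Helper13

open Matrix

variable {F : Type*} [Field F] (m : ℕ)

/-- The set of symplectic transvections, as elements of the symplectic group. -/
def sympTransvSet (F : Type*) [Field F] (m : ℕ) : Set (Matrix.symplecticGroup (Fin m) F) :=
  {A : Matrix.symplecticGroup (Fin m) F | ∃ (w : Fin m ⊕ Fin m → F) (c : F),
    (A : Matrix (Fin m ⊕ Fin m) (Fin m ⊕ Fin m) F) = Cfsg.sympTransvection m w c}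

/-- The subgroup generated by symplectic transvections. -/
def sympTransvSubgroup (F : Type*) [Field F] (m : ℕ) :
    Subgroup (Matrix.symplecticGroup (Fin m) F) :=
  Subgroup.closure (sympTransvSet F m)

/-- A symplectic transvection as an element of the symplectic group. -/
def sympTransvElt (w : Fin m ⊕ Fin m → F) (c : F) : Matrix.symplecticGroup (Fin m) F :=
  ⟨Cfsg.sympTransvection m w c, sympTransvection_mem m w c⟩

theorem sympTransvElt_mem (w : Fin m ⊕ Fin m → F) (c : F) :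
    sympTransvElt m w c ∈ sympTransvSubgroup F m :=
  Subgroup.subset_closure ⟨w, c, rfl⟩

theorem coe_sympTransvElt (w : Fin m ⊕ Fin m → F) (c : F) :
    ((sympTransvElt m w c : Matrix.symplecticGroup (Fin m) F) :
      Matrix (Fin m ⊕ Fin m) (Fin m ⊕ Fin m) F) = Cfsg.sympTransvection m w c := rfl

theorem exists_sympForm_ne_zero (u : Fin m ⊕ Fin m → F) (hu : u ≠ 0) :
    ∃ a : Fin m ⊕ Fin m → F, Cfsg.sympForm m F u a ≠ 0 := by
  obtain ⟨i, hi⟩ : ∃ i, u i ≠ 0 := by
    by_contra hcon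
    push Not at hcon
    exact hu (funext hcon)
  rcases i with i | i
  · refine ⟨Pi.single (Sum.inr i) 1, ?_⟩
    rw [sympForm_expand]
    simp only [Pi.single_apply, Sum.inr.injEq, reduceCtorEq, if_false, mul_zero, zero_sub]
    rw [Finset.sum_eq_single i]
    · simpa using hi
    · intro j _ hj
      simp [hj]
    · simp
  · refine ⟨Pi.single (Sum.inl i) 1, ?_⟩
    rw [sympForm_expand]
    simp only [Pi.single_apply, Sum.inl.injEq, reduceCtorEq, if_false, mul_zero, sub_zero]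
    rw [Finset.sum_eq_single i]
    · simpa using hi
    · intro j _ hj
      simp [hj]
    · simp

/-- One transvection moves `u` to `u'` when `f(u, u') ≠ 0`. -/
theorem exists_transv_of_sympForm_ne_zero (u u' : Fin m ⊕ Fin m → F)
    (h : Cfsg.sympForm m F u u' ≠ 0) :
    ∃ A ∈ sympTransvSubgroup F m,
      (A : Matrix (Fin m ⊕ Fin m) (Fin m ⊕ Fin m) F) *ᵥ u = u' := by
  refine ⟨sympTransvElt m (u - u') (Cfsg.sympForm m F u u')⁻¹, sympTransvElt_mem m _ _, ?_⟩
  rw [coe_sympTransvElt, sympTransvection_mulVec, sympForm_sub_right, sympForm_self, zero_sub,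
    mul_neg, inv_mul_cancel₀ h, neg_smul, one_smul]
  abel

/-- The transvection subgroup is transitive on non-zero vectors. -/
theorem exists_transv_of_ne_zero (u u' : Fin m ⊕ Fin m → F) (hu : u ≠ 0) (hu' : u' ≠ 0) :
    ∃ A ∈ sympTransvSubgroup F m,
      (A : Matrix (Fin m ⊕ Fin m) (Fin m ⊕ Fin m) F) *ᵥ u = u' := by
  by_cases h : Cfsg.sympForm m F u u' = 0
  · -- find w with f(u,w) ≠ 0 and f(w,u') ≠ 0
    obtain ⟨w, hw1, hw2⟩ : ∃ w, Cfsg.sympForm m F u w ≠ 0 ∧ Cfsg.sympForm m F w u' ≠ 0 := by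
      obtain ⟨a, ha⟩ := exists_sympForm_ne_zero m u hu
      obtain ⟨b, hb⟩ := exists_sympForm_ne_zero m u' hu'
      by_cases ha' : Cfsg.sympForm m F u' a = 0
      · by_cases hb' : Cfsg.sympForm m F u b = 0
        · refine ⟨a + b, ?_, ?_⟩
          · rw [sympForm_add_right, hb', add_zero]; exact ha
          · rw [sympForm_swap, sympForm_add_right, ha', zero_add]
            exact neg_ne_zero.mpr hb
        · refine ⟨b, hb', ?_⟩
          rw [sympForm_swap]; exact neg_ne_zero.mpr hb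
      · refine ⟨a, ha, ?_⟩
        rw [sympForm_swap]; exact neg_ne_zero.mpr ha'
    obtain ⟨A, hA, hAu⟩ := exists_transv_of_sympForm_ne_zero m u w hw1
    obtain ⟨B, hB, hBw⟩ := exists_transv_of_sympForm_ne_zero m w u' hw2
    refine ⟨B * A, Subgroup.mul_mem _ hB hA, ?_⟩
    rw [Submonoid.coe_mul, ← mulVec_mulVec, hAu, hBw]
  · exact exists_transv_of_sympForm_ne_zero m u u' h

/-- One transvection fixing `u` moves `v` to `v'` when `f(u,v) = f(u,v')` and `f(v, v') ≠ 0`. -/
theorem exists_transv_fix_of_ne_zero (u v v' : Fin m ⊕ Fin m → F)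
    (huv : Cfsg.sympForm m F u v = Cfsg.sympForm m F u v')
    (h : Cfsg.sympForm m F v v' ≠ 0) :
    ∃ A ∈ sympTransvSubgroup F m,
      (A : Matrix (Fin m ⊕ Fin m) (Fin m ⊕ Fin m) F) *ᵥ u = u ∧
      (A : Matrix (Fin m ⊕ Fin m) (Fin m ⊕ Fin m) F) *ᵥ v = v' := by
  refine ⟨sympTransvElt m (v - v') (Cfsg.sympForm m F v v')⁻¹, sympTransvElt_mem m _ _, ?_, ?_⟩
  · rw [coe_sympTransvElt, sympTransvection_mulVec, sympForm_sub_right, huv, sub_self, mul_zero,
      zero_smul, add_zero]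
  · rw [coe_sympTransvElt, sympTransvection_mulVec, sympForm_sub_right, sympForm_self, zero_sub,
      mul_neg, inv_mul_cancel₀ h, neg_smul, one_smul]
    abel

/-- The stabiliser of `u` in the transvection subgroup is transitive on hyperbolic partners. -/
theorem exists_transv_fix (u v v' : Fin m ⊕ Fin m → F)
    (huv : Cfsg.sympForm m F u v = 1) (huv' : Cfsg.sympForm m F u v' = 1) :
    ∃ A ∈ sympTransvSubgroup F m,
      (A : Matrix (Fin m ⊕ Fin m) (Fin m ⊕ Fin m) F) *ᵥ u = u ∧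
      (A : Matrix (Fin m ⊕ Fin m) (Fin m ⊕ Fin m) F) *ᵥ v = v' := by
  by_cases h : Cfsg.sympForm m F v v' = 0
  · have h1 : Cfsg.sympForm m F u (u + v) = 1 := by
      rw [sympForm_add_right, sympForm_self, zero_add, huv]
    have h2 : Cfsg.sympForm m F v (u + v) ≠ 0 := by
      rw [sympForm_add_right, sympForm_self, add_zero, sympForm_swap, huv]
      exact neg_ne_zero.mpr one_ne_zero
    have h3 : Cfsg.sympForm m F (u + v) v' ≠ 0 := by
      rw [sympForm_add_left, huv', h, add_zero]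
      exact one_ne_zero
    obtain ⟨A, hA, hAu, hAv⟩ := exists_transv_fix_of_ne_zero m u v (u + v) (by rw [huv, h1]) h2
    obtain ⟨B, hB, hBu, hBv⟩ := exists_transv_fix_of_ne_zero m u (u + v) v' (by rw [huv', h1]) h3
    refine ⟨B * A, Subgroup.mul_mem _ hB hA, ?_, ?_⟩
    · rw [Submonoid.coe_mul, ← mulVec_mulVec, hAu, hBu]
    · rw [Submonoid.coe_mul, ← mulVec_mulVec, hAv, hBv]
  · exact exists_transv_fix_of_ne_zero m u v v' (by rw [huv, huv']) h

theorem ne_zero_of_sympForm_eq_one_left (u v : Fin m ⊕ Fin m → F)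
    (h : Cfsg.sympForm m F u v = 1) : u ≠ 0 := by
  rintro rfl
  rw [sympForm_zero_left] at h
  exact zero_ne_one h

/-- The transvection subgroup is transitive on hyperbolic pairs. -/
theorem exists_transv_hyperbolic_pair (u v u' v' : Fin m ⊕ Fin m → F)
    (h : Cfsg.sympForm m F u v = 1) (h' : Cfsg.sympForm m F u' v' = 1) :
    ∃ A ∈ sympTransvSubgroup F m,
      (A : Matrix (Fin m ⊕ Fin m) (Fin m ⊕ Fin m) F) *ᵥ u = u' ∧
      (A : Matrix (Fin m ⊕ Fin m) (Fin m ⊕ Fin m) F) *ᵥ v = v' := by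
  obtain ⟨A, hA, hAu⟩ := exists_transv_of_ne_zero m u u'
    (ne_zero_of_sympForm_eq_one_left m u v h) (ne_zero_of_sympForm_eq_one_left m u' v' h')
  have h1 : Cfsg.sympForm m F u' ((A : Matrix (Fin m ⊕ Fin m) (Fin m ⊕ Fin m) F) *ᵥ v) = 1 := by
    rw [← hAu, preserves_of_mem_symplectic m _ A.2, h]
  obtain ⟨B, hB, hBu, hBv⟩ := exists_transv_fix m u' _ v' h1 h'
  refine ⟨B * A, Subgroup.mul_mem _ hB hA, ?_, ?_⟩
  · rw [Submonoid.coe_mul, ← mulVec_mulVec, hAu, hBu]
  · rw [Submonoid.coe_mul, ← mulVec_mulVec, hBv]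

end Cfsg.Agent.Lib.Helper13
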