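import Mathlib
import Cfsg.Prelude.Def_ClassicalGeometry
import Cfsg.Agent.Lib.Helper13.SympTrans

set_option autoImplicit false

namespace Cfsg.Agent.Lib.Helper13

open Matrix

variable {F : Type*} [Field F] (m : ℕ)

/-- The subgroup generated by symplectic transvections with direction in `W`. -/
def sympTransvSubgroupRel (W : Submodule F (Fin m ⊕ Fin m → F)) :
    Subgroup (Matrix.symplecticGroup (Fin m) F) :=
  Subgroup.closure {A : Matrix.symplecticGroup (Fin m) F | ∃ w ∈ W, ∃ c : F,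
    (A : Matrix (Fin m ⊕ Fin m) (Fin m ⊕ Fin m) F) = Cfsg.sympTransvection m w c}

theorem sympTransvSubgroupRel_le (W : Submodule F (Fin m ⊕ Fin m → F)) :
    sympTransvSubgroupRel m W ≤ sympTransvSubgroup F m := by
  apply Subgroup.closure_mono
  rintro A ⟨w, _, c, h⟩
  exact ⟨w, c, h⟩

theorem sympTransvElt_mem_rel (W : Submodule F (Fin m ⊕ Fin m → F))
    (w : Fin m ⊕ Fin m → F) (hw : w ∈ W) (c : F) :
    sympTransvElt m w c ∈ sympTransvSubgroupRel m W :=
  Subgroup.subset_closure ⟨w, hw, c, rfl⟩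

/-- Elements of the relative transvection subgroup fix vectors orthogonal to `W`. -/
theorem sympTransvSubgroupRel_fix (W : Submodule F (Fin m ⊕ Fin m → F))
    (x : Fin m ⊕ Fin m → F) (hx : ∀ w ∈ W, Cfsg.sympForm m F x w = 0)
    (A : Matrix.symplecticGroup (Fin m) F) (hA : A ∈ sympTransvSubgroupRel m W) :
    (A : Matrix (Fin m ⊕ Fin m) (Fin m ⊕ Fin m) F) *ᵥ x = x := by
  have key : A ∈ (MulAction.stabilizer (Matrix.symplecticGroup (Fin m) F) x :
      Subgroup (Matrix.symplecticGroup (Fin m) F)) ∨ True := Or.inr trivial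
  clear key
  unfold sympTransvSubgroupRel at hA
  induction hA using Subgroup.closure_induction with
  | mem B hB =>
    obtain ⟨w, hw, c, hBw⟩ := hB
    rw [hBw, sympTransvection_mulVec, hx w hw, mul_zero, zero_smul, add_zero]
  | one => simp
  | mul B C _ _ hB hC =>
    rw [Submonoid.coe_mul, ← mulVec_mulVec, hC, hB]
  | inv B _ hB =>
    have h1 : ((B⁻¹ * B : Matrix.symplecticGroup (Fin m) F) :
        Matrix (Fin m ⊕ Fin m) (Fin m ⊕ Fin m) F) *ᵥ x = x := by
      rw [inv_mul_cancel]; simp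
    rw [Submonoid.coe_mul, ← mulVec_mulVec, hB] at h1
    exact h1

/-- Elements of the relative transvection subgroup preserve `W`. -/
theorem sympTransvSubgroupRel_preserves_iff (W : Submodule F (Fin m ⊕ Fin m → F))
    (A : Matrix.symplecticGroup (Fin m) F) (hA : A ∈ sympTransvSubgroupRel m W) :
    ∀ x, (A : Matrix (Fin m ⊕ Fin m) (Fin m ⊕ Fin m) F) *ᵥ x ∈ W ↔ x ∈ W := by
  unfold sympTransvSubgroupRel at hA
  induction hA using Subgroup.closure_induction with
  | mem B hB =>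
    intro x
    obtain ⟨w, hw, c, hBw⟩ := hB
    rw [hBw, sympTransvection_mulVec]
    constructor
    · intro h
      have := W.sub_mem h (W.smul_mem (c * Cfsg.sympForm m F x w) hw)
      simpa using this
    · intro hx
      exact W.add_mem hx (W.smul_mem _ hw)
  | one => intro x; simp
  | mul B C _ _ hB hC =>
    intro x
    rw [Submonoid.coe_mul, ← mulVec_mulVec, hB, hC]
  | inv B _ hB =>
    intro x
    have h1 : ((B * B⁻¹ : Matrix.symplecticGroup (Fin m) F) :
        Matrix (Fin m ⊕ Fin m) (Fin m ⊕ Fin m) F) *ᵥ x = x := by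
      rw [mul_inv_cancel]; simp
    rw [Submonoid.coe_mul, ← mulVec_mulVec] at h1
    rw [← hB, h1]

theorem sympTransvSubgroupRel_preserves (W : Submodule F (Fin m ⊕ Fin m → F))
    (A : Matrix.symplecticGroup (Fin m) F) (hA : A ∈ sympTransvSubgroupRel m W) :
    ∀ x ∈ W, (A : Matrix (Fin m ⊕ Fin m) (Fin m ⊕ Fin m) F) *ᵥ x ∈ W :=
  fun x hx => (sympTransvSubgroupRel_preserves_iff m W A hA x).mpr hx

/-- Nondegeneracy of the form on a subspace. -/
def SympNondegOn (W : Submodule F (Fin m ⊕ Fin m → F)) : Prop :=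
  ∀ u ∈ W, u ≠ 0 → ∃ a ∈ W, Cfsg.sympForm m F u a ≠ 0

theorem exists_transvRel_of_sympForm_ne_zero (W : Submodule F (Fin m ⊕ Fin m → F))
    (u u' : Fin m ⊕ Fin m → F) (hu : u ∈ W) (hu' : u' ∈ W)
    (h : Cfsg.sympForm m F u u' ≠ 0) :
    ∃ A ∈ sympTransvSubgroupRel m W,
      (A : Matrix (Fin m ⊕ Fin m) (Fin m ⊕ Fin m) F) *ᵥ u = u' := by
  refine ⟨sympTransvElt m (u - u') (Cfsg.sympForm m F u u')⁻¹,
    sympTransvElt_mem_rel m W _ (W.sub_mem hu hu') _, ?_⟩
  rw [coe_sympTransvElt, sympTransvection_mulVec, sympForm_sub_right, sympForm_self, zero_sub,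
    mul_neg, inv_mul_cancel₀ h, neg_smul, one_smul]
  abel

theorem exists_transvRel_of_ne_zero (W : Submodule F (Fin m ⊕ Fin m → F))
    (hW : SympNondegOn m W)
    (u u' : Fin m ⊕ Fin m → F) (huW : u ∈ W) (hu'W : u' ∈ W) (hu : u ≠ 0) (hu' : u' ≠ 0) :
    ∃ A ∈ sympTransvSubgroupRel m W,
      (A : Matrix (Fin m ⊕ Fin m) (Fin m ⊕ Fin m) F) *ᵥ u = u' := by
  by_cases h : Cfsg.sympForm m F u u' = 0
  · obtain ⟨w, hwW, hw1, hw2⟩ : ∃ w ∈ W, Cfsg.sympForm m F u w ≠ 0 ∧
        Cfsg.sympForm m F w u' ≠ 0 := by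
      obtain ⟨a, haW, ha⟩ := hW u huW hu
      obtain ⟨b, hbW, hb⟩ := hW u' hu'W hu'
      by_cases ha' : Cfsg.sympForm m F u' a = 0
      · by_cases hb' : Cfsg.sympForm m F u b = 0
        · refine ⟨a + b, W.add_mem haW hbW, ?_, ?_⟩
          · rw [sympForm_add_right, hb', add_zero]; exact ha
          · rw [sympForm_swap, sympForm_add_right, ha', zero_add]
            exact neg_ne_zero.mpr hb
        · refine ⟨b, hbW, hb', ?_⟩
          rw [sympForm_swap]; exact neg_ne_zero.mpr hb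
      · refine ⟨a, haW, ha, ?_⟩
        rw [sympForm_swap]; exact neg_ne_zero.mpr ha'
    obtain ⟨A, hA, hAu⟩ := exists_transvRel_of_sympForm_ne_zero m W u w huW hwW hw1
    obtain ⟨B, hB, hBw⟩ := exists_transvRel_of_sympForm_ne_zero m W w u' hwW hu'W hw2
    refine ⟨B * A, Subgroup.mul_mem _ hB hA, ?_⟩
    rw [Submonoid.coe_mul, ← mulVec_mulVec, hAu, hBw]
  · exact exists_transvRel_of_sympForm_ne_zero m W u u' huW hu'W h

theorem exists_transvRel_fix_of_ne_zero (W : Submodule F (Fin m ⊕ Fin m → F))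
    (u v v' : Fin m ⊕ Fin m → F) (hvW : v ∈ W) (hv'W : v' ∈ W)
    (huv : Cfsg.sympForm m F u v = Cfsg.sympForm m F u v')
    (h : Cfsg.sympForm m F v v' ≠ 0) :
    ∃ A ∈ sympTransvSubgroupRel m W,
      (A : Matrix (Fin m ⊕ Fin m) (Fin m ⊕ Fin m) F) *ᵥ u = u ∧
      (A : Matrix (Fin m ⊕ Fin m) (Fin m ⊕ Fin m) F) *ᵥ v = v' := by
  refine ⟨sympTransvElt m (v - v') (Cfsg.sympForm m F v v')⁻¹,
    sympTransvElt_mem_rel m W _ (W.sub_mem hvW hv'W) _, ?_, ?_⟩
  · rw [coe_sympTransvElt, sympTransvection_mulVec, sympForm_sub_right, huv, sub_self, mul_zero,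
      zero_smul, add_zero]
  · rw [coe_sympTransvElt, sympTransvection_mulVec, sympForm_sub_right, sympForm_self, zero_sub,
      mul_neg, inv_mul_cancel₀ h, neg_smul, one_smul]
    abel

theorem exists_transvRel_fix (W : Submodule F (Fin m ⊕ Fin m → F))
    (u v v' : Fin m ⊕ Fin m → F) (huW : u ∈ W) (hvW : v ∈ W) (hv'W : v' ∈ W)
    (huv : Cfsg.sympForm m F u v = 1) (huv' : Cfsg.sympForm m F u v' = 1) :
    ∃ A ∈ sympTransvSubgroupRel m W,
      (A : Matrix (Fin m ⊕ Fin m) (Fin m ⊕ Fin m) F) *ᵥ u = u ∧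
      (A : Matrix (Fin m ⊕ Fin m) (Fin m ⊕ Fin m) F) *ᵥ v = v' := by
  by_cases h : Cfsg.sympForm m F v v' = 0
  · have h1 : Cfsg.sympForm m F u (u + v) = 1 := by
      rw [sympForm_add_right, sympForm_self, zero_add, huv]
    have h2 : Cfsg.sympForm m F v (u + v) ≠ 0 := by
      rw [sympForm_add_right, sympForm_self, add_zero, sympForm_swap, huv]
      exact neg_ne_zero.mpr one_ne_zero
    have h3 : Cfsg.sympForm m F (u + v) v' ≠ 0 := by
      rw [sympForm_add_left, huv', h, add_zero]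
      exact one_ne_zero
    obtain ⟨A, hA, hAu, hAv⟩ := exists_transvRel_fix_of_ne_zero m W u v (u + v) hvW
      (W.add_mem huW hvW) (by rw [huv, h1]) h2
    obtain ⟨B, hB, hBu, hBv⟩ := exists_transvRel_fix_of_ne_zero m W u (u + v) v'
      (W.add_mem huW hvW) hv'W (by rw [huv', h1]) h3
    refine ⟨B * A, Subgroup.mul_mem _ hB hA, ?_, ?_⟩
    · rw [Submonoid.coe_mul, ← mulVec_mulVec, hAu, hBu]
    · rw [Submonoid.coe_mul, ← mulVec_mulVec, hAv, hBv]
  · exact exists_transvRel_fix_of_ne_zero m W u v v' hvW hv'W (by rw [huv, huv']) h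

/-- The relative transvection subgroup is transitive on hyperbolic pairs in `W`. -/
theorem exists_transvRel_hyperbolic_pair (W : Submodule F (Fin m ⊕ Fin m → F))
    (hW : SympNondegOn m W)
    (u v u' v' : Fin m ⊕ Fin m → F) (huW : u ∈ W) (hvW : v ∈ W) (hu'W : u' ∈ W) (hv'W : v' ∈ W)
    (h : Cfsg.sympForm m F u v = 1) (h' : Cfsg.sympForm m F u' v' = 1) :
    ∃ A ∈ sympTransvSubgroupRel m W,
      (A : Matrix (Fin m ⊕ Fin m) (Fin m ⊕ Fin m) F) *ᵥ u = u' ∧
      (A : Matrix (Fin m ⊕ Fin m) (Fin m ⊕ Fin m) F) *ᵥ v = v' := by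
  obtain ⟨A, hA, hAu⟩ := exists_transvRel_of_ne_zero m W hW u u' huW hu'W
    (ne_zero_of_sympForm_eq_one_left m u v h) (ne_zero_of_sympForm_eq_one_left m u' v' h')
  have h1 : Cfsg.sympForm m F u' ((A : Matrix (Fin m ⊕ Fin m) (Fin m ⊕ Fin m) F) *ᵥ v) = 1 := by
    rw [← hAu, preserves_of_mem_symplectic m _ A.2, h]
  obtain ⟨B, hB, hBu, hBv⟩ := exists_transvRel_fix m W u' _ v' hu'W
    (sympTransvSubgroupRel_preserves m W A hA v hvW) hv'W h1 h'
  refine ⟨B * A, Subgroup.mul_mem _ hB hA, ?_, ?_⟩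
  · rw [Submonoid.coe_mul, ← mulVec_mulVec, hAu, hBu]
  · rw [Submonoid.coe_mul, ← mulVec_mulVec, hBv]

end Cfsg.Agent.Lib.Helper13
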