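import Mathlib
import Cfsg.Prelude.Def_ClassicalGeometry
import Cfsg.Agent.Lib.Helper13.SympGen

set_option autoImplicit false

namespace Cfsg.Agent.Lib.Helper13

open Matrix

variable {F : Type*} [Field F] (m : ℕ)

/-- The vectors vanishing on the first `k` hyperbolic pairs of coordinates. -/
def sympTail (F : Type*) [Field F] (m k : ℕ) : Submodule F (Fin m ⊕ Fin m → F) where
  carrier := {x | ∀ i : Fin m, (i : ℕ) < k → x (Sum.inl i) = 0 ∧ x (Sum.inr i) = 0}
  add_mem' := by
    intro a b ha hb i hi
    simp [(ha i hi).1, (ha i hi).2, (hb i hi).1, (hb i hi).2]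
  zero_mem' := by
    intro i _
    simp
  smul_mem' := by
    intro c a ha i hi
    simp [(ha i hi).1, (ha i hi).2]

theorem mem_sympTail (k : ℕ) (x : Fin m ⊕ Fin m → F) :
    x ∈ sympTail F m k ↔ ∀ i : Fin m, (i : ℕ) < k → x (Sum.inl i) = 0 ∧ x (Sum.inr i) = 0 :=
  Iff.rfl

theorem sympForm_single_inl_right (x : Fin m ⊕ Fin m → F) (i : Fin m) :
    Cfsg.sympForm m F x (Pi.single (Sum.inl i) 1) = x (Sum.inr i) := by
  rw [sympForm_expand]
  simp only [Pi.single_apply, Sum.inl.injEq, reduceCtorEq, if_false, mul_zero, sub_zero]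
  rw [Finset.sum_eq_single i]
  · simp
  · intro j _ hj
    simp [hj]
  · simp

theorem sympForm_single_inr_right (x : Fin m ⊕ Fin m → F) (i : Fin m) :
    Cfsg.sympForm m F x (Pi.single (Sum.inr i) 1) = - x (Sum.inl i) := by
  rw [sympForm_expand]
  simp only [Pi.single_apply, Sum.inr.injEq, reduceCtorEq, if_false, mul_zero, zero_sub]
  rw [Finset.sum_eq_single i]
  · simp
  · intro j _ hj
    simp [hj]
  · simp

theorem single_inl_mem_sympTail (k : ℕ) (j : Fin m) (hj : k ≤ (j : ℕ)) :
    (Pi.single (Sum.inl j) 1 : Fin m ⊕ Fin m → F) ∈ sympTail F m k := by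
  intro i hi
  have : i ≠ j := by
    rintro rfl
    omega
  simp [Pi.single_apply, this]

theorem single_inr_mem_sympTail (k : ℕ) (j : Fin m) (hj : k ≤ (j : ℕ)) :
    (Pi.single (Sum.inr j) 1 : Fin m ⊕ Fin m → F) ∈ sympTail F m k := by
  intro i hi
  have : i ≠ j := by
    rintro rfl
    omega
  simp [Pi.single_apply, this]

theorem sympNondegOn_sympTail (k : ℕ) : SympNondegOn m (sympTail F m k) := by
  intro u hu hu0
  obtain ⟨i, hi⟩ : ∃ i, u i ≠ 0 := by
    by_contra hcon
    push Not at hcon
    exact hu0 (funext hcon)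
  rcases i with i | i
  · have hik : k ≤ (i : ℕ) := by
      by_contra hlt
      push Not at hlt
      exact hi (hu i hlt).1
    refine ⟨Pi.single (Sum.inr i) 1, single_inr_mem_sympTail m k i hik, ?_⟩
    rw [sympForm_single_inr_right]
    exact neg_ne_zero.mpr hi
  · have hik : k ≤ (i : ℕ) := by
      by_contra hlt
      push Not at hlt
      exact hi (hu i hlt).2
    refine ⟨Pi.single (Sum.inl i) 1, single_inl_mem_sympTail m k i hik, ?_⟩
    rw [sympForm_single_inl_right]
    exact hi

theorem sympForm_single_inl_left_of_mem_sympTail (k : ℕ) (i : Fin m) (hi : (i : ℕ) < k)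
    (w : Fin m ⊕ Fin m → F) (hw : w ∈ sympTail F m k) :
    Cfsg.sympForm m F (Pi.single (Sum.inl i) 1) w = 0 := by
  rw [sympForm_swap, sympForm_single_inl_right, (hw i hi).2, neg_zero]

theorem sympForm_single_inr_left_of_mem_sympTail (k : ℕ) (i : Fin m) (hi : (i : ℕ) < k)
    (w : Fin m ⊕ Fin m → F) (hw : w ∈ sympTail F m k) :
    Cfsg.sympForm m F (Pi.single (Sum.inr i) 1) w = 0 := by
  rw [sympForm_swap, sympForm_single_inr_right, (hw i hi).1, neg_zero, neg_zero]

/-- Inductive step: any symplectic matrix can be multiplied by a product of transvections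
so as to fix the first `k` hyperbolic pairs of the standard basis. -/
theorem exists_transv_fix_first (k : ℕ) (A : Matrix.symplecticGroup (Fin m) F) :
    ∃ T ∈ sympTransvSubgroup F m, ∀ i : Fin m, (i : ℕ) < k →
      ((T * A : Matrix.symplecticGroup (Fin m) F) : Matrix (Fin m ⊕ Fin m) (Fin m ⊕ Fin m) F) *ᵥ
          (Pi.single (Sum.inl i) 1) = Pi.single (Sum.inl i) 1 ∧
      ((T * A : Matrix.symplecticGroup (Fin m) F) : Matrix (Fin m ⊕ Fin m) (Fin m ⊕ Fin m) F) *ᵥ
          (Pi.single (Sum.inr i) 1) = Pi.single (Sum.inr i) 1 := by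
  induction k with
  | zero =>
    exact ⟨1, Subgroup.one_mem _, fun i hi => absurd hi (Nat.not_lt_zero _)⟩
  | succ k ih =>
    obtain ⟨T₀, hT₀, hfix⟩ := ih
    by_cases hk : k < m
    · set j : Fin m := ⟨k, hk⟩ with hj
      set A' : Matrix.symplecticGroup (Fin m) F := T₀ * A with hA'
      set M : Matrix (Fin m ⊕ Fin m) (Fin m ⊕ Fin m) F :=
        (A' : Matrix (Fin m ⊕ Fin m) (Fin m ⊕ Fin m) F) with hM
      have hpres : ∀ x y, Cfsg.sympForm m F (M *ᵥ x) (M *ᵥ y) = Cfsg.sympForm m F x y :=
        preserves_of_mem_symplectic m M A'.2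
      have hmemW : ∀ x : Fin m ⊕ Fin m → F, x ∈ sympTail F m k → M *ᵥ x ∈ sympTail F m k := by
        intro x hx i hi
        constructor
        · have h1 := hpres x (Pi.single (Sum.inr i) 1)
          rw [(hfix i hi).2, sympForm_single_inr_right, sympForm_single_inr_right,
            (hx i hi).1] at h1
          simpa using h1
        · have h1 := hpres x (Pi.single (Sum.inl i) 1)
          rw [(hfix i hi).1, sympForm_single_inl_right, sympForm_single_inl_right,
            (hx i hi).2] at h1
          exact h1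
      have hu : M *ᵥ (Pi.single (Sum.inr j) 1) ∈ sympTail F m k :=
        hmemW _ (single_inr_mem_sympTail m k j (le_refl _))
      have hv : M *ᵥ (Pi.single (Sum.inl j) 1) ∈ sympTail F m k :=
        hmemW _ (single_inl_mem_sympTail m k j (le_refl _))
      have huv : Cfsg.sympForm m F (M *ᵥ (Pi.single (Sum.inr j) 1))
          (M *ᵥ (Pi.single (Sum.inl j) 1)) = 1 := by
        rw [hpres, sympForm_single_inl_right]
        simp
      have huv' : Cfsg.sympForm m F (Pi.single (Sum.inr j) 1 : Fin m ⊕ Fin m → F)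
          (Pi.single (Sum.inl j) 1) = 1 := by
        rw [sympForm_single_inl_right]
        simp
      obtain ⟨T₁, hT₁, hT₁u, hT₁v⟩ := exists_transvRel_hyperbolic_pair m (sympTail F m k)
        (sympNondegOn_sympTail m k) _ _ _ _ hu hv
        (single_inr_mem_sympTail m k j (le_refl _)) (single_inl_mem_sympTail m k j (le_refl _))
        huv huv'
      refine ⟨T₁ * T₀, Subgroup.mul_mem _ (sympTransvSubgroupRel_le m _ hT₁) hT₀, ?_⟩
      intro i hi
      have hcoe : ((T₁ * T₀ * A : Matrix.symplecticGroup (Fin m) F) :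
          Matrix (Fin m ⊕ Fin m) (Fin m ⊕ Fin m) F)
            = (T₁ : Matrix (Fin m ⊕ Fin m) (Fin m ⊕ Fin m) F) * M := by
        rw [mul_assoc, Submonoid.coe_mul]
      rw [hcoe, ← mulVec_mulVec, ← mulVec_mulVec]
      by_cases hik : (i : ℕ) < k
      · rw [(hfix i hik).1, (hfix i hik).2]
        constructor
        · exact sympTransvSubgroupRel_fix m _ _
            (sympForm_single_inl_left_of_mem_sympTail m k i hik) T₁ hT₁
        · exact sympTransvSubgroupRel_fix m _ _
            (sympForm_single_inr_left_of_mem_sympTail m k i hik) T₁ hT₁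
      · have hij : i = j := by
          apply Fin.ext
          simp only [hj]
          omega
        rw [hij]
        exact ⟨hT₁v, hT₁u⟩
    · refine ⟨T₀, hT₀, ?_⟩
      intro i _
      exact hfix i (by have := i.2; omega)

/-- The symplectic group is generated by symplectic transvections. -/
theorem sympTransvSubgroup_eq_top : sympTransvSubgroup F m = ⊤ := by
  rw [eq_top_iff]
  intro A _
  obtain ⟨T, hT, hfix⟩ := exists_transv_fix_first m m A
  have h1 : T * A = 1 := by
    apply Subtype.ext
    rw [Matrix.ext_iff_mulVec]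
    -- it suffices to check on basis vectors
    have hcols : ∀ j : Fin m ⊕ Fin m,
        ((T * A : Matrix.symplecticGroup (Fin m) F) :
          Matrix (Fin m ⊕ Fin m) (Fin m ⊕ Fin m) F) *ᵥ (Pi.single j 1) = Pi.single j 1 := by
      rintro (j | j)
      · exact (hfix j j.2).1
      · exact (hfix j j.2).2
    have hmat : ((T * A : Matrix.symplecticGroup (Fin m) F) :
        Matrix (Fin m ⊕ Fin m) (Fin m ⊕ Fin m) F) = 1 := by
      ext i j
      have := congrFun (hcols j) i
      rw [Matrix.mulVec_single_one] at this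
      rw [Matrix.one_apply]
      simpa [Pi.single_apply, Matrix.col_apply] using this
    intro v
    rw [hmat]
    rfl
  have h2 : A = T⁻¹ := eq_inv_of_mul_eq_one_right h1
  rw [h2]
  exact Subgroup.inv_mem _ hT

end Cfsg.Agent.Lib.Helper13
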