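import Mathlib
import Cfsg.Prelude.Def_ClassicalGeometry
import Cfsg.Agent.Lib.Helper13.SpWitt
import Cfsg.Agent.Lib.Helper5.SympCard

set_option autoImplicit false

namespace Cfsg.Agent.Lib.Helper13

open Matrix Module

variable {F : Type*} [Field F]

/-- Witt's lemma in matrix form: two linearly independent families with the same Gram matrix are
conjugate under the symplectic group. -/
theorem exists_sp_frame (m n : ℕ) (x y : Fin n → (Fin m ⊕ Fin m → F))
    (hx : LinearIndependent F x) (hy : LinearIndependent F y)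
    (hxy : ∀ i j, Cfsg.sympForm m F (y i) (y j) = Cfsg.sympForm m F (x i) (x j)) :
    ∃ Q : Matrix.symplecticGroup (Fin m) F,
      ∀ i, (Q : Matrix (Fin m ⊕ Fin m) (Fin m ⊕ Fin m) F) *ᵥ x i = y i := by
  classical
  obtain ⟨g, hgiso, hgxy⟩ := Cfsg.Agent.Lib.Helper8.witt_family (sympBilin F m)
    (sympBilin_nondegenerate m) (sympBilin_isAlt m) n x y hx hy (by
      intro i j
      rw [sympBilin_apply, sympBilin_apply, hxy])
  let Qm : Matrix (Fin m ⊕ Fin m) (Fin m ⊕ Fin m) F := LinearMap.toMatrix' g.toLinearMap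
  have hQv : ∀ v, Qm *ᵥ v = g v := by
    intro v
    simp only [Qm, LinearMap.toMatrix'_mulVec]
    rfl
  have hQmem : Qm ∈ Matrix.symplecticGroup (Fin m) F := by
    apply mem_symplectic_of_preserves
    intro u v
    rw [hQv, hQv, ← sympBilin_apply, ← sympBilin_apply, hgiso]
  exact ⟨⟨Qm, hQmem⟩, fun i => (hQv _).trans (hgxy i)⟩

/-- Orbit–stabiliser for a subgroup, in terms of `Nat.card` of explicit subtypes. -/
theorem card_subgroup_eq_orbit_mul_stab {G : Type*} [Group G] {X : Type*} [MulAction G X]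
    (H : Subgroup G) (x : X) :
    Nat.card H = Nat.card {y : X // ∃ h ∈ H, h • x = y} * Nat.card {h : G // h ∈ H ∧ h • x = x} := by
  have e := MulAction.orbitProdStabilizerEquivGroup H x
  rw [← Nat.card_congr e, Nat.card_prod]
  congr 1
  · apply Nat.card_congr
    refine Equiv.subtypeEquivRight ?_
    intro y
    constructor
    · rintro ⟨h, rfl⟩
      exact ⟨h.1, h.2, rfl⟩
    · rintro ⟨h, hh, rfl⟩
      exact ⟨⟨h, hh⟩, rfl⟩
  · apply Nat.card_congr
    exact
      { toFun := fun h => ⟨h.1.1, h.1.2, h.2⟩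
        invFun := fun h => ⟨⟨h.1, h.2.1⟩, h.2.2⟩
        left_inv := fun h => rfl
        right_inv := fun h => rfl }

/-- vectors vanishing on a set of coordinates -/
theorem card_vanish {ι : Type*} [Fintype ι] [DecidableEq ι] [Fintype F] (P : ι → Prop)
    [DecidablePred P] :
    Nat.card {v : ι → F // ∀ s, P s → v s = 0} = Fintype.card F ^ Fintype.card {s // ¬ P s} := by
  have e : {v : ι → F // ∀ s, P s → v s = 0} ≃ ({s // ¬ P s} → F) :=
    { toFun := fun v s => v.1 s.1
      invFun := fun w => ⟨fun s => if h : P s then 0 else w ⟨s, h⟩, fun s hs => by simp only [dif_pos hs]⟩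
      left_inv := by
        rintro ⟨v, hv⟩
        apply Subtype.ext
        ext s
        by_cases h : P s
        · simp only [dif_pos h]
          exact (hv s h).symm
        · simp only [dif_neg h]
      right_inv := by
        intro w
        ext ⟨s, hs⟩
        simp only [dif_neg hs] }
  rw [Nat.card_congr e, Nat.card_eq_fintype_card, Fintype.card_fun]

theorem card_inl_lt (m j : ℕ) (hj : j ≤ m) :
    Fintype.card {s : Fin m ⊕ Fin m // ∃ i : Fin m, (i : ℕ) < j ∧ s = Sum.inl i} = j := by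
  have e : Fin j ≃ {s : Fin m ⊕ Fin m // ∃ i : Fin m, (i : ℕ) < j ∧ s = Sum.inl i} :=
    { toFun := fun i => ⟨Sum.inl ⟨i, by omega⟩, ⟨⟨i, by omega⟩, i.2, rfl⟩⟩
      invFun := fun s => ⟨(Classical.choose s.2 : Fin m), (Classical.choose_spec s.2).1⟩
      left_inv := by
        intro i
        apply Fin.ext
        have h := (Classical.choose_spec (⟨⟨i, by omega⟩, i.2, rfl⟩ :
          ∃ i' : Fin m, (i' : ℕ) < j ∧ (Sum.inl ⟨i, by omega⟩ : Fin m ⊕ Fin m) = Sum.inl i')).2
        have h2 := Sum.inl.inj h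
        simp only
        rw [← h2]
      right_inv := by
        rintro ⟨s, hs⟩
        apply Subtype.ext
        simp only
        exact (Classical.choose_spec hs).2.symm }
  rw [← Fintype.card_congr e, Fintype.card_fin]

theorem card_inr_lt (m j : ℕ) (hj : j ≤ m) :
    Fintype.card {s : Fin m ⊕ Fin m // ∃ i : Fin m, (i : ℕ) < j ∧ s = Sum.inr i} = j := by
  have e : {s : Fin m ⊕ Fin m // ∃ i : Fin m, (i : ℕ) < j ∧ s = Sum.inl i} ≃
      {s : Fin m ⊕ Fin m // ∃ i : Fin m, (i : ℕ) < j ∧ s = Sum.inr i} :=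
    Equiv.subtypeEquiv (Equiv.sumComm _ _) (by
      rintro (s | s)
      · simp
      · simp)
  rw [← Fintype.card_congr e, card_inl_lt m j hj]

/-- the span of the first `j` basis vectors `e_(inl i)`, in coordinates -/
def firstSub (F : Type*) [Field F] (m j : ℕ) : Submodule F (Fin m ⊕ Fin m → F) where
  carrier := {v | ∀ s : Fin m ⊕ Fin m, (¬ ∃ i : Fin m, (i : ℕ) < j ∧ s = Sum.inl i) → v s = 0}
  add_mem' := by
    intro a b ha hb s hs
    simp [ha s hs, hb s hs]
  zero_mem' := fun _ _ => rfl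
  smul_mem' := by
    intro c a ha s hs
    simp [ha s hs]

theorem single_inl_mem_firstSub (m j : ℕ) (i : Fin m) (hi : (i : ℕ) < j) :
    (Pi.single (Sum.inl i) 1 : Fin m ⊕ Fin m → F) ∈ firstSub F m j := by
  intro s hs
  rw [Pi.single_apply, if_neg]
  rintro rfl
  exact hs ⟨i, hi, rfl⟩

theorem single_inl_not_mem_firstSub (m j : ℕ) (i : Fin m) (hi : j ≤ (i : ℕ)) :
    (Pi.single (Sum.inl i) 1 : Fin m ⊕ Fin m → F) ∉ firstSub F m j := by
  intro h
  have := h (Sum.inl i) (by
    rintro ⟨i', hi', h'⟩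
    have := Sum.inl.inj h'
    rw [this] at hi
    omega)
  simp at this

/-- the subgroup of `Sp` fixing the first `j` basis vectors -/
def fixFirst (F : Type*) [Field F] (m j : ℕ) : Subgroup (Matrix.symplecticGroup (Fin m) F) where
  carrier := {g | ∀ i : Fin m, (i : ℕ) < j →
    (g : Matrix (Fin m ⊕ Fin m) (Fin m ⊕ Fin m) F) *ᵥ Pi.single (Sum.inl i) 1
      = Pi.single (Sum.inl i) 1}
  mul_mem' := by
    intro a b ha hb i hi
    change ((a : Matrix (Fin m ⊕ Fin m) (Fin m ⊕ Fin m) F) * (b : Matrix _ _ F)) *ᵥ _ = _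
    rw [← Matrix.mulVec_mulVec, hb i hi, ha i hi]
  one_mem' := by
    intro i _
    change (1 : Matrix (Fin m ⊕ Fin m) (Fin m ⊕ Fin m) F) *ᵥ _ = _
    rw [Matrix.one_mulVec]
  inv_mem' := by
    intro a ha i hi
    have h1 : ((a⁻¹ : Matrix.symplecticGroup (Fin m) F) : Matrix (Fin m ⊕ Fin m) (Fin m ⊕ Fin m) F)
        * (a : Matrix (Fin m ⊕ Fin m) (Fin m ⊕ Fin m) F) = 1 :=
      congrArg Subtype.val (inv_mul_cancel a)
    have h2 := congrArg (fun z => ((a⁻¹ : Matrix.symplecticGroup (Fin m) F) :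
      Matrix (Fin m ⊕ Fin m) (Fin m ⊕ Fin m) F) *ᵥ z) (ha i hi)
    simp only [Matrix.mulVec_mulVec, h1, Matrix.one_mulVec] at h2
    exact h2.symm

theorem mem_fixFirst (m j : ℕ) (g : Matrix.symplecticGroup (Fin m) F) :
    g ∈ fixFirst F m j ↔ ∀ i : Fin m, (i : ℕ) < j →
      (g : Matrix (Fin m ⊕ Fin m) (Fin m ⊕ Fin m) F) *ᵥ Pi.single (Sum.inl i) 1
        = Pi.single (Sum.inl i) 1 := Iff.rfl

theorem fixFirst_fix_firstSub (m j : ℕ) (g : Matrix.symplecticGroup (Fin m) F)
    (hg : g ∈ fixFirst F m j) (v : Fin m ⊕ Fin m → F) (hv : v ∈ firstSub F m j) :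
    (g : Matrix (Fin m ⊕ Fin m) (Fin m ⊕ Fin m) F) *ᵥ v = v := by
  classical
  have hsum : v = ∑ s, v s • (Pi.single s 1 : Fin m ⊕ Fin m → F) := by
    ext t
    simp [Finset.sum_apply, Pi.single_apply]
  conv_lhs => rw [hsum]
  rw [Matrix.mulVec_sum]
  conv_rhs => rw [hsum]
  apply Finset.sum_congr rfl
  intro s _
  rw [Matrix.mulVec_smul]
  by_cases hs : ∃ i : Fin m, (i : ℕ) < j ∧ s = Sum.inl i
  · obtain ⟨i, hi, rfl⟩ := hs
    rw [hg i hi]
  · rw [hv s hs, zero_smul, zero_smul]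

theorem sympForm_single_inl_left (m : ℕ) (i : Fin m) (v : Fin m ⊕ Fin m → F) :
    Cfsg.sympForm m F (Pi.single (Sum.inl i) 1) v = - v (Sum.inr i) := by
  classical
  rw [sympForm_expand]
  rw [Finset.sum_eq_single i]
  · simp
  · intro b _ hb
    have h1 : (Sum.inl b : Fin m ⊕ Fin m) ≠ Sum.inl i := fun h => hb (Sum.inl.inj h)
    simp [h1]
  · intro h; exact absurd (Finset.mem_univ i) h

theorem J_inl_inl (m : ℕ) (i i' : Fin m) : Matrix.J (Fin m) F (Sum.inl i) (Sum.inl i') = 0 := by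
  simp [Matrix.J]

theorem linearIndependent_single_inl (m j : ℕ) (hj : j ≤ m) :
    LinearIndependent F (fun i : Fin j =>
      (Pi.single (Sum.inl (Fin.castLE hj i)) 1 : Fin m ⊕ Fin m → F)) := by
  classical
  have h1 := (Pi.basisFun F (Fin m ⊕ Fin m)).linearIndependent
  have hinj : Function.Injective (fun i : Fin j => (Sum.inl (Fin.castLE hj i) : Fin m ⊕ Fin m)) := by
    intro a b hab
    exact Fin.castLE_injective hj (Sum.inl.inj hab)
  have h2 := h1.comp _ hinj
  convert h2 using 1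
  ext i p
  simp [Pi.basisFun_apply]

theorem span_single_inl_le (m j : ℕ) (hj : j ≤ m) :
    Submodule.span F (Set.range (fun i : Fin j =>
      (Pi.single (Sum.inl (Fin.castLE hj i)) 1 : Fin m ⊕ Fin m → F))) ≤ firstSub F m j := by
  rw [Submodule.span_le]
  rintro _ ⟨i, rfl⟩
  exact single_inl_mem_firstSub m j _ (by simp)

/-- The orbit of `e_j` under the group fixing `e_0, …, e_(j-1)`. -/
theorem orbit_fixFirst (m j : ℕ) (hj : j < m) (y : Fin m ⊕ Fin m → F) :
    (∃ h ∈ fixFirst F m j, h • (Pi.single (Sum.inl (⟨j, hj⟩ : Fin m)) 1 : Fin m ⊕ Fin m → F) = y) ↔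
      (∀ s : Fin m ⊕ Fin m, (∃ i : Fin m, (i : ℕ) < j ∧ s = Sum.inr i) → y s = 0) ∧
        y ∉ firstSub F m j := by
  classical
  constructor
  · rintro ⟨h, hh, rfl⟩
    change (∀ s : Fin m ⊕ Fin m, (∃ i : Fin m, (i : ℕ) < j ∧ s = Sum.inr i) →
      ((h : Matrix (Fin m ⊕ Fin m) (Fin m ⊕ Fin m) F) *ᵥ _) s = 0) ∧
      (h : Matrix (Fin m ⊕ Fin m) (Fin m ⊕ Fin m) F) *ᵥ _ ∉ firstSub F m j
    constructor
    · rintro s ⟨i, hi, rfl⟩
      have h1 := sympForm_single_inl_left m i
        ((h : Matrix (Fin m ⊕ Fin m) (Fin m ⊕ Fin m) F) *ᵥ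
          (Pi.single (Sum.inl (⟨j, hj⟩ : Fin m)) 1 : Fin m ⊕ Fin m → F))
      have h2 : Cfsg.sympForm m F (Pi.single (Sum.inl i) 1)
          ((h : Matrix (Fin m ⊕ Fin m) (Fin m ⊕ Fin m) F) *ᵥ
            (Pi.single (Sum.inl (⟨j, hj⟩ : Fin m)) 1 : Fin m ⊕ Fin m → F)) = 0 := by
        conv_lhs => rw [← hh i hi]
        rw [preserves_of_mem_symplectic m _ h.2, sympForm_single_single, J_inl_inl]
      rw [h2] at h1
      exact neg_eq_zero.mp h1.symm
    · intro hmem
      have hinv := fixFirst_fix_firstSub m j h⁻¹ ((fixFirst F m j).inv_mem hh) _ hmem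
      rw [Matrix.mulVec_mulVec] at hinv
      have h1 : ((h⁻¹ : Matrix.symplecticGroup (Fin m) F) : Matrix (Fin m ⊕ Fin m) (Fin m ⊕ Fin m) F)
          * (h : Matrix (Fin m ⊕ Fin m) (Fin m ⊕ Fin m) F) = 1 :=
        congrArg Subtype.val (inv_mul_cancel h)
      rw [h1, Matrix.one_mulVec] at hinv
      rw [← hinv] at hmem
      exact single_inl_not_mem_firstSub m j ⟨j, hj⟩ le_rfl hmem
  · rintro ⟨hy1, hy2⟩
    let base : Fin j → (Fin m ⊕ Fin m → F) :=
      fun i => (Pi.single (Sum.inl (Fin.castLE hj.le i)) 1 : Fin m ⊕ Fin m → F)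
    let x : Fin (j + 1) → (Fin m ⊕ Fin m → F) :=
      Fin.cons (Pi.single (Sum.inl (⟨j, hj⟩ : Fin m)) 1) base
    let y' : Fin (j + 1) → (Fin m ⊕ Fin m → F) := Fin.cons y base
    have hbase := linearIndependent_single_inl (F := F) m j hj.le
    have hx : LinearIndependent F x := by
      rw [linearIndependent_finCons]
      refine ⟨hbase, fun hmem => ?_⟩
      exact single_inl_not_mem_firstSub m j ⟨j, hj⟩ le_rfl (span_single_inl_le m j hj.le hmem)
    have hy' : LinearIndependent F y' := by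
      rw [linearIndependent_finCons]
      exact ⟨hbase, fun hmem => hy2 (span_single_inl_le m j hj.le hmem)⟩
    have hyb : ∀ i : Fin j, Cfsg.sympForm m F (base i) y = 0 := by
      intro i
      rw [sympForm_single_inl_left, hy1 _ ⟨_, by simp, rfl⟩, neg_zero]
    have heb : ∀ i : Fin j, Cfsg.sympForm m F (base i)
        (Pi.single (Sum.inl (⟨j, hj⟩ : Fin m)) 1) = 0 := by
      intro i
      rw [sympForm_single_single, J_inl_inl]
    have hgram : ∀ a b, Cfsg.sympForm m F (y' a) (y' b) = Cfsg.sympForm m F (x a) (x b) := by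
      intro a b
      refine Fin.cases ?_ (fun a' => ?_) a <;> refine Fin.cases ?_ (fun b' => ?_) b
      · simp only [x, y', Fin.cons_zero]
        rw [sympForm_self, sympForm_self]
      · simp only [x, y', Fin.cons_zero, Fin.cons_succ]
        rw [sympForm_swap, hyb, sympForm_swap _ (Pi.single _ 1), heb]
      · simp only [x, y', Fin.cons_zero, Fin.cons_succ]
        rw [hyb, heb]
      · simp only [x, y', Fin.cons_succ]
    obtain ⟨Q, hQ⟩ := exists_sp_frame m (j + 1) x y' hx hy' hgram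
    refine ⟨Q, ?_, ?_⟩
    · intro i hi
      have := hQ (Fin.succ ⟨i, hi⟩)
      simp only [x, y', Fin.cons_succ, base] at this
      exact this
    · have := hQ 0
      simp only [x, y', Fin.cons_zero] at this
      exact this

section Card

variable [Fintype F]

theorem card_orbit_fixFirst (m j : ℕ) (hj : j < m) :
    Nat.card {y : Fin m ⊕ Fin m → F // (∀ s : Fin m ⊕ Fin m,
      (∃ i : Fin m, (i : ℕ) < j ∧ s = Sum.inr i) → y s = 0) ∧ y ∉ firstSub F m j}
      = Fintype.card F ^ (2 * m - j) - Fintype.card F ^ j := by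
  classical
  let SA : Set (Fin m ⊕ Fin m → F) :=
    {y | ∀ s : Fin m ⊕ Fin m, (∃ i : Fin m, (i : ℕ) < j ∧ s = Sum.inr i) → y s = 0}
  let SB : Set (Fin m ⊕ Fin m → F) := (firstSub F m j : Set (Fin m ⊕ Fin m → F))
  have hsub : SB ⊆ SA := by
    rintro v hv s ⟨i, _, rfl⟩
    apply hv
    rintro ⟨i', _, h'⟩
    exact Sum.inr_ne_inl h'
  have h1 : Nat.card {y : Fin m ⊕ Fin m → F // (∀ s : Fin m ⊕ Fin m,
      (∃ i : Fin m, (i : ℕ) < j ∧ s = Sum.inr i) → y s = 0) ∧ y ∉ firstSub F m j}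
      = (SA \ SB).ncard := by
    rw [← Nat.card_coe_set_eq]
    rfl
  rw [h1, Set.ncard_sdiff hsub (Set.toFinite SB)]
  have hA : SA.ncard = Fintype.card F ^ (2 * m - j) := by
    rw [← Nat.card_coe_set_eq]
    change Nat.card {y : Fin m ⊕ Fin m → F // ∀ s : Fin m ⊕ Fin m,
      (∃ i : Fin m, (i : ℕ) < j ∧ s = Sum.inr i) → y s = 0} = _
    rw [card_vanish, Fintype.card_subtype_compl, card_inr_lt m j hj.le, Fintype.card_sum,
      Fintype.card_fin]
    congr 1
    omega
  have hB : SB.ncard = Fintype.card F ^ j := by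
    rw [← Nat.card_coe_set_eq]
    change Nat.card {y : Fin m ⊕ Fin m → F // ∀ s : Fin m ⊕ Fin m,
      (¬ ∃ i : Fin m, (i : ℕ) < j ∧ s = Sum.inl i) → y s = 0} = _
    rw [card_vanish]
    congr 1
    exact (Fintype.card_congr (Equiv.subtypeEquivRight (fun _ => not_not))).trans
      (card_inl_lt m j hj.le)
  rw [hA, hB]

theorem card_fixFirst_succ (m j : ℕ) (hj : j < m) :
    Nat.card (fixFirst F m j)
      = (Fintype.card F ^ (2 * m - j) - Fintype.card F ^ j) * Nat.card (fixFirst F m (j + 1)) := by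
  classical
  rw [card_subgroup_eq_orbit_mul_stab (fixFirst F m j)
    (Pi.single (Sum.inl (⟨j, hj⟩ : Fin m)) 1 : Fin m ⊕ Fin m → F)]
  congr 1
  · rw [← card_orbit_fixFirst m j hj]
    apply Nat.card_congr
    exact Equiv.subtypeEquivRight (fun y => orbit_fixFirst m j hj y)
  · apply Nat.card_congr
    refine Equiv.subtypeEquivRight ?_
    intro h
    constructor
    · rintro ⟨h1, h2⟩ i hi
      by_cases hij : (i : ℕ) < j
      · exact h1 i hij
      · have : i = ⟨j, hj⟩ := Fin.ext (by simp only; omega)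
        rw [this]
        exact h2
    · intro h1
      exact ⟨fun i hi => h1 i (by omega), h1 ⟨j, hj⟩ (by simp)⟩

end Card

section Card2

variable [Fintype F]

theorem fixFirst_zero (m : ℕ) : fixFirst F m 0 = ⊤ := by
  rw [eq_top_iff]
  intro g _ i hi
  exact absurd hi (Nat.not_lt_zero _)

theorem card_fixFirst (m j : ℕ) (hj : j ≤ m) :
    Nat.card (fixFirst F m j) = Fintype.card F ^ (j * (j + 1) / 2 + 2 * j * (m - j)) *
      (Fintype.card F ^ ((m - j) ^ 2) *
        ∏ i ∈ Finset.range (m - j), (Fintype.card F ^ (2 * (i + 1)) - 1)) := by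
  induction j with
  | zero =>
    rw [fixFirst_zero, Subgroup.card_top, Cfsg.Agent.Lib.Helper5.card_symplecticGroup_fin]
    simp
  | succ j ih =>
    have hjm : j < m := hj
    have h := card_fixFirst_succ (F := F) m j hjm
    rw [ih hjm.le] at h
    obtain ⟨r, hr⟩ : ∃ r, m = j + 1 + r := ⟨m - (j + 1), by omega⟩
    have e1 : m - j = r + 1 := by omega
    have e2 : m - (j + 1) = r := by omega
    have e3 : 2 * m - j = j + 2 * (r + 1) := by omega
    rw [e1, e3] at h
    rw [e2]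
    obtain ⟨q, hq⟩ : ∃ q, q = Fintype.card F := ⟨_, rfl⟩
    rw [← hq] at h ⊢
    have hq2 : 2 ≤ q := by rw [hq]; exact Fintype.one_lt_card
    have hT : (j + 1) * (j + 1 + 1) / 2 = j * (j + 1) / 2 + (j + 1) := by
      have : (j + 1) * (j + 1 + 1) = j * (j + 1) + 2 * (j + 1) := by ring
      rw [this, Nat.add_mul_div_left _ _ two_pos]
    have hc : q ^ (j + 2 * (r + 1)) - q ^ j = q ^ j * (q ^ (2 * (r + 1)) - 1) := by
      rw [Nat.mul_sub, mul_one, ← pow_add]
    have hcpos : 0 < q ^ j * (q ^ (2 * (r + 1)) - 1) := by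
      apply Nat.mul_pos (pow_pos (by omega) _)
      have : 1 < q ^ (2 * (r + 1)) := Nat.one_lt_pow (by omega) (by omega)
      omega
    rw [hc, Finset.prod_range_succ] at h
    apply Nat.eq_of_mul_eq_mul_left hcpos
    rw [← h, hT]
    have hexp : j * (j + 1) / 2 + 2 * j * (r + 1) + (r + 1) ^ 2
        = j + (j * (j + 1) / 2 + (j + 1) + 2 * (j + 1) * r + r ^ 2) := by ring
    calc q ^ (j * (j + 1) / 2 + 2 * j * (r + 1)) *
          (q ^ ((r + 1) ^ 2) * ((∏ i ∈ Finset.range r, (q ^ (2 * (i + 1)) - 1)) *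
            (q ^ (2 * (r + 1)) - 1)))
        = q ^ (j * (j + 1) / 2 + 2 * j * (r + 1) + (r + 1) ^ 2) *
          ((∏ i ∈ Finset.range r, (q ^ (2 * (i + 1)) - 1)) * (q ^ (2 * (r + 1)) - 1)) := by
          rw [pow_add _ (j * (j + 1) / 2 + 2 * j * (r + 1))]; ring
      _ = q ^ (j + (j * (j + 1) / 2 + (j + 1) + 2 * (j + 1) * r + r ^ 2)) *
          ((∏ i ∈ Finset.range r, (q ^ (2 * (i + 1)) - 1)) * (q ^ (2 * (r + 1)) - 1)) := by
          rw [hexp]
      _ = q ^ j * (q ^ (2 * (r + 1)) - 1) *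
          (q ^ (j * (j + 1) / 2 + (j + 1) + 2 * (j + 1) * r) *
            (q ^ (r ^ 2) * ∏ i ∈ Finset.range r, (q ^ (2 * (i + 1)) - 1))) := by
          rw [pow_add q j, pow_add q (j * (j + 1) / 2 + (j + 1) + 2 * (j + 1) * r)]; ring

end Card2

end Cfsg.Agent.Lib.Helper13
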