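import Mathlib
import Cfsg.Agent.Lib.Helper13.UnitaryConfig
import Cfsg.Agent.Lib.Helper5.UnitaryCard
import Cfsg.Agent.Lib.Helper13.SpParabolic

set_option autoImplicit false

namespace Cfsg.Agent.Lib.Helper13

open Matrix Cfsg.Agent.Lib.Helper99

section uparab1

variable {F : Type*} [Field F] [Fintype F] {q n : ℕ}

local notation "hh" => Cfsg.hermForm n F q

theorem hermForm_sum_left (hF : Fintype.card F = q ^ 2) {I : Type*} (s : Finset I) (c : I → F)
    (b : I → (Fin n → F)) (y : Fin n → F) :
    hh (∑ i ∈ s, c i • b i) y = ∑ i ∈ s, c i * hh (b i) y := by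
  have h1 : ∀ x : Fin n → F, hh x y = hermB hF n y x := fun x => (hermB_apply hF y x).symm
  rw [h1, map_sum]
  apply Finset.sum_congr rfl
  intro i _
  rw [map_smul, smul_eq_mul, ← h1]

/-- the number of solutions of `l + l^q = c` for `c` in the fixed field -/
theorem card_trace_fiber (hF : Fintype.card F = q ^ 2) (c : F) (hc : c ^ q = c) :
    Nat.card {l : F // l + l ^ q = c} = q := by
  classical
  have hq2 := q_ge_two hF
  obtain ⟨τ, hτ0, hτ⟩ := exists_trace_zero hF
  have hτq : τ ^ q = -τ := eq_neg_of_add_eq_zero_right hτ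
  -- all fibres over the fixed field have the size of the kernel
  have hfib : ∀ c : F, c ^ q = c →
      Nat.card {l : F // l + l ^ q = c} = Nat.card {l : F // l + l ^ q = 0} := by
    intro c hc
    obtain ⟨l₀, hl₀⟩ := exists_trace_eq' hF c hc
    apply Nat.card_congr
    refine
      { toFun := fun l => ⟨l.1 - l₀, ?_⟩
        invFun := fun l => ⟨l.1 + l₀, ?_⟩
        left_inv := fun l => Subtype.ext (by simp)
        right_inv := fun l => Subtype.ext (by simp) }
    · rw [frob_sub hF]
      have := l.2
      linear_combination this - hl₀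
    · rw [frob_add hF]
      have := l.2
      linear_combination this + hl₀
  -- the kernel is in bijection with the fixed field
  have hker : Nat.card {l : F // l + l ^ q = 0} = Nat.card {c : F // c ^ q = c} := by
    apply Nat.card_congr
    refine
      { toFun := fun l => ⟨l.1 / τ, ?_⟩
        invFun := fun c => ⟨c.1 * τ, ?_⟩
        left_inv := fun l => Subtype.ext (by simp [hτ0])
        right_inv := fun c => Subtype.ext (by simp [hτ0]) }
    · have h1 : l.1 ^ q = -l.1 := eq_neg_of_add_eq_zero_right l.2
      rw [div_pow, h1, hτq, neg_div_neg_eq]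
    · rw [mul_pow, c.2, hτq]
      ring
  -- count `F` through the trace
  have htot : Nat.card F = Nat.card {c : F // c ^ q = c} * Nat.card {l : F // l + l ^ q = 0} := by
    have e : F ≃ Σ c : {c : F // c ^ q = c}, {l : F // l + l ^ q = c.1} :=
      { toFun := fun l => ⟨⟨l + l ^ q, by rw [frob_add hF, pow_q_pow_q hF]; ring⟩, ⟨l, rfl⟩⟩
        invFun := fun x => x.2.1
        left_inv := fun l => rfl
        right_inv := fun x => by
          obtain ⟨⟨c, hc⟩, ⟨l, hl⟩⟩ := x
          have hl' : l + l ^ q = c := hl
          subst hl'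
          rfl }
    rw [Nat.card_congr e, Nat.card_sigma]
    rw [Finset.sum_congr rfl (fun c _ => hfib c.1 c.2)]
    rw [Finset.sum_const, Finset.card_univ, smul_eq_mul]
    simp only [Nat.card_eq_fintype_card]
  rw [hfib c hc]
  rw [← hker, Nat.card_eq_fintype_card, hF] at htot
  have : (Nat.card {l : F // l + l ^ q = 0}) ^ 2 = q ^ 2 := by rw [sq, ← htot]
  exact (Nat.pow_left_injective (by norm_num : (2 : ℕ) ≠ 0)) this

/-- an affine subspace cut out by linear conditions having a dual family -/
theorem card_affine (hF : Fintype.card F = q ^ 2) {I : Type*} [Fintype I] [DecidableEq I]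
    (a b : I → (Fin n → F)) (hab : ∀ l i, hh (b l) (a i) = if l = i then 1 else 0) (t : I → F) :
    Nat.card {y : Fin n → F // ∀ i, hh y (a i) = t i} * q ^ (2 * Fintype.card I) = q ^ (2 * n) := by
  classical
  have hsum : ∀ (c : I → F) (i : I), hh (∑ l, c l • b l) (a i) = c i := by
    intro c i
    rw [hermForm_sum_left hF]
    simp only [hab, mul_ite, mul_one, mul_zero, Finset.sum_ite_eq', Finset.mem_univ, if_true]
  have e : (Fin n → F) ≃ {y : Fin n → F // ∀ i, hh y (a i) = t i} × (I → F) :=
    { toFun := fun y => (⟨y - ∑ i, (hh y (a i) - t i) • b i, by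
          intro i
          rw [hermForm_sub_left, hsum]
          ring⟩, fun i => hh y (a i))
      invFun := fun p => p.1.1 + ∑ i, (p.2 i - t i) • b i
      left_inv := fun y => by simp
      right_inv := fun p => by
        obtain ⟨⟨x, hx⟩, c⟩ := p
        have h1 : ∀ i, hh (x + ∑ i, (c i - t i) • b i) (a i) = c i := by
          intro i
          rw [hermForm_add_left, hsum, hx]
          ring
        apply Prod.ext
        · apply Subtype.ext
          simp only [h1]
          simp
        · funext i
          exact h1 i }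
  have h1 := Nat.card_congr e
  rw [Nat.card_prod, Nat.card_eq_fintype_card, Nat.card_eq_fintype_card (α := I → F),
    Fintype.card_fun, Fintype.card_fun, Fintype.card_fin, hF, ← pow_mul, ← pow_mul] at h1
  rw [h1]

/-- the isotropic vectors of such an affine subspace -/
theorem card_isotropic_affine (hF : Fintype.card F = q ^ 2) {I : Type*} [Fintype I] [DecidableEq I]
    (a b : I → (Fin n → F)) (hab : ∀ l i, hh (b l) (a i) = if l = i then 1 else 0)
    (f : Fin n → F) (i₀ : I) (he : ∀ i, hh (a i₀) (a i) = 0) (hfe : hh f (a i₀) = 1) :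
    Nat.card {y : Fin n → F // hh y y = 0 ∧ ∀ i, hh y (a i) = hh f (a i)}
      * q ^ (2 * Fintype.card I + 1) = q ^ (2 * n) := by
  classical
  have hq2 := q_ge_two hF
  have hee : hh (a i₀) (a i₀) = 0 := he i₀
  have hea : ∀ x : Fin n → F, hh x (a i₀) = 1 → hh (a i₀) x = 1 := by
    intro x hx
    rw [← hermForm_conj hF n x (a i₀), hx, one_pow]
  have e : {y : Fin n → F // hh y y = 0 ∧ ∀ i, hh y (a i) = hh f (a i)} × F ≃
      {p : {y : Fin n → F // ∀ i, hh y (a i) = hh f (a i)} × F //
        p.2 + p.2 ^ q = hh p.1.1 p.1.1} :=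
    { toFun := fun p => ⟨(⟨p.1.1 + p.2 • a i₀, by
          intro i
          rw [hermForm_add_left, hermForm_smul_left, he, mul_zero, add_zero]
          exact p.1.2.2 i⟩, p.2), by
        have h1 : hh p.1.1 (a i₀) = 1 := by rw [p.1.2.2 i₀, hfe]
        simp only [hermForm_add_left, hermForm_add_right hF, hermForm_smul_left,
          hermForm_smul_right, hee, h1, hea _ h1, p.1.2.1]
        ring⟩
      invFun := fun p => (⟨p.1.1.1 - p.1.2 • a i₀, by
          have h1 : hh p.1.1.1 (a i₀) = 1 := by rw [p.1.1.2 i₀, hfe]
          constructor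
          · simp only [hermForm_sub_left, hermForm_sub_right hF, hermForm_smul_left,
              hermForm_smul_right, hee, h1, hea _ h1]
            linear_combination (-1 : F) * p.2
          · intro i
            rw [hermForm_sub_left, hermForm_smul_left, he, mul_zero, sub_zero]
            exact p.1.1.2 i⟩, p.1.2)
      left_inv := fun p => Prod.ext (Subtype.ext (by simp)) rfl
      right_inv := fun p => Subtype.ext (Prod.ext (Subtype.ext (by simp)) rfl) }
  have h1 := Nat.card_congr e
  rw [Nat.card_prod, Nat.card_congr (Equiv.subtypeProdEquivSigmaSubtype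
    (fun (x : {y : Fin n → F // ∀ i, hh y (a i) = hh f (a i)}) (l : F) =>
      l + l ^ q = hh x.1 x.1)), Nat.card_sigma] at h1
  rw [Finset.sum_congr rfl (fun x _ => card_trace_fiber hF _ (hermForm_self_pow hF x.1)),
    Finset.sum_const, Finset.card_univ, smul_eq_mul, Nat.card_eq_fintype_card (α := F), hF] at h1
  have h2 := card_affine hF a b hab (fun i => hh f (a i))
  have hq0 : 0 < q := by omega
  have h3 : Nat.card {y : Fin n → F // hh y y = 0 ∧ ∀ i, hh y (a i) = hh f (a i)} * q
      = Fintype.card {y : Fin n → F // ∀ i, hh y (a i) = hh f (a i)} := by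
    apply Nat.eq_of_mul_eq_mul_right hq0
    rw [mul_assoc, ← sq, h1]
  rw [← h2, pow_succ', ← mul_assoc, h3, Nat.card_eq_fintype_card]

/-- pointwise stabiliser in `GU` of a set of vectors -/
def fixSet (n q : ℕ) (F : Type*) [Field F] (S : Set (Fin n → F)) : Subgroup ↥(Cfsg.GU n F q) where
  carrier := {g | ∀ v ∈ S, g • v = v}
  mul_mem' := by
    intro a b ha hb v hv
    rw [mul_smul, hb v hv, ha v hv]
  one_mem' := by
    intro v _
    exact one_smul _ v
  inv_mem' := by
    intro a ha v hv
    rw [inv_smul_eq_iff, ha v hv]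

omit [Fintype F] in
theorem mem_fixSet (S : Set (Fin n → F)) (g : ↥(Cfsg.GU n F q)) :
    g ∈ fixSet n q F S ↔ ∀ v ∈ S, g • v = v := Iff.rfl

omit [Fintype F] in
theorem GU_smul_preserves (g : ↥(Cfsg.GU n F q)) (u v : Fin n → F) :
    hh (g • u) (g • v) = hh u v := g.2 u v

/-- Witt's lemma for families, in `GU` -/
theorem exists_GU_map (hF : Fintype.card F = q ^ 2) {I : Type*} [Fintype I]
    (x y : I → (Fin n → F)) (hx : LinearIndependent F x) (hy : LinearIndependent F y)
    (hxy : ∀ i j, hh (y i) (y j) = hh (x i) (x j)) :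
    ∃ g : ↥(Cfsg.GU n F q), ∀ i, g • x i = y i := by
  classical
  let e : Fin (Fintype.card I) ≃ I := (Fintype.equivFin I).symm
  obtain ⟨φ, hφ1, hφ2⟩ := Cfsg.Agent.Lib.Helper8.witt_family_herm (frobU hF) (frobU_ne_id hF)
    (frobU_frobU hF) (hermB hF n) (hermB_isSymm hF) (hermB_nondegenerate hF) (Fintype.card I)
    (x ∘ e) (y ∘ e) (hx.comp e e.injective) (hy.comp e e.injective) (by
      intro i j
      rw [hermB_apply, hermB_apply]
      exact hxy _ _)
  have hA : Helper5.IsHermIso n F q (LinearMap.toMatrix' (φ : (Fin n → F) →ₗ[F] (Fin n → F))) := by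
    intro u v
    rw [LinearMap.toMatrix'_mulVec, LinearMap.toMatrix'_mulVec]
    have := hφ1 v u
    rw [hermB_apply, hermB_apply] at this
    exact this
  refine ⟨Helper5.mkGU hF _ hA, fun i => ?_⟩
  rw [Helper5.GU_smul_def, Helper5.mkGU_val, LinearMap.toMatrix'_mulVec]
  have := hφ2 (e.symm i)
  simpa using this

/-- a family with a dual family is linearly independent -/
theorem linearIndependent_of_dual (hF : Fintype.card F = q ^ 2) {I : Type*} [Fintype I]
    [DecidableEq I] (a b : I → (Fin n → F))
    (hab : ∀ l i, hh (b l) (a i) = if l = i then 1 else 0) : LinearIndependent F a := by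
  have hq2 := q_ge_two hF
  rw [Fintype.linearIndependent_iff]
  intro c hc l
  have h1 := congrArg (fun z => hh z (b l)) hc
  simp only [hermForm_sum_left hF, hermForm_zero_left] at h1
  have h2 : ∀ i, hh (a i) (b l) = if l = i then 1 else 0 := by
    intro i
    rw [← hermForm_conj hF n (b l) (a i), hab]
    split_ifs
    · exact one_pow q
    · exact zero_pow (by omega)
  simpa [h2] using h1

/-- the orbit-stabiliser step of the chain -/
theorem card_fixSet_insert (hF : Fintype.card F = q ^ 2) {I : Type*} [Fintype I] [DecidableEq I]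
    (a b : I → (Fin n → F)) (hab : ∀ l i, hh (b l) (a i) = if l = i then 1 else 0)
    (f : Fin n → F) (hff : hh f f = 0) (i₀ : I) (he : ∀ i, hh (a i₀) (a i) = 0)
    (hfe : hh f (a i₀) = 1) :
    Nat.card (fixSet n q F (Set.range a)) * q ^ (2 * Fintype.card I + 1)
      = q ^ (2 * n) * Nat.card (fixSet n q F (insert f (Set.range a))) := by
  classical
  have hq2 := q_ge_two hF
  have hali := linearIndependent_of_dual hF a b hab
  -- linear independence of the extended families
  have hli : ∀ y : Fin n → F, hh y (a i₀) = 1 →
      LinearIndependent F (fun o : Option I => o.elim y a) := by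
    intro y hy
    rw [Fintype.linearIndependent_iff]
    intro c hc
    rw [Fintype.sum_option] at hc
    simp only [Option.elim_none, Option.elim_some] at hc
    have h1 := congrArg (fun z => hh z (a i₀)) hc
    simp only [hermForm_add_left, hermForm_smul_left, hermForm_sum_left hF, hermForm_zero_left,
      hy, fun i => hermForm_eq_zero_comm hF (he i), mul_zero, Finset.sum_const_zero, add_zero,
      mul_one] at h1
    rw [h1, zero_smul, zero_add] at hc
    have h2 := (Fintype.linearIndependent_iff.1 hali) (fun i => c (some i)) hc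
    intro o
    cases o with
    | none => exact h1
    | some i => exact h2 i
  rw [card_subgroup_eq_orbit_mul_stab (fixSet n q F (Set.range a)) f]
  have h1 : Nat.card {y : Fin n → F // ∃ h ∈ fixSet n q F (Set.range a), h • f = y}
      = Nat.card {y : Fin n → F // hh y y = 0 ∧ ∀ i, hh y (a i) = hh f (a i)} := by
    apply Nat.card_congr
    refine Equiv.subtypeEquivRight (fun y => ⟨?_, ?_⟩)
    · rintro ⟨h, hmem, rfl⟩
      refine ⟨by rw [GU_smul_preserves, hff], fun i => ?_⟩
      conv_lhs => rw [← hmem (a i) (Set.mem_range_self i)]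
      rw [GU_smul_preserves]
    · rintro ⟨hyy, hya⟩
      obtain ⟨g, hg⟩ := exists_GU_map hF (fun o : Option I => o.elim f a)
        (fun o : Option I => o.elim y a) (hli f hfe) (hli y (by rw [hya, hfe])) (by
          intro o o'
          cases o with
          | none =>
            cases o' with
            | none => simp only [Option.elim_none]; rw [hyy, hff]
            | some j => simp only [Option.elim_none, Option.elim_some]; exact hya j
          | some i =>
            cases o' with
            | none =>
              simp only [Option.elim_none, Option.elim_some]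
              rw [← hermForm_conj hF n y (a i), hya, hermForm_conj hF]
            | some j => rfl)
      refine ⟨g, ?_, hg none⟩
      rintro _ ⟨i, rfl⟩
      exact hg (some i)
  have h2 : Nat.card {h : ↥(Cfsg.GU n F q) // h ∈ fixSet n q F (Set.range a) ∧ h • f = f}
      = Nat.card (fixSet n q F (insert f (Set.range a))) := by
    apply Nat.card_congr
    refine Equiv.subtypeEquivRight (fun h => ⟨?_, ?_⟩)
    · rintro ⟨h1, h2⟩ v hv
      rcases hv with rfl | hv
      · exact h2
      · exact h1 v hv
    · intro h1
      exact ⟨fun v hv => h1 v (Set.mem_insert_of_mem _ hv), h1 f (Set.mem_insert _ _)⟩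
  rw [h1, h2, mul_right_comm, card_isotropic_affine hF a b hab f i₀ he hfe]

end uparab1

end Cfsg.Agent.Lib.Helper13
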