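import Cfsg.Agent.Lib.Helper12.D3Defs
import Cfsg.Agent.Lib.Helper36.ChevTwD4
import Cfsg.Agent.Lib.Helper75.D4gMEM
import Cfsg.Agent.Lib.Helper75.D4gCONJ
import Cfsg.Agent.Lib.Helper36.ChevHU

/-! # D3 hive (S2183, helper12), leaf D3-RL3 (helper13): `x_23(e) ~ x_14(1)` inside `³D₄(q)`, `q` even -/

set_option autoImplicit false
set_option maxRecDepth 100000

namespace Cfsg.Agent.Lib.Helper12.D3

open Cfsg Cfsg.Lie Cfsg.Agent.Lib.Helper36 Cfsg.Agent.Lib.Helper75.D4g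

variable (K : Type*) [Field K] (φ : K →+* K)

/-- the twisted Coxeter lift lies in `³D₄(q)` -/
theorem d3rl3_nC_mem [Fintype K] {q : ℕ} (hK : Fintype.card K = q ^ 3) (hφ : ∀ t : K, φ t = t ^ q) :
    nC K ∈ twistedD4 K q := by
  rw [twistedD4_eq K q φ hφ hK]
  have h1 := nWord_fund_mem chevD4 hD4 graphD4 orbsD4 fundD4 K φ chkOrb_D4 chkFund_D4 [0, 2, 3] (by simp [fundD4])
  have h2 := nWord_fund_mem chevD4 hD4 graphD4 orbsD4 fundD4 K φ chkOrb_D4 chkFund_D4 [1] (by simp [fundD4])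
  have e : nC K = nWordGL chevD4 hD4 K [0, 2, 3] * nWordGL chevD4 hD4 K [1] := by
    unfold nC cox nWordGL
    simp [mul_assoc]
  rw [e]
  exact mul_mem h1 h2

theorem d3rl3_lt : ∀ i ∈ cox, i < chevD4.rank := by decide

/-- the twisted Coxeter lift moves the highest root group to the long simple root group -/
theorem d3rl3_conj [CharP K 2] (e : K) : nC K * xg K 23 e * (nC K)⁻¹ = xg K 14 e := by
  unfold nC xg
  rw [nWordGL_conj_sign chevD4 hD4 K _ d3rl3_lt 23 (by decide)]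
  have r1 : wRoot chevD4 cox 23 = 14 := by decide
  rw [r1]
  congr 1
  have hs : wSign chevD4 cox 23 = 1 ∨ wSign chevD4 cox 23 = -1 := by decide
  rcases hs with hs | hs <;> rw [hs] <;> simp [CharTwo.neg_eq]

/-- the long torus element `h_14(z)`, `z ∈ F_q`, lies in `³D₄(q)` -/
theorem d3rl3_h_mem [Fintype K] {q : ℕ} (hK : Fintype.card K = q ^ 3) (hφ : ∀ t : K, φ t = t ^ q)
    (z : K) (hz : φ z = z) : hg K 14 z ∈ twistedD4 K q := by
  rw [twistedD4_eq K q φ hφ hK]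
  have h := hw_LJ_mem chevD4 hD4 graphD4 orbsD4 fundD4 stepsD4 twOK_D4 K φ [1] (by simp [fundD4]) z
    (by
      show φ z = z
      exact hz)
  have e : hw chevD4 hD4 K (LJ chevD4 K φ [1]) z = hg K 14 z := by
    unfold hw LJ LB pBlock hg
    simp
    rfl
  rw [← e]
  exact h

/-- D3-RL3 -/
theorem rl3 [Fintype K] [CharP K 2] {q : ℕ} (hK : Fintype.card K = q ^ 3) (hφ : ∀ t : K, φ t = t ^ q)
    (e : K) (he : e ≠ 0) (hf : φ e = e) : Cj K q (xg K 23 e) (xg K 14 1) := by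
  -- a square root `z` of `e⁻¹`
  have : Fact (Nat.Prime 2) := ⟨Nat.prime_two⟩
  have hinj : Function.Injective (fun x : K => x ^ 2) := by
    intro x y hxy
    apply frobenius_inj K 2
    simpa [frobenius_def] using hxy
  have hsurj : Function.Surjective (fun x : K => x ^ 2) := Finite.surjective_of_injective hinj
  obtain ⟨z, hz⟩ := hsurj e⁻¹
  have hz2 : z ^ 2 = e⁻¹ := hz
  have hz0 : z ≠ 0 := by
    rintro rfl
    rw [zero_pow two_ne_zero] at hz2
    exact inv_ne_zero he hz2.symm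
  have hzφ : φ z = z := by
    apply hinj
    show (φ z) ^ 2 = z ^ 2
    rw [← map_pow, hz2, map_inv₀, hf]
  refine ⟨hg K 14 z * nC K, mul_mem (d3rl3_h_mem K φ hK hφ z hzφ) (d3rl3_nC_mem K φ hK hφ), ?_⟩
  have e1 : hg K 14 z * nC K * xg K 23 e * (hg K 14 z * nC K)⁻¹ =
      hg K 14 z * (nC K * xg K 23 e * (nC K)⁻¹) * (hg K 14 z)⁻¹ := by group
  rw [e1, d3rl3_conj]
  unfold hg xg
  rw [hGL_conj_xGL chevD4 hD4 K 14 14 (by decide) (by decide) z hz0 e]
  have g : gc chevD4 14 14 = 2 := by decide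
  rw [g]
  congr 1
  rw [zpow_ofNat, hz2, inv_mul_cancel₀ he]

end Cfsg.Agent.Lib.Helper12.D3
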