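import Mathlib
import Cfsg.Agent.Lib.Helper99.BMDefs
import Cfsg.Agent.Lib.Helper97.BMUNIV

/-! # S2733 hive (helper99), leaf BM-CENT-A (helper13): a semilinear similitude `f` of
`V = E₁ ⊥ E₂` that maps every "good" plane `⟨a, b⟩` to itself is a scalar on `E₁` and `±` that
scalar on `E₂`, and its field automorphism is trivial. -/

set_option autoImplicit false
set_option linter.unusedSimpArgs false
set_option linter.unusedVariables false

namespace Cfsg.Agent.Lib.Helper99.BM

universe u v

/-- two orthogonal vectors of prescribed norm in dimension `≥ 3` -/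
theorem centA_exists_pair {K : Type u} [Field K] [Finite K] (h2 : (2 : K) ≠ 0) {W : Type v}
    [AddCommGroup W] [Module K W] [FiniteDimensional K W] (B : LinearMap.BilinForm K W)
    (hs : B.IsSymm) (hnd : B.Nondegenerate) (hdim : 3 ≤ Module.finrank K W) (c : K)
    (hc : c ≠ 0) : ∃ b b' : W, B b b = c ∧ B b' b' = c ∧ B b b' = 0 := by
  have : Invertible (2 : K) := invertibleOfNonzero h2
  obtain ⟨e, he⟩ :=
    LinearMap.BilinForm.exists_orthogonal_basis (LinearMap.BilinForm.isSymm_iff.mp hs)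
  have hne : ∀ i, B (e i) (e i) ≠ 0 := fun i =>
    LinearMap.BilinForm.iIsOrtho.not_isOrtho_basis_self_of_nondegenerate he hnd i
  set i0 : Fin (Module.finrank K W) := ⟨0, by omega⟩ with hi0
  set i1 : Fin (Module.finrank K W) := ⟨1, by omega⟩ with hi1
  set i2 : Fin (Module.finrank K W) := ⟨2, by omega⟩ with hi2
  have h01 : i0 ≠ i1 := by
    intro h
    have := congrArg Fin.val h
    simp [hi0, hi1] at this
  have h02 : i0 ≠ i2 := by
    intro h
    have := congrArg Fin.val h
    simp [hi0, hi2] at this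
  have h12 : i1 ≠ i2 := by
    intro h
    have := congrArg Fin.val h
    simp [hi1, hi2] at this
  have o01 : B (e i0) (e i1) = 0 := he h01
  have o10 : B (e i1) (e i0) = 0 := he h01.symm
  have o02 : B (e i0) (e i2) = 0 := he h02
  have o20 : B (e i2) (e i0) = 0 := he h02.symm
  have o12 : B (e i1) (e i2) = 0 := he h12
  have o21 : B (e i2) (e i1) = 0 := he h12.symm
  obtain ⟨x, y, hxy⟩ :=
    univ_exists_sum_sq h2 (B (e i0) (e i0)) (B (e i1) (e i1)) c (hne i0) (hne i1)
  have hc2 : B (e i0) (e i0) * B (e i1) (e i1) * c ≠ 0 :=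
    mul_ne_zero (mul_ne_zero (hne i0) (hne i1)) hc
  obtain ⟨s, t, hst⟩ := univ_exists_sum_sq h2 (B (e i0) (e i0) * B (e i1) (e i1) * c)
    (B (e i2) (e i2)) c hc2 (hne i2)
  refine ⟨x • e i0 + y • e i1,
    s • ((B (e i1) (e i1) * y) • e i0 - (B (e i0) (e i0) * x) • e i1) + t • e i2, ?_, ?_, ?_⟩
  · simp only [map_add, map_sub, map_smul, LinearMap.add_apply, LinearMap.sub_apply,
      LinearMap.smul_apply, smul_eq_mul, o01, o10, o02, o20, o12, o21, mul_zero, add_zero,
      zero_add, sub_zero, zero_sub]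
    linear_combination hxy
  · simp only [map_add, map_sub, map_smul, LinearMap.add_apply, LinearMap.sub_apply,
      LinearMap.smul_apply, smul_eq_mul, o01, o10, o02, o20, o12, o21, mul_zero, add_zero,
      zero_add, sub_zero, zero_sub]
    linear_combination hst + (s ^ 2 * B (e i0) (e i0) * B (e i1) (e i1)) * hxy
  · simp only [map_add, map_sub, map_smul, LinearMap.add_apply, LinearMap.sub_apply,
      LinearMap.smul_apply, smul_eq_mul, o01, o10, o02, o20, o12, o21, mul_zero, add_zero,
      zero_add, sub_zero, zero_sub]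
    ring

/-- the intersection of two planes through `a` -/
theorem centA_eigen_of_pair {K : Type u} [Field K] {V : Type v}
    [AddCommGroup V] [Module K V] (B : LinearMap.BilinForm K V) (hs : B.IsSymm)
    (f : V → V) (a b b' : V) (ha : B a a ≠ 0) (hb : B b b = B a a)
    (hab : B a b = 0) (hab' : B a b' = 0) (hbb' : B b b' = 0)
    (h1 : f a ∈ Submodule.span K {a, b}) (h2 : f a ∈ Submodule.span K {a, b'}) :
    ∃ lam : K, f a = lam • a := by
  obtain ⟨x, y, hxy⟩ := Submodule.mem_span_pair.mp h1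
  obtain ⟨x', y', hxy'⟩ := Submodule.mem_span_pair.mp h2
  have e1 : B (f a) b = y * B b b := by
    rw [← hxy]
    simp only [map_add, map_smul, LinearMap.add_apply, LinearMap.smul_apply, smul_eq_mul, hab,
      mul_zero, zero_add]
  have e2 : B (f a) b = 0 := by
    rw [← hxy']
    simp only [map_add, map_smul, LinearMap.add_apply, LinearMap.smul_apply, smul_eq_mul, hab,
      mul_zero, zero_add, hs.eq b' b, hbb']
  have hy : y = 0 := by
    rw [e1, hb] at e2
    exact (mul_eq_zero.mp e2).resolve_right ha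
  refine ⟨x, ?_⟩
  rw [← hxy, hy, zero_smul, add_zero]

/-- the restriction of `B` to an orthogonal summand is nondegenerate -/
theorem centA_nondeg {K : Type u} [Field K] {V : Type v} [AddCommGroup V] [Module K V]
    (B : LinearMap.BilinForm K V) (hs : B.IsSymm) (hnd : B.Nondegenerate)
    (E E' : Submodule K V) (hc : IsCompl E E') (horth : ∀ u ∈ E, ∀ w ∈ E', B u w = 0) :
    (B.restrict E).Nondegenerate := by
  apply LinearMap.BilinForm.nondegenerate_restrict_of_disjoint_orthogonal B hs.isRefl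
  rw [Submodule.disjoint_def]
  intro x hx hx'
  have h0 : ∀ v, B v x = 0 := by
    intro v
    obtain ⟨v1, hv1, v2, hv2, rfl⟩ : ∃ v1 ∈ E, ∃ v2 ∈ E', v1 + v2 = v :=
      Submodule.mem_sup.mp (by rw [hc.sup_eq_top]; trivial)
    rw [map_add, LinearMap.add_apply, LinearMap.BilinForm.mem_orthogonal_iff.mp hx' v1 hv1,
      hs.eq v2 x, horth x hx v2 hv2, add_zero]
  exact hnd.2 x h0

/-- every nonsingular vector of `E` is an eigenvector -/
theorem centA_eigen {K : Type u} [Field K] [Finite K] (h2 : (2 : K) ≠ 0) {V : Type v}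
    [AddCommGroup V] [Module K V] [FiniteDimensional K V] (B : LinearMap.BilinForm K V)
    (hs : B.IsSymm) (E E' : Submodule K V)
    (hndE : (B.restrict E).Nondegenerate) (hndE' : (B.restrict E').Nondegenerate)
    (horth : ∀ u ∈ E, ∀ w ∈ E', B u w = 0)
    (hdim : 3 ≤ Module.finrank K E' ∨ 4 ≤ Module.finrank K E)
    (f : V → V)
    (hpl : ∀ a b : V, a ∈ E → (b ∈ E ∨ b ∈ E') → B a a ≠ 0 → B b b = B a a →
      B a b = 0 → f a ∈ Submodule.span K {a, b})
    (a : V) (ha : a ∈ E) (haa : B a a ≠ 0) : ∃ lam : K, f a = lam • a := by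
  rcases hdim with h3 | h4
  · obtain ⟨b, b', hb, hb', hbb'⟩ :=
      centA_exists_pair h2 (B.restrict E') (hs.restrict E') hndE' h3 (B a a) haa
    rw [LinearMap.BilinForm.restrict_apply] at hb hb' hbb'
    exact centA_eigen_of_pair B hs f a b b' haa hb (horth a ha b b.2) (horth a ha b' b'.2) hbb'
      (hpl a b ha (Or.inr b.2) haa hb (horth a ha b b.2))
      (hpl a b' ha (Or.inr b'.2) haa hb' (horth a ha b' b'.2))
  · have hsE : (B.restrict E).IsSymm := hs.restrict E
    have ha0 : (⟨a, ha⟩ : E) ≠ 0 := by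
      intro h
      apply haa
      have : a = 0 := congrArg Subtype.val h
      rw [this, map_zero]
    have hx : (B.restrict E) (⟨a, ha⟩ : E) ⟨a, ha⟩ ≠ 0 := by
      rw [LinearMap.BilinForm.restrict_apply]
      exact haa
    have hndO := LinearMap.BilinForm.restrict_nondegenerate_orthogonal_spanSingleton
      (B.restrict E) hndE hsE.isRefl hx
    have hfr : Module.finrank K ((B.restrict E).orthogonal (K ∙ (⟨a, ha⟩ : E)))
        = Module.finrank K E - 1 := by
      rw [LinearMap.BilinForm.finrank_orthogonal hndE, finrank_span_singleton ha0]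
    obtain ⟨b, b', hb, hb', hbb'⟩ :=
      centA_exists_pair h2 ((B.restrict E).restrict _) (hsE.restrict _) hndO (by omega) (B a a) haa
    rw [LinearMap.BilinForm.restrict_apply, LinearMap.BilinForm.restrict_apply] at hb hb' hbb'
    have hab : B a ((b : E) : V) = 0 := by
      have := LinearMap.BilinForm.mem_orthogonal_iff.mp b.2 ⟨a, ha⟩
        (Submodule.mem_span_singleton_self _)
      rw [LinearMap.BilinForm.restrict_apply] at this
      exact this
    have hab' : B a ((b' : E) : V) = 0 := by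
      have := LinearMap.BilinForm.mem_orthogonal_iff.mp b'.2 ⟨a, ha⟩
        (Submodule.mem_span_singleton_self _)
      rw [LinearMap.BilinForm.restrict_apply] at this
      exact this
    exact centA_eigen_of_pair B hs f a ((b : E) : V) ((b' : E) : V) haa hb hab hab' hbb'
      (hpl a _ ha (Or.inl (b : E).2) haa hb hab)
      (hpl a _ ha (Or.inl (b' : E).2) haa hb' hab')

/-- the pair/triple trick: eigenvalues of orthogonal nonsingular vectors agree -/
theorem centA_const {K : Type u} [Field K] {V : Type v} [AddCommGroup V] [Module K V]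
    (B : LinearMap.BilinForm K V) (hs : B.IsSymm) (f : V → V)
    (hadd : ∀ u w, f (u + w) = f u + f w) (E : Submodule K V)
    (heig : ∀ a ∈ E, B a a ≠ 0 → ∃ lam : K, f a = lam • a)
    (x y z : V) (hx : x ∈ E) (hy : y ∈ E) (hz : z ∈ E)
    (hxx : B x x ≠ 0) (hyy : B y y ≠ 0) (hzz : B z z ≠ 0)
    (hxy : B x y = 0) (hxz : B x z = 0) (hyz : B y z = 0)
    (lx ly : K) (hfx : f x = lx • x) (hfy : f y = ly • y) : lx = ly := by
  have hyx : B y x = 0 := by rw [hs.eq]; exact hxy
  have hzx : B z x = 0 := by rw [hs.eq]; exact hxz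
  have hzy : B z y = 0 := by rw [hs.eq]; exact hyz
  by_cases h : B x x + B y y = 0
  · have hq : B (x + y + z) (x + y + z) ≠ 0 := by
      simp only [map_add, LinearMap.add_apply, hxy, hyx, hxz, hzx, hyz, hzy, add_zero, zero_add]
      rw [h, zero_add]
      exact hzz
    obtain ⟨c, hc⟩ := heig _ (E.add_mem (E.add_mem hx hy) hz) hq
    obtain ⟨lz, hfz⟩ := heig z hz hzz
    rw [hadd, hadd, hfx, hfy, hfz] at hc
    have h1 := congrArg (fun w => B w x) hc
    have h2' := congrArg (fun w => B w y) hc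
    simp only [map_add, map_smul, LinearMap.add_apply, LinearMap.smul_apply, smul_eq_mul,
      hxy, hyx, hxz, hzx, hyz, hzy, mul_zero, add_zero, zero_add] at h1 h2'
    rw [mul_right_cancel₀ hxx h1, mul_right_cancel₀ hyy h2']
  · have hq : B (x + y) (x + y) ≠ 0 := by
      simp only [map_add, LinearMap.add_apply, hxy, hyx, add_zero, zero_add]
      exact h
    obtain ⟨c, hc⟩ := heig _ (E.add_mem hx hy) hq
    rw [hadd, hfx, hfy] at hc
    have h1 := congrArg (fun w => B w x) hc
    have h2' := congrArg (fun w => B w y) hc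
    simp only [map_add, map_smul, LinearMap.add_apply, LinearMap.smul_apply, smul_eq_mul,
      hxy, hyx, mul_zero, add_zero, zero_add] at h1 h2'
    rw [mul_right_cancel₀ hxx h1, mul_right_cancel₀ hyy h2']

/-- a third index -/
theorem centA_third {m : ℕ} (hm : 3 ≤ m) (i j : Fin m) : ∃ l : Fin m, l ≠ i ∧ l ≠ j := by
  by_contra hcon
  push Not at hcon
  have hsub : (Finset.univ : Finset (Fin m)) ⊆ {i, j} := by
    intro l _
    by_cases hl : l = i
    · simp [hl]
    · simp [hcon l hl]
  have hcard := Finset.card_le_card hsub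
  rw [Finset.card_univ, Fintype.card_fin] at hcard
  have := Finset.card_le_two (a := i) (b := j)
  omega

/-- the field automorphism is trivial -/
theorem centA_tau {K : Type u} [Field K] {V : Type v} [AddCommGroup V] [Module K V]
    [FiniteDimensional K V] (h2 : (2 : K) ≠ 0)
    (B : LinearMap.BilinForm K V) (hs : B.IsSymm) (E : Submodule K V)
    (hndE : (B.restrict E).Nondegenerate) (hdim : 3 ≤ Module.finrank K E)
    (τ : K ≃+* K) (f : V → V) (hadd : ∀ u w, f (u + w) = f u + f w)
    (hsmul : ∀ (c : K) (v : V), f (c • v) = τ c • f v) (hinj : Function.Injective f)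
    (heig : ∀ a ∈ E, B a a ≠ 0 → ∃ lam : K, f a = lam • a) : τ = RingEquiv.refl K := by
  have : Invertible (2 : K) := invertibleOfNonzero h2
  obtain ⟨e, he⟩ := LinearMap.BilinForm.exists_orthogonal_basis
    (LinearMap.BilinForm.isSymm_iff.mp (hs.restrict E))
  have hne : ∀ i, B (e i) (e i) ≠ 0 := fun i =>
    LinearMap.BilinForm.iIsOrtho.not_isOrtho_basis_self_of_nondegenerate he hndE i
  have hort : ∀ i j, i ≠ j → B (e i) (e j) = 0 := fun i j hij => he hij
  set i0 : Fin (Module.finrank K E) := ⟨0, by omega⟩ with hi0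
  set i1 : Fin (Module.finrank K E) := ⟨1, by omega⟩ with hi1
  set i2 : Fin (Module.finrank K E) := ⟨2, by omega⟩ with hi2
  have h01 : i0 ≠ i1 := by
    intro h
    have := congrArg Fin.val h
    simp [hi0, hi1] at this
  have h02 : i0 ≠ i2 := by
    intro h
    have := congrArg Fin.val h
    simp [hi0, hi2] at this
  have h12 : i1 ≠ i2 := by
    intro h
    have := congrArg Fin.val h
    simp [hi1, hi2] at this
  obtain ⟨l0, hl0⟩ := heig _ (e i0).2 (hne i0)
  obtain ⟨l1, hl1⟩ := heig _ (e i1).2 (hne i1)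
  have h0eq : l0 = l1 := centA_const B hs f hadd E heig _ _ _ (e i0).2 (e i1).2 (e i2).2
    (hne i0) (hne i1) (hne i2) (hort _ _ h01) (hort _ _ h02) (hort _ _ h12) l0 l1 hl0 hl1
  have hf0 : f 0 = 0 := by
    have := hsmul 0 0
    simpa using this
  have hl0ne : l0 ≠ 0 := by
    rintro rfl
    rw [zero_smul] at hl0
    have h := hinj (hl0.trans hf0.symm)
    apply hne i0
    rw [h, map_zero]
  apply RingEquiv.ext
  intro c
  rw [RingEquiv.refl_apply]
  by_cases hc : c = 0
  · rw [hc, map_zero]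
  · have hcn : B (c • (e i0 : V)) (c • (e i0 : V)) ≠ 0 := by
      simp only [map_smul, LinearMap.smul_apply, smul_eq_mul]
      exact mul_ne_zero hc (mul_ne_zero hc (hne i0))
    have hcE : c • (e i0 : V) ∈ E := E.smul_mem c (e i0).2
    obtain ⟨lc, hlc⟩ := heig _ hcE hcn
    have hceq : lc = l1 := centA_const B hs f hadd E heig _ _ _ hcE (e i1).2 (e i2).2
      hcn (hne i1) (hne i2)
      (by simp only [map_smul, LinearMap.smul_apply, smul_eq_mul, hort _ _ h01, mul_zero])
      (by simp only [map_smul, LinearMap.smul_apply, smul_eq_mul, hort _ _ h02, mul_zero])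
      (hort _ _ h12) lc l1 hlc hl1
    have key : τ c • l0 • (e i0 : V) = lc • c • (e i0 : V) := by
      rw [← hl0, ← hsmul, hlc]
    have key2 := congrArg (fun w => B w (e i0 : V)) key
    simp only [map_smul, LinearMap.smul_apply, smul_eq_mul] at key2
    rw [hceq, ← h0eq] at key2
    have h3 : τ c * l0 = l0 * c := by
      apply mul_right_cancel₀ (hne i0)
      rw [mul_assoc, mul_assoc]
      exact key2
    apply mul_right_cancel₀ hl0ne
    rw [h3, mul_comm]

/-- `f` is a scalar on `E` -/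
theorem centA_scalar {K : Type u} [Field K] {V : Type v} [AddCommGroup V] [Module K V]
    [FiniteDimensional K V] (h2 : (2 : K) ≠ 0)
    (B : LinearMap.BilinForm K V) (hs : B.IsSymm) (E : Submodule K V)
    (hndE : (B.restrict E).Nondegenerate) (hodd : Odd (Module.finrank K E))
    (f : V → V) (hadd : ∀ u w, f (u + w) = f u + f w)
    (hsmul : ∀ (c : K) (v : V), f (c • v) = c • f v)
    (c₀ : K) (hsim : ∀ u w, B (f u) (f w) = c₀ * B u w)
    (heig : ∀ a ∈ E, B a a ≠ 0 → ∃ lam : K, f a = lam • a) :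
    ∃ lam : K, lam * lam = c₀ ∧ ∀ v ∈ E, f v = lam • v := by
  have : Invertible (2 : K) := invertibleOfNonzero h2
  obtain ⟨e, he⟩ := LinearMap.BilinForm.exists_orthogonal_basis
    (LinearMap.BilinForm.isSymm_iff.mp (hs.restrict E))
  have hne : ∀ i, B (e i) (e i) ≠ 0 := fun i =>
    LinearMap.BilinForm.iIsOrtho.not_isOrtho_basis_self_of_nondegenerate he hndE i
  have hort : ∀ i j, i ≠ j → B (e i) (e j) = 0 := fun i j hij => he hij
  choose l hl using fun i => heig (e i) (e i).2 (hne i)
  have hall : ∀ i j, l i = l j := by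
    intro i j
    by_cases hij : i = j
    · rw [hij]
    · have h3 : 3 ≤ Module.finrank K E := by
        have hi := i.2
        have hj := j.2
        have hne' : i.val ≠ j.val := fun h => hij (Fin.ext h)
        obtain ⟨k, hk⟩ := hodd
        omega
      obtain ⟨k, hki, hkj⟩ := centA_third h3 i j
      exact centA_const B hs f hadd E heig _ _ _ (e i).2 (e j).2 (e k).2 (hne i) (hne j) (hne k)
        (hort _ _ hij) (hort _ _ (Ne.symm hki)) (hort _ _ (Ne.symm hkj)) (l i) (l j) (hl i) (hl j)
  have hpos : 0 < Module.finrank K E := hodd.pos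
  let i0 : Fin (Module.finrank K E) := ⟨0, hpos⟩
  refine ⟨l i0, ?_, ?_⟩
  · have h := hsim (e i0) (e i0)
    rw [hl i0] at h
    simp only [map_smul, LinearMap.smul_apply, smul_eq_mul] at h
    apply mul_right_cancel₀ (hne i0)
    rw [mul_assoc]
    exact h
  · let fL : V →ₗ[K] V :=
      { toFun := f
        map_add' := hadd
        map_smul' := fun c v => by simpa using hsmul c v }
    have hext : fL ∘ₗ E.subtype = (l i0) • E.subtype := by
      apply e.ext
      intro i
      simp only [LinearMap.comp_apply, Submodule.subtype_apply, LinearMap.smul_apply]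
      change f (e i : V) = _
      rw [hl i, hall i i0]
    intro v hv
    have := LinearMap.congr_fun hext ⟨v, hv⟩
    simpa [fL] using this

/-! ### BM-CENT-A -/
theorem cent_A {K : Type u} [Field K] [Finite K] (h2 : (2 : K) ≠ 0) {V : Type v}
    [AddCommGroup V] [Module K V] [FiniteDimensional K V] (B : LinearMap.BilinForm K V)
    (hs : B.IsSymm) (hnd : B.Nondegenerate)
    (E₁ E₂ : Submodule K V) (hc : IsCompl E₁ E₂) (horth : ∀ u ∈ E₁, ∀ w ∈ E₂, B u w = 0)
    (hd₁ : Odd (Module.finrank K E₁)) (hd₂ : Odd (Module.finrank K E₂))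
    (hdim : 8 ≤ Module.finrank K V)
    (τ : K ≃+* K) (f : V → V) (hadd : ∀ u w, f (u + w) = f u + f w)
    (hsmul : ∀ (c : K) (v : V), f (c • v) = τ c • f v) (hinj : Function.Injective f)
    (c₀ : K) (hc₀ : c₀ ≠ 0) (hsim : ∀ u w, B (f u) (f w) = c₀ * τ (B u w))
    (hpl : ∀ a b : V, (a ∈ E₁ ∨ a ∈ E₂) → (b ∈ E₁ ∨ b ∈ E₂) → B a a ≠ 0 → B b b = B a a →
      B a b = 0 → f a ∈ Submodule.span K {a, b} ∧ f b ∈ Submodule.span K {a, b}) :
    τ = RingEquiv.refl K ∧ ∃ lam : K, lam ≠ 0 ∧ (∀ v ∈ E₁, f v = lam • v) ∧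
      ((∀ v ∈ E₂, f v = lam • v) ∨ (∀ v ∈ E₂, f v = -(lam • v))) := by
  have hfin := Submodule.finrank_add_eq_of_isCompl hc
  have horth' : ∀ u ∈ E₂, ∀ w ∈ E₁, B u w = 0 := fun u hu w hw => by
    rw [hs.eq]; exact horth w hw u hu
  have hnd₁ := centA_nondeg B hs hnd E₁ E₂ hc horth
  have hnd₂ := centA_nondeg B hs hnd E₂ E₁ hc.symm horth'
  have heig₁ := centA_eigen h2 B hs E₁ E₂ hnd₁ hnd₂ horth (by omega) f
    (fun a b ha hb haa hbb hab => (hpl a b (Or.inl ha) hb haa hbb hab).1)
  have heig₂ := centA_eigen h2 B hs E₂ E₁ hnd₂ hnd₁ horth' (by omega) f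
    (fun a b ha hb haa hbb hab => (hpl a b (Or.inr ha) hb.symm haa hbb hab).1)
  have hτ : τ = RingEquiv.refl K := by
    by_cases h3 : 3 ≤ Module.finrank K E₁
    · exact centA_tau h2 B hs E₁ hnd₁ h3 τ f hadd hsmul hinj heig₁
    · exact centA_tau h2 B hs E₂ hnd₂ (by omega) τ f hadd hsmul hinj heig₂
  refine ⟨hτ, ?_⟩
  have hsmul' : ∀ (c : K) (v : V), f (c • v) = c • f v := fun c v => by
    rw [hsmul, hτ]; rfl
  have hsim' : ∀ u w, B (f u) (f w) = c₀ * B u w := fun u w => by
    rw [hsim, hτ]; rfl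
  obtain ⟨l₁, hl₁, hf₁⟩ := centA_scalar h2 B hs E₁ hnd₁ hd₁ f hadd hsmul' c₀ hsim' heig₁
  obtain ⟨l₂, hl₂, hf₂⟩ := centA_scalar h2 B hs E₂ hnd₂ hd₂ f hadd hsmul' c₀ hsim' heig₂
  have hl₁0 : l₁ ≠ 0 := by
    rintro rfl
    rw [zero_mul] at hl₁
    exact hc₀ hl₁.symm
  refine ⟨l₁, hl₁0, hf₁, ?_⟩
  have hcases : l₂ = l₁ ∨ l₂ = -l₁ := mul_self_eq_mul_self_iff.mp (hl₂.trans hl₁.symm)
  rcases hcases with h | h
  · left
    rw [← h]
    exact hf₂
  · right
    intro v hv
    rw [hf₂ v hv, h, neg_smul]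

end Cfsg.Agent.Lib.Helper99.BM
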