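import Mathlib

/-! # ORTH-EIGEN (helper13, for helper5's S2686 hive / helper61's BAL-ORTH):
an isometry of a nondegenerate symmetric form in dimension `≥ 3`, characteristic `≠ 2`, all of whose
nonsingular vectors are eigenvectors, is `1` or `-1`. -/

set_option autoImplicit false
set_option linter.unusedSimpArgs false

namespace Cfsg.Agent.Lib.Helper5.Bal

universe u v

/-- ORTH-EIGEN (no finiteness) -/
theorem orth_eigen {K : Type u} [Field K] (h2 : (2 : K) ≠ 0) {V : Type v} [AddCommGroup V]
    [Module K V] [FiniteDimensional K V] (B : LinearMap.BilinForm K V) (hs : B.IsSymm)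
    (hnd : B.Nondegenerate) (hdim : 3 ≤ Module.finrank K V) (f : V ≃ₗ[K] V)
    (hf : ∀ u w, B (f u) (f w) = B u w)
    (heig : ∀ v, B v v ≠ 0 → ∃ c : K, f v = c • v) : f = 1 ∨ f = LinearEquiv.neg K := by
  classical
  have : Invertible (2 : K) := invertibleOfNonzero h2
  obtain ⟨b, hb⟩ := LinearMap.BilinForm.exists_orthogonal_basis (LinearMap.BilinForm.isSymm_iff.mp hs)
  have hbb : ∀ i, B (b i) (b i) ≠ 0 := fun i =>
    LinearMap.IsOrthoᵢ.not_isOrtho_basis_self_of_separatingLeft hb hnd.1 i
  have hort : ∀ i j, i ≠ j → B (b i) (b j) = 0 := fun i j hij => hb hij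
  -- eigenvalues on the basis
  choose e he using fun i => heig (b i) (hbb i)
  -- pair lemma
  have pair : ∀ i j, i ≠ j → B (b i) (b i) + B (b j) (b j) ≠ 0 → e i = e j := by
    intro i j hij hne
    have hq : B (b i + b j) (b i + b j) ≠ 0 := by
      simp only [map_add, LinearMap.add_apply, hort i j hij, hort j i (Ne.symm hij), add_zero,
        zero_add]
      exact hne
    obtain ⟨c, hc⟩ := heig _ hq
    rw [map_add, he, he] at hc
    have h1 := congrArg (fun x => B x (b i)) hc
    have h2' := congrArg (fun x => B x (b j)) hc
    simp only [map_add, map_smul, LinearMap.add_apply, LinearMap.smul_apply, smul_eq_mul,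
      hort j i (Ne.symm hij), hort i j hij, mul_zero, add_zero, zero_add] at h1 h2'
    have h3 : e i = c := mul_right_cancel₀ (hbb i) h1
    have h4 : e j = c := mul_right_cancel₀ (hbb j) h2'
    rw [h3, h4]
  -- triple lemma
  have triple : ∀ i j l, i ≠ j → i ≠ l → j ≠ l →
      B (b i) (b i) + B (b j) (b j) + B (b l) (b l) ≠ 0 → e i = e j := by
    intro i j l hij hil hjl hne
    have hq : B (b i + b j + b l) (b i + b j + b l) ≠ 0 := by
      simp only [map_add, LinearMap.add_apply, hort i j hij, hort j i (Ne.symm hij),
        hort i l hil, hort l i (Ne.symm hil), hort j l hjl, hort l j (Ne.symm hjl), add_zero,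
        zero_add]
      exact hne
    obtain ⟨c, hc⟩ := heig _ hq
    rw [map_add, map_add, he, he, he] at hc
    have h1 := congrArg (fun x => B x (b i)) hc
    have h2' := congrArg (fun x => B x (b j)) hc
    simp only [map_add, map_smul, LinearMap.add_apply, LinearMap.smul_apply, smul_eq_mul,
      hort j i (Ne.symm hij), hort i j hij, hort i l hil, hort l i (Ne.symm hil), hort j l hjl,
      hort l j (Ne.symm hjl), mul_zero, add_zero, zero_add] at h1 h2'
    have h3 : e i = c := mul_right_cancel₀ (hbb i) h1
    have h4 : e j = c := mul_right_cancel₀ (hbb j) h2'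
    rw [h3, h4]
  -- all eigenvalues agree
  have hall : ∀ i j, e i = e j := by
    intro i j
    by_contra hne
    have hij : i ≠ j := fun h => hne (by rw [h])
    -- a third index
    obtain ⟨l, hli, hlj⟩ : ∃ l, l ≠ i ∧ l ≠ j := by
      by_contra hcon
      push Not at hcon
      have hsub : (Finset.univ : Finset (Fin (Module.finrank K V))) ⊆ {i, j} := by
        intro l _
        by_cases hl : l = i
        · simp [hl]
        · simp [hcon l hl]
      have hcard := Finset.card_le_card hsub
      rw [Finset.card_univ, Fintype.card_fin] at hcard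
      have := Finset.card_le_two (a := i) (b := j)
      omega
    have hsum : B (b i) (b i) + B (b j) (b j) = 0 := by
      by_contra h; exact hne (pair i j hij h)
    by_cases hlj' : e l = e j
    · -- then e l ≠ e i
      have hli' : e l ≠ e i := fun h => hne (h.symm.trans hlj')
      have hsum2 : B (b l) (b l) + B (b i) (b i) = 0 := by
        by_contra h; exact hli' (pair l i hli h)
      apply hne
      apply triple i j l hij (Ne.symm hli) (Ne.symm hlj)
      have : B (b i) (b i) + B (b j) (b j) + B (b l) (b l) = B (b l) (b l) := by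
        rw [hsum, zero_add]
      rw [this]
      exact hbb l
    · have hsum2 : B (b l) (b l) + B (b j) (b j) = 0 := by
        by_contra h; exact hlj' (pair l j hlj h)
      apply hne
      apply triple i j l hij (Ne.symm hli) (Ne.symm hlj)
      have : B (b i) (b i) + B (b j) (b j) + B (b l) (b l) = B (b l) (b l) := by
        rw [hsum, zero_add]
      rw [this]
      exact hbb l
  -- the common eigenvalue
  have hpos : 0 < Module.finrank K V := by omega
  let i0 : Fin (Module.finrank K V) := ⟨0, hpos⟩
  have hfe : ∀ i, f (b i) = e i0 • b i := fun i => by rw [he i, hall i i0]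
  have hsq : e i0 * e i0 = 1 := by
    have := hf (b i0) (b i0)
    rw [hfe i0] at this
    simp only [map_smul, LinearMap.smul_apply, smul_eq_mul] at this
    have h1 : (e i0 * e i0) * B (b i0) (b i0) = 1 * B (b i0) (b i0) := by
      rw [one_mul, mul_assoc]; exact this
    exact mul_right_cancel₀ (hbb i0) h1
  have hcases : e i0 = 1 ∨ e i0 = -1 := mul_self_eq_one_iff.mp hsq
  rcases hcases with h1 | h1
  · left
    apply LinearEquiv.toLinearMap_injective
    apply b.ext
    intro i
    simp [hfe i, h1]
  · right
    apply LinearEquiv.toLinearMap_injective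
    apply b.ext
    intro i
    simp [hfe i, h1]

end Cfsg.Agent.Lib.Helper5.Bal
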