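import Cfsg.Agent.Lib.Helper37.B2O5Defs

/-! # Bo hive (helper37, S1083), leaf BO-RED2: second reduction step. -/

set_option autoImplicit false
set_option linter.unusedSectionVars false
set_option linter.unusedVariables false

namespace Cfsg.Agent.Lib.Helper37.B2O5

open Matrix Module QuadraticMap
open Cfsg.Agent.Lib.Helper8 Cfsg.Agent.Lib.Helper13 Cfsg.Agent.Lib.Helper37 Cfsg.Agent.Lib.Helper43

variable {F : Type*} [Field F]

/-- a singular vector with `cb1 ≠ 0` is moved to `cb1 • f₁` by `X 6 * X 7 * X 4`. -/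
theorem red2_kill (w : I5 → F) (hQ : Q5 F w = 0) (hb : cb1 w ≠ 0) :
    act (Q5 F) (X 6 (cz w / cb1 w) * X 7 (ca2 w / cb1 w) * X 4 (cb2 w / cb1 w)) w =
      mk5 0 0 0 (cb1 w) 0 := by
  rw [Q5_apply] at hQ
  simp only [act_mul, act_X4, act_X7, act_X6, cz_mk5, ca1_mk5, ca2_mk5, cb1_mk5, cb2_mk5]
  apply ext5
  · simp only [cz_mk5]; field_simp; ring
  · simp only [ca1_mk5]; field_simp; linear_combination hQ
  · simp only [ca2_mk5]; field_simp; ring
  · simp only [cb1_mk5]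
  · simp only [cb2_mk5]; field_simp; ring

/-- `X 6 * X 7 * X 4` fixes `e₁`. -/
theorem red2_fix (a b c : F) : act (Q5 F) (X 6 a * X 7 b * X 4 c) ve1 = ve1 := by
  simp only [act_mul, act_X4, act_X7, act_X6, cz_mk5, ca1_mk5, ca2_mk5, cb1_mk5, cb2_mk5, ve1]
  apply ext5 <;> simp

/-- BO-RED2. -/
theorem red2 (g : OG F) (h1 : act (Q5 F) g ve1 = ve1) : ∃ h ∈ EE F,
    act (Q5 F) (h * g) ve1 = ve1 ∧ act (Q5 F) (h * g) vf1 = vf1 := by
  have hQ : Q5 F (act (Q5 F) g vf1) = 0 := by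
    rw [Q_act, Q5_apply]; simp [vf1]
  have hb : cb1 (act (Q5 F) g vf1) = 1 := by
    have hp := polar_act (Q5 F) g ve1 vf1
    rw [h1, polar_Q5, polar_Q5] at hp
    simpa [ve1, vf1] using hp
  have hb' : cb1 (act (Q5 F) g vf1) ≠ 0 := by rw [hb]; exact one_ne_zero
  refine ⟨X 6 (cz (act (Q5 F) g vf1) / cb1 (act (Q5 F) g vf1)) *
      X 7 (ca2 (act (Q5 F) g vf1) / cb1 (act (Q5 F) g vf1)) *
      X 4 (cb2 (act (Q5 F) g vf1) / cb1 (act (Q5 F) g vf1)), ?_, ?_, ?_⟩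
  · exact mul_mem (mul_mem (X_mem_EE _ _) (X_mem_EE _ _)) (X_mem_EE _ _)
  · rw [act_mul, h1, red2_fix]
  · rw [act_mul, red2_kill _ hQ hb', hb]; rfl

end Cfsg.Agent.Lib.Helper37.B2O5
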