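import Cfsg.Agent.Lib.Helper37.B2O5Defs

/-! # Bo hive (helper37, S1083), leaf BO-RED4: an isometry scaling the hyperbolic basis is diagonal. -/

set_option autoImplicit false
set_option linter.unusedSectionVars false
set_option linter.unusedVariables false

namespace Cfsg.Agent.Lib.Helper37.B2O5

open Matrix Module QuadraticMap
open Cfsg.Agent.Lib.Helper8 Cfsg.Agent.Lib.Helper13 Cfsg.Agent.Lib.Helper37 Cfsg.Agent.Lib.Helper43

variable {F : Type*} [Field F]

/-- the matrix entry `g i j` is the `i`-th coordinate of the image of the `j`-th basis vector. -/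
theorem red4_entry (g : OG F) (i j : I5) :
    ((g : GL I5 F) : Matrix I5 I5 F) i j = act (Q5 F) g (Pi.single j 1) i := by
  unfold act
  rw [Matrix.mulVec_single_one]
  rfl

theorem red4_vz : (Pi.single (Sum.inl ()) 1 : I5 → F) = vz := by
  apply ext5 <;> simp [vz, mk5, cz, ca1, ca2, cb1, cb2]

theorem red4_ve1 : (Pi.single (Sum.inr (Sum.inl 0)) 1 : I5 → F) = ve1 := by
  apply ext5 <;> simp [ve1, mk5, cz, ca1, ca2, cb1, cb2]

theorem red4_ve2 : (Pi.single (Sum.inr (Sum.inl 1)) 1 : I5 → F) = ve2 := by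
  apply ext5 <;> simp [ve2, mk5, cz, ca1, ca2, cb1, cb2]

theorem red4_vf1 : (Pi.single (Sum.inr (Sum.inr 0)) 1 : I5 → F) = vf1 := by
  apply ext5 <;> simp [vf1, mk5, cz, ca1, ca2, cb1, cb2]

theorem red4_vf2 : (Pi.single (Sum.inr (Sum.inr 1)) 1 : I5 → F) = vf2 := by
  apply ext5 <;> simp [vf2, mk5, cz, ca1, ca2, cb1, cb2]

/-- the image of `x₀` is a multiple of `x₀`. -/
theorem red4_vz_act (g : OG F) (c : F) (hc : c ≠ 0) (h1 : act (Q5 F) g ve1 = ve1)
    (h2 : act (Q5 F) g vf1 = vf1) (h3 : act (Q5 F) g ve2 = c • ve2)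
    (h4 : act (Q5 F) g vf2 = c⁻¹ • vf2) :
    ca1 (act (Q5 F) g vz) = 0 ∧ ca2 (act (Q5 F) g vz) = 0 ∧ cb1 (act (Q5 F) g vz) = 0 ∧
      cb2 (act (Q5 F) g vz) = 0 := by
  have p1 := polar_act (Q5 F) g vz ve1
  have p2 := polar_act (Q5 F) g vz vf1
  have p3 := polar_act (Q5 F) g vz ve2
  have p4 := polar_act (Q5 F) g vz vf2
  rw [h1, polar_Q5, polar_Q5] at p1
  rw [h2, polar_Q5, polar_Q5] at p2
  rw [h3, polar_Q5, polar_Q5] at p3
  rw [h4, polar_Q5, polar_Q5] at p4
  have hc' : c⁻¹ ≠ 0 := inv_ne_zero hc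
  refine ⟨?_, ?_, ?_, ?_⟩
  · simpa [vz, vf1] using p2
  · have : c⁻¹ * ca2 (act (Q5 F) g vz) = 0 := by simpa [vz, vf2, mul_comm] using p4
    exact (mul_eq_zero.mp this).resolve_left hc'
  · simpa [vz, ve1] using p1
  · have : c * cb2 (act (Q5 F) g vz) = 0 := by simpa [vz, ve2, mul_comm] using p3
    exact (mul_eq_zero.mp this).resolve_left hc

/-- BO-RED4. -/
theorem red4 (g : OG F) (c : F) (hc : c ≠ 0) (h1 : act (Q5 F) g ve1 = ve1)
    (h2 : act (Q5 F) g vf1 = vf1) (h3 : act (Q5 F) g ve2 = c • ve2)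
    (h4 : act (Q5 F) g vf2 = c⁻¹ • vf2) : g ∈ DD F := by
  obtain ⟨z1, z2, z3, z4⟩ := red4_vz_act g c hc h1 h2 h3 h4
  intro i j hij
  rw [red4_entry]
  rcases j with u | j | j
  · cases u
    rw [red4_vz]
    rcases i with u | i | i
    · cases u; exact absurd rfl hij
    · fin_cases i
      · exact z1
      · exact z2
    · fin_cases i
      · exact z3
      · exact z4
  · fin_cases j
    · show act (Q5 F) g (Pi.single (Sum.inr (Sum.inl 0)) 1) i = 0
      rw [red4_ve1, h1]
      rcases i with u | i | i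
      · rfl
      · fin_cases i
        · exact absurd rfl hij
        · rfl
      · fin_cases i <;> rfl
    · show act (Q5 F) g (Pi.single (Sum.inr (Sum.inl 1)) 1) i = 0
      rw [red4_ve2, h3]
      rcases i with u | i | i
      · simp [ve2, mk5]
      · fin_cases i
        · simp [ve2, mk5]
        · exact absurd rfl hij
      · fin_cases i <;> simp [ve2, mk5]
  · fin_cases j
    · show act (Q5 F) g (Pi.single (Sum.inr (Sum.inr 0)) 1) i = 0
      rw [red4_vf1, h2]
      rcases i with u | i | i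
      · rfl
      · fin_cases i <;> rfl
      · fin_cases i
        · exact absurd rfl hij
        · rfl
    · show act (Q5 F) g (Pi.single (Sum.inr (Sum.inr 1)) 1) i = 0
      rw [red4_vf2, h4]
      rcases i with u | i | i
      · simp [vf2, mk5]
      · fin_cases i <;> simp [vf2, mk5]
      · fin_cases i
        · simp [vf2, mk5]
        · exact absurd rfl hij

end Cfsg.Agent.Lib.Helper37.B2O5
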