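import Mathlib

set_option autoImplicit false
set_option linter.unusedSimpArgs false
set_option linter.unusedVariables false

/-! # C3 maximality: basic algebra of endomorphisms lying in a subgroup of `GL(V)` -/

namespace Cfsg.Agent.Lib.Helper13.CF

open Module

variable {F V : Type*} [Field F] [AddCommGroup V] [Module F V]

/-- the endomorphism `f` is (the underlying map of) an element of the subgroup `X` -/
def IsX (X : Subgroup (V ≃ₗ[F] V)) (f : Module.End F V) : Prop :=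
  ∃ g ∈ X, (g : V →ₗ[F] V) = f

theorem isX_coe {X : Subgroup (V ≃ₗ[F] V)} {g : V ≃ₗ[F] V} (hg : g ∈ X) :
    IsX X (g : V →ₗ[F] V) := ⟨g, hg, rfl⟩

theorem IsX.one {X : Subgroup (V ≃ₗ[F] V)} : IsX X 1 := ⟨1, X.one_mem, rfl⟩

theorem IsX.mul {X : Subgroup (V ≃ₗ[F] V)} {f g : Module.End F V} (hf : IsX X f)
    (hg : IsX X g) : IsX X (f * g) := by
  obtain ⟨a, ha, rfl⟩ := hf
  obtain ⟨b, hb, rfl⟩ := hg
  exact ⟨a * b, X.mul_mem ha hb, rfl⟩

theorem IsX.inv_of {X : Subgroup (V ≃ₗ[F] V)} {f f' : Module.End F V} (hf : IsX X f)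
    (h : f * f' = 1) : IsX X f' := by
  obtain ⟨a, ha, rfl⟩ := hf
  refine ⟨a⁻¹, X.inv_mem ha, ?_⟩
  ext v
  have h1 : (a : V →ₗ[F] V) (f' v) = v := by
    have := LinearMap.congr_fun h v
    simpa using this
  have h2 : a (f' v) = v := h1
  change a.symm v = f' v
  rw [LinearEquiv.symm_apply_eq, h2]

theorem IsX.bijective {X : Subgroup (V ≃ₗ[F] V)} {f : Module.End F V} (hf : IsX X f) :
    Function.Bijective f := by
  obtain ⟨a, ha, rfl⟩ := hf
  exact a.bijective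

/-- an element of `X` has a two-sided inverse endomorphism which again lies in `X` -/
theorem IsX.exists_inv {X : Subgroup (V ≃ₗ[F] V)} {f : Module.End F V} (hf : IsX X f) :
    ∃ f' : Module.End F V, IsX X f' ∧ f * f' = 1 ∧ f' * f = 1 := by
  obtain ⟨a, ha, rfl⟩ := hf
  refine ⟨(a⁻¹ : V ≃ₗ[F] V), ⟨a⁻¹, X.inv_mem ha, rfl⟩, ?_, ?_⟩
  · ext v; simp
  · ext v; simp

theorem IsX.unip_inv {X : Subgroup (V ≃ₗ[F] V)} {N : Module.End F V} (hN : N * N = 0)
    (h : IsX X (1 + N)) : IsX X (1 - N) := by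
  refine h.inv_of ?_
  have : (1 + N) * (1 - N) = 1 - N * N := by noncomm_ring
  rw [this, hN, sub_zero]

/-- the basic commutator formula: if `N₁ N₂ = 0` then `[1+N₂, 1+N₁] = 1 + N₂ N₁` -/
theorem IsX.comm {X : Subgroup (V ≃ₗ[F] V)} {N₁ N₂ : Module.End F V} (h1 : N₁ * N₁ = 0)
    (h2 : N₂ * N₂ = 0) (h12 : N₁ * N₂ = 0) (hx1 : IsX X (1 + N₁)) (hx2 : IsX X (1 + N₂)) :
    IsX X (1 + N₂ * N₁) := by
  have key : (1 + N₂) * (1 + N₁) * (1 - N₂) * (1 - N₁) = 1 + N₂ * N₁ := by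
    have e : (1 + N₂) * (1 + N₁) * (1 - N₂) * (1 - N₁) = 1 + N₂ * N₁ - N₂ * N₂ - N₁ * N₂
        - N₂ * (N₁ * N₂) - N₁ * N₁ - N₂ * (N₁ * N₁) + N₂ * N₂ * N₁ + N₁ * N₂ * N₁
        + N₂ * (N₁ * N₂) * N₁ := by noncomm_ring
    rw [e, h1, h2, h12]
    simp
  rw [← key]
  exact ((hx2.mul hx1).mul (hx2.unip_inv h2)).mul (hx1.unip_inv h1)

/-- conjugation -/
theorem IsX.conj {X : Subgroup (V ≃ₗ[F] V)} {g g' N : Module.End F V} (hg : IsX X g)
    (hgg' : g * g' = 1) (hN : IsX X (1 + N)) : IsX X (1 + g * N * g') := by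
  have : 1 + g * N * g' = g * (1 + N) * g' := by
    rw [mul_add, add_mul, mul_one, hgg']
  rw [this]
  exact (hg.mul hN).mul (hg.inv_of hgg')

/-- additivity for commuting-to-zero logarithms -/
theorem IsX.add {X : Subgroup (V ≃ₗ[F] V)} {N₁ N₂ : Module.End F V} (h12 : N₁ * N₂ = 0)
    (hx1 : IsX X (1 + N₁)) (hx2 : IsX X (1 + N₂)) : IsX X (1 + (N₁ + N₂)) := by
  have : 1 + (N₁ + N₂) = (1 + N₁) * (1 + N₂) := by
    have e : (1 + N₁) * (1 + N₂) = 1 + N₁ + N₂ + N₁ * N₂ := by noncomm_ring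
    rw [e, h12]; abel
  rw [this]
  exact hx1.mul hx2

theorem IsX.neg {X : Subgroup (V ≃ₗ[F] V)} {N : Module.End F V} (hN : N * N = 0)
    (h : IsX X (1 + N)) : IsX X (1 + -N) := by
  have := h.unip_inv hN
  rwa [sub_eq_add_neg] at this

/-- the rank one endomorphism `x ↦ φ x • a` -/
def r1 (φ : Dual F V) (a : V) : Module.End F V := φ.smulRight a

@[simp] theorem r1_apply (φ : Dual F V) (a x : V) : r1 φ a x = φ x • a := rfl

theorem one_add_r1 (φ : Dual F V) (a : V) : 1 + r1 φ a = LinearMap.transvection φ a := by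
  ext x
  simp [LinearMap.transvection.apply]

theorem r1_mul_r1 (φ ψ : Dual F V) (a b : V) : r1 φ a * r1 ψ b = r1 (φ b • ψ) a := by
  ext x
  simp [smul_smul, mul_comm]

theorem r1_sq {φ : Dual F V} {a : V} (h : φ a = 0) : r1 φ a * r1 φ a = 0 := by
  rw [r1_mul_r1, h, zero_smul]
  ext x; simp

theorem isX_transvection {X : Subgroup (V ≃ₗ[F] V)} {φ : Dual F V} {a : V} (h : φ a = 0)
    (hx : IsX X (1 + r1 φ a)) : LinearEquiv.transvection h ∈ X := by
  obtain ⟨g, hg, hgf⟩ := hx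
  have : g = LinearEquiv.transvection h := by
    apply LinearEquiv.toLinearMap_injective
    rw [hgf, one_add_r1]
    rfl
  rwa [← this]

end Cfsg.Agent.Lib.Helper13.CF
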