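import Cfsg.Agent.Lib.Helper13.CFA

set_option autoImplicit false
set_option linter.unusedSimpArgs false
set_option linter.unusedVariables false
set_option linter.unusedSectionVars false

/-! # C3 maximality: the `K`-structure -/

namespace Cfsg.Agent.Lib.Helper13.CF

open Module

variable (F : Type*) {K V : Type*} [Field F] [Field K] [Algebra F K] [AddCommGroup V] [Module F V]
  [Module K V] [IsScalarTower F K V]

/-- scalar multiplication by `k`, as an `F`-endomorphism -/
def sm (k : K) : Module.End F V := (k • (LinearMap.id : V →ₗ[K] V)).restrictScalars F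

@[simp] theorem sm_apply (k : K) (v : V) : sm F k v = k • v := rfl

/-- the `F`-endomorphism `v ↦ l v • c` for a `K`-linear form `l` -/
def ku (l : V →ₗ[K] K) (c : V) : Module.End F V := (l.smulRight c).restrictScalars F

@[simp] theorem ku_apply (l : V →ₗ[K] K) (c v : V) : ku F l c v = l v • c := rfl

theorem ku_mul_ku (l l' : V →ₗ[K] K) (c c' : V) :
    ku F l c * ku F l' c' = ku F (l c' • l') c := by
  ext v
  simp [smul_smul, mul_comm]

theorem ku_sq {l : V →ₗ[K] K} {c : V} (h : l c = 0) : ku F l c * ku F l c = 0 := by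
  rw [ku_mul_ku, h, zero_smul]
  ext v; simp

theorem one_add_ku (l : V →ₗ[K] K) (c : V) :
    1 + ku F l c = (LinearMap.transvection l c).restrictScalars F := by
  ext v
  simp [LinearMap.transvection.apply]

theorem sm_mul_ku (k : K) (l : V →ₗ[K] K) (c : V) : sm F k * ku F l c = ku F (k • l) c := by
  ext v
  simp [smul_smul, mul_comm]

variable {F}

/-- `f` normalises the field `K`, i.e. is `K`-semilinear -/
def NormE (K : Type*) [Field K] [Module K V] (f : Module.End F V) : Prop :=
  ∀ k : K, ∃ k' : K, ∀ v, f (k • v) = k' • f v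

/-- the hypothesis that `X` contains `N ∩ SL`. -/
def HX (K : Type*) [Field K] [Module K V] (X : Subgroup (V ≃ₗ[F] V)) : Prop :=
  ∀ g : V ≃ₗ[F] V, NormE K (g : V →ₗ[F] V) → LinearMap.det (g : V →ₗ[F] V) = 1 → g ∈ X

variable [Module.Finite F K] [Module.Finite K V]

theorem isX_of_klinear {X : Subgroup (V ≃ₗ[F] V)} (hX : HX K X) (e : V ≃ₗ[K] V)
    (hdet : Algebra.norm F (LinearMap.det (e : V →ₗ[K] V)) = 1) :
    IsX X ((e : V →ₗ[K] V).restrictScalars F) := by
  refine ⟨e.restrictScalars F, hX _ ?_ ?_, rfl⟩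
  · intro k
    exact ⟨k, fun v => by simp⟩
  · have : ((e.restrictScalars F : V ≃ₗ[F] V) : V →ₗ[F] V) =
        (e : V →ₗ[K] V).restrictScalars F := rfl
    rw [this, LinearMap.det_restrictScalars, hdet]

theorem isX_ku {X : Subgroup (V ≃ₗ[F] V)} (hX : HX K X) (l : V →ₗ[K] K) (c : V)
    (hne : 1 + l c ≠ 0) (hn : Algebra.norm F (1 + l c) = 1) : IsX X (1 + ku F l c) := by
  have hu : IsUnit (1 + l c) := isUnit_iff_ne_zero.mpr hne
  have := isX_of_klinear hX (LinearEquiv.dilatransvection hu) (by
    rw [LinearEquiv.dilatransvection.coe_toLinearMap, LinearMap.transvection.det, hn])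
  rw [LinearEquiv.dilatransvection.coe_toLinearMap] at this
  rw [one_add_ku]
  exact this

theorem isX_ku_zero {X : Subgroup (V ≃ₗ[F] V)} (hX : HX K X) (l : V →ₗ[K] K) (c : V)
    (h : l c = 0) : IsX X (1 + ku F l c) := by
  apply isX_ku hX
  · rw [h, add_zero]; exact one_ne_zero
  · rw [h, add_zero, map_one]

omit [AddCommGroup V] [Module F V] [Module K V] [IsScalarTower F K V] [Module.Finite K V] in
theorem exists_norm_one_not_mem [Finite K] (D : Submodule F K)
    (hD : Module.finrank F D + 1 = Module.finrank F K) (s : K) (hs : s ≠ 0) :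
    ∃ δ : K, δ ≠ 0 ∧ Algebra.norm F δ = 1 ∧ δ * s ∉ D := by
  classical
  by_contra hcon
  push Not at hcon
  have hFfin : Finite F := Finite.of_injective _ (algebraMap F K).injective
  let φ : Kˣ →* Fˣ := Units.map (Algebra.norm F : K →* F)
  have hsurj : Function.Surjective φ := FiniteField.unitsMap_norm_surjective F K
  have h1 : Nat.card φ.ker * Nat.card Fˣ = Nat.card Kˣ := by
    have := Subgroup.card_mul_index φ.ker
    rw [Subgroup.index_ker, MonoidHom.range_eq_top.mpr hsurj, Subgroup.card_top] at this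
    exact this
  have h2 : Nat.card φ.ker ≤ Nat.card {d : D // d ≠ 0} := by
    refine Nat.card_le_card_of_injective
      (fun δ : φ.ker => (⟨⟨(δ.1 : K) * s, ?_⟩, ?_⟩ : {d : D // d ≠ 0})) ?_
    · apply hcon _ (Units.ne_zero _)
      have := δ.2
      rw [MonoidHom.mem_ker] at this
      have h3 := congrArg Units.val this
      simpa [φ] using h3
    · intro h0
      have := congrArg Subtype.val h0
      simp at this
      exact hs this
    · intro a b hab
      simp only [Subtype.mk.injEq] at hab
      have := mul_right_cancel₀ hs hab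
      exact Subtype.ext (Units.ext this)
  have h3 : Nat.card {d : D // d ≠ 0} = Nat.card D - 1 := by
    have : Fintype D := Fintype.ofFinite D
    rw [Nat.card_eq_fintype_card, Nat.card_eq_fintype_card, Fintype.card_subtype_compl,
      Fintype.card_subtype_eq]
  have hq : 2 ≤ Nat.card F := by
    have := Finite.one_lt_card (α := F)
    omega
  have hcK : Nat.card K = Nat.card F ^ Module.finrank F K := Module.natCard_eq_pow_finrank
  have hcD : Nat.card D = Nat.card F ^ Module.finrank F D := Module.natCard_eq_pow_finrank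
  rw [Nat.card_units, Nat.card_units, hcK, ← hD, pow_succ] at h1
  rw [h3, hcD] at h2
  set q := Nat.card F
  set A := q ^ Module.finrank F D
  have hA : 1 ≤ A := Nat.one_le_pow _ _ (by omega)
  set n := Nat.card φ.ker
  obtain ⟨q', hq'⟩ : ∃ q', q = q' + 2 := ⟨q - 2, by omega⟩
  obtain ⟨A', hA'⟩ : ∃ A', A = A' + 1 := ⟨A - 1, by omega⟩
  rw [hq', hA'] at h1
  rw [hA'] at h2
  have h4 : n ≤ A' := by omega
  have h5 : n * (q' + 2 - 1) ≤ A' * (q' + 1) := by
    have : q' + 2 - 1 = q' + 1 := by omega
    rw [this]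
    exact Nat.mul_le_mul_right _ h4
  have h6 : (A' + 1) * (q' + 2) - 1 = A' * q' + 2 * A' + q' + 1 := by
    have : (A' + 1) * (q' + 2) = A' * q' + 2 * A' + q' + 2 := by ring
    omega
  rw [h1, h6] at h5
  nlinarith


end Cfsg.Agent.Lib.Helper13.CF
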