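import Cfsg.Agent.Lib.Helper13.CFB

set_option autoImplicit false
set_option linter.unusedSimpArgs false
set_option linter.unusedVariables false
set_option linter.unusedSectionVars false

/-! # C3 maximality: a map preserving all `K`-lines is `K`-semilinear -/

namespace Cfsg.Agent.Lib.Helper13.CF

open Module

variable {F K V : Type*} [Field F] [Field K] [Algebra F K] [AddCommGroup V] [Module F V]
  [Module K V] [IsScalarTower F K V] [Module.Finite K V]

/-- in dimension at least two, every vector has a vector outside its line -/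
theorem exists_not_mem_line (hm : 2 ≤ finrank K V) (v : V) : ∃ w : V, ∀ t : K, w ≠ t • v := by
  by_contra hcon
  push Not at hcon
  have : (⊤ : Submodule K V) ≤ Submodule.span K {v} := by
    intro w _
    obtain ⟨t, ht⟩ := hcon w
    rw [ht]
    exact Submodule.smul_mem _ _ (Submodule.mem_span_singleton_self v)
  have h1 : finrank K V ≤ 1 := by
    calc finrank K V = finrank K (⊤ : Submodule K V) := (finrank_top K V).symm
      _ ≤ finrank K (Submodule.span K {v}) := Submodule.finrank_mono this
      _ ≤ 1 := by
        have := finrank_span_le_card (R := K) ({v} : Set V)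
        simpa using this
  omega

theorem exists_ne_zero_of_two_le (hm : 2 ≤ finrank K V) : ∃ v : V, v ≠ 0 := by
  obtain ⟨w, hw⟩ := exists_not_mem_line hm (0 : V)
  exact ⟨w, fun h => hw 0 (by simp [h])⟩

theorem normE_of_lines [Finite K] (hm : 2 ≤ finrank K V) (x : Module.End F V)
    (hx : Function.Bijective x)
    (h : ∀ a : V, ∀ t : K, ∃ t' : K, x (t • a) = t' • x a) : NormE K x := by
  classical
  have hx0 : ∀ v, v ≠ 0 → x v ≠ 0 := fun v hv h0 => hv (hx.1 (by rw [h0, map_zero]))
  -- surjectivity of `x` from a line onto the image line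
  have hsurj : ∀ v, v ≠ 0 → ∀ t' : K, ∃ t : K, x (t • v) = t' • x v := by
    intro v hv
    let f : K → K := fun t => (h v t).choose
    have hf : ∀ t, x (t • v) = f t • x v := fun t => (h v t).choose_spec
    have hinj : Function.Injective f := by
      intro t₁ t₂ h12
      have : x (t₁ • v) = x (t₂ • v) := by rw [hf, hf, h12]
      have := hx.1 this
      have h3 : (t₁ - t₂) • v = 0 := by rw [sub_smul, this, sub_self]
      rcases smul_eq_zero.mp h3 with h4 | h4
      · exact sub_eq_zero.mp h4
      · exact absurd h4 hv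
    have hsur := Finite.surjective_of_injective hinj
    intro t'
    obtain ⟨t, ht⟩ := hsur t'
    exact ⟨t, by rw [hf, ht]⟩
  intro k
  -- the multiplier at `v`
  let κ : V → K := fun v => (h v k).choose
  have hκ : ∀ v, x (k • v) = κ v • x v := fun v => (h v k).choose_spec
  -- independence
  have hind : ∀ v w : V, v ≠ 0 → (∀ t : K, w ≠ t • v) → κ v = κ w := by
    intro v w hv hw
    have hw0 : w ≠ 0 := fun h0 => hw 0 (by simp [h0])
    have e1 : x (k • (v + w)) = κ (v + w) • x v + κ (v + w) • x w := by
      rw [hκ, map_add, smul_add]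
    have e2 : x (k • (v + w)) = κ v • x v + κ w • x w := by
      rw [smul_add, map_add, hκ, hκ]
    have e3 : (κ (v + w) - κ v) • x v + (κ (v + w) - κ w) • x w = 0 := by
      rw [sub_smul, sub_smul]
      have := e1.symm.trans e2
      have h5 : κ (v + w) • x v + κ (v + w) • x w - (κ v • x v + κ w • x w) = 0 := by
        rw [this, sub_self]
      rw [← h5]; abel
    have c2 : κ (v + w) - κ w = 0 := by
      by_contra hne
      -- then `x w` is a multiple of `x v`
      have : x w = (-(κ (v + w) - κ w)⁻¹ * (κ (v + w) - κ v)) • x v := by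
        have h6 : (κ (v + w) - κ w) • x w = -((κ (v + w) - κ v) • x v) := by
          rw [eq_neg_iff_add_eq_zero, add_comm]; exact e3
        have h7 : x w = (κ (v + w) - κ w)⁻¹ • ((κ (v + w) - κ w) • x w) := by
          rw [smul_smul, inv_mul_cancel₀ hne, one_smul]
        rw [h7, h6, smul_neg, smul_smul, neg_mul, neg_smul]
      obtain ⟨t, ht⟩ := hsurj v hv (-(κ (v + w) - κ w)⁻¹ * (κ (v + w) - κ v))
      rw [← this] at ht
      exact hw t (hx.1 ht).symm
    have c1 : κ (v + w) - κ v = 0 := by
      rw [c2, zero_smul, add_zero] at e3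
      rcases smul_eq_zero.mp e3 with h8 | h8
      · exact h8
      · exact absurd h8 (hx0 v hv)
    rw [← sub_eq_zero.mp c1, sub_eq_zero.mp c2]
  obtain ⟨v₀, hv₀⟩ := exists_ne_zero_of_two_le (K := K) (V := V) hm
  refine ⟨κ v₀, fun v => ?_⟩
  by_cases hv : v = 0
  · subst hv; simp
  rw [hκ v]
  congr 1
  by_cases hvv : ∀ t : K, v ≠ t • v₀
  · exact (hind v₀ v hv₀ hvv).symm
  · push Not at hvv
    obtain ⟨s, hs⟩ := hvv
    obtain ⟨w, hw⟩ := exists_not_mem_line hm v₀
    have hs0 : s ≠ 0 := fun h0 => hv (by rw [hs, h0, zero_smul])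
    have hw' : ∀ t : K, w ≠ t • v := by
      intro t ht
      exact hw (t * s) (by rw [ht, hs, smul_smul])
    rw [hind v w hv hw', ← hind v₀ w hv₀ hw]

theorem exists_bad_line [Finite K] (hm : 2 ≤ finrank K V) (x : Module.End F V)
    (hx : Function.Bijective x) (hn : ¬ NormE K x) :
    ∃ a : V, ∃ t : K, ∀ t' : K, x (t • a) ≠ t' • x a := by
  by_contra hcon
  push Not at hcon
  exact hn (normE_of_lines hm x hx hcon)

end Cfsg.Agent.Lib.Helper13.CF
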