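import Cfsg.Agent.Lib.Helper13.CFC

set_option autoImplicit false
set_option linter.unusedSimpArgs false
set_option linter.unusedVariables false
set_option linter.unusedSectionVars false

/-! # C3 maximality: existence of a good pair -/

namespace Cfsg.Agent.Lib.Helper13.CF

open Module

variable {F K V : Type*} [Field F] [Field K] [Algebra F K] [AddCommGroup V] [Module F V]
  [Module K V] [IsScalarTower F K V] [Module.Finite K V] [Module.Finite F K]

/-- the image under `g` of the `K`-line through `a` -/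
def Tset (K : Type*) [Field K] [Module K V] (g : V ≃ₗ[F] V) (a : V) : Set V :=
  {z | ∃ k : K, z = g (k • a)}

/-- the `K`-line through `a` -/
def Lset (K : Type*) [Field K] [Module K V] (a : V) : Set V := {z | ∃ t : K, z = t • a}

theorem Tset_add {g : V ≃ₗ[F] V} {a z z' : V} (hz : z ∈ Tset K g a) (hz' : z' ∈ Tset K g a) :
    z + z' ∈ Tset K g a := by
  obtain ⟨k, rfl⟩ := hz
  obtain ⟨k', rfl⟩ := hz'
  exact ⟨k + k', by rw [add_smul, map_add]⟩

theorem Tset_neg {g : V ≃ₗ[F] V} {a z : V} (hz : z ∈ Tset K g a) : -z ∈ Tset K g a := by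
  obtain ⟨k, rfl⟩ := hz
  exact ⟨-k, by rw [neg_smul, map_neg]⟩

theorem Tset_sub {g : V ≃ₗ[F] V} {a z z' : V} (hz : z ∈ Tset K g a) (hz' : z' ∈ Tset K g a) :
    z - z' ∈ Tset K g a := by
  rw [sub_eq_add_neg]; exact Tset_add hz (Tset_neg hz')

theorem Tset_smul {g : V ≃ₗ[F] V} {a z : V} (f : F) (hz : z ∈ Tset K g a) :
    f • z ∈ Tset K g a := by
  obtain ⟨k, rfl⟩ := hz
  exact ⟨f • k, by rw [smul_assoc f k a]; exact (LinearEquiv.map_smul g f (k • a)).symm⟩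

theorem Tset_zero {g : V ≃ₗ[F] V} {a : V} : (0 : V) ∈ Tset K g a := ⟨0, by simp⟩

theorem ncard_Tset [Finite K] {g : V ≃ₗ[F] V} {a : V} (ha : a ≠ 0) :
    (Tset K g a).ncard = Nat.card K := by
  have : Tset K g a = Set.range (fun k : K => g (k • a)) := by
    ext z; constructor
    · rintro ⟨k, rfl⟩; exact ⟨k, rfl⟩
    · rintro ⟨k, rfl⟩; exact ⟨k, rfl⟩
  rw [this, ← Nat.card_coe_set_eq]
  refine (Nat.card_congr (Equiv.ofInjective _ ?_)).symm
  intro k k' h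
  have := g.injective h
  have h3 : (k - k') • a = 0 := by rw [sub_smul, this, sub_self]
  rcases smul_eq_zero.mp h3 with h4 | h4
  · exact sub_eq_zero.mp h4
  · exact absurd h4 ha

omit [Field F] [Algebra F K] [Module F V] [IsScalarTower F K V] [Module.Finite K V]
  [Module.Finite F K] in
theorem ncard_Lset [Finite K] {a : V} (ha : a ≠ 0) : (Lset K a).ncard = Nat.card K := by
  have : Lset K a = Set.range (fun k : K => k • a) := by
    ext z; constructor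
    · rintro ⟨k, rfl⟩; exact ⟨k, rfl⟩
    · rintro ⟨k, rfl⟩; exact ⟨k, rfl⟩
  rw [this, ← Nat.card_coe_set_eq]
  refine (Nat.card_congr (Equiv.ofInjective _ ?_)).symm
  intro k k' h
  have h3 : (k - k') • a = 0 := by rw [sub_smul]; simpa [sub_eq_zero] using h
  rcases smul_eq_zero.mp h3 with h4 | h4
  · exact sub_eq_zero.mp h4
  · exact absurd h4 ha


/-- candidates for the maximisation -/
def IsCand (K : Type*) [Field K] [Module K V] (X : Subgroup (V ≃ₗ[F] V)) (g : V ≃ₗ[F] V)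
    (a₀ a₁ : V) : Prop :=
  g ∈ X ∧ a₀ ≠ 0 ∧ a₁ ≠ 0 ∧ Tset K g a₀ ≠ Lset K a₁

/-- the size of the intersection -/
noncomputable def score (K : Type*) [Field K] [Module K V] (g : V ≃ₗ[F] V) (a₀ a₁ : V) : ℕ :=
  (Tset K g a₀ ∩ Lset K a₁).ncard

theorem alt_of_max [Finite V] {X : Subgroup (V ≃ₗ[F] V)} (hX : HX K X) {g : V ≃ₗ[F] V}
    {a₀ a₁ : V} (hc : IsCand K X g a₀ a₁)
    (hmax : ∀ g' a₀' a₁', IsCand K X g' a₀' a₁' → score K g' a₀' a₁' ≤ score K g a₀ a₁)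
    (l₁ : V →ₗ[K] K) (hl : l₁ a₁ = 0) (k : K) :
    (∀ z ∈ Tset K g a₀, (k * l₁ z) • a₁ ∈ Tset K g a₀) ∨
      (∀ z ∈ Tset K g a₀, (k * l₁ z) • a₁ ∈ Tset K g a₀ → z ∈ Lset K a₁) := by
  classical
  by_cases h : ∀ z ∈ Tset K g a₀, (k * l₁ z) • a₁ ∈ Tset K g a₀
  · exact Or.inl h
  right
  push Not at h
  obtain ⟨z₀, hz₀T, hz₀⟩ := h
  obtain ⟨hgX, ha₀, ha₁, hne⟩ := hc
  have hGk : IsX X (1 + ku F (k • l₁) a₁) :=
    isX_ku_zero hX _ _ (by simp [hl])
  obtain ⟨gk, hgkX, hgk⟩ := hGk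
  have hgk_apply : ∀ z, gk z = z + (k * l₁ z) • a₁ := by
    intro z
    have := LinearMap.congr_fun hgk z
    simpa using this
  -- the new candidate
  have hc' : IsCand K X (g⁻¹ * gk * g) a₀ a₀ := by
    refine ⟨X.mul_mem (X.mul_mem (X.inv_mem hgX) hgkX) hgX, ha₀, ha₀, ?_⟩
    obtain ⟨k₀, rfl⟩ := hz₀T
    intro heq
    have hw : (g⁻¹ * gk * g) (k₀ • a₀) ∈ Tset K (g⁻¹ * gk * g) a₀ := ⟨k₀, rfl⟩
    rw [heq] at hw
    obtain ⟨t, ht⟩ := hw
    have h1 : gk (g (k₀ • a₀)) = g (t • a₀) := by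
      have : (g⁻¹ * gk * g) (k₀ • a₀) = g⁻¹ (gk (g (k₀ • a₀))) := rfl
      rw [this] at ht
      have h2 := congrArg g ht
      simpa using h2
    rw [hgk_apply] at h1
    apply hz₀
    have h3 : (k * l₁ (g (k₀ • a₀))) • a₁ = g (t • a₀) - g (k₀ • a₀) := by
      rw [← h1]; abel
    rw [h3]
    exact Tset_sub ⟨t, rfl⟩ ⟨k₀, rfl⟩
  have hle := hmax _ _ _ hc'
  -- the set `P`
  let P : Set V := {z | z ∈ Tset K g a₀ ∧ (k * l₁ z) • a₁ ∈ Tset K g a₀}
  have hPle : P.ncard ≤ score K (g⁻¹ * gk * g) a₀ a₀ := by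
    refine Set.ncard_le_ncard_of_injOn (fun z => g⁻¹ (gk z)) ?_ ?_ (Set.toFinite _)
    · rintro z ⟨⟨k', rfl⟩, hz2⟩
      refine ⟨⟨k', rfl⟩, ?_⟩
      have h4 : gk (g (k' • a₀)) ∈ Tset K g a₀ := by
        rw [hgk_apply]
        exact Tset_add ⟨k', rfl⟩ hz2
      obtain ⟨k'', hk''⟩ := h4
      refine ⟨k'', ?_⟩
      change g⁻¹ (gk (g (k' • a₀))) = k'' • a₀
      rw [hk'']
      change g.symm (g (k'' • a₀)) = k'' • a₀
      simp
    · intro z _ z' _ hzz'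
      have := (g⁻¹).injective hzz'
      exact gk.injective this
  have hDP : Tset K g a₀ ∩ Lset K a₁ ⊆ P := by
    rintro z ⟨hzT, ⟨t, rfl⟩⟩
    refine ⟨hzT, ?_⟩
    rw [map_smul, hl, smul_zero, mul_zero, zero_smul]
    exact Tset_zero
  have hPD : Tset K g a₀ ∩ Lset K a₁ = P :=
    Set.eq_of_subset_of_ncard_le hDP (hPle.trans hle) (Set.toFinite _)
  intro z hzT hz2
  have : z ∈ P := ⟨hzT, hz2⟩
  rw [← hPD] at this
  exact this.2

end Cfsg.Agent.Lib.Helper13.CF
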