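import Cfsg.Agent.Lib.Helper13.CFD

set_option autoImplicit false
set_option linter.unusedSimpArgs false
set_option linter.unusedVariables false
set_option linter.unusedSectionVars false

/-! # C3 maximality: existence of a good pair, II -/

namespace Cfsg.Agent.Lib.Helper13.CF

open Module

variable {F K V : Type*} [Field F] [Field K] [Algebra F K] [AddCommGroup V] [Module F V]
  [Module K V] [IsScalarTower F K V] [Module.Finite K V] [Module.Finite F K]

omit [AddCommGroup V] [Module F V] [Module K V] [IsScalarTower F K V] [Module.Finite K V]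
  [Module.Finite F K] in
theorem stab_mem_bot (hr : (finrank F K).Prime) (D' : Set K)
    (hadd : ∀ x y, x ∈ D' → y ∈ D' → x + y ∈ D') (hzero : (0 : K) ∈ D')
    (hsm : ∀ (f : F) x, x ∈ D' → f • x ∈ D') (hne : ∃ d ∈ D', d ≠ 0) (hnt : ∃ s, s ∉ D')
    (s : K) (hs : ∀ d ∈ D', s * d ∈ D') : ∃ f : F, s = algebraMap F K f := by
  let S : Subalgebra F K :=
    { carrier := {s | ∀ d ∈ D', s * d ∈ D'}
      mul_mem' := by
        intro a b ha hb d hd
        rw [mul_assoc]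
        exact ha _ (hb _ hd)
      add_mem' := by
        intro a b ha hb d hd
        rw [add_mul]
        exact hadd _ _ (ha _ hd) (hb _ hd)
      algebraMap_mem' := by
        intro f d hd
        rw [← Algebra.smul_def]
        exact hsm f d hd }
  have hsS : s ∈ S := hs
  rcases (Subalgebra.isSimpleOrder_of_finrank_prime F K hr).eq_bot_or_eq_top S with h | h
  · rw [h, Algebra.mem_bot] at hsS
    obtain ⟨f, hf⟩ := hsS
    exact ⟨f, hf.symm⟩
  · exfalso
    obtain ⟨d, hd, hd0⟩ := hne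
    obtain ⟨s', hs'⟩ := hnt
    apply hs'
    have : s' / d ∈ S := by rw [h]; exact Algebra.mem_top
    have h2 := this d hd
    rwa [div_mul_cancel₀ _ hd0] at h2

theorem exists_good_pair [Finite V] [Finite K] {X : Subgroup (V ≃ₗ[F] V)} (hX : HX K X)
    (hr : (finrank F K).Prime) (hm : 2 ≤ finrank K V)
    (x : V ≃ₗ[F] V) (hx : x ∈ X) (hn : ¬ NormE K (x : V →ₗ[F] V)) :
    ∃ (g : V ≃ₗ[F] V) (a₀ a₁ : V) (l₁ : V →ₗ[K] K) (k₀ : K),
      g ∈ X ∧ a₀ ≠ 0 ∧ a₁ ≠ 0 ∧ l₁ a₁ = 0 ∧ l₁ (g (k₀ • a₀)) ≠ 0 ∧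
      (∀ k : K, ∃ f : F, l₁ (g (k • a₀)) = f • l₁ (g (k₀ • a₀))) ∧
      (∀ k : K, l₁ (g (k • a₀)) = 0 → ∃ t : K, g (k • a₀) = t • a₁) ∧
      (∃ k t : K, t ≠ 0 ∧ g (k • a₀) = t • a₁) := by
  classical
  obtain ⟨a, t, hbad⟩ := exists_bad_line hm (x : V →ₗ[F] V) x.bijective hn
  have hbad' : ∀ t' : K, x (t • a) ≠ t' • x a := hbad
  have ha : a ≠ 0 := by
    rintro rfl
    exact hbad' 0 (by simp)
  have hxa : x a ≠ 0 := fun h => ha (x.injective (by rw [h, map_zero]))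
  have hinit : IsCand K X x a (x a) := by
    refine ⟨hx, ha, hxa, fun heq => ?_⟩
    have : x (t • a) ∈ Tset K x a := ⟨t, rfl⟩
    rw [heq] at this
    obtain ⟨t', ht'⟩ := this
    exact hbad' t' ht'
  -- the maximiser
  let C := {p : (V ≃ₗ[F] V) × V × V // IsCand K X p.1 p.2.1 p.2.2}
  have : Finite (V ≃ₗ[F] V) := DFunLike.finite _
  have : Nonempty C := ⟨⟨(x, a, x a), hinit⟩⟩
  obtain ⟨⟨⟨g, a₀, a₁⟩, hc⟩, hmaxC⟩ :=
    Finite.exists_max (fun p : C => score K p.1.1 p.1.2.1 p.1.2.2)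
  have hmax : ∀ g' a₀' a₁', IsCand K X g' a₀' a₁' → score K g' a₀' a₁' ≤ score K g a₀ a₁ :=
    fun g' a₀' a₁' h' => hmaxC ⟨(g', a₀', a₁'), h'⟩
  change IsCand K X g a₀ a₁ at hc
  obtain ⟨hgX, ha₀, ha₁, hne⟩ := id hc
  -- the intersection has at least two elements
  have h2 : 2 ≤ score K g a₀ a₁ := by
    refine le_trans ?_ (hmax _ _ _ hinit)
    have hsub : ({0, x a} : Set V) ⊆ Tset K x a ∩ Lset K (x a) := by
      intro z hz
      rcases hz with rfl | rfl
      · exact ⟨Tset_zero, ⟨0, by simp⟩⟩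
      · exact ⟨⟨1, by simp⟩, ⟨1, by simp⟩⟩
    have := Set.ncard_le_ncard hsub (Set.toFinite _)
    rw [Set.ncard_pair (Ne.symm hxa)] at this
    exact this
  -- a nonzero element of the intersection
  have hD : ∃ k t : K, t ≠ 0 ∧ g (k • a₀) = t • a₁ := by
    by_contra hcon
    push Not at hcon
    have hsub : Tset K g a₀ ∩ Lset K a₁ ⊆ ({0} : Set V) := by
      rintro z ⟨⟨k, rfl⟩, ⟨t, ht⟩⟩
      by_cases ht0 : t = 0
      · rw [ht, ht0, zero_smul]; rfl
      · exact absurd ht (hcon k t ht0)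
    have := Set.ncard_le_ncard hsub (Set.toFinite _)
    rw [Set.ncard_singleton] at this
    unfold score at h2
    omega
  -- `T ⊄ L₁`
  have hTL : ∃ k₀ : K, ∀ t : K, g (k₀ • a₀) ≠ t • a₁ := by
    by_contra hcon
    push Not at hcon
    apply hne
    refine Set.eq_of_subset_of_ncard_le ?_ ?_ (Set.toFinite _)
    · rintro z ⟨k, rfl⟩
      obtain ⟨t, ht⟩ := hcon k
      exact ⟨t, ht⟩
    · rw [ncard_Tset ha₀, ncard_Lset ha₁]
  obtain ⟨k₀, hk₀⟩ := hTL
  have hz₁ : g (k₀ • a₀) ∉ Submodule.span K {a₁} := by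
    rw [Submodule.mem_span_singleton]
    rintro ⟨t, ht⟩
    exact hk₀ t ht.symm
  obtain ⟨l₁, hl₁z, hl₁⟩ := Submodule.exists_le_ker_of_notMem hz₁
  have hl : l₁ a₁ = 0 := hl₁ (Submodule.mem_span_singleton_self a₁)
  have halt := fun k => alt_of_max hX hc hmax l₁ hl k
  set α := l₁ (g (k₀ • a₀)) with hα
  -- the set `D'`
  let D' : Set K := {s | s • a₁ ∈ Tset K g a₀}
  have hD'add : ∀ x y, x ∈ D' → y ∈ D' → x + y ∈ D' := by
    intro x y hx hy
    change (x + y) • a₁ ∈ Tset K g a₀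
    rw [add_smul]; exact Tset_add hx hy
  have hD'zero : (0 : K) ∈ D' := by
    change (0 : K) • a₁ ∈ Tset K g a₀
    rw [zero_smul]; exact Tset_zero
  have hD'sm : ∀ (f : F) x, x ∈ D' → f • x ∈ D' := by
    intro f x hx
    change (f • x) • a₁ ∈ Tset K g a₀
    rw [smul_assoc]; exact Tset_smul f hx
  have hD'ne : ∃ d ∈ D', d ≠ 0 := by
    obtain ⟨k, t, ht0, ht⟩ := hD
    exact ⟨t, ⟨k, ht.symm⟩, ht0⟩
  have hD'nt : ∃ s, s ∉ D' := by
    by_contra hcon
    push Not at hcon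
    apply hne
    symm
    refine Set.eq_of_subset_of_ncard_le ?_ ?_ (Set.toFinite _)
    · rintro z ⟨t, rfl⟩
      exact hcon t
    · rw [ncard_Tset ha₀, ncard_Lset ha₁]
  -- (i) the kernel of `l₁` on `T` lies in `L₁`
  have hker : ∀ k : K, l₁ (g (k • a₀)) = 0 → ∃ t : K, g (k • a₀) = t • a₁ := by
    -- some `k ≠ 0` satisfies the second alternative
    have : ∃ k : K, k ≠ 0 ∧
        (∀ z ∈ Tset K g a₀, (k * l₁ z) • a₁ ∈ Tset K g a₀ → z ∈ Lset K a₁) := by
      by_contra hcon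
      push Not at hcon
      obtain ⟨s, hs⟩ := hD'nt
      apply hs
      by_cases hs0 : s = 0
      · rw [hs0]; exact hD'zero
      have hk : s / α ≠ 0 := div_ne_zero hs0 hl₁z
      rcases halt (s / α) with h | h
      · have := h (g (k₀ • a₀)) ⟨k₀, rfl⟩
        rwa [← hα, div_mul_cancel₀ _ hl₁z] at this
      · obtain ⟨z, hz1, hz2, hz3⟩ := hcon (s / α) hk
        exact absurd (h z hz1 hz2) hz3
    obtain ⟨k, hk0, hk⟩ := this
    intro k' hk'
    have := hk (g (k' • a₀)) ⟨k', rfl⟩ (by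
      rw [hk', mul_zero, zero_smul]; exact Tset_zero)
    exact this
  -- (ii) ratios stabilise `D'`
  have hratio : ∀ k : K, l₁ (g (k • a₀)) ≠ 0 → ∀ d ∈ D', (l₁ (g (k • a₀)) / α) * d ∈ D' := by
    intro k hk d hd
    by_cases hd0 : d = 0
    · rw [hd0, mul_zero]; exact hD'zero
    rcases halt (d / α) with h | h
    · have := h (g (k • a₀)) ⟨k, rfl⟩
      have e : d / α * l₁ (g (k • a₀)) = l₁ (g (k • a₀)) / α * d := by
        field_simp
      rw [e] at this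
      exact this
    · exfalso
      have := h (g (k₀ • a₀)) ⟨k₀, rfl⟩ (by
        rw [← hα, div_mul_cancel₀ _ hl₁z]; exact hd)
      obtain ⟨t, ht⟩ := this
      exact hk₀ t ht
  refine ⟨g, a₀, a₁, l₁, k₀, hgX, ha₀, ha₁, hl, hl₁z, ?_, hker, hD⟩
  intro k
  by_cases hk : l₁ (g (k • a₀)) = 0
  · exact ⟨0, by rw [hk, zero_smul]⟩
  obtain ⟨f, hf⟩ := stab_mem_bot hr D' hD'add hD'zero hD'sm hD'ne hD'nt _ (hratio k hk)
  refine ⟨f, ?_⟩
  rw [Algebra.smul_def, ← hf, div_mul_cancel₀ _ hl₁z]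

end Cfsg.Agent.Lib.Helper13.CF
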