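import Cfsg.Agent.Lib.Helper13.CFE

set_option autoImplicit false
set_option linter.unusedSimpArgs false
set_option linter.unusedVariables false
set_option linter.unusedSectionVars false

/-! # C3 maximality: consequences of a good pair -/

namespace Cfsg.Agent.Lib.Helper13.CF

open Module

variable {F K V : Type*} [Field F] [Field K] [Algebra F K] [AddCommGroup V] [Module F V]
  [Module K V] [IsScalarTower F K V] [Module.Finite K V] [Module.Finite F K]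

/-- a good pair -/
structure Good (K : Type*) [Field K] [Algebra F K] [Module K V] (X : Subgroup (V ≃ₗ[F] V))
    (g : V ≃ₗ[F] V) (a₀ a₁ : V) (l₁ : V →ₗ[K] K) (k₀ : K) : Prop where
  gX : g ∈ X
  ha₀ : a₀ ≠ 0
  ha₁ : a₁ ≠ 0
  hl : l₁ a₁ = 0
  hα : l₁ (g (k₀ • a₀)) ≠ 0
  hA : ∀ k : K, ∃ f : F, l₁ (g (k • a₀)) = f • l₁ (g (k₀ • a₀))
  hker : ∀ k : K, l₁ (g (k • a₀)) = 0 → ∃ t : K, g (k • a₀) = t • a₁
  hD : ∃ k t : K, t ≠ 0 ∧ g (k • a₀) = t • a₁

variable {X : Subgroup (V ≃ₗ[F] V)} {g : V ≃ₗ[F] V} {a₀ a₁ : V} {l₁ : V →ₗ[K] K} {k₀ : K}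

theorem Good.l₁_L (h : Good K X g a₀ a₁ l₁ k₀) {z : V} (hz : z ∈ Lset K a₁) : l₁ z = 0 := by
  obtain ⟨t, rfl⟩ := hz
  rw [map_smul, h.hl, smul_zero]

theorem Good.t₀_T (h : Good K X g a₀ a₁ l₁ k₀) : g (k₀ • a₀) ∈ Tset K g a₀ := ⟨k₀, rfl⟩

theorem Good.t₀_not_L (h : Good K X g a₀ a₁ l₁ k₀) : g (k₀ • a₀) ∉ Lset K a₁ :=
  fun hz => h.hα (h.l₁_L hz)

theorem Good.T_decomp (h : Good K X g a₀ a₁ l₁ k₀) {z : V} (hz : z ∈ Tset K g a₀) :
    ∃ f : F, z - f • g (k₀ • a₀) ∈ Tset K g a₀ ∧ z - f • g (k₀ • a₀) ∈ Lset K a₁ := by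
  obtain ⟨k, rfl⟩ := hz
  obtain ⟨f, hf⟩ := h.hA k
  refine ⟨f, Tset_sub ⟨k, rfl⟩ (Tset_smul f h.t₀_T), ?_⟩
  have e : g (k • a₀) - f • g (k₀ • a₀) = g ((k - f • k₀) • a₀) := by
    rw [sub_smul, map_sub, smul_assoc, LinearEquiv.map_smul]
  rw [e]
  obtain ⟨t, ht⟩ := h.hker (k - f • k₀) (by
    rw [← e, map_sub, hf]
    have : l₁ (f • g (k₀ • a₀)) = f • l₁ (g (k₀ • a₀)) := by
      have := (l₁.restrictScalars F).map_smul f (g (k₀ • a₀))
      exact this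
    rw [this, sub_self])
  exact ⟨t, ht⟩

/-- the intersection `D = T ∩ L₁` as a type -/
abbrev Dty (K : Type*) [Field K] [Module K V] (g : V ≃ₗ[F] V) (a₀ a₁ : V) : Type _ :=
  {z : V // z ∈ Tset K g a₀ ∧ z ∈ Lset K a₁}

omit [Field F] [Algebra F K] [Module F V] [IsScalarTower F K V] [Module.Finite K V]
  [Module.Finite F K] in
theorem Lset_add {a z z' : V} (hz : z ∈ Lset K a) (hz' : z' ∈ Lset K a) : z + z' ∈ Lset K a := by
  obtain ⟨k, rfl⟩ := hz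
  obtain ⟨k', rfl⟩ := hz'
  exact ⟨k + k', by rw [add_smul]⟩

omit [Field F] [Algebra F K] [Module F V] [IsScalarTower F K V] [Module.Finite K V]
  [Module.Finite F K] in
theorem Lset_sub {a z z' : V} (hz : z ∈ Lset K a) (hz' : z' ∈ Lset K a) : z - z' ∈ Lset K a := by
  obtain ⟨k, rfl⟩ := hz
  obtain ⟨k', rfl⟩ := hz'
  exact ⟨k - k', by rw [sub_smul]⟩

omit [Field F] [Algebra F K] [Module F V] [IsScalarTower F K V] [Module.Finite K V]
  [Module.Finite F K] in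
theorem Lset_smulK {a z : V} (s : K) (hz : z ∈ Lset K a) : s • z ∈ Lset K a := by
  obtain ⟨k, rfl⟩ := hz
  exact ⟨s * k, by rw [mul_smul]⟩

omit [Module.Finite K V] [Module.Finite F K] in
theorem Lset_smul {a z : V} (f : F) (hz : z ∈ Lset K a) : f • z ∈ Lset K a := by
  obtain ⟨k, rfl⟩ := hz
  exact ⟨f • k, by rw [smul_assoc]⟩

theorem Good.card_D [Finite V] [Finite K] (h : Good K X g a₀ a₁ l₁ k₀) :
    Nat.card (Dty K g a₀ a₁) * Nat.card F = Nat.card K := by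
  classical
  rw [← Nat.card_prod, ← ncard_Tset (F := F) (K := K) (g := g) h.ha₀, ← Nat.card_coe_set_eq]
  refine Nat.card_eq_of_bijective
    (fun p : Dty K g a₀ a₁ × F => (⟨p.1.1 + p.2 • g (k₀ • a₀),
      Tset_add p.1.2.1 (Tset_smul p.2 h.t₀_T)⟩ : Tset K g a₀)) ⟨?_, ?_⟩
  · rintro ⟨⟨d, hdT, hdL⟩, f⟩ ⟨⟨d', hdT', hdL'⟩, f'⟩ heq
    simp only [Subtype.mk.injEq] at heq
    have h1 : (f - f') • g (k₀ • a₀) = d' - d := by
      rw [sub_smul]
      have h2 : f • g (k₀ • a₀) - f' • g (k₀ • a₀) =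
          (d + f • g (k₀ • a₀) - (d + f' • g (k₀ • a₀))) := by abel
      rw [h2, heq]; abel
    have h2 : l₁ ((f - f') • g (k₀ • a₀)) = 0 := by
      rw [h1]; exact h.l₁_L (Lset_sub hdL' hdL)
    have h3 : l₁ ((f - f') • g (k₀ • a₀)) = (f - f') • l₁ (g (k₀ • a₀)) :=
      (l₁.restrictScalars F).map_smul _ _
    rw [h3] at h2
    have hff : f = f' := by
      rcases smul_eq_zero.mp h2 with h4 | h4
      · exact sub_eq_zero.mp h4
      · exact absurd h4 h.hα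
    subst hff
    have : d = d' := by simpa using heq
    subst this
    rfl
  · rintro ⟨z, hz⟩
    obtain ⟨f, hf1, hf2⟩ := h.T_decomp hz
    refine ⟨(⟨z - f • g (k₀ • a₀), hf1, hf2⟩, f), ?_⟩
    simp

theorem Good.exists_l [Finite V] [Finite K] (h : Good K X g a₀ a₁ l₁ k₀) :
    ∃ l : V, l ∈ Lset K a₁ ∧ l ∉ Tset K g a₀ := by
  by_contra hcon
  push Not at hcon
  have : Lset K a₁ = Tset K g a₀ := by
    refine Set.eq_of_subset_of_ncard_le hcon ?_ (Set.toFinite _)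
    rw [ncard_Tset h.ha₀, ncard_Lset h.ha₁]
  exact h.t₀_not_L (this ▸ h.t₀_T)

theorem Good.L_decomp [Finite V] [Finite K] (h : Good K X g a₀ a₁ l₁ k₀) {l : V}
    (hl : l ∈ Lset K a₁) (hlT : l ∉ Tset K g a₀) {z : V} (hz : z ∈ Lset K a₁) :
    ∃ f : F, z - f • l ∈ Tset K g a₀ ∧ z - f • l ∈ Lset K a₁ := by
  classical
  have hFfin : Finite F := Finite.of_injective _ (algebraMap F K).injective
  let ψ : Dty K g a₀ a₁ × F → Lset K a₁ := fun p =>
    ⟨p.1.1 + p.2 • l, Lset_add p.1.2.2 (Lset_smul p.2 hl)⟩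
  have hinj : Function.Injective ψ := by
    rintro ⟨⟨d, hdT, hdL⟩, f⟩ ⟨⟨d', hdT', hdL'⟩, f'⟩ heq
    simp only [ψ, Subtype.mk.injEq] at heq
    have h1 : (f - f') • l = d' - d := by
      rw [sub_smul]
      have h2 : f • l - f' • l = (d + f • l - (d + f' • l)) := by abel
      rw [h2, heq]; abel
    have hff : f = f' := by
      by_contra hne
      have hne' : f - f' ≠ 0 := sub_ne_zero.mpr hne
      apply hlT
      have : l = (f - f')⁻¹ • (d' - d) := by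
        rw [← h1, smul_smul, inv_mul_cancel₀ hne', one_smul]
      rw [this]
      exact Tset_smul _ (Tset_sub hdT' hdT)
    subst hff
    have : d = d' := by simpa using heq
    subst this
    rfl
  have hcard : Nat.card (Lset K a₁) ≤ Nat.card (Dty K g a₀ a₁ × F) := by
    rw [Nat.card_prod, h.card_D, Nat.card_coe_set_eq, ncard_Lset h.ha₁]
  have hbij := hinj.bijective_of_nat_card_le hcard
  obtain ⟨⟨⟨d, hdT, hdL⟩, f⟩, hp⟩ := hbij.2 ⟨z, hz⟩
  simp only [ψ, Subtype.mk.injEq] at hp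
  refine ⟨f, ?_, ?_⟩
  · rw [← hp, add_sub_cancel_right]; exact hdT
  · rw [← hp, add_sub_cancel_right]; exact hdL

end Cfsg.Agent.Lib.Helper13.CF
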