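import Cfsg.Agent.Lib.Helper13.CFF

set_option autoImplicit false
set_option linter.unusedSimpArgs false
set_option linter.unusedVariables false
set_option linter.unusedSectionVars false

/-! # C3 maximality: a transvection when `dim_K V ≥ 3` -/

namespace Cfsg.Agent.Lib.Helper13.CF

open Module

section general

variable {F W : Type*} [Field F] [AddCommGroup W] [Module F W]

theorem exists_coord {b : W} (hb : b ≠ 0) : ∃ π : W →ₗ[F] F, π b = 1 := by
  have : b ∉ (⊥ : Submodule F W) := by simpa using hb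
  obtain ⟨f, hf, -⟩ := Submodule.exists_le_ker_of_notMem this
  refine ⟨(f b)⁻¹ • f, ?_⟩
  simp [inv_mul_cancel₀ hf]

theorem rank_one_of_forall {N : Module.End F W} {b : W} (hb : b ≠ 0)
    (hN : ∀ v, ∃ f : F, N v = f • b) : ∃ φ : Dual F W, N = r1 φ b := by
  obtain ⟨π, hπ⟩ := exists_coord (F := F) hb
  refine ⟨π ∘ₗ N, ?_⟩
  ext v
  obtain ⟨f, hf⟩ := hN v
  simp [hf, hπ]

end general

variable {F K V : Type*} [Field F] [Field K] [Algebra F K] [AddCommGroup V] [Module F V]
  [Module K V] [IsScalarTower F K V] [Module.Finite K V] [Module.Finite F K]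

variable {X : Subgroup (V ≃ₗ[F] V)} {g : V ≃ₗ[F] V} {a₀ a₁ : V} {l₁ : V →ₗ[K] K} {k₀ : K}

/-- the conclusion: `X` contains a transvection -/
def HasTv (X : Subgroup (V ≃ₗ[F] V)) : Prop :=
  ∃ (φ : Dual F V) (b : V), φ ≠ 0 ∧ b ≠ 0 ∧ φ b = 0 ∧ IsX X (1 + r1 φ b)

omit [Module.Finite K V] [Module.Finite F K] in
theorem klin_smulF (l : V →ₗ[K] K) (f : F) (v : V) : l (f • v) = f • l v :=
  (l.restrictScalars F).map_smul f v

theorem coe_mul_symm (g : V ≃ₗ[F] V) :
    ((g : V →ₗ[F] V) : Module.End F V) * ((g.symm : V →ₗ[F] V) : Module.End F V) = 1 := by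
  ext v; simp

theorem transvection_of_three [Finite V] [Finite K] (hX : HX K X)
    (h : Good K X g a₀ a₁ l₁ k₀) (hm : 3 ≤ finrank K V) : HasTv X := by
  classical
  obtain ⟨l, hlL, hlT⟩ := h.exists_l
  set z₁ := g.symm l with hz₁
  -- a `K`-linear form vanishing on `a₀` and `z₁`
  have hsp : Submodule.span K {a₀, z₁} ≠ ⊤ := by
    intro htop
    have h1 : finrank K (Submodule.span K ({a₀, z₁} : Set V)) ≤ 2 := by
      have := finrank_span_le_card (R := K) ({a₀, z₁} : Set V)
      refine this.trans ?_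
      rw [Set.toFinset_card]
      have : Fintype.card ({a₀, z₁} : Set V) ≤ 2 := by
        rw [← Set.toFinset_card]
        simp only [Set.toFinset_insert, Set.toFinset_singleton]
        exact Finset.card_le_two
      exact this
    rw [htop, finrank_top] at h1
    omega
  obtain ⟨w, hw⟩ : ∃ w : V, w ∉ Submodule.span K ({a₀, z₁} : Set V) := by
    by_contra hcon
    push Not at hcon
    exact hsp (eq_top_iff.mpr fun x _ => hcon x)
  obtain ⟨lam, hlamw, hlam⟩ := Submodule.exists_le_ker_of_notMem hw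
  have hlam0 : lam a₀ = 0 := hlam (Submodule.subset_span (by simp))
  have hlam1 : lam z₁ = 0 := hlam (Submodule.subset_span (by simp))
  -- the two logarithms
  set N₁ : Module.End F V := ku F l₁ a₁ with hN₁
  set N₂ : Module.End F V := (g : V →ₗ[F] V) * ku F lam a₀ * (g.symm : V →ₗ[F] V) with hN₂
  have hN₂_apply : ∀ v, N₂ v = g (lam (g.symm v) • a₀) := fun v => rfl
  have hx1 : IsX X (1 + N₁) := isX_ku_zero hX l₁ a₁ h.hl
  have hx2 : IsX X (1 + N₂) :=
    (isX_coe h.gX).conj (coe_mul_symm g) (isX_ku_zero hX lam a₀ hlam0)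
  have hN₁sq : N₁ * N₁ = 0 := ku_sq F h.hl
  have hN₂sq : N₂ * N₂ = 0 := by
    ext v
    simp only [Module.End.mul_apply, hN₂_apply, LinearEquiv.symm_apply_apply, map_smul, hlam0,
      smul_zero, zero_smul, map_zero, LinearMap.zero_apply]
  -- `N₂` kills `L₁`
  have hN₂L : ∀ z ∈ Lset K a₁, N₂ z = 0 := by
    intro z hz
    obtain ⟨f, hfT, hfL⟩ := h.L_decomp hlL hlT hz
    obtain ⟨k, hk⟩ := hfT
    have e : g.symm z = k • a₀ + f • z₁ := by
      have : z = g (k • a₀) + f • l := by rw [← hk]; abel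
      rw [this, map_add, LinearEquiv.symm_apply_apply, LinearEquiv.map_smul]
    rw [hN₂_apply, e, map_add, LinearMap.map_smul lam k a₀, hlam0, klin_smulF, hlam1]
    simp
  have h21 : N₂ * N₁ = 0 := by
    ext v
    simp only [Module.End.mul_apply, LinearMap.zero_apply]
    apply hN₂L
    exact ⟨l₁ v, rfl⟩
  have hx : IsX X (1 + N₁ * N₂) := IsX.comm hN₂sq hN₁sq h21 hx2 hx1
  -- rank one
  set α := l₁ (g (k₀ • a₀)) with hα
  have hb : α • a₁ ≠ 0 := smul_ne_zero h.hα h.ha₁
  have hr1 : ∀ v, ∃ f : F, (N₁ * N₂) v = f • (α • a₁) := by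
    intro v
    obtain ⟨f, hf⟩ := h.hA (lam (g.symm v))
    refine ⟨f, ?_⟩
    simp only [Module.End.mul_apply, hN₂_apply, hN₁, ku_apply]
    rw [hf, smul_assoc]
  obtain ⟨φ, hφ⟩ := rank_one_of_forall hb hr1
  refine ⟨φ, α • a₁, ?_, hb, ?_, hφ ▸ hx⟩
  · -- `φ ≠ 0`
    rintro rfl
    have hzero : N₁ * N₂ = 0 := by rw [hφ]; ext v; simp
    have := LinearMap.congr_fun hzero (g ((k₀ / lam w) • w))
    simp only [Module.End.mul_apply, hN₂_apply, LinearEquiv.symm_apply_apply, map_smul,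
      smul_eq_mul, div_mul_cancel₀ _ hlamw, hN₁, ku_apply, LinearMap.zero_apply] at this
    exact hb this
  · -- `φ b = 0`
    have h0 : (N₁ * N₂) (α • a₁) = 0 := by
      simp only [Module.End.mul_apply]
      rw [hN₂L _ ⟨α, rfl⟩, map_zero]
    rw [hφ, r1_apply] at h0
    rcases smul_eq_zero.mp h0 with h1 | h1
    · exact h1
    · exact absurd h1 hb

end Cfsg.Agent.Lib.Helper13.CF
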