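import Cfsg.Agent.Lib.Helper13.CFG

set_option autoImplicit false
set_option linter.unusedSimpArgs false
set_option linter.unusedVariables false
set_option linter.unusedSectionVars false

/-! # C3 maximality: `dim_K V = 2`, set-up and the generic case -/

namespace Cfsg.Agent.Lib.Helper13.CF

open Module

variable {F K V : Type*} [Field F] [Field K] [Algebra F K] [AddCommGroup V] [Module F V]
  [Module K V] [IsScalarTower F K V] [Module.Finite K V] [Module.Finite F K]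

omit [Field F] [Algebra F K] [Module F V] [IsScalarTower F K V] [Module.Finite F K] in
theorem two_dim_decomp (h2 : finrank K V = 2) {a b : V} (ha : a ≠ 0) (hb : ∀ t : K, b ≠ t • a)
    (v : V) : ∃ x y : K, v = x • a + y • b := by
  have hli : LinearIndependent K ![a, b] := by
    rw [LinearIndependent.pair_iff' ha]
    intro t ht
    exact hb t ht.symm
  have hcard : Fintype.card (Fin 2) = finrank K V := by simp [h2]
  have hsp := hli.span_eq_top_of_card_eq_finrank' hcard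
  have hv : v ∈ Submodule.span K (Set.range ![a, b]) := by rw [hsp]; trivial
  have hr : Set.range ![a, b] = {a, b} := by
    ext z; simp [Fin.exists_fin_two, eq_comm, or_comm]
  rw [hr, Submodule.mem_span_pair] at hv
  obtain ⟨x, y, hxy⟩ := hv
  exact ⟨x, y, hxy.symm⟩

omit [Field F] [Algebra F K] [Module F V] [IsScalarTower F K V] [Module.Finite F K] in
/-- in dimension two, a nonzero form vanishing at `a ≠ 0` has kernel `K a` -/
theorem ker_eq_line (h2 : finrank K V = 2) {a : V} (ha : a ≠ 0) {l : V →ₗ[K] K} (hl : l a = 0)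
    {b : V} (hb : l b ≠ 0) {v : V} (hv : l v = 0) : v ∈ Lset K a := by
  have hba : ∀ t : K, b ≠ t • a := by
    intro t ht
    apply hb
    rw [ht, map_smul, hl, smul_zero]
  obtain ⟨x, y, hxy⟩ := two_dim_decomp h2 ha hba v
  have : y = 0 := by
    have h3 : l v = y * l b := by
      rw [hxy, map_add, map_smul, map_smul, hl, smul_zero, zero_add, smul_eq_mul]
    rw [hv] at h3
    rcases mul_eq_zero.mp h3.symm with h4 | h4
    · exact h4
    · exact absurd h4 hb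
  exact ⟨x, by rw [hxy, this, zero_smul, add_zero]⟩

omit [Field F] [Algebra F K] [Module F V] [IsScalarTower F K V] [Module.Finite F K] in
theorem exists_form_line (h2 : finrank K V = 2) {a : V} (ha : a ≠ 0) :
    ∃ l : V →ₗ[K] K, l a = 0 ∧ (∃ b, l b ≠ 0) ∧ ∀ v, l v = 0 → v ∈ Lset K a := by
  obtain ⟨b, hb⟩ := exists_not_mem_line (K := K) (by omega : 2 ≤ finrank K V) a
  have hb' : b ∉ Submodule.span K {a} := by
    rw [Submodule.mem_span_singleton]
    rintro ⟨t, ht⟩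
    exact hb t ht.symm
  obtain ⟨l, hlb, hl⟩ := Submodule.exists_le_ker_of_notMem hb'
  have hla : l a = 0 := hl (Submodule.mem_span_singleton_self a)
  exact ⟨l, hla, ⟨b, hlb⟩, fun v hv => ker_eq_line h2 ha hla hlb hv⟩

variable {X : Subgroup (V ≃ₗ[F] V)} {g : V ≃ₗ[F] V} {a₀ a₁ : V} {l₁ : V →ₗ[K] K} {k₀ : K}

/-- the logarithms of the conjugated root group -/
def wk (g : V ≃ₗ[F] V) (l₀ : V →ₗ[K] K) (a₀ : V) (k : K) : Module.End F V :=
  (g : V →ₗ[F] V) * ku F (k • l₀) a₀ * (g.symm : V →ₗ[F] V)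

omit [Module.Finite K V] [Module.Finite F K] in
theorem wk_apply (g : V ≃ₗ[F] V) (l₀ : V →ₗ[K] K) (a₀ : V) (k : K) (v : V) :
    wk g l₀ a₀ k v = g ((k * l₀ (g.symm v)) • a₀) := rfl

omit [Module.Finite K V] [Module.Finite F K] in
theorem wk_mem_T (g : V ≃ₗ[F] V) (l₀ : V →ₗ[K] K) (a₀ : V) (k : K) (v : V) :
    wk g l₀ a₀ k v ∈ Tset K g a₀ := ⟨_, rfl⟩

omit [Module.Finite K V] [Module.Finite F K] in
theorem wk_T (g : V ≃ₗ[F] V) {l₀ : V →ₗ[K] K} {a₀ : V} (hl₀ : l₀ a₀ = 0) (k : K) {z : V}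
    (hz : z ∈ Tset K g a₀) : wk g l₀ a₀ k z = 0 := by
  obtain ⟨k', rfl⟩ := hz
  rw [wk_apply, LinearEquiv.symm_apply_apply, LinearMap.map_smul l₀, hl₀]
  simp

omit [Module.Finite K V] [Module.Finite F K] in
theorem wk_sq (g : V ≃ₗ[F] V) {l₀ : V →ₗ[K] K} {a₀ : V} (hl₀ : l₀ a₀ = 0) (k : K) :
    wk g l₀ a₀ k * wk g l₀ a₀ k = 0 := by
  ext v
  rw [Module.End.mul_apply, wk_T g hl₀ k (wk_mem_T g l₀ a₀ k v)]
  rfl

theorem wk_isX (hX : HX K X) (hg : g ∈ X) {l₀ : V →ₗ[K] K} (hl₀ : l₀ a₀ = 0) (k : K) :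
    IsX X (1 + wk g l₀ a₀ k) :=
  (isX_coe hg).conj (coe_mul_symm g) (isX_ku_zero hX (k • l₀) a₀ (by simp [hl₀]))

omit [Module.Finite K V] [Module.Finite F K] in
theorem wk_ker (g : V ≃ₗ[F] V) {l₀ : V →ₗ[K] K} {a₀ : V} (ha₀ : a₀ ≠ 0)
    (hker : ∀ v, l₀ v = 0 → v ∈ Lset K a₀) {k : K} (hk : k ≠ 0) {v : V}
    (hv : wk g l₀ a₀ k v = 0) : v ∈ Tset K g a₀ := by
  rw [wk_apply] at hv
  have h1 : (k * l₀ (g.symm v)) • a₀ = 0 := g.injective (by rw [hv, map_zero])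
  have h2 : l₀ (g.symm v) = 0 := by
    rcases smul_eq_zero.mp h1 with h3 | h3
    · rcases mul_eq_zero.mp h3 with h4 | h4
      · exact absurd h4 hk
      · exact h4
    · exact absurd h3 ha₀
  obtain ⟨t, ht⟩ := hker _ h2
  exact ⟨t, by rw [← ht]; simp⟩

/-- choosing the parameter so that `l ↦ c` -/
theorem exists_wk [Finite V] [Finite K] (g : V ≃ₗ[F] V) {l₀ : V →ₗ[K] K} {a₀ : V}
    (hker : ∀ v, l₀ v = 0 → v ∈ Lset K a₀) {l : V} (hl : l ∉ Tset K g a₀) {c : V}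
    (hc : c ∈ Tset K g a₀) : ∃ k : K, wk g l₀ a₀ k l = c ∧ (c ≠ 0 → k ≠ 0) := by
  obtain ⟨kc, rfl⟩ := hc
  have h1 : l₀ (g.symm l) ≠ 0 := by
    intro h0
    obtain ⟨t, ht⟩ := hker _ h0
    exact hl ⟨t, by rw [← ht]; simp⟩
  refine ⟨kc / l₀ (g.symm l), ?_, ?_⟩
  · rw [wk_apply, div_mul_cancel₀ _ h1]
  · intro hne h0
    apply hne
    have : kc = 0 := by
      rcases div_eq_zero_iff.mp h0 with h2 | h2
      · exact h2
      · exact absurd h2 h1
    rw [this, zero_smul, map_zero]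

/-- step (b): a suitable `θ` yields a transvection -/
theorem tv_of_theta [Finite V] [Finite K] (hX : HX K X) (h : Good K X g a₀ a₁ l₁ k₀)
    (h2 : finrank K V = 2) (θ : Module.End F V) (hθL : ∀ v, θ v ∈ Lset K a₁)
    (hθ0 : ∀ z ∈ Lset K a₁, θ z = 0) (hθX : IsX X (1 + θ)) (hθt : θ (g (k₀ • a₀)) = 0)
    (hθne : ∃ v, θ v ∉ Tset K g a₀) : HasTv X := by
  classical
  obtain ⟨l₀, hl₀, -, hker₀⟩ := exists_form_line (K := K) h2 h.ha₀
  obtain ⟨l, hlL, hlT⟩ := h.exists_l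
  obtain ⟨kd, td, htd, hd⟩ := h.hD
  set c := g (kd • a₀) with hc
  have hcT : c ∈ Tset K g a₀ := ⟨kd, rfl⟩
  have hcL : c ∈ Lset K a₁ := ⟨td, hd⟩
  have hc0 : c ≠ 0 := by rw [hd]; exact smul_ne_zero htd h.ha₁
  obtain ⟨k, hkl, hk0⟩ := exists_wk g hker₀ hlT hcT
  have hk : k ≠ 0 := hk0 hc0
  set w := wk g l₀ a₀ k with hw
  have hwX : IsX X (1 + w) := wk_isX hX h.gX hl₀ k
  have hwsq : w * w = 0 := wk_sq g hl₀ k
  have hθsq : θ * θ = 0 := by
    ext v
    rw [Module.End.mul_apply, hθ0 _ (hθL v)]; rfl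
  have hθw : θ * w = 0 := by
    ext v
    rw [Module.End.mul_apply]
    obtain ⟨f, hfT, hfL⟩ := h.T_decomp (wk_mem_T g l₀ a₀ k v)
    have : w v = (w v - f • g (k₀ • a₀)) + f • g (k₀ • a₀) := by abel
    rw [this, map_add, hθ0 _ hfL, LinearMap.map_smul, hθt]
    simp
  have hx : IsX X (1 + w * θ) := IsX.comm hθsq hwsq hθw hθX hwX
  have hr1 : ∀ v, ∃ f : F, (w * θ) v = f • c := by
    intro v
    obtain ⟨f, hfT, hfL⟩ := h.L_decomp hlL hlT (hθL v)
    refine ⟨f, ?_⟩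
    have : θ v = (θ v - f • l) + f • l := by abel
    rw [Module.End.mul_apply, this, map_add, wk_T g hl₀ k hfT, LinearMap.map_smul, hkl, zero_add]
  obtain ⟨φ, hφ⟩ := rank_one_of_forall hc0 hr1
  refine ⟨φ, c, ?_, hc0, ?_, hφ ▸ hx⟩
  · rintro rfl
    obtain ⟨v₁, hv₁⟩ := hθne
    have hzero : w * θ = 0 := by rw [hφ]; ext v; simp
    have := LinearMap.congr_fun hzero v₁
    rw [Module.End.mul_apply, LinearMap.zero_apply] at this
    exact hv₁ (wk_ker g h.ha₀ hker₀ hk this)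
  · have h0 : (w * θ) c = 0 := by
      rw [Module.End.mul_apply, hθ0 _ hcL, map_zero]
    rw [hφ, r1_apply] at h0
    rcases smul_eq_zero.mp h0 with h1 | h1
    · exact h1
    · exact absurd h1 hc0

end Cfsg.Agent.Lib.Helper13.CF
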