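import Cfsg.Agent.Lib.Helper13.CFH

set_option autoImplicit false
set_option linter.unusedSimpArgs false
set_option linter.unusedVariables false
set_option linter.unusedSectionVars false

/-! # C3 maximality: `dim_K V = 2`, step (c) -/

namespace Cfsg.Agent.Lib.Helper13.CF

open Module

variable {F K V : Type*} [Field F] [Field K] [Algebra F K] [AddCommGroup V] [Module F V]
  [Module K V] [IsScalarTower F K V] [Module.Finite K V] [Module.Finite F K]

variable {X : Subgroup (V ≃ₗ[F] V)} {g : V ≃ₗ[F] V} {a₀ a₁ : V} {l₁ : V →ₗ[K] K} {k₀ : K}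

variable (K) in
/-- the `F`-subspace `D' = {s | s • a₁ ∈ T}` of `K` -/
def D'sub (g : V ≃ₗ[F] V) (a₀ a₁ : V) : Submodule F K where
  carrier := {s | s • a₁ ∈ Tset K g a₀}
  add_mem' := by
    intro x y hx hy
    change (x + y) • a₁ ∈ Tset K g a₀
    rw [add_smul]; exact Tset_add hx hy
  zero_mem' := by
    change (0 : K) • a₁ ∈ Tset K g a₀
    rw [zero_smul]; exact Tset_zero
  smul_mem' := by
    intro f x hx
    change (f • x) • a₁ ∈ Tset K g a₀
    rw [smul_assoc]; exact Tset_smul f hx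

theorem mem_D'sub {g : V ≃ₗ[F] V} {a₀ a₁ : V} {s : K} :
    s ∈ D'sub K g a₀ a₁ ↔ s • a₁ ∈ Tset K g a₀ := Iff.rfl

theorem Good.card_D' [Finite V] [Finite K] (h : Good K X g a₀ a₁ l₁ k₀) :
    Nat.card (D'sub K g a₀ a₁) * Nat.card F = Nat.card K := by
  rw [← h.card_D]
  congr 1
  refine Nat.card_eq_of_bijective
    (fun s : D'sub K g a₀ a₁ => (⟨s.1 • a₁, s.2, ⟨s.1, rfl⟩⟩ : Dty K g a₀ a₁)) ⟨?_, ?_⟩
  · rintro ⟨s, hs⟩ ⟨s', hs'⟩ heq
    simp only [Subtype.mk.injEq] at heq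
    have h3 : (s - s') • a₁ = 0 := by rw [sub_smul, heq, sub_self]
    rcases smul_eq_zero.mp h3 with h4 | h4
    · exact Subtype.ext (sub_eq_zero.mp h4)
    · exact absurd h4 h.ha₁
  · rintro ⟨z, hzT, ⟨t, rfl⟩⟩
    exact ⟨⟨t, hzT⟩, rfl⟩

theorem Good.finrank_D' [Finite V] [Finite K] (h : Good K X g a₀ a₁ l₁ k₀) :
    finrank F (D'sub K g a₀ a₁) + 1 = finrank F K := by
  have hFfin : Finite F := Finite.of_injective _ (algebraMap F K).injective
  have h1 := h.card_D'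
  rw [Module.natCard_eq_pow_finrank (K := F) (V := D'sub K g a₀ a₁),
    Module.natCard_eq_pow_finrank (K := F) (V := K), ← pow_succ] at h1
  have hq : 1 < Nat.card F := Finite.one_lt_card
  exact Nat.pow_right_injective hq h1

/-- step (c) -/
theorem tv_of_not_ku [Finite V] [Finite K] (hX : HX K X) (h : Good K X g a₀ a₁ l₁ k₀)
    (h2 : finrank K V = 2) (θ : Module.End F V) (hθL : ∀ v, θ v ∈ Lset K a₁)
    (hθ0 : ∀ z ∈ Lset K a₁, θ z = 0) (hθX : IsX X (1 + θ))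
    (hθne : ∀ k : K, θ ≠ ku F (k • l₁) a₁) : HasTv X := by
  classical
  set t₀ := g (k₀ • a₀) with ht₀
  set α := l₁ t₀ with hα
  have hα0 : α ≠ 0 := h.hα
  obtain ⟨β, hβ⟩ := hθL t₀
  set κ := β / α with hκ
  set θ₁ : Module.End F V := θ + ku F ((-κ) • l₁) a₁ with hθ₁
  have hθ₁_apply : ∀ v, θ₁ v = θ v + (-κ * l₁ v) • a₁ := fun v => rfl
  have hθ₁t : θ₁ t₀ = 0 := by
    rw [hθ₁_apply, hβ, ← hα, ← add_smul, hκ]
    have : β + -(β / α) * α = 0 := by field_simp; ring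
    rw [this, zero_smul]
  have hθ₁L : ∀ v, θ₁ v ∈ Lset K a₁ := by
    intro v
    rw [hθ₁_apply]
    exact Lset_add (hθL v) ⟨_, rfl⟩
  have hθ₁0 : ∀ z ∈ Lset K a₁, θ₁ z = 0 := by
    intro z hz
    rw [hθ₁_apply, hθ0 z hz, h.l₁_L hz]
    simp
  have hθ₁X : IsX X (1 + θ₁) := by
    refine IsX.add ?_ hθX (isX_ku_zero hX _ _ (by simp [h.hl]))
    ext v
    rw [Module.End.mul_apply]
    exact hθ0 _ ⟨_, rfl⟩
  have hθ₁ne : θ₁ ≠ 0 := by
    intro h0
    apply hθne κ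
    ext v
    have := LinearMap.congr_fun h0 v
    rw [hθ₁_apply, LinearMap.zero_apply] at this
    rw [ku_apply]
    have e : θ v = -((-κ * l₁ v) • a₁) := eq_neg_of_add_eq_zero_left this
    rw [e, ← neg_smul]
    simp
  obtain ⟨v₁, hv₁⟩ : ∃ v₁, θ₁ v₁ ≠ 0 := by
    by_contra hcon
    push Not at hcon
    exact hθ₁ne (LinearMap.ext hcon)
  obtain ⟨s₁, hs₁⟩ := hθ₁L v₁
  have hs₁0 : s₁ ≠ 0 := by
    rintro rfl
    exact hv₁ (by rw [hs₁, zero_smul])
  obtain ⟨δ, hδ0, hδn, hδ⟩ := exists_norm_one_not_mem (D'sub K g a₀ a₁) h.finrank_D' s₁ hs₁0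
  obtain ⟨μ₁, hμ₁⟩ := exists_coord (F := K) h.ha₁
  -- the dilatation
  set H : Module.End F V := 1 + ku F ((δ - 1) • μ₁) a₁ with hH
  set H' : Module.End F V := 1 + ku F ((δ⁻¹ - 1) • μ₁) a₁ with hH'
  have hHX : IsX X H := by
    apply isX_ku hX
    · simp only [LinearMap.smul_apply, hμ₁, smul_eq_mul, mul_one]
      rwa [add_sub_cancel]
    · simp only [LinearMap.smul_apply, hμ₁, smul_eq_mul, mul_one]
      rwa [add_sub_cancel]
  have hH'_apply : ∀ v, H' v = v + ((δ⁻¹ - 1) * μ₁ v) • a₁ := fun v => rfl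
  have hH_apply : ∀ v, H v = v + ((δ - 1) * μ₁ v) • a₁ := fun v => rfl
  have hHH' : H * H' = 1 := by
    ext v
    rw [Module.End.mul_apply, hH_apply, hH'_apply, map_add, LinearMap.map_smul μ₁, hμ₁,
      Module.End.one_apply, add_assoc, ← add_smul]
    have e : (δ⁻¹ - 1) * μ₁ v + (δ - 1) * (μ₁ v + ((δ⁻¹ - 1) * μ₁ v) • (1 : K)) = 0 := by
      rw [smul_eq_mul, mul_one]
      field_simp
      ring
    rw [e, zero_smul, add_zero]
  have hconj : H * θ₁ * H' = sm F δ * θ₁ := by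
    ext v
    simp only [Module.End.mul_apply, sm_apply]
    have e1 : θ₁ (H' v) = θ₁ v := by
      rw [hH'_apply, map_add, hθ₁0 _ ⟨_, rfl⟩, add_zero]
    rw [e1]
    obtain ⟨s, hs⟩ := hθ₁L v
    rw [hs, hH_apply, LinearMap.map_smul μ₁, hμ₁, smul_smul δ s a₁, ← add_smul]
    congr 1
    rw [smul_eq_mul, mul_one]
    ring
  have hθ'X : IsX X (1 + sm F δ * θ₁) := by
    rw [← hconj]
    exact hHX.conj hHH' hθ₁X
  refine tv_of_theta hX h h2 (sm F δ * θ₁) ?_ ?_ hθ'X ?_ ⟨v₁, ?_⟩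
  · intro v
    rw [Module.End.mul_apply, sm_apply]
    exact Lset_smulK δ (hθ₁L v)
  · intro z hz
    rw [Module.End.mul_apply, hθ₁0 z hz, map_zero]
  · rw [Module.End.mul_apply, hθ₁t, map_zero]
  · rw [Module.End.mul_apply, sm_apply, hs₁, ← mul_smul]
    exact hδ

end Cfsg.Agent.Lib.Helper13.CF
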