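import Cfsg.Agent.Lib.Helper13.CFI

set_option autoImplicit false
set_option linter.unusedSimpArgs false
set_option linter.unusedVariables false
set_option linter.unusedSectionVars false

/-! # C3 maximality: `dim_K V = 2`, step (d) -/

namespace Cfsg.Agent.Lib.Helper13.CF

open Module

variable {F K V : Type*} [Field F] [Field K] [Algebra F K] [AddCommGroup V] [Module F V]
  [Module K V] [IsScalarTower F K V] [Module.Finite K V] [Module.Finite F K]

variable {X : Subgroup (V ≃ₗ[F] V)} {g : V ≃ₗ[F] V} {a₀ a₁ : V} {l₁ : V →ₗ[K] K} {k₀ : K}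

/-- the hypothesis of case (A): `X ∩ W` is just the `K`-root group -/
def AllKu (K : Type*) [Field K] [Algebra F K] [Module K V] [IsScalarTower F K V]
    (X : Subgroup (V ≃ₗ[F] V)) (a₁ : V) (l₁ : V →ₗ[K] K) : Prop :=
  ∀ θ : Module.End F V, (∀ v, θ v ∈ Lset K a₁) → (∀ z ∈ Lset K a₁, θ z = 0) → IsX X (1 + θ) →
    ∃ k : K, θ = ku F (k • l₁) a₁

theorem exists_algHom_of_allKu [Finite V] [Finite K] (hX : HX K X)
    (h : Good K X g a₀ a₁ l₁ k₀) (h2 : finrank K V = 2) (hall : AllKu K X a₁ l₁)
    {tl : K} (hlT : tl • a₁ ∉ Tset K g a₀) {c' : K} (hc' : c' ∈ D'sub K g a₀ a₁) :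
    ∃ (τ : K →ₐ[F] K) (e : K), (∀ d ∈ D'sub K g a₀ a₁, τ d * e = d) ∧ τ tl * e = tl + c' := by
  classical
  obtain ⟨l₀, hl₀, -, hker₀⟩ := exists_form_line (K := K) h2 h.ha₀
  have hlL : tl • a₁ ∈ Lset K a₁ := ⟨tl, rfl⟩
  obtain ⟨k, hkl, -⟩ := exists_wk g hker₀ hlT hc'
  set w := wk g l₀ a₀ k with hw
  have hwX : IsX X (1 + w) := wk_isX hX h.gX hl₀ k
  have hwsq : w * w = 0 := wk_sq g hl₀ k
  have ha₁ := h.ha₁
  have hcancel : ∀ x y : K, x • a₁ = y • a₁ → x = y := by
    intro x y hxy
    have h3 : (x - y) • a₁ = 0 := by rw [sub_smul, hxy, sub_self]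
    rcases smul_eq_zero.mp h3 with h4 | h4
    · exact sub_eq_zero.mp h4
    · exact absurd h4 ha₁
  -- `w` on `L₁`
  have hwL : ∀ z ∈ Lset K a₁, w z ∈ Lset K a₁ := by
    intro z hz
    obtain ⟨f, hfT, hfL⟩ := h.L_decomp hlL hlT hz
    have : z = (z - f • tl • a₁) + f • tl • a₁ := by abel
    rw [this, map_add, wk_T g hl₀ k hfT, LinearMap.map_smul, hkl, zero_add]
    exact Lset_smul f ⟨c', rfl⟩
  set G : Module.End F V := 1 + w with hG
  set G' : Module.End F V := 1 - w with hG'
  have hG_apply : ∀ v, G v = v + w v := fun v => rfl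
  have hG'_apply : ∀ v, G' v = v - w v := fun v => rfl
  have hGG' : G * G' = 1 := by
    have : (1 + w) * (1 - w) = 1 - w * w := by noncomm_ring
    rw [hG, hG', this, hwsq, sub_zero]
  have hG'G : G' * G = 1 := by
    have : (1 - w) * (1 + w) = 1 - w * w := by noncomm_ring
    rw [hG, hG', this, hwsq, sub_zero]
  have hGinj : ∀ v, G v = 0 → v = 0 := by
    intro v hv
    have := LinearMap.congr_fun hG'G v
    rw [Module.End.mul_apply, hv, map_zero, Module.End.one_apply] at this
    exact this.symm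
  have hGL : ∀ z ∈ Lset K a₁, G z ∈ Lset K a₁ := fun z hz => by
    rw [hG_apply]; exact Lset_add hz (hwL z hz)
  have hG'L : ∀ z ∈ Lset K a₁, G' z ∈ Lset K a₁ := fun z hz => by
    rw [hG'_apply]; exact Lset_sub hz (hwL z hz)
  -- the induced map on `K`
  let A : K → K := fun s => (hGL (s • a₁) ⟨s, rfl⟩).choose
  have hA : ∀ s, G (s • a₁) = A s • a₁ := fun s => (hGL (s • a₁) ⟨s, rfl⟩).choose_spec
  have hAadd : ∀ s s', A (s + s') = A s + A s' := by
    intro s s'
    apply hcancel
    rw [← hA, add_smul, map_add, hA, hA, add_smul]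
  have hAsmul : ∀ (f : F) s, A (f • s) = f • A s := by
    intro f s
    apply hcancel
    rw [← hA, smul_assoc, LinearMap.map_smul, hA, smul_assoc]
  have hA1 : A 1 ≠ 0 := by
    intro h0
    have := hA 1
    rw [h0, zero_smul, one_smul] at this
    exact ha₁ (hGinj _ this)
  -- the normalisation relation
  have hrel : ∀ kk : K, ∃ k' : K, ∀ u : V, A (kk * l₁ u) = k' * l₁ (G u) := by
    intro kk
    have hθL : ∀ v, (G * ku F (kk • l₁) a₁ * G') v ∈ Lset K a₁ := by
      intro v
      simp only [Module.End.mul_apply]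
      exact hGL _ ⟨_, rfl⟩
    have hθ0 : ∀ z ∈ Lset K a₁, (G * ku F (kk • l₁) a₁ * G') z = 0 := by
      intro z hz
      simp only [Module.End.mul_apply, ku_apply, LinearMap.smul_apply]
      rw [h.l₁_L (hG'L z hz)]
      simp
    have hθX : IsX X (1 + G * ku F (kk • l₁) a₁ * G') :=
      hwX.conj hGG' (isX_ku_zero hX _ _ (by simp [h.hl]))
    obtain ⟨k', hk'⟩ := hall _ hθL hθ0 hθX
    refine ⟨k', fun u => ?_⟩
    have := LinearMap.congr_fun hk' (G u)
    simp only [Module.End.mul_apply, ku_apply, LinearMap.smul_apply, smul_eq_mul] at this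
    have e1 : G' (G u) = u := by
      have := LinearMap.congr_fun hG'G u
      simpa using this
    rw [e1, hA] at this
    exact hcancel _ _ this
  -- a vector with `l₁ u₁ = 1`
  set α := l₁ (g (k₀ • a₀)) with hα
  have hα0 : α ≠ 0 := h.hα
  set u₁ := α⁻¹ • g (k₀ • a₀) with hu₁
  have hlu : ∀ s : K, l₁ (s • u₁) = s := by
    intro s
    rw [hu₁, map_smul, map_smul, ← hα, smul_eq_mul, smul_eq_mul, inv_mul_cancel₀ hα0, mul_one]
  -- multiplicativity
  have hmul : ∀ kk s : K, A (kk * s) * A 1 = A kk * A s := by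
    intro kk s
    obtain ⟨k', hk'⟩ := hrel kk
    obtain ⟨e', he'⟩ := hrel 1
    have he'0 : e' ≠ 0 := by
      intro h0
      have := he' ((1 : K) • u₁)
      rw [hlu 1, one_mul, h0, zero_mul] at this
      exact hA1 this
    have r1 : A (kk * s) = k' * l₁ (G (s • u₁)) := by
      have := hk' (s • u₁); rwa [hlu] at this
    have r2 : A s = e' * l₁ (G (s • u₁)) := by
      have := he' (s • u₁); rwa [hlu, one_mul] at this
    have r3 : A kk = k' * l₁ (G ((1 : K) • u₁)) := by
      have := hk' ((1 : K) • u₁); rwa [hlu, mul_one] at this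
    have r4 : A 1 = e' * l₁ (G ((1 : K) • u₁)) := by
      have := he' ((1 : K) • u₁); rwa [hlu, one_mul] at this
    rw [r1, r2, r3, r4]
    ring
  -- the algebra endomorphism
  let τ : K →ₐ[F] K :=
    { toFun := fun kk => A kk / A 1
      map_one' := div_self hA1
      map_mul' := by
        intro x y
        rw [div_mul_div_comm, ← hmul x y, mul_div_mul_right _ _ hA1]
      map_zero' := by
        have : A 0 = 0 := by
          have := hAadd 0 0
          rw [add_zero] at this
          exact left_eq_add.mp this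
        simp [this]
      map_add' := by
        intro x y
        rw [hAadd, add_div]
      commutes' := by
        intro f
        change A (algebraMap F K f) / A 1 = algebraMap F K f
        rw [Algebra.algebraMap_eq_smul_one, hAsmul, Algebra.smul_def, mul_div_assoc,
          div_self hA1, mul_one, ← Algebra.algebraMap_eq_smul_one] }
  have hτ : ∀ kk, τ kk * A 1 = A kk := fun kk => div_mul_cancel₀ _ hA1
  refine ⟨τ, A 1, ?_, ?_⟩
  · intro d hd
    rw [hτ]
    apply hcancel
    rw [← hA, hG_apply, wk_T g hl₀ k hd, add_zero]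
  · rw [hτ]
    apply hcancel
    rw [← hA, hG_apply, hkl, add_smul]

theorem card_D'_le_of_allKu [Finite V] [Finite K] (hX : HX K X)
    (h : Good K X g a₀ a₁ l₁ k₀) (h2 : finrank K V = 2) (hall : AllKu K X a₁ l₁) :
    Nat.card (D'sub K g a₀ a₁) ≤ finrank F K := by
  classical
  obtain ⟨l, ⟨tl, rfl⟩, hlT⟩ := h.exists_l
  have key := fun c' : D'sub K g a₀ a₁ => exists_algHom_of_allKu hX h h2 hall hlT c'.2
  let ι : D'sub K g a₀ a₁ → (K →ₐ[F] K) := fun c' => (key c').choose
  have hι : ∀ c' : D'sub K g a₀ a₁, ∃ e : K,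
      (∀ d ∈ D'sub K g a₀ a₁, ι c' d * e = d) ∧ ι c' tl * e = tl + c'.1 :=
    fun c' => (key c').choose_spec
  obtain ⟨kd, td, htd, hd⟩ := h.hD
  have htdD : td ∈ D'sub K g a₀ a₁ := ⟨kd, hd.symm⟩
  have hinj : Function.Injective ι := by
    intro c cc hcc
    obtain ⟨e, he1, he2⟩ := hι c
    obtain ⟨e', he1', he2'⟩ := hι cc
    rw [← hcc] at he1' he2'
    have h1 := he1 td htdD
    have h2' := he1' td htdD
    have hne : ι c td ≠ 0 := by
      intro h0
      rw [h0, zero_mul] at h1
      exact htd h1.symm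
    have hee : e = e' := mul_left_cancel₀ hne (h1.trans h2'.symm)
    rw [← hee] at he2'
    have : tl + c.1 = tl + cc.1 := he2.symm.trans he2'
    exact Subtype.ext (add_left_cancel this)
  have : Fintype (K →ₐ[F] K) := Fintype.ofFinite _
  calc Nat.card (D'sub K g a₀ a₁) ≤ Nat.card (K →ₐ[F] K) := Nat.card_le_card_of_injective ι hinj
    _ = Fintype.card (K →ₐ[F] K) := Nat.card_eq_fintype_card
    _ ≤ finrank F K := by convert AlgHom.card_le (F := F) (K := K)

/-- step (d): in case (A) the field has two elements and `K` has degree two -/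
theorem small_of_allKu [Finite V] [Finite K] (hX : HX K X)
    (h : Good K X g a₀ a₁ l₁ k₀) (h2 : finrank K V = 2) (hr : (finrank F K).Prime)
    (hall : AllKu K X a₁ l₁) : Nat.card F = 2 ∧ finrank F K = 2 := by
  have hFfin : Finite F := Finite.of_injective _ (algebraMap F K).injective
  have h1 := card_D'_le_of_allKu hX h h2 hall
  have h3 := h.finrank_D'
  rw [Module.natCard_eq_pow_finrank (K := F) (V := D'sub K g a₀ a₁)] at h1
  have hq : 2 ≤ Nat.card F := Finite.one_lt_card
  set r := finrank F K with hr'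
  set d := finrank F (D'sub K g a₀ a₁) with hd'
  have hr2 : 2 ≤ r := hr.two_le
  have hd1 : d = r - 1 := by omega
  have h4 : 2 ^ d ≤ r := le_trans (Nat.pow_le_pow_left hq d) h1
  have hr3 : r = 2 := by
    by_contra hne
    have h5 : 3 ≤ r := by omega
    have h6 : r < 2 ^ d := by
      rw [hd1]
      have : ∀ n : ℕ, 3 ≤ n → n < 2 ^ (n - 1) := by
        intro n hn
        induction n, hn using Nat.le_induction with
        | base => norm_num
        | succ m hm ih =>
          have : m + 1 - 1 = (m - 1) + 1 := by omega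
          rw [this, pow_succ]
          omega
      exact this r h5
    omega
  refine ⟨?_, hr3⟩
  have hd2 : d = 1 := by omega
  rw [hd2, pow_one] at h1
  omega

end Cfsg.Agent.Lib.Helper13.CF
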