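import Cfsg.Agent.Lib.Helper13.CFJ

set_option autoImplicit false
set_option linter.unusedSimpArgs false
set_option linter.unusedVariables false
set_option linter.unusedSectionVars false

/-! # C3 maximality: the tiny case `|F| = 2`, `[K:F] = 2`, `dim_K V = 2`: field facts and the
explicit computations -/

namespace Cfsg.Agent.Lib.Helper13.CF

open Module

section field

variable {F K : Type*} [Field F] [Field K] [Algebra F K] [Module.Finite F K]

omit [Field K] [Algebra F K] [Module.Finite F K] in
theorem two_cases (hF : Nat.card F = 2) (f : F) : f = 0 ∨ f = 1 := by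
  obtain ⟨x, y, hxy, huniv⟩ := Nat.card_eq_two_iff.mp hF
  have h0 : (0 : F) ∈ ({x, y} : Set F) := huniv ▸ Set.mem_univ _
  have h1 : (1 : F) ∈ ({x, y} : Set F) := huniv ▸ Set.mem_univ _
  have hf : f ∈ ({x, y} : Set F) := huniv ▸ Set.mem_univ _
  simp only [Set.mem_insert_iff, Set.mem_singleton_iff] at h0 h1 hf
  have h01 : (0 : F) ≠ 1 := zero_ne_one
  rcases h0 with h0 | h0 <;> rcases h1 with h1 | h1 <;> rcases hf with hf | hf <;>
    first
    | exact Or.inl (hf.trans h0.symm)
    | exact Or.inr (hf.trans h1.symm)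
    | exact absurd (h0.trans h1.symm) h01

omit [Field K] [Algebra F K] [Module.Finite F K] in
theorem two_eq_zero_F (hF : Nat.card F = 2) : (1 + 1 : F) = 0 := by
  rcases two_cases hF (1 + 1) with h | h
  · exact h
  · exfalso
    have : (1 : F) = 0 := by
      have := congrArg (fun z => z - 1) h
      simpa using this
    exact one_ne_zero this

omit [Module.Finite F K] in
theorem two_eq_zero_K (hF : Nat.card F = 2) : (1 + 1 : K) = 0 := by
  have := congrArg (algebraMap F K) (two_eq_zero_F hF)
  simpa using this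

/-- an element `ω` generating `K`, with `ω² = ω + 1`, and the list of elements of `K` -/
theorem exists_omega (hF : Nat.card F = 2) (hr : finrank F K = 2) :
    ∃ ω : K, ω ≠ 0 ∧ ω ≠ 1 ∧ ω * ω = ω + 1 ∧ (∀ x : K, x = 0 ∨ x = 1 ∨ x = ω ∨ x = ω + 1) ∧
      (∀ x : K, ∃ f₀ f₁ : F, x = f₀ • (1 : K) + f₁ • ω) := by
  have h2K : (1 + 1 : K) = 0 := two_eq_zero_K hF
  -- an element outside `F`
  obtain ⟨ω, hω⟩ := exists_not_mem_line (K := F) (V := K) (by omega) (1 : K)
  have hω0 : ω ≠ 0 := fun h => hω 0 (by simp [h])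
  have hω1 : ω ≠ 1 := fun h => hω 1 (by simp [h])
  have hdec : ∀ x : K, ∃ f₀ f₁ : F, x = f₀ • (1 : K) + f₁ • ω :=
    fun x => two_dim_decomp hr one_ne_zero hω x
  have h4 : ∀ x : K, x = 0 ∨ x = 1 ∨ x = ω ∨ x = ω + 1 := by
    intro x
    obtain ⟨f₀, f₁, rfl⟩ := hdec x
    rcases two_cases hF f₀ with rfl | rfl <;> rcases two_cases hF f₁ with rfl | rfl
    · left; simp
    · right; right; left; simp
    · right; left; simp
    · right; right; right; simp [add_comm]
  refine ⟨ω, hω0, hω1, ?_, h4, hdec⟩
  rcases h4 (ω * ω) with h | h | h | h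
  · exact absurd (mul_self_eq_zero.mp h) hω0
  · exfalso
    have : (ω + 1) * (ω + 1) = 0 := by
      have e : (ω + 1) * (ω + 1) = ω * ω + (1 + 1) * ω + 1 := by ring
      rw [e, h, h2K, zero_mul, add_zero, h2K]
    have h5 : ω + 1 = 0 := mul_self_eq_zero.mp this
    have h6 : ω = 1 := by
      have : ω + 1 + 1 = 1 := by rw [h5, zero_add]
      rw [add_assoc, h2K, add_zero] at this
      exact this
    exact hω1 h6
  · exfalso
    have : ω * (ω - 1) = 0 := by rw [mul_sub, h, mul_one, sub_self]
    rcases mul_eq_zero.mp this with h5 | h5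
    · exact hω0 h5
    · exact hω1 (sub_eq_zero.mp h5)
  · exact h

end field


section small

variable {F K V : Type*} [Field F] [Field K] [Algebra F K] [AddCommGroup V] [Module F V]
  [Module K V] [IsScalarTower F K V]

theorem vv_of_two (hF : Nat.card F = 2) (v : V) : v + v = 0 := by
  have h := two_eq_zero_F hF
  have : v + v = (1 + 1 : F) • v := by rw [add_smul, one_smul]
  rw [this, h, zero_smul]

theorem vvw_of_two (hF : Nat.card F = 2) (v w : V) : v + (v + w) = w := by
  rw [← add_assoc, vv_of_two hF, zero_add]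

/-- the Frobenius map of `K`, as an `F`-linear map, when `|F| = 2` -/
def frobK (hF : Nat.card F = 2) : K →ₗ[F] K where
  toFun k := k * k
  map_add' a b := by
    have h2 : (1 + 1 : K) = 0 := two_eq_zero_K hF
    have : (a + b) * (a + b) = a * a + b * b + (1 + 1) * (a * b) := by ring
    rw [this, h2, zero_mul, add_zero]
  map_smul' f a := by
    simp only [RingHom.id_apply]
    rcases two_cases hF f with rfl | rfl
    · simp
    · simp

@[simp] theorem frobK_apply (hF : Nat.card F = 2) (k : K) : frobK (K := K) hF k = k * k := rfl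

/-- the semilinear involution attached to a `K`-basis, when `|F| = 2` -/
def sigmaHat (hF : Nat.card F = 2) (μd μt : V →ₗ[K] K) (d t₀ : V) : Module.End F V :=
  ((frobK (K := K) hF).comp (μd.restrictScalars F)).smulRight d +
    ((frobK (K := K) hF).comp (μt.restrictScalars F)).smulRight t₀

theorem sigmaHat_apply (hF : Nat.card F = 2) (μd μt : V →ₗ[K] K) (d t₀ v : V) :
    sigmaHat hF μd μt d t₀ v = (μd v * μd v) • d + (μt v * μt v) • t₀ := rfl

theorem sigmaHat_normE (hF : Nat.card F = 2) (μd μt : V →ₗ[K] K) (d t₀ : V) :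
    NormE K (sigmaHat hF μd μt d t₀) := by
  intro k
  refine ⟨k * k, fun v => ?_⟩
  rw [sigmaHat_apply, sigmaHat_apply, map_smul, map_smul, smul_add, smul_smul, smul_smul]
  congr 2 <;> simp only [smul_eq_mul] <;> ring

variable [Module.Finite F K] [Module.Finite K V]

/-- when `|F| = 2` every semilinear bijection lies in `X` -/
theorem isX_of_normE_two [Finite V] {X : Subgroup (V ≃ₗ[F] V)} (hF : Nat.card F = 2)
    (hX : HX K X) (f : Module.End F V) (hinj : Function.Injective f) (hN : NormE K f) :
    IsX X f := by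
  have hbij : Function.Bijective f := ⟨hinj, Finite.injective_iff_surjective.mp hinj⟩
  refine ⟨LinearEquiv.ofBijective f hbij, hX _ ?_ ?_, ?_⟩
  · intro k
    obtain ⟨k', hk'⟩ := hN k
    exact ⟨k', fun v => hk' v⟩
  · have hu := LinearEquiv.isUnit_det' (LinearEquiv.ofBijective f hbij)
    rcases two_cases hF (LinearMap.det ((LinearEquiv.ofBijective f hbij : V ≃ₗ[F] V) :
      V →ₗ[F] V)) with h | h
    · exact absurd h hu.ne_zero
    · exact h
  · ext v; rfl

omit [Field F] [Algebra F K] [Module F V] [IsScalarTower F K V] [Module.Finite F K] in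
/-- dual forms of a pair of independent vectors in dimension two -/
theorem exists_dual_pair (h2 : finrank K V = 2) {a b : V} (ha : a ≠ 0)
    (hb : ∀ t : K, b ≠ t • a) :
    ∃ μa μb : V →ₗ[K] K, μa a = 1 ∧ μa b = 0 ∧ μb a = 0 ∧ μb b = 1 ∧
      ∀ v, v = μa v • a + μb v • b := by
  have hli : LinearIndependent K ![a, b] := by
    rw [LinearIndependent.pair_iff' ha]
    intro t ht
    exact hb t ht.symm
  have hcard : Fintype.card (Fin 2) = finrank K V := by simp [h2]
  set B := basisOfLinearIndependentOfCardEqFinrank hli hcard with hB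
  have hB0 : B 0 = a := by
    rw [hB, coe_basisOfLinearIndependentOfCardEqFinrank]; rfl
  have hB1 : B 1 = b := by
    rw [hB, coe_basisOfLinearIndependentOfCardEqFinrank]; rfl
  refine ⟨B.coord 0, B.coord 1, ?_, ?_, ?_, ?_, ?_⟩
  · rw [← hB0]; simp
  · rw [← hB1]; simp
  · rw [← hB0]; simp
  · rw [← hB1]; simp
  · intro v
    have := B.sum_repr v
    rw [Fin.sum_univ_two, hB0, hB1] at this
    exact this.symm

end small

end Cfsg.Agent.Lib.Helper13.CF
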