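import Cfsg.Agent.Lib.Helper13.CFK

set_option autoImplicit false
set_option linter.unusedSimpArgs false
set_option linter.unusedVariables false
set_option linter.unusedSectionVars false

/-! # C3 maximality: the tiny case, table computations -/

namespace Cfsg.Agent.Lib.Helper13.CF

open Module

section tables

variable {F V : Type*} [Field F] [AddCommGroup V] [Module F V]
variable {X : Subgroup (V ≃ₗ[F] V)} {e₁ e₂ e₃ e₄ b : V}

/-- an element of `X` which on a spanning family differs from the identity by multiples of a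
fixed vector `b`, fixes `b` and is not the identity, is a transvection -/
theorem tv_of_tables
    (hspan : ∀ v : V, ∃ f₁ f₂ f₃ f₄ : F, v = f₁ • e₁ + f₂ • e₂ + f₃ • e₃ + f₄ • e₄)
    {M : Module.End F V} (hM : IsX X M) (hb : b ≠ 0) (c₁ c₂ c₃ c₄ : F)
    (h1 : M e₁ = e₁ + c₁ • b) (h2 : M e₂ = e₂ + c₂ • b) (h3 : M e₃ = e₃ + c₃ • b)
    (h4 : M e₄ = e₄ + c₄ • b) (hMb : M b = b) (hne : M ≠ 1) : HasTv X := by
  have hN : ∀ v, ∃ f : F, (M - 1) v = f • b := by
    intro v
    obtain ⟨f₁, f₂, f₃, f₄, rfl⟩ := hspan v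
    refine ⟨f₁ * c₁ + f₂ * c₂ + f₃ * c₃ + f₄ * c₄, ?_⟩
    simp only [LinearMap.sub_apply, Module.End.one_apply, map_add, map_smul, h1, h2, h3, h4]
    module
  obtain ⟨φ, hφ⟩ := rank_one_of_forall hb hN
  have hM' : 1 + r1 φ b = M := by rw [← hφ]; abel
  refine ⟨φ, b, ?_, hb, ?_, hM'.symm ▸ hM⟩
  · rintro rfl
    apply hne
    rw [← hM']
    ext v; simp
  · have h0 : (M - 1) b = 0 := by
      rw [LinearMap.sub_apply, hMb, Module.End.one_apply, sub_self]
    rw [hφ, r1_apply] at h0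
    rcases smul_eq_zero.mp h0 with h5 | h5
    · exact h5
    · exact absurd h5 hb

/-- the end-game when `ε = 1` -/
theorem tv_eps1 (hvv : ∀ v : V, v + v = 0)
    (hspan : ∀ v : V, ∃ f₁ f₂ f₃ f₄ : F, v = f₁ • e₁ + f₂ • e₂ + f₃ • e₃ + f₄ • e₄)
    (he₁ : e₁ ≠ 0) {W S : Module.End F V} (hW : IsX X (1 + W)) (hS : IsX X S)
    (W1 : W e₁ = 0) (W2 : W e₂ = e₁) (W3 : W e₃ = 0) (W4 : W e₄ = e₁ + e₃)
    (S1 : S e₁ = e₁) (S2 : S e₂ = e₂ + e₁) (S3 : S e₃ = e₃) (S4 : S e₄ = e₄ + e₃) :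
    HasTv X := by
  have hvvw : ∀ v w : V, v + (v + w) = w := fun v w => by rw [← add_assoc, hvv, zero_add]
  have hM : IsX X (S * (1 + W)) := hS.mul hW
  have M1 : (S * (1 + W)) e₁ = e₁ + (0 : F) • e₁ := by
    simp only [Module.End.mul_apply, LinearMap.add_apply, Module.End.one_apply, W1, add_zero, S1,
      zero_smul]
  have M2 : (S * (1 + W)) e₂ = e₂ + (0 : F) • e₁ := by
    simp only [Module.End.mul_apply, LinearMap.add_apply, Module.End.one_apply, W2, map_add, S1,
      S2, zero_smul, add_zero]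
    simp only [add_assoc, hvv, add_zero]
  have M3 : (S * (1 + W)) e₃ = e₃ + (0 : F) • e₁ := by
    simp only [Module.End.mul_apply, LinearMap.add_apply, Module.End.one_apply, W3, add_zero, S3,
      zero_smul]
  have M4 : (S * (1 + W)) e₄ = e₄ + (1 : F) • e₁ := by
    simp only [Module.End.mul_apply, LinearMap.add_apply, Module.End.one_apply, W4, map_add, S1,
      S3, S4, one_smul]
    simp only [add_assoc, add_left_comm, add_comm, hvv, hvvw, add_zero, zero_add]
  refine tv_of_tables hspan hM he₁ 0 0 0 1 M1 M2 M3 M4 ?_ ?_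
  · rw [M1, zero_smul, add_zero]
  · intro h1
    have := LinearMap.congr_fun h1 e₄
    rw [M4, one_smul, Module.End.one_apply] at this
    exact he₁ (add_eq_left.mp this)

/-- the end-game when `ε = 0` -/
theorem tv_eps0 (hvv : ∀ v : V, v + v = 0)
    (hspan : ∀ v : V, ∃ f₁ f₂ f₃ f₄ : F, v = f₁ • e₁ + f₂ • e₂ + f₃ • e₃ + f₄ • e₄)
    (hb : e₁ + e₃ + e₄ ≠ 0) {W H : Module.End F V} (hW : IsX X (1 + W)) (hH : IsX X H)
    (W1 : W e₁ = 0) (W2 : W e₂ = e₃) (W3 : W e₃ = 0) (W4 : W e₄ = e₃ + e₁)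
    (H1 : H e₁ = e₁ + e₄) (H2 : H e₂ = e₂ + e₄ + e₃) (H3 : H e₃ = e₂) (H4 : H e₄ = e₂ + e₁) :
    HasTv X := by
  have hvvw : ∀ v w : V, v + (v + w) = w := fun v w => by rw [← add_assoc, hvv, zero_add]
  set A : Module.End F V := (1 + W) * H with hA
  have hAX : IsX X A := hW.mul hH
  have A1 : A e₁ = e₃ + e₄ := by
    simp only [hA, Module.End.mul_apply, LinearMap.add_apply, Module.End.one_apply, H1, map_add,
      W1, W4]
    simp only [add_assoc, add_left_comm, add_comm, hvv, hvvw, add_zero, zero_add]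
  have A2 : A e₂ = e₁ + e₂ + e₃ + e₄ := by
    simp only [hA, Module.End.mul_apply, LinearMap.add_apply, Module.End.one_apply, H2, map_add,
      W2, W3, W4]
    simp only [add_assoc, add_left_comm, add_comm, hvv, hvvw, add_zero, zero_add]
  have A3 : A e₃ = e₂ + e₃ := by
    simp only [hA, Module.End.mul_apply, LinearMap.add_apply, Module.End.one_apply, H3, map_add,
      W2]
  have A4 : A e₄ = e₁ + e₂ + e₃ := by
    simp only [hA, Module.End.mul_apply, LinearMap.add_apply, Module.End.one_apply, H4, map_add,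
      W1, W2]
    simp only [add_assoc, add_left_comm, add_comm, hvv, hvvw, add_zero, zero_add]
  have M1 : (A * A) e₁ = e₁ + (0 : F) • (e₁ + e₃ + e₄) := by
    simp only [Module.End.mul_apply, A1, A2, A3, A4, map_add, zero_smul]
    simp only [add_assoc, add_left_comm, add_comm, hvv, hvvw, add_zero, zero_add]
  have M2 : (A * A) e₂ = e₂ + (0 : F) • (e₁ + e₃ + e₄) := by
    simp only [Module.End.mul_apply, A1, A2, A3, A4, map_add, zero_smul]
    simp only [add_assoc, add_left_comm, add_comm, hvv, hvvw, add_zero, zero_add]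
  have M3 : (A * A) e₃ = e₃ + (1 : F) • (e₁ + e₃ + e₄) := by
    simp only [Module.End.mul_apply, A1, A2, A3, A4, map_add, one_smul]
    simp only [add_assoc, add_left_comm, add_comm, hvv, hvvw, add_zero, zero_add]
  have M4 : (A * A) e₄ = e₄ + (1 : F) • (e₁ + e₃ + e₄) := by
    simp only [Module.End.mul_apply, A1, A2, A3, A4, map_add, one_smul]
    simp only [add_assoc, add_left_comm, add_comm, hvv, hvvw, add_zero, zero_add]
  refine tv_of_tables hspan (hAX.mul hAX) hb 0 0 1 1 M1 M2 M3 M4 ?_ ?_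
  · simp only [map_add, M1, M3, M4, zero_smul, one_smul]
    simp only [add_assoc, add_left_comm, add_comm, hvv, hvvw, add_zero, zero_add]
  · intro h1
    have := LinearMap.congr_fun h1 e₃
    rw [M3, one_smul, Module.End.one_apply] at this
    exact hb (add_eq_left.mp this)

end tables


variable {F K V : Type*} [Field F] [Field K] [Algebra F K] [AddCommGroup V] [Module F V]
  [Module K V] [IsScalarTower F K V] [Module.Finite K V] [Module.Finite F K]

variable {X : Subgroup (V ≃ₗ[F] V)} {g : V ≃ₗ[F] V} {a₀ a₁ : V} {l₁ : V →ₗ[K] K} {k₀ : K}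

/-- case (e): `|F| = 2`, `[K:F] = 2`, `dim_K V = 2` -/
theorem tv_small [Finite V] [Finite K] (hX : HX K X) (h : Good K X g a₀ a₁ l₁ k₀)
    (h2 : finrank K V = 2) (hF : Nat.card F = 2) (hr : finrank F K = 2) : HasTv X := by
  classical
  obtain ⟨ω, hω0, hω1, hωω, h4, hdecK⟩ := exists_omega hF hr
  have hvv : ∀ v : V, v + v = 0 := vv_of_two hF
  have hvvw : ∀ v w : V, v + (v + w) = w := vvw_of_two hF
  obtain ⟨l₀, hl₀, -, hker₀⟩ := exists_form_line (K := K) h2 h.ha₀
  obtain ⟨kd, td, htd, hd⟩ := h.hD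
  set d := g (kd • a₀) with hd_def
  have hdT : d ∈ Tset K g a₀ := ⟨kd, rfl⟩
  have hd0 : d ≠ 0 := by rw [hd]; exact smul_ne_zero htd h.ha₁
  have hkd0 : kd ≠ 0 := by
    rintro rfl
    apply hd0
    rw [hd_def, zero_smul, map_zero]
  have hωF : ∀ f : F, ω ≠ f • (1 : K) := by
    intro f
    rcases two_cases hF f with rfl | rfl
    · simpa using hω0
    · simpa using hω1
  -- `D'` is a line
  have hD'1 : finrank F (D'sub K g a₀ a₁) = 1 := by
    have := h.finrank_D'
    omega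
  have htdD : td ∈ D'sub K g a₀ a₁ := ⟨kd, hd.symm⟩
  have hD'line : ∀ s ∈ D'sub K g a₀ a₁, ∃ f : F, s = f • td := by
    intro s hs
    have hnz : (⟨td, htdD⟩ : D'sub K g a₀ a₁) ≠ 0 := by
      intro h0
      exact htd (congrArg Subtype.val h0)
    obtain ⟨c, hc⟩ := (finrank_eq_one_iff_of_nonzero' _ hnz).mp hD'1 ⟨s, hs⟩
    exact ⟨c, (congrArg Subtype.val hc).symm⟩
  have hTL : ∀ z, z ∈ Tset K g a₀ → z ∈ Lset K a₁ → ∃ f : F, z = f • d := by
    rintro z hzT ⟨s, rfl⟩
    obtain ⟨f, rfl⟩ := hD'line s hzT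
    exact ⟨f, by rw [hd, smul_assoc]⟩
  set t₀ := g ((ω * kd) • a₀) with ht₀_def
  have ht₀T : t₀ ∈ Tset K g a₀ := ⟨ω * kd, rfl⟩
  have hcancel₀ : ∀ x y : K, x • a₀ = y • a₀ → x = y := by
    intro x y hxy
    have h3 : (x - y) • a₀ = 0 := by rw [sub_smul, hxy, sub_self]
    rcases smul_eq_zero.mp h3 with h5 | h5
    · exact sub_eq_zero.mp h5
    · exact absurd h5 h.ha₀
  have hT2 : ∀ z ∈ Tset K g a₀, ∃ f₁ f₂ : F, z = f₁ • d + f₂ • t₀ := by
    rintro z ⟨k, rfl⟩
    obtain ⟨f₁, f₂, hk⟩ := hdecK (k / kd)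
    refine ⟨f₁, f₂, ?_⟩
    have hk' : k = f₁ • kd + f₂ • (ω * kd) := by
      have e : k = (k / kd) * kd := by field_simp
      rw [e, hk, add_mul, smul_mul_assoc, smul_mul_assoc, one_mul]
    rw [hk', add_smul, map_add, smul_assoc, smul_assoc, LinearEquiv.map_smul,
      LinearEquiv.map_smul]
  have ht₀L : t₀ ∉ Lset K a₁ := by
    intro hL
    obtain ⟨f, hf⟩ := hTL t₀ ht₀T hL
    have h1 : (ω * kd) • a₀ = (f • kd) • a₀ :=
      g.injective (by rw [smul_assoc, LinearEquiv.map_smul]; exact hf)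
    have h3 : ω * kd = (f • (1 : K)) * kd := by
      rw [smul_mul_assoc, one_mul]
      exact hcancel₀ _ _ h1
    exact hωF f (mul_right_cancel₀ hkd0 h3)
  have ht₀d : ∀ t : K, t₀ ≠ t • d := by
    intro t ht
    apply ht₀L
    exact ⟨t * td, by rw [ht, hd, mul_smul]⟩
  obtain ⟨μd, μt, hμdd, hμdt, hμtd, hμtt, hV⟩ := exists_dual_pair h2 hd0 ht₀d
  have hspan : ∀ v : V, ∃ f₁ f₂ f₃ f₄ : F,
      v = f₁ • d + f₂ • (ω • d) + f₃ • t₀ + f₄ • (ω • t₀) := by
    intro v
    obtain ⟨x₀, x₁, hx⟩ := hdecK (μd v)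
    obtain ⟨y₀, y₁, hy⟩ := hdecK (μt v)
    refine ⟨x₀, x₁, y₀, y₁, ?_⟩
    conv_lhs => rw [hV v, hx, hy]
    simp only [add_smul, smul_assoc, one_smul]
    abel
  have hωdT : ω • d ∉ Tset K g a₀ := by
    intro hT
    have hm : ω * td ∈ D'sub K g a₀ a₁ := by
      rw [mem_D'sub, mul_smul, ← hd]; exact hT
    obtain ⟨f, hf⟩ := hD'line _ hm
    have h3 : ω * td = (f • (1 : K)) * td := by rw [smul_mul_assoc, one_mul]; exact hf
    exact hωF f (mul_right_cancel₀ htd h3)
  obtain ⟨k₁, hk₁, hk₁0⟩ := exists_wk g hker₀ hωdT hdT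
  have hk₁ne : k₁ ≠ 0 := hk₁0 hd0
  set w₁ := wk g l₀ a₀ k₁ with hw₁
  set w₂ := wk g l₀ a₀ (ω * k₁) with hw₂
  have hw₁d : w₁ d = 0 := wk_T g hl₀ k₁ hdT
  have hw₁t : w₁ t₀ = 0 := wk_T g hl₀ k₁ ht₀T
  obtain ⟨ε, f₂, hε'⟩ := hT2 _ (wk_mem_T g l₀ a₀ k₁ (ω • t₀))
  have hε : w₁ (ω • t₀) = ε • d + f₂ • t₀ := hε'
  clear hε'
  have hf₂ : f₂ = 1 := by
    rcases two_cases hF f₂ with rfl | rfl
    · exfalso
      have h0 : w₁ (ω • t₀ - ε • (ω • d)) = 0 := by
        rw [map_sub, LinearMap.map_smul, hk₁, hε]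
        simp
      have hT := wk_ker g h.ha₀ hker₀ hk₁ne h0
      obtain ⟨f₁', f₂', hz⟩ := hT2 _ hT
      have := congrArg μt hz
      rw [map_sub, map_smul, hμtt, klin_smulF, map_smul, hμtd, map_add, klin_smulF, klin_smulF,
        hμtd, hμtt] at this
      simp only [smul_eq_mul, mul_one, mul_zero, smul_zero, sub_zero, zero_add] at this
      exact hωF f₂' this
    · rfl
  subst hf₂
  rw [one_smul] at hε
  -- the operator `Ω`
  set Ω : Module.End F V := (g : V →ₗ[F] V) * sm F ω * (g.symm : V →ₗ[F] V) with hΩ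
  have hΩ_apply : ∀ v, Ω v = g (ω • g.symm v) := fun v => rfl
  have hw₂Ω : ∀ v, w₂ v = Ω (w₁ v) := by
    intro v
    rw [hΩ_apply, hw₂, hw₁, wk_apply, wk_apply, LinearEquiv.symm_apply_apply, ← mul_smul,
      mul_assoc]
  have hΩd : Ω d = t₀ := by
    rw [hΩ_apply, hd_def, LinearEquiv.symm_apply_apply, ← mul_smul]
  have hΩt : Ω t₀ = t₀ + d := by
    rw [hΩ_apply, ht₀_def, LinearEquiv.symm_apply_apply, ← mul_smul, ← mul_assoc, hωω, add_mul,
      one_mul, add_smul, map_add]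
  have hw₁X : IsX X (1 + w₁) := wk_isX hX h.gX hl₀ k₁
  have hw₂X : IsX X (1 + w₂) := wk_isX hX h.gX hl₀ (ω * k₁)
  have hωω' : ∀ z : V, (ω * ω) • z = ω • z + z := by
    intro z
    rw [hωω, add_smul, one_smul]
  rcases two_cases hF ε with rfl | rfl
  · -- `ε = 0`
    rw [zero_smul, zero_add] at hε
    set H : Module.End F V :=
      ((μd + ω • μt).smulRight d + (ω • μd).smulRight t₀ : V →ₗ[K] V).restrictScalars F with hH
    have hH_apply : ∀ v, H v = (μd v + ω * μt v) • d + (ω * μd v) • t₀ := fun v => rfl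
    have hHinj : Function.Injective H := by
      rw [injective_iff_map_eq_zero]
      intro v hv
      rw [hH_apply] at hv
      have h1 := congrArg μt hv
      have h3 := congrArg μd hv
      rw [map_add, map_smul, map_smul, hμtd, hμtt, map_zero] at h1
      rw [map_add, map_smul, map_smul, hμdd, hμdt, map_zero] at h3
      simp only [smul_eq_mul, mul_zero, mul_one, zero_add, add_zero] at h1 h3
      have h5 : μd v = 0 := by
        rcases mul_eq_zero.mp h1 with h6 | h6
        · exact absurd h6 hω0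
        · exact h6
      rw [h5, zero_add] at h3
      have h6 : μt v = 0 := by
        rcases mul_eq_zero.mp h3 with h7 | h7
        · exact absurd h7 hω0
        · exact h7
      rw [hV v, h5, h6, zero_smul, zero_smul, add_zero]
    have hHX : IsX X H := by
      refine isX_of_normE_two hF hX H hHinj ?_
      intro k
      exact ⟨k, fun v => by rw [hH]; simp⟩
    refine tv_eps0 (e₁ := d) (e₂ := ω • d) (e₃ := t₀) (e₄ := ω • t₀) hvv hspan ?_ hw₂X hHX
      ?_ ?_ ?_ ?_ ?_ ?_ ?_ ?_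
    · intro h0
      have := congrArg μd h0
      rw [map_add, map_add, map_smul, hμdd, hμdt, map_zero] at this
      simp at this
    · rw [hw₂Ω, hw₁d, map_zero]
    · rw [hw₂Ω, hk₁, hΩd]
    · rw [hw₂Ω, hw₁t, map_zero]
    · rw [hw₂Ω, hε, hΩt]
    · rw [hH_apply, hμdd, hμtd, mul_zero, add_zero, mul_one, one_smul]
    · rw [hH_apply, map_smul, map_smul, hμdd, hμtd, smul_zero, mul_zero, add_zero, smul_eq_mul,
        mul_one, hωω', add_assoc]
    · rw [hH_apply, hμdt, hμtt, zero_add, mul_one, mul_zero, zero_smul, add_zero]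
    · rw [hH_apply, map_smul, map_smul, hμdt, hμtt, smul_zero, zero_add, smul_eq_mul, mul_one,
        mul_zero, zero_smul, add_zero, hωω']
  · -- `ε = 1`
    rw [one_smul] at hε
    set S : Module.End F V := sigmaHat hF μd μt d t₀ with hS
    have hSinj : Function.Injective S := by
      rw [injective_iff_map_eq_zero]
      intro v hv
      rw [hS, sigmaHat_apply] at hv
      have h1 := congrArg μt hv
      have h3 := congrArg μd hv
      rw [map_add, map_smul, map_smul, hμtd, hμtt, map_zero] at h1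
      rw [map_add, map_smul, map_smul, hμdd, hμdt, map_zero] at h3
      simp only [smul_eq_mul, mul_zero, mul_one, zero_add, add_zero] at h1 h3
      rw [hV v, mul_self_eq_zero.mp h1, mul_self_eq_zero.mp h3, zero_smul, zero_smul, add_zero]
    have hSX : IsX X S := isX_of_normE_two hF hX S hSinj (sigmaHat_normE hF μd μt d t₀)
    refine tv_eps1 (e₁ := d) (e₂ := ω • d) (e₃ := t₀) (e₄ := ω • t₀) hvv hspan hd0 hw₁X hSX
      hw₁d hk₁ hw₁t hε ?_ ?_ ?_ ?_
    · rw [hS, sigmaHat_apply, hμdd, hμtd, mul_zero, zero_smul, add_zero, mul_one, one_smul]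
    · rw [hS, sigmaHat_apply, map_smul, map_smul, hμdd, hμtd, smul_zero, mul_zero, zero_smul,
        add_zero, smul_eq_mul, mul_one, hωω']
    · rw [hS, sigmaHat_apply, hμdt, hμtt, mul_zero, zero_smul, zero_add, mul_one, one_smul]
    · rw [hS, sigmaHat_apply, map_smul, map_smul, hμdt, hμtt, smul_zero, mul_zero, zero_smul,
        zero_add, smul_eq_mul, mul_one, hωω']

end Cfsg.Agent.Lib.Helper13.CF
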