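import Cfsg.Agent.Lib.Helper13.CFL

set_option autoImplicit false
set_option linter.unusedSimpArgs false
set_option linter.unusedVariables false
set_option linter.unusedSectionVars false

/-! # C3 maximality: an overgroup of `N ∩ SL` not inside `N` contains a transvection -/

namespace Cfsg.Agent.Lib.Helper13.CF

open Module

variable {F K V : Type*} [Field F] [Field K] [Algebra F K] [AddCommGroup V] [Module F V]
  [Module K V] [IsScalarTower F K V] [Module.Finite K V] [Module.Finite F K]

variable {X : Subgroup (V ≃ₗ[F] V)} {g : V ≃ₗ[F] V} {a₀ a₁ : V} {l₁ : V →ₗ[K] K} {k₀ : K}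

theorem tv_of_two [Finite V] [Finite K] (hX : HX K X) (h : Good K X g a₀ a₁ l₁ k₀)
    (h2 : finrank K V = 2) (hr : (finrank F K).Prime) : HasTv X := by
  by_cases hall : AllKu K X a₁ l₁
  · obtain ⟨hF, hr2⟩ := small_of_allKu hX h h2 hr hall
    exact tv_small hX h h2 hF hr2
  · unfold AllKu at hall
    push Not at hall
    obtain ⟨θ, hθL, hθ0, hθX, hne⟩ := hall
    exact tv_of_not_ku hX h h2 θ hθL hθ0 hθX hne

/-- the first half of the core theorem -/
theorem hasTv_of_not_normE [Finite V] [Finite K] (hX : HX K X)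
    (hr : (finrank F K).Prime) (hm : 2 ≤ finrank K V)
    (x : V ≃ₗ[F] V) (hx : x ∈ X) (hn : ¬ NormE K (x : V →ₗ[F] V)) : HasTv X := by
  obtain ⟨g, a₀, a₁, l₁, k₀, h1, h2, h3, h4, h5, h6, h7, h8⟩ :=
    exists_good_pair hX hr hm x hx hn
  have hgood : Good K X g a₀ a₁ l₁ k₀ := ⟨h1, h2, h3, h4, h5, h6, h7, h8⟩
  by_cases hm3 : 3 ≤ finrank K V
  · exact transvection_of_three hX hgood hm3
  · exact tv_of_two hX hgood (by omega) hr

end Cfsg.Agent.Lib.Helper13.CF
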