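import Cfsg.Agent.Lib.Helper13.CFM

set_option autoImplicit false
set_option linter.unusedSimpArgs false
set_option linter.unusedVariables false
set_option linter.unusedSectionVars false

/-! # C3 maximality: from one transvection to all of them, the formal part -/

namespace Cfsg.Agent.Lib.Helper13.CF

open Module

section general

variable {F V : Type*} [Field F] [AddCommGroup V] [Module F V] {X : Subgroup (V ≃ₗ[F] V)}

theorem r1_add_left (φ ψ : Dual F V) (a : V) : r1 (φ + ψ) a = r1 φ a + r1 ψ a := by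
  ext v; simp [add_smul]

theorem r1_neg_left (φ : Dual F V) (a : V) : r1 (-φ) a = -r1 φ a := by
  ext v; simp

theorem r1_conj (g g' : Module.End F V) (φ : Dual F V) (a : V) :
    g * r1 φ a * g' = r1 (φ ∘ₗ g') (g a) := by
  ext v; simp

/-- `φ` lies in `Ψ(a)`: the transvection `1 + φ ⊗ a` is in `X` -/
def InPsi (X : Subgroup (V ≃ₗ[F] V)) (a : V) (φ : Dual F V) : Prop :=
  φ a = 0 ∧ IsX X (1 + r1 φ a)

theorem InPsi.add {a : V} {φ ψ : Dual F V} (h1 : InPsi X a φ) (h2 : InPsi X a ψ) :
    InPsi X a (φ + ψ) := by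
  refine ⟨by rw [LinearMap.add_apply, h1.1, h2.1, add_zero], ?_⟩
  rw [r1_add_left]
  refine IsX.add ?_ h1.2 h2.2
  rw [r1_mul_r1, h1.1, zero_smul]
  ext v; simp

theorem InPsi.neg {a : V} {φ : Dual F V} (h1 : InPsi X a φ) : InPsi X a (-φ) := by
  refine ⟨by rw [LinearMap.neg_apply, h1.1, neg_zero], ?_⟩
  rw [r1_neg_left]
  exact IsX.neg (r1_sq h1.1) h1.2

theorem InPsi.sub {a : V} {φ ψ : Dual F V} (h1 : InPsi X a φ) (h2 : InPsi X a ψ) :
    InPsi X a (φ - ψ) := by
  rw [sub_eq_add_neg]; exact h1.add h2.neg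

theorem InPsi.conj {a : V} {φ : Dual F V} {g g' : Module.End F V} (hg : IsX X g)
    (hgg' : g * g' = 1) (h : InPsi X a φ) : InPsi X (g a) (φ ∘ₗ g') := by
  have hg'g : ∀ v, g' (g v) = v := by
    intro v
    apply hg.bijective.1
    have := LinearMap.congr_fun hgg' (g v)
    simpa using this
  refine ⟨by rw [LinearMap.comp_apply, hg'g, h.1], ?_⟩
  rw [← r1_conj]
  exact hg.conj hgg' h.2

/-- the commutator relation (C) -/
theorem InPsi.comm {a b : V} {ψ χ : Dual F V} (h1 : InPsi X a ψ) (h2 : InPsi X b χ)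
    (h : χ a = 0) : InPsi X a (ψ b • χ) := by
  refine ⟨by rw [LinearMap.smul_apply, h, smul_zero], ?_⟩
  have := IsX.comm (N₁ := r1 χ b) (N₂ := r1 ψ a) (r1_sq h2.1) (r1_sq h1.1)
    (by rw [r1_mul_r1, h, zero_smul]; ext v; simp) h2.2 h1.2
  rwa [r1_mul_r1] at this

theorem InPsi.zero_vec (φ : Dual F V) : InPsi X (0 : V) φ := by
  refine ⟨map_zero _, ?_⟩
  have : r1 φ (0 : V) = 0 := by ext v; simp
  rw [this, add_zero]
  exact IsX.one

end general

variable {F K V : Type*} [Field F] [Field K] [Algebra F K] [AddCommGroup V] [Module F V]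
  [Module K V] [IsScalarTower F K V]

/-- the `F`-functional `y ↦ φ (y • a)` on `K` -/
def fa (K : Type*) [Field K] [Algebra F K] [Module K V] [IsScalarTower F K V]
    (φ : Dual F V) (a : V) : K →ₗ[F] F :=
  φ ∘ₗ ((LinearMap.toSpanSingleton K V a).restrictScalars F)

@[simp] theorem fa_apply (φ : Dual F V) (a : V) (y : K) : fa K φ a y = φ (y • a) := rfl

/-- dual forms of a pair of independent vectors -/
theorem exists_dual_pair' {a b : V} (ha : a ≠ 0) (hb : ∀ t : K, b ≠ t • a) :
    ∃ μa μb : V →ₗ[K] K, μa a = 1 ∧ μa b = 0 ∧ μb a = 0 ∧ μb b = 1 := by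
  have hb' : b ∉ Submodule.span K {a} := by
    rw [Submodule.mem_span_singleton]
    rintro ⟨t, ht⟩
    exact hb t ht.symm
  have ha' : a ∉ Submodule.span K {b} := by
    rw [Submodule.mem_span_singleton]
    rintro ⟨t, ht⟩
    have ht0 : t ≠ 0 := by
      rintro rfl
      rw [zero_smul] at ht
      exact ha ht.symm
    apply hb t⁻¹
    rw [← ht, smul_smul, inv_mul_cancel₀ ht0, one_smul]
  obtain ⟨l, hlb, hl⟩ := Submodule.exists_le_ker_of_notMem hb'
  obtain ⟨l', hla, hl'⟩ := Submodule.exists_le_ker_of_notMem ha'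
  have hla0 : l a = 0 := hl (Submodule.mem_span_singleton_self a)
  have hlb0 : l' b = 0 := hl' (Submodule.mem_span_singleton_self b)
  refine ⟨(l' a)⁻¹ • l', (l b)⁻¹ • l, ?_, ?_, ?_, ?_⟩
  · simp [inv_mul_cancel₀ hla]
  · simp [hlb0]
  · simp [hla0]
  · simp [inv_mul_cancel₀ hlb]

variable [Module.Finite K V] [Module.Finite F K]

/-- duality: every `F`-functional on `V` factors through a `K`-linear form -/
theorem exists_klin_of_dual (f : K →ₗ[F] F) (hf : f ≠ 0) (χ : Dual F V) :
    ∃ μ : V →ₗ[K] K, χ = f ∘ₗ μ.restrictScalars F := by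
  haveI : Module.Finite F V := Module.Finite.trans K V
  let Φ : (V →ₗ[K] K) →ₗ[F] Dual F V :=
    { toFun := fun μ => f ∘ₗ μ.restrictScalars F
      map_add' := by
        intro μ ν
        ext v
        simp
      map_smul' := by
        intro c μ
        ext v
        simp }
  have hinj : Function.Injective Φ := by
    rw [injective_iff_map_eq_zero]
    intro μ hμ
    by_contra hne
    obtain ⟨v, hv⟩ : ∃ v, μ v ≠ 0 := by
      by_contra hcon
      push Not at hcon
      exact hne (LinearMap.ext hcon)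
    apply hf
    ext z
    have := LinearMap.congr_fun hμ ((z / μ v) • v)
    simp only [Φ, LinearMap.coe_mk, AddHom.coe_mk, LinearMap.comp_apply,
      LinearMap.restrictScalars_apply, map_smul, smul_eq_mul, div_mul_cancel₀ _ hv,
      LinearMap.zero_apply] at this
    simpa using this
  have hfr : finrank F (V →ₗ[K] K) = finrank F (Dual F V) := by
    rw [Subspace.dual_finrank_eq, ← Module.finrank_mul_finrank F K (V →ₗ[K] K),
      ← Module.finrank_mul_finrank F K V]
    congr 1
    exact Subspace.dual_finrank_eq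
  have hsurj := (LinearMap.injective_iff_surjective_of_finrank_eq_finrank hfr).mp hinj
  obtain ⟨μ, hμ⟩ := hsurj χ
  exact ⟨μ, hμ.symm⟩

end Cfsg.Agent.Lib.Helper13.CF
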