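import Cfsg.Agent.Lib.Helper13.CFN

set_option autoImplicit false
set_option linter.unusedSimpArgs false
set_option linter.unusedVariables false
set_option linter.unusedSectionVars false

/-! # C3 maximality: from one transvection to all of them -/

namespace Cfsg.Agent.Lib.Helper13.CF

open Module

variable {F K V : Type*} [Field F] [Field K] [Algebra F K] [AddCommGroup V] [Module F V]
  [Module K V] [IsScalarTower F K V]

theorem ku_unip_inv {l : V →ₗ[K] K} {c : V} (h : l c = 0) :
    (1 + ku F l c) * (1 - ku F l c) = 1 := by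
  have : (1 + ku F l c) * (1 - ku F l c) = 1 - ku F l c * ku F l c := by noncomm_ring
  rw [this, ku_sq F h, sub_zero]

theorem dil_mul_inv {μ : V →ₗ[K] K} {c : V} (hμ : μ c = 1) {δ : K} (hδ : δ ≠ 0) :
    (1 + ku F ((δ - 1) • μ) c) * (1 + ku F ((δ⁻¹ - 1) • μ) c) = 1 := by
  ext v
  simp only [Module.End.mul_apply, LinearMap.add_apply, Module.End.one_apply, ku_apply,
    LinearMap.smul_apply, smul_eq_mul, map_add, map_smul, hμ, mul_one]
  have e : (δ - 1) * μ v + ((δ⁻¹ - 1) * μ v + (δ⁻¹ - 1) * μ v * (δ - 1)) = 0 := by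
    field_simp
    ring
  simp only [add_assoc, ← add_smul]
  rw [e, zero_smul, add_zero]

variable [Module.Finite K V] [Module.Finite F K] {X : Subgroup (V ≃ₗ[F] V)}

/-- (6b), first half: composing with `K`-linear forms vanishing at `a` -/
theorem InPsi.comp_klin (hX : HX K X) {a : V} {φ : Dual F V} (h : InPsi X a φ)
    (μ : V →ₗ[K] K) (hμ : μ a = 0) : InPsi X a (fa K φ a ∘ₗ μ.restrictScalars F) := by
  have hE : IsX X (1 + ku F μ a) := isX_ku_zero hX μ a hμ
  have h1 := h.conj hE (ku_unip_inv (F := F) hμ)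
  have ha : (1 + ku F μ a) a = a := by
    simp [hμ]
  rw [ha] at h1
  have h2 := h.sub h1
  have e : φ - φ ∘ₗ (1 - ku F μ a) = fa K φ a ∘ₗ μ.restrictScalars F := by
    ext v
    simp
  rwa [e] at h2

/-- (6b): if some `φ ∈ Ψ(a)` does not vanish on `K a`, then `Ψ(a)` contains the annihilator of
`K a` -/
theorem inPsi_of_KA (hX : HX K X) {a : V} {φ : Dual F V} (h : InPsi X a φ) {k₁ : K}
    (hk₁ : φ (k₁ • a) ≠ 0) (χ : Dual F V) (hχ : ∀ k : K, χ (k • a) = 0) : InPsi X a χ := by
  have hf : fa K φ a ≠ 0 := by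
    intro h0
    apply hk₁
    have := LinearMap.congr_fun h0 k₁
    simpa using this
  obtain ⟨μ, rfl⟩ := exists_klin_of_dual (fa K φ a) hf χ
  have hμ : μ a = 0 := by
    by_contra hne
    apply hf
    ext z
    have := hχ (z / μ a)
    simp only [LinearMap.comp_apply, LinearMap.restrictScalars_apply, map_smul, smul_eq_mul,
      div_mul_cancel₀ _ hne] at this
    simpa using this
  exact h.comp_klin hX μ hμ

/-- the property that `Ψ(a)` contains the annihilator of `K a` -/
def PKA (K : Type*) [Field K] [Module K V] (X : Subgroup (V ≃ₗ[F] V)) (a : V) : Prop :=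
  ∀ χ : Dual F V, (∀ k : K, χ (k • a) = 0) → InPsi X a χ

/-- (6c), one step -/
theorem PKA.transfer (hX : HX K X) {a b : V} (ha : a ≠ 0) (hb : ∀ t : K, b ≠ t • a)
    (h : PKA K X a) : PKA K X b := by
  obtain ⟨μa, μb, haa, hab, hba, hbb⟩ := exists_dual_pair' (K := K) ha hb
  have hl : (μa + μb) (b - a) = 0 := by
    simp [haa, hab, hba, hbb]
  have hE : IsX X (1 + ku F (μa + μb) (b - a)) := isX_ku_zero hX _ _ hl
  have hEa : ∀ k : K, (1 + ku F (μa + μb) (b - a)) (k • a) = k • b := by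
    intro k
    simp only [LinearMap.add_apply, Module.End.one_apply, ku_apply, map_smul, haa, hba,
      smul_eq_mul, smul_sub]
    rw [mul_add, mul_one, mul_zero, add_zero]
    abel
  intro χ hχ
  have h1 : InPsi X a (χ ∘ₗ (1 + ku F (μa + μb) (b - a))) := by
    apply h
    intro k
    rw [LinearMap.comp_apply, hEa, hχ]
  have h2 := h1.conj hE (ku_unip_inv (F := F) hl)
  have e1 : (1 + ku F (μa + μb) (b - a)) a = b := by
    have := hEa 1
    rwa [one_smul, one_smul] at this
  have e2 : (χ ∘ₗ (1 + ku F (μa + μb) (b - a))) ∘ₗ (1 - ku F (μa + μb) (b - a)) = χ := by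
    have := ku_unip_inv (F := F) hl
    rw [LinearMap.comp_assoc]
    change χ ∘ₗ ((1 + ku F (μa + μb) (b - a)) * (1 - ku F (μa + μb) (b - a))) = χ
    rw [this]
    rfl
  rwa [e1, e2] at h2

/-- (6c) -/
theorem PKA.all (hX : HX K X) (hm : 2 ≤ finrank K V) {a : V} (ha : a ≠ 0) (h : PKA K X a)
    {b : V} (hb : b ≠ 0) : PKA K X b := by
  by_cases hba : ∀ t : K, b ≠ t • a
  · exact h.transfer hX ha hba
  · push Not at hba
    obtain ⟨t, rfl⟩ := hba
    obtain ⟨c, hc⟩ := exists_not_mem_line (K := K) hm a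
    have hc0 : c ≠ 0 := fun h0 => hc 0 (by rw [h0, zero_smul])
    have ht0 : t ≠ 0 := by
      rintro rfl
      exact hb (zero_smul _ _)
    refine (h.transfer hX ha hc).transfer hX hc0 ?_
    intro s hs
    -- `t • a = s • c`
    have hs0 : s ≠ 0 := by
      rintro rfl
      rw [zero_smul] at hs
      exact hb hs
    apply hc (s⁻¹ * t)
    rw [mul_smul, hs, smul_smul, inv_mul_cancel₀ hs0, one_smul]

/-- (6d) -/
theorem inPsi_of_PKA (hm : 2 ≤ finrank K V) (hall : ∀ b : V, b ≠ 0 → PKA K X b) {a : V}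
    (ha : a ≠ 0) (φ : Dual F V) (hφ : φ a = 0) : InPsi X a φ := by
  obtain ⟨b, hb⟩ := exists_not_mem_line (K := K) hm a
  have hb0 : b ≠ 0 := fun h0 => hb 0 (by rw [h0, zero_smul])
  obtain ⟨μa, μb, haa, hab, hba, hbb⟩ := exists_dual_pair' (K := K) ha hb
  obtain ⟨π, hπ⟩ := exists_coord (F := F) (one_ne_zero : (1 : K) ≠ 0)
  -- `χ`
  set χ : Dual F V := fa K φ a ∘ₗ μa.restrictScalars F with hχ
  have hχb : InPsi X b χ := by
    apply hall b hb0
    intro k
    simp [hχ, hab]
  have hχa : χ a = 0 := by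
    simp [hχ, haa, hφ]
  -- `ψ`
  set ψ : Dual F V := π ∘ₗ μb.restrictScalars F with hψ
  have hψa : InPsi X a ψ := by
    apply hall a ha
    intro k
    simp [hψ, hba]
  have hψb : ψ b = 1 := by
    simp [hψ, hbb, hπ]
  have h1 := hψa.comm hχb hχa
  rw [hψb, one_smul] at h1
  have h2 : InPsi X a (φ - χ) := by
    apply hall a ha
    intro k
    simp [hχ, haa]
  have := h1.add h2
  rwa [add_sub_cancel] at this

end Cfsg.Agent.Lib.Helper13.CF
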