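import Mathlib

set_option autoImplicit false
set_option linter.unusedSimpArgs false

/-! # Generation of `SL(W)` and `Sp(W, B)` by transvections, for abstract spaces. -/

namespace Cfsg.Agent.Lib.Helper13.McL

open Module

section SLmat

open Matrix Matrix.SpecialLinearGroup

variable {ι F : Type*} [DecidableEq ι] [Fintype ι] [Field F]

theorem diag2n_decompose' {i j : ι} (hij : i ≠ j) (a : F) (ha : a ≠ 0) :
    diag2n hij a ha = transvection hij a * transvection hij.symm (-a⁻¹) * transvection hij a *
      transvection hij (-1) * transvection hij.symm 1 * transvection hij (-1) := by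
  apply Subtype.ext
  have hdiag : (diag2n hij a ha).1 = 1 + single i i (a - 1) + single j j (a⁻¹ - 1) := by
    rw [diag2n_coe]
    ext k l
    simp only [Matrix.diagonal_apply, Matrix.add_apply, Matrix.one_apply, Matrix.single_apply]
    by_cases hkl : k = l
    · subst hkl
      by_cases hki : k = i
      · subst hki
        simp [Ne.symm hij]
      · by_cases hkj : k = j
        · subst hkj
          simp [hki, Ne.symm hki]
        · simp [hki, hkj, Ne.symm hki, Ne.symm hkj]
    · have h1 : ¬ (i = k ∧ i = l) := fun h => hkl (h.1.symm.trans h.2)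
      have h2 : ¬ (j = k ∧ j = l) := fun h => hkl (h.1.symm.trans h.2)
      simp [hkl, h1, h2]
  rw [hdiag]
  simp only [coe_mul, transvection_coe]
  simp only [mul_add, add_mul, mul_one, one_mul, single_mul_single_same,
    single_mul_single_of_ne _ _ _ _ hij, single_mul_single_of_ne _ _ _ _ hij.symm, zero_mul,
    add_zero, zero_add, mul_zero]
  have hji := hij.symm
  ext k l
  simp only [Matrix.add_apply, Matrix.one_apply, Matrix.single_apply]
  by_cases hki : k = i <;> by_cases hkj : k = j <;> by_cases hli : l = i <;>
    by_cases hlj : l = j <;>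
    simp [hki, hkj, hli, hlj, hij, hji, eq_comm (a := i), eq_comm (a := j)] <;>
    (try field_simp) <;> (try ring)

/-- Every element of `SL(ι, F)` is a product of transvections. -/
theorem sl_transvection_induction (P : SpecialLinearGroup ι F → Prop) (h1 : P 1)
    (htransvec : ∀ (i j : ι) (h : i ≠ j) (c : F), P (transvection h c))
    (hmul : ∀ A B, P A → P B → P (A * B)) (A : SpecialLinearGroup ι F) : P A := by
  rcases subsingleton_or_nontrivial ι with hι | hι
  · have : A = 1 := Subsingleton.elim _ _
    rw [this]; exact h1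
  · refine diagonal_transvection_induction' P A (fun i j hij c hc ↦ ?_) htransvec hmul
    rw [diag2n_decompose' hij c hc]
    refine hmul _ _ (hmul _ _ (hmul _ _ (hmul _ _ (hmul _ _ ?_ ?_) ?_) ?_) ?_) ?_
    all_goals exact htransvec _ _ _ _

end SLmat

section SLabs

variable {K W : Type*} [Field K] [AddCommGroup W] [Module K W] [FiniteDimensional K W]

/-- A subgroup of `GL(W)` containing all transvections contains every map of determinant one. -/
theorem mem_of_det_eq_one (G : Subgroup (W ≃ₗ[K] W))
    (h : ∀ (a : Dual K W) (w : W) (haw : a w = 0), LinearEquiv.transvection haw ∈ G)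
    (f : W ≃ₗ[K] W) (hf : LinearMap.det (f : W →ₗ[K] W) = 1) : f ∈ G := by
  classical
  let b := Module.finBasis K W
  set n := Module.finrank K W
  have key : ∀ A : Matrix.SpecialLinearGroup (Fin n) K, ∀ g : W ≃ₗ[K] W,
      (g : W →ₗ[K] W) = Matrix.toLin b b A.1 → g ∈ G := by
    intro A
    refine sl_transvection_induction
      (fun A => ∀ g : W ≃ₗ[K] W, (g : W →ₗ[K] W) = Matrix.toLin b b A.1 → g ∈ G) ?_ ?_ ?_ A
    · intro g hg
      have : g = 1 := by
        apply LinearEquiv.ext
        intro x
        have := LinearMap.congr_fun hg x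
        simpa using this
      rw [this]; exact G.one_mem
    · intro i j hij c g hg
      have hc : (c • b.coord j) (b i) = 0 := by
        simp [Basis.coord_apply, hij]
      have : g = LinearEquiv.transvection hc := by
        apply LinearEquiv.toLinearMap_injective
        rw [hg, LinearEquiv.transvection.coe_toLinearMap]
        apply b.ext
        intro k
        rw [Matrix.toLin_self, LinearMap.transvection.apply]
        simp only [Matrix.SpecialLinearGroup.transvection_coe, Matrix.transvection,
          Matrix.add_apply, Matrix.one_apply, Matrix.single_apply, LinearMap.smul_apply,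
          Basis.coord_apply, Basis.repr_self, smul_eq_mul]
        rw [Finset.sum_congr rfl (fun l _ => by rw [add_smul])]
        rw [Finset.sum_add_distrib]
        simp only [ite_smul, one_smul, zero_smul, Finset.sum_ite_eq', Finset.mem_univ, if_true]
        congr 1
        by_cases hjk : j = k
        · subst hjk
          simp [Finsupp.single_eq_same]
        · simp [hjk, Finsupp.single_eq_of_ne, Ne.symm hjk]
      rw [this]
      exact h _ _ hc
    · intro A B hA hB g hg
      -- build equivalences from `A` and `B`
      have mkEquiv : ∀ C : Matrix.SpecialLinearGroup (Fin n) K, ∃ gC : W ≃ₗ[K] W,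
          (gC : W →ₗ[K] W) = Matrix.toLin b b C.1 := by
        intro C
        refine ⟨LinearEquiv.ofLinearMap (Matrix.toLin b b C.1) (Matrix.toLin b b (C⁻¹).1) ?_ ?_, rfl⟩
        · rw [← Matrix.toLin_mul b b b, ← Matrix.SpecialLinearGroup.coe_mul, mul_inv_cancel]
          simp
        · rw [← Matrix.toLin_mul b b b, ← Matrix.SpecialLinearGroup.coe_mul, inv_mul_cancel]
          simp
      obtain ⟨gA, hgA⟩ := mkEquiv A
      obtain ⟨gB, hgB⟩ := mkEquiv B
      have : g = gA * gB := by
        apply LinearEquiv.toLinearMap_injective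
        rw [hg, Matrix.SpecialLinearGroup.coe_mul, Matrix.toLin_mul b b b, ← hgA, ← hgB]
        rfl
      rw [this]
      exact G.mul_mem (hA gA hgA) (hB gB hgB)
  have hdet : (LinearMap.toMatrix b b (f : W →ₗ[K] W)).det = 1 := by
    rw [LinearMap.det_toMatrix]; exact hf
  exact key ⟨LinearMap.toMatrix b b (f : W →ₗ[K] W), hdet⟩ f (by simp)

end SLabs

section Spabs

variable {F V : Type*} [Field F] [AddCommGroup V] [Module F V]

/-- the underlying linear map of a symplectic transvection -/
def symTvLin (B : LinearMap.BilinForm F V) (a : V) (c : F) : V →ₗ[F] V :=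
  LinearMap.id + c • (B.flip a).smulRight a

theorem symTvLin_apply (B : LinearMap.BilinForm F V) (a : V) (c : F) (v : V) :
    symTvLin B a c v = v + (c * B v a) • a := by
  simp [symTvLin, LinearMap.smulRight_apply, smul_smul]

/-- the symplectic transvection `v ↦ v + c B(v, a) a` -/
def symTv (B : LinearMap.BilinForm F V) (hA : B.IsAlt) (a : V) (c : F) : V ≃ₗ[F] V :=
  LinearEquiv.ofLinearMap (symTvLin B a c) (symTvLin B a (-c))
    (by
      ext v
      simp only [LinearMap.comp_apply, symTvLin_apply, LinearMap.id_apply, map_add, map_smul,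
        hA a, mul_zero]
      module)
    (by
      ext v
      simp only [LinearMap.comp_apply, symTvLin_apply, LinearMap.id_apply, map_add, map_smul,
        hA a, mul_zero]
      module)

theorem symTv_apply (B : LinearMap.BilinForm F V) (hA : B.IsAlt) (a : V) (c : F) (v : V) :
    symTv B hA a c v = v + (c * B v a) • a :=
  symTvLin_apply B a c v

theorem symTv_fix (B : LinearMap.BilinForm F V) (hA : B.IsAlt) (a : V) (c : F) (v : V)
    (h : B v a = 0) : symTv B hA a c v = v := by
  rw [symTv_apply, h, mul_zero, zero_smul, add_zero]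

theorem symTv_move (B : LinearMap.BilinForm F V) (hA : B.IsAlt) (x y : V) (h : B x y ≠ 0) :
    symTv B hA (x - y) (B x y)⁻¹ x = y := by
  rw [symTv_apply, map_sub, hA x, zero_sub, mul_neg, inv_mul_cancel₀ h, neg_smul, one_smul]
  abel

variable [FiniteDimensional F V]

/-- the one-step extension lemma, with membership in a group containing the transvections -/
theorem witt_step_mem (B : LinearMap.BilinForm F V) (hB : B.Nondegenerate) (hA : B.IsAlt)
    (G : Subgroup (V ≃ₗ[F] V)) (hG : ∀ a c, symTv B hA a c ∈ G)
    (X : Submodule F V) (x y : V) (hx : x ∉ X) (hy : y ∉ X)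
    (hxy : ∀ x' ∈ X, B y x' = B x x') :
    ∃ h ∈ G, (∀ x' ∈ X, h x' = x') ∧ h x = y := by
  have hneg : ∀ u v, B u v = -B v u := fun u v => (LinearMap.IsAlt.neg hA v u).symm
  have hperp : ∀ x' ∈ X, B x' (x - y) = 0 := by
    intro x' hx'
    rw [map_sub, hneg x' x, hneg x' y, hxy x' hx']
    ring
  by_cases hBxy : B x y = 0
  · have hoo := LinearMap.BilinForm.orthogonal_orthogonal hB (LinearMap.IsAlt.isRefl hA) X
    have ex1 : ∃ u ∈ B.orthogonal X, B u x ≠ 0 := by
      by_contra hcon
      push Not at hcon
      apply hx
      rw [← hoo, LinearMap.BilinForm.mem_orthogonal_iff]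
      exact hcon
    have ex2 : ∃ u ∈ B.orthogonal X, B u y ≠ 0 := by
      by_contra hcon
      push Not at hcon
      apply hy
      rw [← hoo, LinearMap.BilinForm.mem_orthogonal_iff]
      exact hcon
    obtain ⟨u1, hu1, h1⟩ := ex1
    obtain ⟨u2, hu2, h2⟩ := ex2
    obtain ⟨u, hu, hux, huy⟩ : ∃ u ∈ B.orthogonal X, B u x ≠ 0 ∧ B u y ≠ 0 := by
      by_cases h3 : B u1 y = 0
      · by_cases h4 : B u2 x = 0
        · refine ⟨u1 + u2, Submodule.add_mem _ hu1 hu2, ?_, ?_⟩
          · rw [map_add, LinearMap.add_apply, h4, add_zero]; exact h1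
          · rw [map_add, LinearMap.add_apply, h3, zero_add]; exact h2
        · exact ⟨u2, hu2, h4, h2⟩
      · exact ⟨u1, hu1, h1, h3⟩
    rw [LinearMap.BilinForm.mem_orthogonal_iff] at hu
    set z := x + u with hz
    have hxz : B x z ≠ 0 := by
      rw [hz, map_add, hA x, zero_add, hneg]
      exact neg_ne_zero.2 hux
    have hzy : B z y ≠ 0 := by
      rw [hz, map_add, LinearMap.add_apply, hBxy, zero_add]
      exact huy
    refine ⟨symTv B hA (z - y) (B z y)⁻¹ * symTv B hA (x - z) (B x z)⁻¹,
      G.mul_mem (hG _ _) (hG _ _), ?_, ?_⟩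
    · intro x' hx'
      have hu' : B x' u = 0 := hu x' hx'
      have e1 : B x' (x - z) = 0 := by
        rw [hz, map_sub, map_add, hu']
        ring
      have e2 : B x' (z - y) = 0 := by
        have : z - y = (x - y) + u := by rw [hz]; abel
        rw [this, map_add, hperp x' hx', hu', add_zero]
      rw [LinearEquiv.mul_apply, symTv_fix B hA _ _ _ e1, symTv_fix B hA _ _ _ e2]
    · rw [LinearEquiv.mul_apply, symTv_move B hA x z hxz, symTv_move B hA z y hzy]
  · refine ⟨symTv B hA (x - y) (B x y)⁻¹, hG _ _, ?_, ?_⟩
    · intro x' hx'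
      exact symTv_fix B hA _ _ _ (hperp x' hx')
    · exact symTv_move B hA x y hBxy

/-- Witt's lemma for families, inside a group containing the transvections -/
theorem witt_family_mem (B : LinearMap.BilinForm F V) (hB : B.Nondegenerate) (hA : B.IsAlt)
    (G : Subgroup (V ≃ₗ[F] V)) (hG : ∀ a c, symTv B hA a c ∈ G)
    (hGiso : ∀ g ∈ G, ∀ u v, B (g u) (g v) = B u v) :
    ∀ (n : ℕ) (x y : Fin n → V), LinearIndependent F x → LinearIndependent F y →
      (∀ i j, B (y i) (y j) = B (x i) (x j)) →
      ∃ g ∈ G, ∀ i, g (x i) = y i := by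
  intro n
  induction n with
  | zero =>
    intro x y _ _ _
    exact ⟨1, G.one_mem, fun i => i.elim0⟩
  | succ n ih =>
    intro x y hx hy hxy
    rw [linearIndependent_finSucc'] at hx hy
    obtain ⟨g', hg'G, hg'⟩ := ih (Fin.init x) (Fin.init y) hx.1 hy.1
      (fun i j => hxy i.castSucc j.castSucc)
    have hg'iso := hGiso g' hg'G
    set X : Submodule F V := Submodule.span F (Set.range (Fin.init x)) with hX
    set y' := g'.symm (y (Fin.last n)) with hy'
    have hg'y' : g' y' = y (Fin.last n) := by rw [hy']; exact g'.apply_symm_apply _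
    have hy'X : y' ∉ X := by
      intro hmem
      apply hy.2
      have : g' y' ∈ Submodule.map (g' : V →ₗ[F] V) X := ⟨y', hmem, rfl⟩
      rw [hX, Submodule.map_span] at this
      rw [← hg'y']
      refine Submodule.span_mono ?_ this
      rintro _ ⟨_, ⟨i, rfl⟩, rfl⟩
      exact ⟨i, (hg' i).symm⟩
    have hcond : ∀ x' ∈ X, B y' x' = B (x (Fin.last n)) x' := by
      intro x' hx'
      induction hx' using Submodule.span_induction with
      | mem z hz =>
        obtain ⟨i, rfl⟩ := hz
        have : B y' (Fin.init x i) = B (g' y') (g' (Fin.init x i)) := (hg'iso _ _).symm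
        rw [this, hg'y', hg' i]
        exact hxy (Fin.last n) i.castSucc
      | zero => simp
      | add a b _ _ ha hb => rw [map_add, map_add, ha, hb]
      | smul c a _ ha => rw [map_smul, map_smul, ha]
    obtain ⟨h, hhG, hfix, hmove⟩ :=
      witt_step_mem B hB hA G hG X (x (Fin.last n)) y' hx.2 hy'X hcond
    refine ⟨g' * h, G.mul_mem hg'G hhG, ?_⟩
    intro i
    refine Fin.lastCases ?_ (fun j => ?_) i
    · rw [LinearEquiv.mul_apply, hmove, hg'y']
    · rw [LinearEquiv.mul_apply]
      have : h (x j.castSucc) = x j.castSucc :=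
        hfix _ (Submodule.subset_span ⟨j, rfl⟩)
      rw [this]
      exact hg' j

/-- A subgroup of isometries of a nondegenerate alternating form containing all symplectic
transvections contains every isometry. -/
theorem mem_of_isometry (B : LinearMap.BilinForm F V) (hB : B.Nondegenerate) (hA : B.IsAlt)
    (G : Subgroup (V ≃ₗ[F] V)) (hG : ∀ a c, symTv B hA a c ∈ G)
    (hGiso : ∀ g ∈ G, ∀ u v, B (g u) (g v) = B u v)
    (f : V ≃ₗ[F] V) (hf : ∀ u v, B (f u) (f v) = B u v) : f ∈ G := by
  let b := Module.finBasis F V
  have hli : LinearIndependent F (fun i => b i) := b.linearIndependent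
  have hli' : LinearIndependent F (fun i => f (b i)) := by
    have := hli.map' (f : V →ₗ[F] V) (LinearMap.ker_eq_bot.mpr f.injective)
    exact this
  obtain ⟨g, hgG, hg⟩ := witt_family_mem B hB hA G hG hGiso _ (fun i => b i) (fun i => f (b i))
    hli hli' (fun i j => hf _ _)
  have : f = g := by
    apply LinearEquiv.toLinearMap_injective
    apply b.ext
    intro i
    exact (hg i).symm
  rw [this]; exact hgG

end Spabs

end Cfsg.Agent.Lib.Helper13.McL
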