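import Cfsg.Agent.Lib.Helper13.CFO
import Cfsg.Agent.Lib.Helper13.McLGen

set_option autoImplicit false
set_option linter.unusedSimpArgs false
set_option linter.unusedVariables false
set_option linter.unusedSectionVars false

/-! # C3 maximality: the core theorem -/

namespace Cfsg.Agent.Lib.Helper13.CF

open Module

variable {F K V : Type*} [Field F] [Field K] [Algebra F K] [AddCommGroup V] [Module F V]
  [Module K V] [IsScalarTower F K V] [Module.Finite K V] [Module.Finite F K]
  {X : Subgroup (V ≃ₗ[F] V)}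

omit [AddCommGroup V] [Module F V] [Module K V] [IsScalarTower F K V] [Module.Finite K V] in
theorem finrank_ker_add_one (f : K →ₗ[F] F) (hf : f ≠ 0) :
    finrank F (LinearMap.ker f) + 1 = finrank F K := by
  have h1 := LinearMap.finrank_range_add_finrank_ker f
  have h2 : LinearMap.range f = ⊤ := by
    obtain ⟨z, hz⟩ : ∃ z, f z ≠ 0 := by
      by_contra hcon
      push Not at hcon
      exact hf (LinearMap.ext hcon)
    rw [eq_top_iff]
    intro y _
    refine ⟨(y / f z) • z, ?_⟩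
    rw [map_smul, smul_eq_mul, div_mul_cancel₀ _ hz]
  rw [h2, finrank_top, finrank_self] at h1
  omega

/-- (6b'): some transvection in `X` has its functional not vanishing on the `K`-line of its
centre -/
theorem exists_inPsi_not_KA [Finite K] (hX : HX K X) (hr : 2 ≤ finrank F K)
    (htv : HasTv X) :
    ∃ (a : V) (φ : Dual F V) (k : K), a ≠ 0 ∧ InPsi X a φ ∧ φ (k • a) ≠ 0 := by
  classical
  obtain ⟨φ₀, a₀, hφ₀, ha₀, hφa, hx⟩ := htv
  have h0 : InPsi X a₀ φ₀ := ⟨hφa, hx⟩
  by_cases hKA : ∃ k : K, φ₀ (k • a₀) ≠ 0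
  · obtain ⟨k, hk⟩ := hKA
    exact ⟨a₀, φ₀, k, ha₀, h0, hk⟩
  push Not at hKA
  obtain ⟨c, hc⟩ : ∃ c, φ₀ c ≠ 0 := by
    by_contra hcon
    push Not at hcon
    exact hφ₀ (LinearMap.ext hcon)
  have hca : ∀ t : K, c ≠ t • a₀ := by
    intro t ht
    apply hc
    rw [ht, hKA]
  obtain ⟨μa, μc, haa, hac, hca', hcc⟩ := exists_dual_pair' (K := K) ha₀ hca
  set f : K →ₗ[F] F := fa K φ₀ c with hf
  have hf1 : f 1 = φ₀ c := by simp [hf]
  have hf0 : f ≠ 0 := by
    intro h
    apply hc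
    rw [← hf1, h]; rfl
  have hD := finrank_ker_add_one f hf0
  obtain ⟨⟨ρ, hρm⟩, hρ0⟩ : ∃ z : LinearMap.ker f, z ≠ 0 := by
    apply (Module.finrank_pos_iff_exists_ne_zero (R := F) (M := LinearMap.ker f)).mp
    omega
  have hρ : ρ ≠ 0 := fun h => hρ0 (Subtype.ext h)
  have hfρ : f ρ = 0 := hρm
  obtain ⟨δ, hδ0, hδn, hδ⟩ := exists_norm_one_not_mem (LinearMap.ker f) hD ρ hρ
  have hfδρ : f (δ * ρ) ≠ 0 := hδ
  -- the transvection `E` and the dilatation `D`
  have hlE : (ρ • μa) c = 0 := by simp [hac]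
  have hE : IsX X (1 + ku F (ρ • μa) c) := isX_ku_zero hX _ _ hlE
  have hD' : IsX X (1 + ku F ((δ - 1) • μc) c) := by
    apply isX_ku hX
    · simp only [LinearMap.smul_apply, hcc, smul_eq_mul, mul_one]
      rwa [add_sub_cancel]
    · simp only [LinearMap.smul_apply, hcc, smul_eq_mul, mul_one]
      rwa [add_sub_cancel]
  have h1 := h0.conj hE (ku_unip_inv (F := F) hlE)
  have h2 := h1.conj hD' (dil_mul_inv (F := F) hcc hδ0)
  -- the new centre
  have hb : (1 + ku F ((δ - 1) • μc) c) ((1 + ku F (ρ • μa) c) a₀) = a₀ + (δ * ρ) • c := by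
    have e1 : (1 + ku F (ρ • μa) c) a₀ = a₀ + ρ • c := by
      simp only [LinearMap.add_apply, Module.End.one_apply, ku_apply, LinearMap.smul_apply,
        smul_eq_mul, haa, mul_one]
    rw [e1]
    simp only [LinearMap.add_apply, Module.End.one_apply, ku_apply, LinearMap.smul_apply,
      smul_eq_mul, map_add, map_smul, hca', hcc, mul_one, zero_add]
    module
  rw [hb] at h2
  set χ : Dual F V := (φ₀ ∘ₗ (1 - ku F (ρ • μa) c)) ∘ₗ (1 + ku F ((δ⁻¹ - 1) • μc) c) with hχ
  have hχk : ∀ k : K, χ (k • a₀) = - f (ρ * k) := by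
    intro k
    simp only [hχ, LinearMap.comp_apply, LinearMap.add_apply, LinearMap.sub_apply,
      Module.End.one_apply, ku_apply, LinearMap.smul_apply, smul_eq_mul, map_smul, hca', mul_zero,
      zero_smul, add_zero, haa, mul_one, map_sub, hKA, zero_sub, hf, fa_apply, mul_comm k ρ]
  have hχa : χ a₀ = 0 := by
    have := hχk 1
    rwa [one_smul, mul_one, hfρ, neg_zero] at this
  have hψb : φ₀ (a₀ + (δ * ρ) • c) ≠ 0 := by
    rw [map_add, hφa, zero_add]
    exact hfδρ
  have h3 := h0.comm h2 hχa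
  refine ⟨a₀, _, ρ⁻¹, ha₀, h3, ?_⟩
  rw [LinearMap.smul_apply, hχk, mul_inv_cancel₀ hρ, hf1, smul_eq_mul]
  exact mul_ne_zero hψb (neg_ne_zero.mpr hc)

/-- one transvection gives all transvections -/
theorem all_tv [Finite K] (hX : HX K X) (hr : 2 ≤ finrank F K) (hm : 2 ≤ finrank K V)
    (htv : HasTv X) (φ : Dual F V) (a : V) (h : φ a = 0) : LinearEquiv.transvection h ∈ X := by
  obtain ⟨a₁, φ₁, k₁, ha₁, hφ₁, hk₁⟩ := exists_inPsi_not_KA hX hr htv
  have hP : PKA K X a₁ := fun χ hχ => inPsi_of_KA hX hφ₁ hk₁ χ hχ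
  have hall : ∀ b : V, b ≠ 0 → PKA K X b := fun b hb => hP.all hX hm ha₁ hb
  by_cases ha : a = 0
  · subst ha
    exact isX_transvection h (InPsi.zero_vec φ).2
  · exact isX_transvection h (inPsi_of_PKA hm hall ha φ h).2

/-- **Core theorem.** A subgroup of `GL_F(V)` containing all `K`-semilinear maps of determinant
one, and some map which is not `K`-semilinear, contains every map of determinant one. -/
theorem core [Finite V] [Finite K] (hX : HX K X) (hr : (finrank F K).Prime)
    (hm : 2 ≤ finrank K V) (x : V ≃ₗ[F] V) (hx : x ∈ X) (hn : ¬ NormE K (x : V →ₗ[F] V))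
    (f : V ≃ₗ[F] V) (hf : LinearMap.det (f : V →ₗ[F] V) = 1) : f ∈ X := by
  have htv : HasTv X := hasTv_of_not_normE hX hr hm x hx hn
  have : Module.Finite F V := Module.Finite.trans K V
  exact Cfsg.Agent.Lib.Helper13.McL.mem_of_det_eq_one X
    (fun φ a h => all_tv hX hr.two_le hm htv φ a h) f hf

end Cfsg.Agent.Lib.Helper13.CF
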