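import Cfsg.Agent.Lib.Helper13.CFP

set_option autoImplicit false
set_option linter.unusedSimpArgs false
set_option linter.unusedVariables false
set_option linter.unusedSectionVars false

/-! # C3 maximality: transvections are not semilinear, and the determinant on `N` -/

namespace Cfsg.Agent.Lib.Helper13.CF

open Module

variable {F K V : Type*} [Field F] [Field K] [Algebra F K] [AddCommGroup V] [Module F V]
  [Module K V] [IsScalarTower F K V] [Module.Finite K V] [Module.Finite F K]

/-- a transvection over `F` is not `K`-semilinear, when `K ≠ F` and `dim_K V ≥ 2` -/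
theorem not_normE_transvection (hr : 2 ≤ finrank F K) (hm : 2 ≤ finrank K V) {φ : Dual F V}
    {a : V} (hφ : φ ≠ 0) (ha : a ≠ 0) : ¬ NormE K (1 + r1 φ a) := by
  intro hN
  -- a vector off the line `K a` on which `φ` does not vanish
  obtain ⟨v, hv, hφv⟩ : ∃ v : V, (∀ t : K, v ≠ t • a) ∧ φ v ≠ 0 := by
    obtain ⟨c, hc⟩ : ∃ c, φ c ≠ 0 := by
      by_contra hcon
      push Not at hcon
      exact hφ (LinearMap.ext hcon)
    obtain ⟨w, hw⟩ := exists_not_mem_line (K := K) hm a
    by_cases hca : ∀ t : K, c ≠ t • a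
    · exact ⟨c, hca, hc⟩
    · push Not at hca
      obtain ⟨t, rfl⟩ := hca
      by_cases hφw : φ w = 0
      · refine ⟨t • a + w, ?_, by rwa [map_add, hφw, add_zero]⟩
        intro s hs
        apply hw (s - t)
        rw [sub_smul, ← hs]; abel
      · exact ⟨w, hw, hφw⟩
  obtain ⟨ω, hω⟩ := exists_not_mem_line (K := F) (V := K) hr (1 : K)
  obtain ⟨k', hk'⟩ := hN ω
  have h1 := hk' v
  simp only [LinearMap.add_apply, Module.End.one_apply, r1_apply, smul_add] at h1
  -- `(ω - k') • v = (φ v • k' - φ (ω • v) • 1) • a`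
  have h2 : (ω - k') • v = (φ v • k' - φ (ω • v) • (1 : K)) • a := by
    rw [sub_smul, sub_smul, smul_assoc, smul_assoc, one_smul]
    rw [smul_comm k' (φ v) a] at h1
    exact sub_eq_sub_iff_add_eq_add.mpr (h1.trans (add_comm _ _))
  have h3 : ω - k' = 0 := by
    by_contra hne
    apply hv ((ω - k')⁻¹ * (φ v • k' - φ (ω • v) • (1 : K)))
    rw [mul_smul, ← h2, smul_smul, inv_mul_cancel₀ hne, one_smul]
  rw [h3, zero_smul] at h2
  have h4 : φ v • k' - φ (ω • v) • (1 : K) = 0 := by
    rcases smul_eq_zero.mp h2.symm with h5 | h5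
    · exact h5
    · exact absurd h5 ha
  have h5 : k' = ω := (sub_eq_zero.mp h3).symm
  apply hω ((φ v)⁻¹ * φ (ω • v))
  rw [mul_smul, ← sub_eq_zero.mp h4, h5, smul_smul, inv_mul_cancel₀ hφv, one_smul]


/-- every nonzero scalar is the `F`-determinant of a `K`-linear automorphism -/
theorem exists_klinear_det [Finite K] {a : V} (ha : a ≠ 0) (c : F) (hc : c ≠ 0) :
    ∃ e : V ≃ₗ[K] V, LinearMap.det ((e : V →ₗ[K] V).restrictScalars F) = c := by
  obtain ⟨δ, hδ⟩ := FiniteField.norm_surjective F K c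
  have hδ0 : δ ≠ 0 := by
    rintro rfl
    rw [Algebra.norm_zero] at hδ
    exact hc hδ.symm
  obtain ⟨μ, hμ⟩ := exists_coord (F := K) ha
  have hu : IsUnit (1 + ((δ - 1) • μ) a) := by
    simp only [LinearMap.smul_apply, hμ, smul_eq_mul, mul_one, add_sub_cancel]
    exact isUnit_iff_ne_zero.mpr hδ0
  refine ⟨LinearEquiv.dilatransvection hu, ?_⟩
  rw [LinearMap.det_restrictScalars, LinearEquiv.dilatransvection.coe_toLinearMap,
    LinearMap.transvection.det]
  simp only [LinearMap.smul_apply, hμ, smul_eq_mul, mul_one, add_sub_cancel]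
  exact hδ

end Cfsg.Agent.Lib.Helper13.CF
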