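import Cfsg.Agent.Lib.Helper13.CFQ
import Cfsg.Prelude.Def_GeometricClasses

set_option autoImplicit false
set_option linter.unusedSimpArgs false
set_option linter.unusedVariables false
set_option linter.unusedSectionVars false
set_option linter.style.haveILetI false

/-! # C3 maximality: the bridge to matrices -/

namespace Cfsg.Agent.Lib.Helper13.CF

open Module Matrix

variable {F : Type*} [Field F] {n : ℕ} {K' : Type*} [Field K'] [Algebra F K']
  (ι : K' →ₐ[F] Matrix (Fin n) (Fin n) F)

/-- the vector space structure over `K'` on `F^n` given by an embedding of `K'` into the matrix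
algebra -/
@[reducible] def modOf : Module K' (Fin n → F) :=
  Module.compHom (Fin n → F)
    (((Matrix.toLinAlgEquiv' : Matrix (Fin n) (Fin n) F ≃ₐ[F] _).toAlgHom.comp ι).toRingHom)

theorem modOf_smul (k : K') (v : Fin n → F) :
    (letI := modOf ι; k • v) = (ι k) *ᵥ v := rfl

theorem modOf_tower : letI := modOf ι; IsScalarTower F K' (Fin n → F) := by
  letI := modOf ι
  refine ⟨fun f k v => ?_⟩
  rw [modOf_smul, modOf_smul, map_smul, Matrix.smul_mulVec]

/-- the isomorphism between `GL_n(F)` and the linear automorphisms of `F^n` -/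
def Θ : GL (Fin n) F ≃* ((Fin n → F) ≃ₗ[F] (Fin n → F)) :=
  Matrix.GeneralLinearGroup.toLin.trans
    (LinearMap.GeneralLinearGroup.generalLinearEquiv F (Fin n → F))

theorem Θ_apply (g : GL (Fin n) F) (v : Fin n → F) : Θ g v = g.1 *ᵥ v := rfl

theorem Θ_coe (g : GL (Fin n) F) :
    ((Θ g : (Fin n → F) ≃ₗ[F] (Fin n → F)) : (Fin n → F) →ₗ[F] (Fin n → F)) =
      Matrix.toLin' g.1 := by
  ext v : 1
  rfl

theorem Θ_det (g : GL (Fin n) F) :
    LinearMap.det ((Θ g : (Fin n → F) ≃ₗ[F] (Fin n → F)) : (Fin n → F) →ₗ[F] (Fin n → F)) =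
      Matrix.det g.1 := by
  rw [Θ_coe, LinearMap.det_toLin']


/-- matrix form of semilinearity -/
def SemiM (g : GL (Fin n) F) : Prop := ∀ k : K', ∃ k' : K', g.1 * ι k = ι k' * g.1

theorem normE_iff (g : GL (Fin n) F) :
    (letI := modOf ι; NormE K' ((Θ g : (Fin n → F) ≃ₗ[F] (Fin n → F)) :
      (Fin n → F) →ₗ[F] (Fin n → F))) ↔ SemiM ι g := by
  letI := modOf ι
  constructor
  · intro h k
    obtain ⟨k', hk'⟩ := h k
    refine ⟨k', ?_⟩
    apply Matrix.toLin'.injective
    apply LinearMap.ext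
    intro v
    have := hk' v
    rw [Θ_coe, Matrix.toLin'_apply, Matrix.toLin'_apply, modOf_smul, modOf_smul,
      Matrix.mulVec_mulVec, Matrix.mulVec_mulVec] at this
    rw [Matrix.toLin'_apply, Matrix.toLin'_apply]
    exact this
  · intro h k
    obtain ⟨k', hk'⟩ := h k
    refine ⟨k', fun v => ?_⟩
    rw [Θ_coe, Matrix.toLin'_apply, Matrix.toLin'_apply, modOf_smul, modOf_smul,
      Matrix.mulVec_mulVec, Matrix.mulVec_mulVec, hk']

theorem mem_normalizer_iff [Finite K'] (hι : Function.Injective ι) (g : GL (Fin n) F) :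
    g ∈ Cfsg.Geo.subalgebraNormalizer ι.range ↔ SemiM ι g := by
  have hginv : g.1 * (g⁻¹ : GL (Fin n) F).1 = 1 := by
    rw [← Units.val_mul, mul_inv_cancel, Units.val_one]
  have hginv' : (g⁻¹ : GL (Fin n) F).1 * g.1 = 1 := by
    rw [← Units.val_mul, inv_mul_cancel, Units.val_one]
  constructor
  · intro h k
    have h1 := (h (ι k)).mp ⟨k, rfl⟩
    obtain ⟨k', hk'⟩ := h1
    refine ⟨k', ?_⟩
    have hk'' : ι k' = g.1 * ι k * (g⁻¹ : GL (Fin n) F).1 := hk'
    rw [hk'', mul_assoc, hginv', mul_one]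
  · intro h M
    have hconj : ∀ k : K', ∃ k' : K', g.1 * ι k * (g⁻¹ : GL (Fin n) F).1 = ι k' := by
      intro k
      obtain ⟨k', hk'⟩ := h k
      exact ⟨k', by rw [hk', mul_assoc, hginv, mul_one]⟩
    choose c hc using hconj
    have hcinj : Function.Injective c := by
      intro k₁ k₂ h12
      apply hι
      have h1 := hc k₁
      have h2 := hc k₂
      rw [h12] at h1
      have h3 : g.1 * ι k₁ * (g⁻¹ : GL (Fin n) F).1 = g.1 * ι k₂ * (g⁻¹ : GL (Fin n) F).1 :=
        h1.trans h2.symm
      have h4 := congrArg (fun X => (g⁻¹ : GL (Fin n) F).1 * X * g.1) h3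
      simp only [mul_assoc, hginv', mul_one] at h4
      simp only [← mul_assoc, hginv', one_mul] at h4
      exact h4
    have hcsurj : Function.Surjective c := Finite.injective_iff_surjective.mp hcinj
    constructor
    · rintro ⟨k, rfl⟩
      exact ⟨c k, (hc k).symm⟩
    · rintro ⟨k', hk'⟩
      obtain ⟨k, rfl⟩ := hcsurj k'
      refine ⟨k, ?_⟩
      have hk'' : ι (c k) = g.1 * M * (g⁻¹ : GL (Fin n) F).1 := hk'
      rw [← hc k] at hk''
      have h4 := congrArg (fun X => (g⁻¹ : GL (Fin n) F).1 * X * g.1) hk''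
      simp only [mul_assoc, hginv', mul_one] at h4
      simp only [← mul_assoc, hginv', one_mul] at h4
      exact h4


theorem mem_specialLinear_iff (g : GL (Fin n) F) :
    g ∈ Cfsg.Geo.specialLinear (Fin n) F ↔ Matrix.det g.1 = 1 := by
  unfold Cfsg.Geo.specialLinear
  rw [MonoidHom.mem_ker, Units.ext_iff]
  rfl

section main

variable [Fintype F] [Finite K'] (hι : Function.Injective ι)

include hι

/-- (i) an overgroup of `N ∩ SL` not contained in `N` contains `SL` -/
theorem sl_le_of_not_le (hr : (finrank F K').Prime) (hlt : finrank F K' < n)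
    (X' : Subgroup (GL (Fin n) F))
    (h1 : Cfsg.Geo.subalgebraNormalizer ι.range ⊓ Cfsg.Geo.specialLinear (Fin n) F ≤ X')
    (h2 : ¬ X' ≤ Cfsg.Geo.subalgebraNormalizer ι.range) :
    Cfsg.Geo.specialLinear (Fin n) F ≤ X' := by
  letI := modOf ι
  haveI := modOf_tower ι
  haveI : Module.Finite F K' := Module.finite_of_finrank_pos hr.pos
  haveI : Module.Finite K' (Fin n → F) := Module.Finite.of_finite
  have hmul := Module.finrank_mul_finrank F K' (Fin n → F)
  rw [Module.finrank_fin_fun] at hmul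
  have hm : 2 ≤ finrank K' (Fin n → F) := by
    by_contra hcon
    push Not at hcon
    have : finrank K' (Fin n → F) = 0 ∨ finrank K' (Fin n → F) = 1 := by omega
    rcases this with h0 | h0 <;> rw [h0] at hmul <;> omega
  obtain ⟨x, hxX, hxN⟩ := SetLike.not_le_iff_exists.mp h2
  set X : Subgroup ((Fin n → F) ≃ₗ[F] (Fin n → F)) := X'.comap Θ.symm.toMonoidHom with hX
  have hXmem : ∀ f, f ∈ X ↔ Θ.symm f ∈ X' := fun f => Iff.rfl
  have hHX : HX K' X := by
    intro f hN hdet
    rw [hXmem]
    apply h1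
    rw [Subgroup.mem_inf]
    refine ⟨?_, ?_⟩
    · rw [mem_normalizer_iff ι hι, ← normE_iff, MulEquiv.apply_symm_apply]
      exact hN
    · rw [mem_specialLinear_iff, ← Θ_det, MulEquiv.apply_symm_apply]
      exact hdet
  have hx : Θ x ∈ X := by
    rw [hXmem, MulEquiv.symm_apply_apply]; exact hxX
  have hxn : ¬ NormE K' ((Θ x : (Fin n → F) ≃ₗ[F] (Fin n → F)) :
      (Fin n → F) →ₗ[F] (Fin n → F)) := by
    intro hN
    apply hxN
    rw [mem_normalizer_iff ι hι, ← normE_iff]
    exact hN
  intro g hg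
  have hdet : LinearMap.det ((Θ g : (Fin n → F) ≃ₗ[F] (Fin n → F)) :
      (Fin n → F) →ₗ[F] (Fin n → F)) = 1 := by
    rw [Θ_det]; exact (mem_specialLinear_iff g).mp hg
  have := core hHX hr hm (Θ x) hx hxn (Θ g) hdet
  rw [hXmem, MulEquiv.symm_apply_apply] at this
  exact this


/-- (ii) some element of `SL` is not in `N` -/
theorem exists_sl_not_mem (hr : (finrank F K').Prime) (hlt : finrank F K' < n) :
    ∃ g : GL (Fin n) F, g ∈ Cfsg.Geo.specialLinear (Fin n) F ∧
      g ∉ Cfsg.Geo.subalgebraNormalizer ι.range := by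
  letI := modOf ι
  haveI := modOf_tower ι
  haveI : Module.Finite F K' := Module.finite_of_finrank_pos hr.pos
  haveI : Module.Finite K' (Fin n → F) := Module.Finite.of_finite
  have hmul := Module.finrank_mul_finrank F K' (Fin n → F)
  rw [Module.finrank_fin_fun] at hmul
  have hm : 2 ≤ finrank K' (Fin n → F) := by
    by_contra hcon
    push Not at hcon
    have : finrank K' (Fin n → F) = 0 ∨ finrank K' (Fin n → F) = 1 := by omega
    rcases this with h0 | h0 <;> rw [h0] at hmul <;> omega
  have hmF : 2 ≤ finrank F (Fin n → F) := by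
    rw [Module.finrank_fin_fun]
    have := hr.two_le
    omega
  obtain ⟨a, ha⟩ := exists_ne_zero_of_two_le (K := K') hm
  obtain ⟨b, hb⟩ := exists_not_mem_line (K := F) hmF a
  obtain ⟨μa, μb, -, -, hba, hbb⟩ := exists_dual_pair' (K := F) ha hb
  have hμb : μb ≠ 0 := by
    rintro rfl
    simp at hbb
  refine ⟨Θ.symm (LinearEquiv.transvection hba), ?_, ?_⟩
  · rw [mem_specialLinear_iff, ← Θ_det, MulEquiv.apply_symm_apply, ← LinearEquiv.coe_det,
      LinearEquiv.transvection.det_eq_one, Units.val_one]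
  · rw [mem_normalizer_iff ι hι, ← normE_iff, MulEquiv.apply_symm_apply,
      LinearEquiv.transvection.coe_toLinearMap, ← one_add_r1]
    exact not_normE_transvection hr.two_le hm hμb ha

/-- (iii) the determinant is surjective on `N` -/
theorem exists_mem_det_eq (hr : (finrank F K').Prime) (hlt : finrank F K' < n) (c : Fˣ) :
    ∃ g : GL (Fin n) F, g ∈ Cfsg.Geo.subalgebraNormalizer ι.range ∧ Matrix.det g.1 = c := by
  letI := modOf ι
  haveI := modOf_tower ι
  haveI : Module.Finite F K' := Module.finite_of_finrank_pos hr.pos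
  haveI : Module.Finite K' (Fin n → F) := Module.Finite.of_finite
  have hmul := Module.finrank_mul_finrank F K' (Fin n → F)
  rw [Module.finrank_fin_fun] at hmul
  have hm : 2 ≤ finrank K' (Fin n → F) := by
    by_contra hcon
    push Not at hcon
    have : finrank K' (Fin n → F) = 0 ∨ finrank K' (Fin n → F) = 1 := by omega
    rcases this with h0 | h0 <;> rw [h0] at hmul <;> omega
  obtain ⟨a, ha⟩ := exists_ne_zero_of_two_le (K := K') hm
  obtain ⟨e, he⟩ := exists_klinear_det (F := F) (K := K') ha c.1 c.ne_zero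
  refine ⟨Θ.symm (e.restrictScalars F), ?_, ?_⟩
  · rw [mem_normalizer_iff ι hι, ← normE_iff, MulEquiv.apply_symm_apply]
    intro k
    exact ⟨k, fun v => by simp⟩
  · rw [← Θ_det, MulEquiv.apply_symm_apply]
    exact he

/-- the maximality theorem for an embedded field -/
theorem main_embedded (hr : (finrank F K').Prime) (hlt : finrank F K' < n) :
    IsCoatom (Cfsg.Geo.subalgebraNormalizer ι.range) ∧
      Cfsg.Geo.IsMaximalIn (Cfsg.Geo.specialLinear (Fin n) F)
        (Cfsg.Geo.subalgebraNormalizer ι.range ⊓ Cfsg.Geo.specialLinear (Fin n) F) := by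
  obtain ⟨t, htSL, htN⟩ := exists_sl_not_mem ι hι hr hlt
  refine ⟨⟨?_, ?_⟩, ⟨?_, ?_⟩⟩
  · intro htop
    apply htN
    rw [htop]
    trivial
  · intro X' hX'
    have hsl : Cfsg.Geo.specialLinear (Fin n) F ≤ X' :=
      sl_le_of_not_le ι hι hr hlt X' (inf_le_left.trans hX'.le) (not_le_of_gt hX')
    rw [eq_top_iff]
    intro g _
    obtain ⟨h, hhN, hhdet⟩ := exists_mem_det_eq ι hι hr hlt (Matrix.GeneralLinearGroup.det g)
    have h1 : g * h⁻¹ ∈ Cfsg.Geo.specialLinear (Fin n) F := by
      rw [mem_specialLinear_iff]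
      have h2 : Matrix.det (g * h⁻¹).1 * Matrix.det h.1 = Matrix.det g.1 := by
        rw [← Matrix.det_mul, ← Units.val_mul, inv_mul_cancel_right]
      rw [hhdet, Matrix.GeneralLinearGroup.val_det_apply] at h2
      have h3 : Matrix.det g.1 ≠ 0 := by
        rw [← Matrix.GeneralLinearGroup.val_det_apply]
        exact Units.ne_zero _
      exact mul_right_cancel₀ h3 (h2.trans (one_mul _).symm)
    have h2 : g = (g * h⁻¹) * h := by rw [inv_mul_cancel_right]
    rw [h2]
    exact X'.mul_mem (hsl h1) (hX'.le hhN)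
  · refine lt_of_le_of_ne inf_le_right ?_
    intro heq
    apply htN
    have : t ∈ Cfsg.Geo.subalgebraNormalizer ι.range ⊓ Cfsg.Geo.specialLinear (Fin n) F := by
      rw [heq]; exact htSL
    exact (Subgroup.mem_inf.mp this).1
  · intro M hM1 hM2
    by_cases hMN : M ≤ Cfsg.Geo.subalgebraNormalizer ι.range
    · left
      exact le_antisymm (le_inf hMN hM2) hM1
    · right
      exact le_antisymm hM2 (sl_le_of_not_le ι hι hr hlt M hM1 hMN)

end main

end Cfsg.Agent.Lib.Helper13.CF
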