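import Cfsg.Agent.Lib.Helper13.D4Coll

/-! # D3 hive (S2183, helper12), leaf D3-CA `conj_a` (helper13, parallel hand): conjugation by `x_a(σ)`
on `V(t,S,c,d,e)`, by the automatic collection of `Helper13.D4Coll`. -/

set_option autoImplicit false
set_option linter.unusedSimpArgs false

namespace Cfsg.Agent.Lib.Helper12.D3

open Cfsg Cfsg.Lie Cfsg.Agent.Lib.Helper36 Cfsg.Agent.Lib.Helper75.D4g

variable (K : Type*) [Field K] (φ : K →+* K)

theorem d3ca_cg (r : ℕ) {a a' : K} (h : a = a') {X X' : GL chevD4.Idx K} (hX : X = X') :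
    xg K r a * X = xg K r a' * X' := by rw [h, hX]

open Cfsg.Agent.Lib.Helper13.D4Coll in
/-- D3-CA : conjugation by `x_a(σ)` -/
theorem conj_a [CharP K 2] (h3 : ∀ x : K, φ (φ (φ x)) = x) (σ t : K) (ht : φ t = t) (S c d e : K) :
    ∃ e' : K, xa K φ σ * V K φ t S c d e * (xa K φ σ)⁻¹ =
      V K φ t (S + σ * t) (c + φ S * σ + S * φ σ + σ * φ σ * t)
        (d + (φ (φ S) * σ * φ σ + φ S * σ * φ (φ σ) + S * φ σ * φ (φ σ)) + tr3 K φ c σ + nm K φ σ * t) e' := by
  refine ⟨e + ((σ * t + (S + σ * t)) * (φ (φ σ) * (φ σ * t)) +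
                              (φ (S + σ * t) * (φ (φ σ) * (σ * t)) +
                                (φ (φ (S + σ * t)) * (φ σ * (σ * t)) +
                                  (φ (S + σ * t) * (φ (φ σ) * (S + σ * t)) +
                                    (φ (φ (S + σ * t)) * (φ σ * (S + σ * t)) +
                                      φ (φ (S + σ * t)) * (σ * φ (S + σ * t))))))), ?_⟩
  rw [mul_inv_eq_iff_eq_mul]
  unfold V T xa xab x2ab
  simp only [mul_assoc, map_zero, d4coll_zero, d4coll_inv, one_mul, mul_one, d4coll_merge, d4coll_merge',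
    sw_18_13, sw_18_13', sw_18_12, sw_18_12', sw_18_14, sw_18_14', sw_18_19, sw_18_19', sw_18_16, sw_18_16', 
    sw_18_15, sw_18_15', sw_18_21, sw_18_21', sw_18_17, sw_18_17', sw_18_20, sw_18_20', sw_18_22, sw_18_22', 
    sw_18_23, sw_18_23', sw_13_12, sw_13_12', sw_13_14, sw_13_14', sw_13_19, sw_13_19', sw_13_16, sw_13_16', 
    sw_13_15, sw_13_15', sw_13_21, sw_13_21', sw_13_17, sw_13_17', sw_13_20, sw_13_20', sw_13_22, sw_13_22', 
    sw_13_23, sw_13_23', sw_12_14, sw_12_14', sw_12_19, sw_12_19', sw_12_16, sw_12_16', sw_12_15, sw_12_15', 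
    sw_12_21, sw_12_21', sw_12_17, sw_12_17', sw_12_20, sw_12_20', sw_12_22, sw_12_22', sw_12_23, sw_12_23', 
    sw_14_19, sw_14_19', sw_14_16, sw_14_16', sw_14_15, sw_14_15', sw_14_21, sw_14_21', sw_14_17, sw_14_17', 
    sw_14_20, sw_14_20', sw_14_22, sw_14_22', sw_14_23, sw_14_23', sw_19_16, sw_19_16', sw_19_15, sw_19_15', 
    sw_19_21, sw_19_21', sw_19_17, sw_19_17', sw_19_20, sw_19_20', sw_19_22, sw_19_22', sw_19_23, sw_19_23', 
    sw_16_15, sw_16_15', sw_16_21, sw_16_21', sw_16_17, sw_16_17', sw_16_20, sw_16_20', sw_16_22, sw_16_22', 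
    sw_16_23, sw_16_23', sw_15_21, sw_15_21', sw_15_17, sw_15_17', sw_15_20, sw_15_20', sw_15_22, sw_15_22', 
    sw_15_23, sw_15_23', sw_21_17, sw_21_17', sw_21_20, sw_21_20', sw_21_22, sw_21_22', sw_21_23, sw_21_23', 
    sw_17_20, sw_17_20', sw_17_22, sw_17_22', sw_17_23, sw_17_23', sw_20_22, sw_20_22', sw_20_23, sw_20_23', 
    sw_22_23, sw_22_23']
  refine d3ca_cg K 18 rfl (d3ca_cg K 13 rfl (d3ca_cg K 12 rfl (d3ca_cg K 14 rfl (d3ca_cg K 19 ?_ (d3ca_cg K 16 ?_
    (d3ca_cg K 15 ?_ (d3ca_cg K 21 ?_ (d3ca_cg K 17 ?_ (d3ca_cg K 20 ?_ (d3ca_cg K 22 ?_ (congrArg (xg K 23) ?_)))))))))))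
  all_goals (try unfold tr3 nm)
  all_goals (try simp only [map_add, map_mul, h3, ht])
  all_goals (rw [← sub_eq_zero]; ring_nf)
  have hch : CharP K 2 := inferInstance
  all_goals (try reduce_mod_char!)

end Cfsg.Agent.Lib.Helper12.D3
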