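import Cfsg.Agent.Lib.Helper12.D3Defs
import Cfsg.Agent.Lib.Helper65.D4gCOMM

/-! # Collection in `U(D₄)`, characteristic 2 (helper13, for the D3 hive S2183 of helper12)

Canonical order of the positive roots: `18, 13, 12, 14, 19, 16, 15, 21, 17, 20, 22, 23` (the order of the factors of
helper12's `W`).  For every out-of-order adjacent pair there is a swap lemma `sw_r_s` (and a tail version `sw_r_s'`);
`d4coll_merge`, `d4coll_merge'` merge equal roots.  `simp only [mul_assoc, d4coll]`-style sets built from these lemmas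
bring any word in positive root elements into canonical form.

USAGE (copy the whole simp call):
  set_option linter.unusedSimpArgs false
  ... rw [mul_inv_eq_iff_eq_mul]; unfold W V T xa xab x2ab
  simp only [mul_assoc, map_zero, d4coll_zero, d4coll_inv, one_mul, mul_one, d4coll_merge, d4coll_merge',
    sw_18_13, sw_18_13', sw_18_12, sw_18_12', sw_18_14, sw_18_14', sw_18_19, sw_18_19', sw_18_16, sw_18_16',
    sw_18_15, sw_18_15', sw_18_21, sw_18_21', sw_18_17, sw_18_17', sw_18_20, sw_18_20', sw_18_22, sw_18_22',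
    sw_18_23, sw_18_23', sw_13_12, sw_13_12', sw_13_14, sw_13_14', sw_13_19, sw_13_19', sw_13_16, sw_13_16',
    sw_13_15, sw_13_15', sw_13_21, sw_13_21', sw_13_17, sw_13_17', sw_13_20, sw_13_20', sw_13_22, sw_13_22',
    sw_13_23, sw_13_23', sw_12_14, sw_12_14', sw_12_19, sw_12_19', sw_12_16, sw_12_16', sw_12_15, sw_12_15',
    sw_12_21, sw_12_21', sw_12_17, sw_12_17', sw_12_20, sw_12_20', sw_12_22, sw_12_22', sw_12_23, sw_12_23',
    sw_14_19, sw_14_19', sw_14_16, sw_14_16', sw_14_15, sw_14_15', sw_14_21, sw_14_21', sw_14_17, sw_14_17',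
    sw_14_20, sw_14_20', sw_14_22, sw_14_22', sw_14_23, sw_14_23', sw_19_16, sw_19_16', sw_19_15, sw_19_15',
    sw_19_21, sw_19_21', sw_19_17, sw_19_17', sw_19_20, sw_19_20', sw_19_22, sw_19_22', sw_19_23, sw_19_23',
    sw_16_15, sw_16_15', sw_16_21, sw_16_21', sw_16_17, sw_16_17', sw_16_20, sw_16_20', sw_16_22, sw_16_22',
    sw_16_23, sw_16_23', sw_15_21, sw_15_21', sw_15_17, sw_15_17', sw_15_20, sw_15_20', sw_15_22, sw_15_22',
    sw_15_23, sw_15_23', sw_21_17, sw_21_17', sw_21_20, sw_21_20', sw_21_22, sw_21_22', sw_21_23, sw_21_23',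
    sw_17_20, sw_17_20', sw_17_22, sw_17_22', sw_17_23, sw_17_23', sw_20_22, sw_20_22', sw_20_23, sw_20_23',
    sw_22_23, sw_22_23']
then both sides are canonical products and `congr` + `ring` (plus char 2) matches the coefficients. -/

set_option autoImplicit false

namespace Cfsg.Agent.Lib.Helper13.D4Coll

open Cfsg Cfsg.Lie Cfsg.Agent.Lib.Helper36 Cfsg.Agent.Lib.Helper75.D4g

variable (K : Type*) [Field K]

theorem d4coll_single [CharP K 2] (r s c : ℕ) (hr : r < chevD4.nroots) (hs : s < chevD4.nroots) (hne1 : s ≠ r)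
    (hne2 : s ≠ chevD4.neg r)
    (hterms : chevD4.commTerms r s = [(c, 1, 1, 1)] ∨ chevD4.commTerms r s = [(c, -1, 1, 1)]) (t u : K) :
    xg K s u * xg K r t = xg K r t * (xg K s u * xg K c (t * u)) := by
  rcases hterms with h | h
  · rw [d4gcomm_single r s c 1 hr hs hne1 hne2 h t u, mul_assoc]
    congr 3
    rw [CharTwo.neg_eq]
    push_cast
    ring
  · rw [d4gcomm_single r s c (-1) hr hs hne1 hne2 h t u, mul_assoc]
    congr 3
    push_cast
    ring

theorem d4coll_nil (r s : ℕ) (hr : r < chevD4.nroots) (hs : s < chevD4.nroots) (hne1 : s ≠ r)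
    (hne2 : s ≠ chevD4.neg r) (hterms : chevD4.commTerms r s = []) (t u : K) :
    xg K s u * xg K r t = xg K r t * xg K s u :=
  (d4gcomm_nil r s hr hs hne1 hne2 hterms t u).symm

theorem d4coll_merge (r : ℕ) (t u : K) : xg K r t * xg K r u = xg K r (t + u) := by
  unfold xg
  rw [xGL_add]

theorem d4coll_merge' (r : ℕ) (t u : K) (X : GL chevD4.Idx K) : xg K r t * (xg K r u * X) = xg K r (t + u) * X := by
  rw [← mul_assoc, d4coll_merge]

theorem d4coll_zero (r : ℕ) : xg K r 0 = 1 := by
  unfold xg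
  rw [xGL_zero]

theorem d4coll_inv [CharP K 2] (r : ℕ) (t : K) : (xg K r t)⁻¹ = xg K r t := by
  unfold xg
  rw [xGL_inv, CharTwo.neg_eq]

theorem sw_18_13 (t u : K) : xg K 13 u * xg K 18 t = xg K 18 t * xg K 13 u :=
  d4coll_nil K 18 13 (by decide) (by decide) (by decide) (by decide +kernel) (by decide +kernel) t u

theorem sw_18_13' (t u : K) (X : GL chevD4.Idx K) :
    xg K 13 u * (xg K 18 t * X) = xg K 18 t * (xg K 13 u * X) := by
  rw [← mul_assoc, sw_18_13, mul_assoc]

theorem sw_18_12 (t u : K) : xg K 12 u * xg K 18 t = xg K 18 t * xg K 12 u :=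
  d4coll_nil K 18 12 (by decide) (by decide) (by decide) (by decide +kernel) (by decide +kernel) t u

theorem sw_18_12' (t u : K) (X : GL chevD4.Idx K) :
    xg K 12 u * (xg K 18 t * X) = xg K 18 t * (xg K 12 u * X) := by
  rw [← mul_assoc, sw_18_12, mul_assoc]

theorem sw_18_14 [CharP K 2] (t u : K) : xg K 14 u * xg K 18 t = xg K 18 t * (xg K 14 u * xg K 19 (t * u)) :=
  d4coll_single K 18 14 19 (by decide) (by decide) (by decide) (by decide +kernel) (by decide +kernel) t u

theorem sw_18_14' [CharP K 2] (t u : K) (X : GL chevD4.Idx K) :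
    xg K 14 u * (xg K 18 t * X) = xg K 18 t * (xg K 14 u * (xg K 19 (t * u) * X)) := by
  rw [← mul_assoc, sw_18_14, mul_assoc, mul_assoc]

theorem sw_18_19 (t u : K) : xg K 19 u * xg K 18 t = xg K 18 t * xg K 19 u :=
  d4coll_nil K 18 19 (by decide) (by decide) (by decide) (by decide +kernel) (by decide +kernel) t u

theorem sw_18_19' (t u : K) (X : GL chevD4.Idx K) :
    xg K 19 u * (xg K 18 t * X) = xg K 18 t * (xg K 19 u * X) := by
  rw [← mul_assoc, sw_18_19, mul_assoc]

theorem sw_18_16 [CharP K 2] (t u : K) : xg K 16 u * xg K 18 t = xg K 18 t * (xg K 16 u * xg K 21 (t * u)) :=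
  d4coll_single K 18 16 21 (by decide) (by decide) (by decide) (by decide +kernel) (by decide +kernel) t u

theorem sw_18_16' [CharP K 2] (t u : K) (X : GL chevD4.Idx K) :
    xg K 16 u * (xg K 18 t * X) = xg K 18 t * (xg K 16 u * (xg K 21 (t * u) * X)) := by
  rw [← mul_assoc, sw_18_16, mul_assoc, mul_assoc]

theorem sw_18_15 [CharP K 2] (t u : K) : xg K 15 u * xg K 18 t = xg K 18 t * (xg K 15 u * xg K 20 (t * u)) :=
  d4coll_single K 18 15 20 (by decide) (by decide) (by decide) (by decide +kernel) (by decide +kernel) t u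

theorem sw_18_15' [CharP K 2] (t u : K) (X : GL chevD4.Idx K) :
    xg K 15 u * (xg K 18 t * X) = xg K 18 t * (xg K 15 u * (xg K 20 (t * u) * X)) := by
  rw [← mul_assoc, sw_18_15, mul_assoc, mul_assoc]

theorem sw_18_21 (t u : K) : xg K 21 u * xg K 18 t = xg K 18 t * xg K 21 u :=
  d4coll_nil K 18 21 (by decide) (by decide) (by decide) (by decide +kernel) (by decide +kernel) t u

theorem sw_18_21' (t u : K) (X : GL chevD4.Idx K) :
    xg K 21 u * (xg K 18 t * X) = xg K 18 t * (xg K 21 u * X) := by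
  rw [← mul_assoc, sw_18_21, mul_assoc]

theorem sw_18_17 [CharP K 2] (t u : K) : xg K 17 u * xg K 18 t = xg K 18 t * (xg K 17 u * xg K 22 (t * u)) :=
  d4coll_single K 18 17 22 (by decide) (by decide) (by decide) (by decide +kernel) (by decide +kernel) t u

theorem sw_18_17' [CharP K 2] (t u : K) (X : GL chevD4.Idx K) :
    xg K 17 u * (xg K 18 t * X) = xg K 18 t * (xg K 17 u * (xg K 22 (t * u) * X)) := by
  rw [← mul_assoc, sw_18_17, mul_assoc, mul_assoc]

theorem sw_18_20 (t u : K) : xg K 20 u * xg K 18 t = xg K 18 t * xg K 20 u :=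
  d4coll_nil K 18 20 (by decide) (by decide) (by decide) (by decide +kernel) (by decide +kernel) t u

theorem sw_18_20' (t u : K) (X : GL chevD4.Idx K) :
    xg K 20 u * (xg K 18 t * X) = xg K 18 t * (xg K 20 u * X) := by
  rw [← mul_assoc, sw_18_20, mul_assoc]

theorem sw_18_22 (t u : K) : xg K 22 u * xg K 18 t = xg K 18 t * xg K 22 u :=
  d4coll_nil K 18 22 (by decide) (by decide) (by decide) (by decide +kernel) (by decide +kernel) t u

theorem sw_18_22' (t u : K) (X : GL chevD4.Idx K) :
    xg K 22 u * (xg K 18 t * X) = xg K 18 t * (xg K 22 u * X) := by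
  rw [← mul_assoc, sw_18_22, mul_assoc]

theorem sw_18_23 (t u : K) : xg K 23 u * xg K 18 t = xg K 18 t * xg K 23 u :=
  d4coll_nil K 18 23 (by decide) (by decide) (by decide) (by decide +kernel) (by decide +kernel) t u

theorem sw_18_23' (t u : K) (X : GL chevD4.Idx K) :
    xg K 23 u * (xg K 18 t * X) = xg K 18 t * (xg K 23 u * X) := by
  rw [← mul_assoc, sw_18_23, mul_assoc]

theorem sw_13_12 (t u : K) : xg K 12 u * xg K 13 t = xg K 13 t * xg K 12 u :=
  d4coll_nil K 13 12 (by decide) (by decide) (by decide) (by decide +kernel) (by decide +kernel) t u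

theorem sw_13_12' (t u : K) (X : GL chevD4.Idx K) :
    xg K 12 u * (xg K 13 t * X) = xg K 13 t * (xg K 12 u * X) := by
  rw [← mul_assoc, sw_13_12, mul_assoc]

theorem sw_13_14 [CharP K 2] (t u : K) : xg K 14 u * xg K 13 t = xg K 13 t * (xg K 14 u * xg K 16 (t * u)) :=
  d4coll_single K 13 14 16 (by decide) (by decide) (by decide) (by decide +kernel) (by decide +kernel) t u

theorem sw_13_14' [CharP K 2] (t u : K) (X : GL chevD4.Idx K) :
    xg K 14 u * (xg K 13 t * X) = xg K 13 t * (xg K 14 u * (xg K 16 (t * u) * X)) := by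
  rw [← mul_assoc, sw_13_14, mul_assoc, mul_assoc]

theorem sw_13_19 [CharP K 2] (t u : K) : xg K 19 u * xg K 13 t = xg K 13 t * (xg K 19 u * xg K 21 (t * u)) :=
  d4coll_single K 13 19 21 (by decide) (by decide) (by decide) (by decide +kernel) (by decide +kernel) t u

theorem sw_13_19' [CharP K 2] (t u : K) (X : GL chevD4.Idx K) :
    xg K 19 u * (xg K 13 t * X) = xg K 13 t * (xg K 19 u * (xg K 21 (t * u) * X)) := by
  rw [← mul_assoc, sw_13_19, mul_assoc, mul_assoc]

theorem sw_13_16 (t u : K) : xg K 16 u * xg K 13 t = xg K 13 t * xg K 16 u :=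
  d4coll_nil K 13 16 (by decide) (by decide) (by decide) (by decide +kernel) (by decide +kernel) t u

theorem sw_13_16' (t u : K) (X : GL chevD4.Idx K) :
    xg K 16 u * (xg K 13 t * X) = xg K 13 t * (xg K 16 u * X) := by
  rw [← mul_assoc, sw_13_16, mul_assoc]

theorem sw_13_15 [CharP K 2] (t u : K) : xg K 15 u * xg K 13 t = xg K 13 t * (xg K 15 u * xg K 17 (t * u)) :=
  d4coll_single K 13 15 17 (by decide) (by decide) (by decide) (by decide +kernel) (by decide +kernel) t u

theorem sw_13_15' [CharP K 2] (t u : K) (X : GL chevD4.Idx K) :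
    xg K 15 u * (xg K 13 t * X) = xg K 13 t * (xg K 15 u * (xg K 17 (t * u) * X)) := by
  rw [← mul_assoc, sw_13_15, mul_assoc, mul_assoc]

theorem sw_13_21 (t u : K) : xg K 21 u * xg K 13 t = xg K 13 t * xg K 21 u :=
  d4coll_nil K 13 21 (by decide) (by decide) (by decide) (by decide +kernel) (by decide +kernel) t u

theorem sw_13_21' (t u : K) (X : GL chevD4.Idx K) :
    xg K 21 u * (xg K 13 t * X) = xg K 13 t * (xg K 21 u * X) := by
  rw [← mul_assoc, sw_13_21, mul_assoc]

theorem sw_13_17 (t u : K) : xg K 17 u * xg K 13 t = xg K 13 t * xg K 17 u :=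
  d4coll_nil K 13 17 (by decide) (by decide) (by decide) (by decide +kernel) (by decide +kernel) t u

theorem sw_13_17' (t u : K) (X : GL chevD4.Idx K) :
    xg K 17 u * (xg K 13 t * X) = xg K 13 t * (xg K 17 u * X) := by
  rw [← mul_assoc, sw_13_17, mul_assoc]

theorem sw_13_20 [CharP K 2] (t u : K) : xg K 20 u * xg K 13 t = xg K 13 t * (xg K 20 u * xg K 22 (t * u)) :=
  d4coll_single K 13 20 22 (by decide) (by decide) (by decide) (by decide +kernel) (by decide +kernel) t u

theorem sw_13_20' [CharP K 2] (t u : K) (X : GL chevD4.Idx K) :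
    xg K 20 u * (xg K 13 t * X) = xg K 13 t * (xg K 20 u * (xg K 22 (t * u) * X)) := by
  rw [← mul_assoc, sw_13_20, mul_assoc, mul_assoc]

theorem sw_13_22 (t u : K) : xg K 22 u * xg K 13 t = xg K 13 t * xg K 22 u :=
  d4coll_nil K 13 22 (by decide) (by decide) (by decide) (by decide +kernel) (by decide +kernel) t u

theorem sw_13_22' (t u : K) (X : GL chevD4.Idx K) :
    xg K 22 u * (xg K 13 t * X) = xg K 13 t * (xg K 22 u * X) := by
  rw [← mul_assoc, sw_13_22, mul_assoc]

theorem sw_13_23 (t u : K) : xg K 23 u * xg K 13 t = xg K 13 t * xg K 23 u :=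
  d4coll_nil K 13 23 (by decide) (by decide) (by decide) (by decide +kernel) (by decide +kernel) t u

theorem sw_13_23' (t u : K) (X : GL chevD4.Idx K) :
    xg K 23 u * (xg K 13 t * X) = xg K 13 t * (xg K 23 u * X) := by
  rw [← mul_assoc, sw_13_23, mul_assoc]

theorem sw_12_14 [CharP K 2] (t u : K) : xg K 14 u * xg K 12 t = xg K 12 t * (xg K 14 u * xg K 15 (t * u)) :=
  d4coll_single K 12 14 15 (by decide) (by decide) (by decide) (by decide +kernel) (by decide +kernel) t u

theorem sw_12_14' [CharP K 2] (t u : K) (X : GL chevD4.Idx K) :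
    xg K 14 u * (xg K 12 t * X) = xg K 12 t * (xg K 14 u * (xg K 15 (t * u) * X)) := by
  rw [← mul_assoc, sw_12_14, mul_assoc, mul_assoc]

theorem sw_12_19 [CharP K 2] (t u : K) : xg K 19 u * xg K 12 t = xg K 12 t * (xg K 19 u * xg K 20 (t * u)) :=
  d4coll_single K 12 19 20 (by decide) (by decide) (by decide) (by decide +kernel) (by decide +kernel) t u

theorem sw_12_19' [CharP K 2] (t u : K) (X : GL chevD4.Idx K) :
    xg K 19 u * (xg K 12 t * X) = xg K 12 t * (xg K 19 u * (xg K 20 (t * u) * X)) := by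
  rw [← mul_assoc, sw_12_19, mul_assoc, mul_assoc]

theorem sw_12_16 [CharP K 2] (t u : K) : xg K 16 u * xg K 12 t = xg K 12 t * (xg K 16 u * xg K 17 (t * u)) :=
  d4coll_single K 12 16 17 (by decide) (by decide) (by decide) (by decide +kernel) (by decide +kernel) t u

theorem sw_12_16' [CharP K 2] (t u : K) (X : GL chevD4.Idx K) :
    xg K 16 u * (xg K 12 t * X) = xg K 12 t * (xg K 16 u * (xg K 17 (t * u) * X)) := by
  rw [← mul_assoc, sw_12_16, mul_assoc, mul_assoc]

theorem sw_12_15 (t u : K) : xg K 15 u * xg K 12 t = xg K 12 t * xg K 15 u :=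
  d4coll_nil K 12 15 (by decide) (by decide) (by decide) (by decide +kernel) (by decide +kernel) t u

theorem sw_12_15' (t u : K) (X : GL chevD4.Idx K) :
    xg K 15 u * (xg K 12 t * X) = xg K 12 t * (xg K 15 u * X) := by
  rw [← mul_assoc, sw_12_15, mul_assoc]

theorem sw_12_21 [CharP K 2] (t u : K) : xg K 21 u * xg K 12 t = xg K 12 t * (xg K 21 u * xg K 22 (t * u)) :=
  d4coll_single K 12 21 22 (by decide) (by decide) (by decide) (by decide +kernel) (by decide +kernel) t u

theorem sw_12_21' [CharP K 2] (t u : K) (X : GL chevD4.Idx K) :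
    xg K 21 u * (xg K 12 t * X) = xg K 12 t * (xg K 21 u * (xg K 22 (t * u) * X)) := by
  rw [← mul_assoc, sw_12_21, mul_assoc, mul_assoc]

theorem sw_12_17 (t u : K) : xg K 17 u * xg K 12 t = xg K 12 t * xg K 17 u :=
  d4coll_nil K 12 17 (by decide) (by decide) (by decide) (by decide +kernel) (by decide +kernel) t u

theorem sw_12_17' (t u : K) (X : GL chevD4.Idx K) :
    xg K 17 u * (xg K 12 t * X) = xg K 12 t * (xg K 17 u * X) := by
  rw [← mul_assoc, sw_12_17, mul_assoc]

theorem sw_12_20 (t u : K) : xg K 20 u * xg K 12 t = xg K 12 t * xg K 20 u :=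
  d4coll_nil K 12 20 (by decide) (by decide) (by decide) (by decide +kernel) (by decide +kernel) t u

theorem sw_12_20' (t u : K) (X : GL chevD4.Idx K) :
    xg K 20 u * (xg K 12 t * X) = xg K 12 t * (xg K 20 u * X) := by
  rw [← mul_assoc, sw_12_20, mul_assoc]

theorem sw_12_22 (t u : K) : xg K 22 u * xg K 12 t = xg K 12 t * xg K 22 u :=
  d4coll_nil K 12 22 (by decide) (by decide) (by decide) (by decide +kernel) (by decide +kernel) t u

theorem sw_12_22' (t u : K) (X : GL chevD4.Idx K) :
    xg K 22 u * (xg K 12 t * X) = xg K 12 t * (xg K 22 u * X) := by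
  rw [← mul_assoc, sw_12_22, mul_assoc]

theorem sw_12_23 (t u : K) : xg K 23 u * xg K 12 t = xg K 12 t * xg K 23 u :=
  d4coll_nil K 12 23 (by decide) (by decide) (by decide) (by decide +kernel) (by decide +kernel) t u

theorem sw_12_23' (t u : K) (X : GL chevD4.Idx K) :
    xg K 23 u * (xg K 12 t * X) = xg K 12 t * (xg K 23 u * X) := by
  rw [← mul_assoc, sw_12_23, mul_assoc]

theorem sw_14_19 (t u : K) : xg K 19 u * xg K 14 t = xg K 14 t * xg K 19 u :=
  d4coll_nil K 14 19 (by decide) (by decide) (by decide) (by decide +kernel) (by decide +kernel) t u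

theorem sw_14_19' (t u : K) (X : GL chevD4.Idx K) :
    xg K 19 u * (xg K 14 t * X) = xg K 14 t * (xg K 19 u * X) := by
  rw [← mul_assoc, sw_14_19, mul_assoc]

theorem sw_14_16 (t u : K) : xg K 16 u * xg K 14 t = xg K 14 t * xg K 16 u :=
  d4coll_nil K 14 16 (by decide) (by decide) (by decide) (by decide +kernel) (by decide +kernel) t u

theorem sw_14_16' (t u : K) (X : GL chevD4.Idx K) :
    xg K 16 u * (xg K 14 t * X) = xg K 14 t * (xg K 16 u * X) := by
  rw [← mul_assoc, sw_14_16, mul_assoc]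

theorem sw_14_15 (t u : K) : xg K 15 u * xg K 14 t = xg K 14 t * xg K 15 u :=
  d4coll_nil K 14 15 (by decide) (by decide) (by decide) (by decide +kernel) (by decide +kernel) t u

theorem sw_14_15' (t u : K) (X : GL chevD4.Idx K) :
    xg K 15 u * (xg K 14 t * X) = xg K 14 t * (xg K 15 u * X) := by
  rw [← mul_assoc, sw_14_15, mul_assoc]

theorem sw_14_21 (t u : K) : xg K 21 u * xg K 14 t = xg K 14 t * xg K 21 u :=
  d4coll_nil K 14 21 (by decide) (by decide) (by decide) (by decide +kernel) (by decide +kernel) t u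

theorem sw_14_21' (t u : K) (X : GL chevD4.Idx K) :
    xg K 21 u * (xg K 14 t * X) = xg K 14 t * (xg K 21 u * X) := by
  rw [← mul_assoc, sw_14_21, mul_assoc]

theorem sw_14_17 (t u : K) : xg K 17 u * xg K 14 t = xg K 14 t * xg K 17 u :=
  d4coll_nil K 14 17 (by decide) (by decide) (by decide) (by decide +kernel) (by decide +kernel) t u

theorem sw_14_17' (t u : K) (X : GL chevD4.Idx K) :
    xg K 17 u * (xg K 14 t * X) = xg K 14 t * (xg K 17 u * X) := by
  rw [← mul_assoc, sw_14_17, mul_assoc]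

theorem sw_14_20 (t u : K) : xg K 20 u * xg K 14 t = xg K 14 t * xg K 20 u :=
  d4coll_nil K 14 20 (by decide) (by decide) (by decide) (by decide +kernel) (by decide +kernel) t u

theorem sw_14_20' (t u : K) (X : GL chevD4.Idx K) :
    xg K 20 u * (xg K 14 t * X) = xg K 14 t * (xg K 20 u * X) := by
  rw [← mul_assoc, sw_14_20, mul_assoc]

theorem sw_14_22 [CharP K 2] (t u : K) : xg K 22 u * xg K 14 t = xg K 14 t * (xg K 22 u * xg K 23 (t * u)) :=
  d4coll_single K 14 22 23 (by decide) (by decide) (by decide) (by decide +kernel) (by decide +kernel) t u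

theorem sw_14_22' [CharP K 2] (t u : K) (X : GL chevD4.Idx K) :
    xg K 22 u * (xg K 14 t * X) = xg K 14 t * (xg K 22 u * (xg K 23 (t * u) * X)) := by
  rw [← mul_assoc, sw_14_22, mul_assoc, mul_assoc]

theorem sw_14_23 (t u : K) : xg K 23 u * xg K 14 t = xg K 14 t * xg K 23 u :=
  d4coll_nil K 14 23 (by decide) (by decide) (by decide) (by decide +kernel) (by decide +kernel) t u

theorem sw_14_23' (t u : K) (X : GL chevD4.Idx K) :
    xg K 23 u * (xg K 14 t * X) = xg K 14 t * (xg K 23 u * X) := by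
  rw [← mul_assoc, sw_14_23, mul_assoc]

theorem sw_19_16 (t u : K) : xg K 16 u * xg K 19 t = xg K 19 t * xg K 16 u :=
  d4coll_nil K 19 16 (by decide) (by decide) (by decide) (by decide +kernel) (by decide +kernel) t u

theorem sw_19_16' (t u : K) (X : GL chevD4.Idx K) :
    xg K 16 u * (xg K 19 t * X) = xg K 19 t * (xg K 16 u * X) := by
  rw [← mul_assoc, sw_19_16, mul_assoc]

theorem sw_19_15 (t u : K) : xg K 15 u * xg K 19 t = xg K 19 t * xg K 15 u :=
  d4coll_nil K 19 15 (by decide) (by decide) (by decide) (by decide +kernel) (by decide +kernel) t u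

theorem sw_19_15' (t u : K) (X : GL chevD4.Idx K) :
    xg K 15 u * (xg K 19 t * X) = xg K 19 t * (xg K 15 u * X) := by
  rw [← mul_assoc, sw_19_15, mul_assoc]

theorem sw_19_21 (t u : K) : xg K 21 u * xg K 19 t = xg K 19 t * xg K 21 u :=
  d4coll_nil K 19 21 (by decide) (by decide) (by decide) (by decide +kernel) (by decide +kernel) t u

theorem sw_19_21' (t u : K) (X : GL chevD4.Idx K) :
    xg K 21 u * (xg K 19 t * X) = xg K 19 t * (xg K 21 u * X) := by
  rw [← mul_assoc, sw_19_21, mul_assoc]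

theorem sw_19_17 [CharP K 2] (t u : K) : xg K 17 u * xg K 19 t = xg K 19 t * (xg K 17 u * xg K 23 (t * u)) :=
  d4coll_single K 19 17 23 (by decide) (by decide) (by decide) (by decide +kernel) (by decide +kernel) t u

theorem sw_19_17' [CharP K 2] (t u : K) (X : GL chevD4.Idx K) :
    xg K 17 u * (xg K 19 t * X) = xg K 19 t * (xg K 17 u * (xg K 23 (t * u) * X)) := by
  rw [← mul_assoc, sw_19_17, mul_assoc, mul_assoc]

theorem sw_19_20 (t u : K) : xg K 20 u * xg K 19 t = xg K 19 t * xg K 20 u :=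
  d4coll_nil K 19 20 (by decide) (by decide) (by decide) (by decide +kernel) (by decide +kernel) t u

theorem sw_19_20' (t u : K) (X : GL chevD4.Idx K) :
    xg K 20 u * (xg K 19 t * X) = xg K 19 t * (xg K 20 u * X) := by
  rw [← mul_assoc, sw_19_20, mul_assoc]

theorem sw_19_22 (t u : K) : xg K 22 u * xg K 19 t = xg K 19 t * xg K 22 u :=
  d4coll_nil K 19 22 (by decide) (by decide) (by decide) (by decide +kernel) (by decide +kernel) t u

theorem sw_19_22' (t u : K) (X : GL chevD4.Idx K) :
    xg K 22 u * (xg K 19 t * X) = xg K 19 t * (xg K 22 u * X) := by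
  rw [← mul_assoc, sw_19_22, mul_assoc]

theorem sw_19_23 (t u : K) : xg K 23 u * xg K 19 t = xg K 19 t * xg K 23 u :=
  d4coll_nil K 19 23 (by decide) (by decide) (by decide) (by decide +kernel) (by decide +kernel) t u

theorem sw_19_23' (t u : K) (X : GL chevD4.Idx K) :
    xg K 23 u * (xg K 19 t * X) = xg K 19 t * (xg K 23 u * X) := by
  rw [← mul_assoc, sw_19_23, mul_assoc]

theorem sw_16_15 (t u : K) : xg K 15 u * xg K 16 t = xg K 16 t * xg K 15 u :=
  d4coll_nil K 16 15 (by decide) (by decide) (by decide) (by decide +kernel) (by decide +kernel) t u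

theorem sw_16_15' (t u : K) (X : GL chevD4.Idx K) :
    xg K 15 u * (xg K 16 t * X) = xg K 16 t * (xg K 15 u * X) := by
  rw [← mul_assoc, sw_16_15, mul_assoc]

theorem sw_16_21 (t u : K) : xg K 21 u * xg K 16 t = xg K 16 t * xg K 21 u :=
  d4coll_nil K 16 21 (by decide) (by decide) (by decide) (by decide +kernel) (by decide +kernel) t u

theorem sw_16_21' (t u : K) (X : GL chevD4.Idx K) :
    xg K 21 u * (xg K 16 t * X) = xg K 16 t * (xg K 21 u * X) := by
  rw [← mul_assoc, sw_16_21, mul_assoc]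

theorem sw_16_17 (t u : K) : xg K 17 u * xg K 16 t = xg K 16 t * xg K 17 u :=
  d4coll_nil K 16 17 (by decide) (by decide) (by decide) (by decide +kernel) (by decide +kernel) t u

theorem sw_16_17' (t u : K) (X : GL chevD4.Idx K) :
    xg K 17 u * (xg K 16 t * X) = xg K 16 t * (xg K 17 u * X) := by
  rw [← mul_assoc, sw_16_17, mul_assoc]

theorem sw_16_20 [CharP K 2] (t u : K) : xg K 20 u * xg K 16 t = xg K 16 t * (xg K 20 u * xg K 23 (t * u)) :=
  d4coll_single K 16 20 23 (by decide) (by decide) (by decide) (by decide +kernel) (by decide +kernel) t u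

theorem sw_16_20' [CharP K 2] (t u : K) (X : GL chevD4.Idx K) :
    xg K 20 u * (xg K 16 t * X) = xg K 16 t * (xg K 20 u * (xg K 23 (t * u) * X)) := by
  rw [← mul_assoc, sw_16_20, mul_assoc, mul_assoc]

theorem sw_16_22 (t u : K) : xg K 22 u * xg K 16 t = xg K 16 t * xg K 22 u :=
  d4coll_nil K 16 22 (by decide) (by decide) (by decide) (by decide +kernel) (by decide +kernel) t u

theorem sw_16_22' (t u : K) (X : GL chevD4.Idx K) :
    xg K 22 u * (xg K 16 t * X) = xg K 16 t * (xg K 22 u * X) := by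
  rw [← mul_assoc, sw_16_22, mul_assoc]

theorem sw_16_23 (t u : K) : xg K 23 u * xg K 16 t = xg K 16 t * xg K 23 u :=
  d4coll_nil K 16 23 (by decide) (by decide) (by decide) (by decide +kernel) (by decide +kernel) t u

theorem sw_16_23' (t u : K) (X : GL chevD4.Idx K) :
    xg K 23 u * (xg K 16 t * X) = xg K 16 t * (xg K 23 u * X) := by
  rw [← mul_assoc, sw_16_23, mul_assoc]

theorem sw_15_21 [CharP K 2] (t u : K) : xg K 21 u * xg K 15 t = xg K 15 t * (xg K 21 u * xg K 23 (t * u)) :=
  d4coll_single K 15 21 23 (by decide) (by decide) (by decide) (by decide +kernel) (by decide +kernel) t u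

theorem sw_15_21' [CharP K 2] (t u : K) (X : GL chevD4.Idx K) :
    xg K 21 u * (xg K 15 t * X) = xg K 15 t * (xg K 21 u * (xg K 23 (t * u) * X)) := by
  rw [← mul_assoc, sw_15_21, mul_assoc, mul_assoc]

theorem sw_15_17 (t u : K) : xg K 17 u * xg K 15 t = xg K 15 t * xg K 17 u :=
  d4coll_nil K 15 17 (by decide) (by decide) (by decide) (by decide +kernel) (by decide +kernel) t u

theorem sw_15_17' (t u : K) (X : GL chevD4.Idx K) :
    xg K 17 u * (xg K 15 t * X) = xg K 15 t * (xg K 17 u * X) := by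
  rw [← mul_assoc, sw_15_17, mul_assoc]

theorem sw_15_20 (t u : K) : xg K 20 u * xg K 15 t = xg K 15 t * xg K 20 u :=
  d4coll_nil K 15 20 (by decide) (by decide) (by decide) (by decide +kernel) (by decide +kernel) t u

theorem sw_15_20' (t u : K) (X : GL chevD4.Idx K) :
    xg K 20 u * (xg K 15 t * X) = xg K 15 t * (xg K 20 u * X) := by
  rw [← mul_assoc, sw_15_20, mul_assoc]

theorem sw_15_22 (t u : K) : xg K 22 u * xg K 15 t = xg K 15 t * xg K 22 u :=
  d4coll_nil K 15 22 (by decide) (by decide) (by decide) (by decide +kernel) (by decide +kernel) t u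

theorem sw_15_22' (t u : K) (X : GL chevD4.Idx K) :
    xg K 22 u * (xg K 15 t * X) = xg K 15 t * (xg K 22 u * X) := by
  rw [← mul_assoc, sw_15_22, mul_assoc]

theorem sw_15_23 (t u : K) : xg K 23 u * xg K 15 t = xg K 15 t * xg K 23 u :=
  d4coll_nil K 15 23 (by decide) (by decide) (by decide) (by decide +kernel) (by decide +kernel) t u

theorem sw_15_23' (t u : K) (X : GL chevD4.Idx K) :
    xg K 23 u * (xg K 15 t * X) = xg K 15 t * (xg K 23 u * X) := by
  rw [← mul_assoc, sw_15_23, mul_assoc]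

theorem sw_21_17 (t u : K) : xg K 17 u * xg K 21 t = xg K 21 t * xg K 17 u :=
  d4coll_nil K 21 17 (by decide) (by decide) (by decide) (by decide +kernel) (by decide +kernel) t u

theorem sw_21_17' (t u : K) (X : GL chevD4.Idx K) :
    xg K 17 u * (xg K 21 t * X) = xg K 21 t * (xg K 17 u * X) := by
  rw [← mul_assoc, sw_21_17, mul_assoc]

theorem sw_21_20 (t u : K) : xg K 20 u * xg K 21 t = xg K 21 t * xg K 20 u :=
  d4coll_nil K 21 20 (by decide) (by decide) (by decide) (by decide +kernel) (by decide +kernel) t u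

theorem sw_21_20' (t u : K) (X : GL chevD4.Idx K) :
    xg K 20 u * (xg K 21 t * X) = xg K 21 t * (xg K 20 u * X) := by
  rw [← mul_assoc, sw_21_20, mul_assoc]

theorem sw_21_22 (t u : K) : xg K 22 u * xg K 21 t = xg K 21 t * xg K 22 u :=
  d4coll_nil K 21 22 (by decide) (by decide) (by decide) (by decide +kernel) (by decide +kernel) t u

theorem sw_21_22' (t u : K) (X : GL chevD4.Idx K) :
    xg K 22 u * (xg K 21 t * X) = xg K 21 t * (xg K 22 u * X) := by
  rw [← mul_assoc, sw_21_22, mul_assoc]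

theorem sw_21_23 (t u : K) : xg K 23 u * xg K 21 t = xg K 21 t * xg K 23 u :=
  d4coll_nil K 21 23 (by decide) (by decide) (by decide) (by decide +kernel) (by decide +kernel) t u

theorem sw_21_23' (t u : K) (X : GL chevD4.Idx K) :
    xg K 23 u * (xg K 21 t * X) = xg K 21 t * (xg K 23 u * X) := by
  rw [← mul_assoc, sw_21_23, mul_assoc]

theorem sw_17_20 (t u : K) : xg K 20 u * xg K 17 t = xg K 17 t * xg K 20 u :=
  d4coll_nil K 17 20 (by decide) (by decide) (by decide) (by decide +kernel) (by decide +kernel) t u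

theorem sw_17_20' (t u : K) (X : GL chevD4.Idx K) :
    xg K 20 u * (xg K 17 t * X) = xg K 17 t * (xg K 20 u * X) := by
  rw [← mul_assoc, sw_17_20, mul_assoc]

theorem sw_17_22 (t u : K) : xg K 22 u * xg K 17 t = xg K 17 t * xg K 22 u :=
  d4coll_nil K 17 22 (by decide) (by decide) (by decide) (by decide +kernel) (by decide +kernel) t u

theorem sw_17_22' (t u : K) (X : GL chevD4.Idx K) :
    xg K 22 u * (xg K 17 t * X) = xg K 17 t * (xg K 22 u * X) := by
  rw [← mul_assoc, sw_17_22, mul_assoc]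

theorem sw_17_23 (t u : K) : xg K 23 u * xg K 17 t = xg K 17 t * xg K 23 u :=
  d4coll_nil K 17 23 (by decide) (by decide) (by decide) (by decide +kernel) (by decide +kernel) t u

theorem sw_17_23' (t u : K) (X : GL chevD4.Idx K) :
    xg K 23 u * (xg K 17 t * X) = xg K 17 t * (xg K 23 u * X) := by
  rw [← mul_assoc, sw_17_23, mul_assoc]

theorem sw_20_22 (t u : K) : xg K 22 u * xg K 20 t = xg K 20 t * xg K 22 u :=
  d4coll_nil K 20 22 (by decide) (by decide) (by decide) (by decide +kernel) (by decide +kernel) t u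

theorem sw_20_22' (t u : K) (X : GL chevD4.Idx K) :
    xg K 22 u * (xg K 20 t * X) = xg K 20 t * (xg K 22 u * X) := by
  rw [← mul_assoc, sw_20_22, mul_assoc]

theorem sw_20_23 (t u : K) : xg K 23 u * xg K 20 t = xg K 20 t * xg K 23 u :=
  d4coll_nil K 20 23 (by decide) (by decide) (by decide) (by decide +kernel) (by decide +kernel) t u

theorem sw_20_23' (t u : K) (X : GL chevD4.Idx K) :
    xg K 23 u * (xg K 20 t * X) = xg K 20 t * (xg K 23 u * X) := by
  rw [← mul_assoc, sw_20_23, mul_assoc]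

theorem sw_22_23 (t u : K) : xg K 23 u * xg K 22 t = xg K 22 t * xg K 23 u :=
  d4coll_nil K 22 23 (by decide) (by decide) (by decide) (by decide +kernel) (by decide +kernel) t u

theorem sw_22_23' (t u : K) (X : GL chevD4.Idx K) :
    xg K 23 u * (xg K 22 t * X) = xg K 22 t * (xg K 23 u * X) := by
  rw [← mul_assoc, sw_22_23, mul_assoc]

end Cfsg.Agent.Lib.Helper13.D4Coll
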