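import Cfsg.Agent.Lib.Helper37.D4O8Defs

/-! # Do hive (helper37, S1082), sub-hive Do-RED, leaf DO-RED-FIN: an isometry scaling `e₁, f₁, …, e₃, f₃` is diagonal
up to the swap `sw` of `e₄, f₄`. -/

set_option autoImplicit false
set_option linter.unusedSectionVars false
set_option linter.unusedVariables false

namespace Cfsg.Agent.Lib.Helper37.D4O8

open Matrix Module QuadraticMap
open Cfsg.Agent.Lib.Helper8 Cfsg.Agent.Lib.Helper13 Cfsg.Agent.Lib.Helper37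

variable {F : Type*} [Field F]

theorem fin_entry (g : OG F) (i j : I8) :
    ((g : GL I8 F) : Matrix I8 I8 F) i j = act (Q8 F) g (Pi.single j 1) i := by
  unfold act
  rw [Matrix.mulVec_single_one]
  rfl

theorem fin_diag (k : OG F)
    (h : ∀ j : I8, ∃ c : F, act (Q8 F) k (Pi.single j 1) = c • (Pi.single j 1 : I8 → F)) : k ∈ DD F := by
  intro i j hij
  rw [fin_entry]
  obtain ⟨c, hc⟩ := h j
  rw [hc, Pi.smul_apply, Pi.single_eq_of_ne hij, smul_zero]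

theorem fin_e1 : (Pi.single (Sum.inl 0) 1 : I8 → F) = ve1 := by
  apply ext8 <;> simp [ve1, mk8, ca1, ca2, ca3, ca4, cb1, cb2, cb3, cb4]
theorem fin_e2 : (Pi.single (Sum.inl 1) 1 : I8 → F) = ve2 := by
  apply ext8 <;> simp [ve2, mk8, ca1, ca2, ca3, ca4, cb1, cb2, cb3, cb4]
theorem fin_e3 : (Pi.single (Sum.inl 2) 1 : I8 → F) = ve3 := by
  apply ext8 <;> simp [ve3, mk8, ca1, ca2, ca3, ca4, cb1, cb2, cb3, cb4]
theorem fin_e4 : (Pi.single (Sum.inl 3) 1 : I8 → F) = ve4 := by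
  apply ext8 <;> simp [ve4, mk8, ca1, ca2, ca3, ca4, cb1, cb2, cb3, cb4]
theorem fin_f1 : (Pi.single (Sum.inr 0) 1 : I8 → F) = vf1 := by
  apply ext8 <;> simp [vf1, mk8, ca1, ca2, ca3, ca4, cb1, cb2, cb3, cb4]
theorem fin_f2 : (Pi.single (Sum.inr 1) 1 : I8 → F) = vf2 := by
  apply ext8 <;> simp [vf2, mk8, ca1, ca2, ca3, ca4, cb1, cb2, cb3, cb4]
theorem fin_f3 : (Pi.single (Sum.inr 2) 1 : I8 → F) = vf3 := by
  apply ext8 <;> simp [vf3, mk8, ca1, ca2, ca3, ca4, cb1, cb2, cb3, cb4]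
theorem fin_f4 : (Pi.single (Sum.inr 3) 1 : I8 → F) = vf4 := by
  apply ext8 <;> simp [vf4, mk8, ca1, ca2, ca3, ca4, cb1, cb2, cb3, cb4]

/-- an isometry scaling the eight basis vectors is diagonal. -/
theorem fin_diag' (k : OG F)
    (he1 : ∃ c : F, act (Q8 F) k ve1 = c • ve1) (he2 : ∃ c : F, act (Q8 F) k ve2 = c • ve2)
    (he3 : ∃ c : F, act (Q8 F) k ve3 = c • ve3) (he4 : ∃ c : F, act (Q8 F) k ve4 = c • ve4)
    (hf1 : ∃ c : F, act (Q8 F) k vf1 = c • vf1) (hf2 : ∃ c : F, act (Q8 F) k vf2 = c • vf2)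
    (hf3 : ∃ c : F, act (Q8 F) k vf3 = c • vf3) (hf4 : ∃ c : F, act (Q8 F) k vf4 = c • vf4) :
    k ∈ DD F := by
  apply fin_diag
  intro j
  rcases j with j | j
  · fin_cases j
    · show ∃ c : F, act (Q8 F) k (Pi.single (Sum.inl 0) 1) = c • (Pi.single (Sum.inl 0) 1 : I8 → F)
      rw [fin_e1]; exact he1
    · show ∃ c : F, act (Q8 F) k (Pi.single (Sum.inl 1) 1) = c • (Pi.single (Sum.inl 1) 1 : I8 → F)
      rw [fin_e2]; exact he2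
    · show ∃ c : F, act (Q8 F) k (Pi.single (Sum.inl 2) 1) = c • (Pi.single (Sum.inl 2) 1 : I8 → F)
      rw [fin_e3]; exact he3
    · show ∃ c : F, act (Q8 F) k (Pi.single (Sum.inl 3) 1) = c • (Pi.single (Sum.inl 3) 1 : I8 → F)
      rw [fin_e4]; exact he4
  · fin_cases j
    · show ∃ c : F, act (Q8 F) k (Pi.single (Sum.inr 0) 1) = c • (Pi.single (Sum.inr 0) 1 : I8 → F)
      rw [fin_f1]; exact hf1
    · show ∃ c : F, act (Q8 F) k (Pi.single (Sum.inr 1) 1) = c • (Pi.single (Sum.inr 1) 1 : I8 → F)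
      rw [fin_f2]; exact hf2
    · show ∃ c : F, act (Q8 F) k (Pi.single (Sum.inr 2) 1) = c • (Pi.single (Sum.inr 2) 1 : I8 → F)
      rw [fin_f3]; exact hf3
    · show ∃ c : F, act (Q8 F) k (Pi.single (Sum.inr 3) 1) = c • (Pi.single (Sum.inr 3) 1 : I8 → F)
      rw [fin_f4]; exact hf4

/-- the image of a vector of the plane `⟨e₄, f₄⟩` lies in that plane. -/
theorem fin_coords (g : OG F) (c1 c2 c3 : F) (hc1 : c1 ≠ 0) (hc2 : c2 ≠ 0) (hc3 : c3 ≠ 0)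
    (h1 : act (Q8 F) g ve1 = c1 • ve1) (h1' : act (Q8 F) g vf1 = c1⁻¹ • vf1)
    (h2 : act (Q8 F) g ve2 = c2 • ve2) (h2' : act (Q8 F) g vf2 = c2⁻¹ • vf2)
    (h3 : act (Q8 F) g ve3 = c3 • ve3) (h3' : act (Q8 F) g vf3 = c3⁻¹ • vf3)
    (y : I8 → F) (y1 : ca1 y = 0) (y1' : cb1 y = 0) (y2 : ca2 y = 0) (y2' : cb2 y = 0)
    (y3 : ca3 y = 0) (y3' : cb3 y = 0) :
    ca1 (act (Q8 F) g y) = 0 ∧ cb1 (act (Q8 F) g y) = 0 ∧ ca2 (act (Q8 F) g y) = 0 ∧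
      cb2 (act (Q8 F) g y) = 0 ∧ ca3 (act (Q8 F) g y) = 0 ∧ cb3 (act (Q8 F) g y) = 0 := by
  have i1 : c1⁻¹ ≠ 0 := inv_ne_zero hc1
  have i2 : c2⁻¹ ≠ 0 := inv_ne_zero hc2
  have i3 : c3⁻¹ ≠ 0 := inv_ne_zero hc3
  have p1 := polar_act (Q8 F) g y ve1
  have p1' := polar_act (Q8 F) g y vf1
  have p2 := polar_act (Q8 F) g y ve2
  have p2' := polar_act (Q8 F) g y vf2
  have p3 := polar_act (Q8 F) g y ve3
  have p3' := polar_act (Q8 F) g y vf3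
  rw [h1, polar_Q8, polar_Q8] at p1
  rw [h1', polar_Q8, polar_Q8] at p1'
  rw [h2, polar_Q8, polar_Q8] at p2
  rw [h2', polar_Q8, polar_Q8] at p2'
  rw [h3, polar_Q8, polar_Q8] at p3
  rw [h3', polar_Q8, polar_Q8] at p3'
  have q1 : cb1 (act (Q8 F) g y) * c1 = 0 := by simpa [ve1, y1'] using p1
  have q1' : ca1 (act (Q8 F) g y) * c1⁻¹ = 0 := by simpa [vf1, y1] using p1'
  have q2 : cb2 (act (Q8 F) g y) * c2 = 0 := by simpa [ve2, y2'] using p2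
  have q2' : ca2 (act (Q8 F) g y) * c2⁻¹ = 0 := by simpa [vf2, y2] using p2'
  have q3 : cb3 (act (Q8 F) g y) * c3 = 0 := by simpa [ve3, y3'] using p3
  have q3' : ca3 (act (Q8 F) g y) * c3⁻¹ = 0 := by simpa [vf3, y3] using p3'
  exact ⟨(mul_eq_zero.mp q1').resolve_right i1, (mul_eq_zero.mp q1).resolve_right hc1,
    (mul_eq_zero.mp q2').resolve_right i2, (mul_eq_zero.mp q2).resolve_right hc2,
    (mul_eq_zero.mp q3').resolve_right i3, (mul_eq_zero.mp q3).resolve_right hc3⟩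

/-- DO-RED-FIN. -/
theorem red_fin (g : OG F) (c1 c2 c3 : F) (hc1 : c1 ≠ 0) (hc2 : c2 ≠ 0) (hc3 : c3 ≠ 0)
    (h1 : act (Q8 F) g ve1 = c1 • ve1) (h1' : act (Q8 F) g vf1 = c1⁻¹ • vf1)
    (h2 : act (Q8 F) g ve2 = c2 • ve2) (h2' : act (Q8 F) g vf2 = c2⁻¹ • vf2)
    (h3 : act (Q8 F) g ve3 = c3 • ve3) (h3' : act (Q8 F) g vf3 = c3⁻¹ • vf3) :
    g ∈ DD F ∨ g * sw F ∈ DD F := by
  obtain ⟨u1, u1', u2, u2', u3, u3'⟩ := fin_coords g c1 c2 c3 hc1 hc2 hc3 h1 h1' h2 h2' h3 h3' ve4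
    rfl rfl rfl rfl rfl rfl
  obtain ⟨v1, v1', v2, v2', v3, v3'⟩ := fin_coords g c1 c2 c3 hc1 hc2 hc3 h1 h1' h2 h2' h3 h3' vf4
    rfl rfl rfl rfl rfl rfl
  have hQu : Q8 F (act (Q8 F) g ve4) = 0 := by rw [Q_act, Q8_apply]; simp [ve4]
  have hQv : Q8 F (act (Q8 F) g vf4) = 0 := by rw [Q_act, Q8_apply]; simp [vf4]
  rw [Q8_apply, u1, u2, u3] at hQu
  rw [Q8_apply, v1, v2, v3] at hQv
  have hQu' : ca4 (act (Q8 F) g ve4) * cb4 (act (Q8 F) g ve4) = 0 := by simpa using hQu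
  have hQv' : ca4 (act (Q8 F) g vf4) * cb4 (act (Q8 F) g vf4) = 0 := by simpa using hQv
  have hp := polar_act (Q8 F) g ve4 vf4
  rw [polar_Q8, polar_Q8, u1, u1', u2, u2', u3, u3'] at hp
  have hp' : ca4 (act (Q8 F) g ve4) * cb4 (act (Q8 F) g vf4) +
      cb4 (act (Q8 F) g ve4) * ca4 (act (Q8 F) g vf4) = 1 := by simpa [ve4, vf4] using hp
  -- the two images in coordinates
  have hu : act (Q8 F) g ve4 = mk8 0 0 0 (ca4 (act (Q8 F) g ve4)) 0 0 0 (cb4 (act (Q8 F) g ve4)) :=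
    ext8 u1 u2 u3 rfl u1' u2' u3' rfl
  have hv : act (Q8 F) g vf4 = mk8 0 0 0 (ca4 (act (Q8 F) g vf4)) 0 0 0 (cb4 (act (Q8 F) g vf4)) :=
    ext8 v1 v2 v3 rfl v1' v2' v3' rfl
  by_cases ha : ca4 (act (Q8 F) g ve4) = 0
  · -- swapped
    right
    rw [ha, zero_mul, zero_add] at hp'
    have hbu : cb4 (act (Q8 F) g ve4) ≠ 0 := left_ne_zero_of_mul_eq_one hp'
    have hav : ca4 (act (Q8 F) g vf4) ≠ 0 := right_ne_zero_of_mul_eq_one hp'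
    have hbv : cb4 (act (Q8 F) g vf4) = 0 := (mul_eq_zero.mp hQv').resolve_left hav
    have s1 : act (Q8 F) (sw F) ve1 = ve1 := by rw [act_sw]; apply ext8 <;> simp [ve1]
    have s2 : act (Q8 F) (sw F) ve2 = ve2 := by rw [act_sw]; apply ext8 <;> simp [ve2]
    have s3 : act (Q8 F) (sw F) ve3 = ve3 := by rw [act_sw]; apply ext8 <;> simp [ve3]
    have s4 : act (Q8 F) (sw F) ve4 = vf4 := by rw [act_sw]; apply ext8 <;> simp [ve4, vf4]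
    have t1 : act (Q8 F) (sw F) vf1 = vf1 := by rw [act_sw]; apply ext8 <;> simp [vf1]
    have t2 : act (Q8 F) (sw F) vf2 = vf2 := by rw [act_sw]; apply ext8 <;> simp [vf2]
    have t3 : act (Q8 F) (sw F) vf3 = vf3 := by rw [act_sw]; apply ext8 <;> simp [vf3]
    have t4 : act (Q8 F) (sw F) vf4 = ve4 := by rw [act_sw]; apply ext8 <;> simp [ve4, vf4]
    refine fin_diag' _ ⟨c1, ?_⟩ ⟨c2, ?_⟩ ⟨c3, ?_⟩ ⟨ca4 (act (Q8 F) g vf4), ?_⟩ ⟨c1⁻¹, ?_⟩ ⟨c2⁻¹, ?_⟩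
      ⟨c3⁻¹, ?_⟩ ⟨cb4 (act (Q8 F) g ve4), ?_⟩
    · rw [act_mul, s1, h1]
    · rw [act_mul, s2, h2]
    · rw [act_mul, s3, h3]
    · rw [act_mul, s4, hv, hbv]; apply ext8 <;> simp [ve4]
    · rw [act_mul, t1, h1']
    · rw [act_mul, t2, h2']
    · rw [act_mul, t3, h3']
    · rw [act_mul, t4, hu, ha]; apply ext8 <;> simp [vf4]
  · -- diagonal
    left
    have hbu : cb4 (act (Q8 F) g ve4) = 0 := (mul_eq_zero.mp hQu').resolve_left ha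
    rw [hbu, zero_mul, add_zero] at hp'
    have hbv : cb4 (act (Q8 F) g vf4) ≠ 0 := right_ne_zero_of_mul_eq_one hp'
    have hav : ca4 (act (Q8 F) g vf4) = 0 := (mul_eq_zero.mp hQv').resolve_right hbv
    refine fin_diag' _ ⟨c1, h1⟩ ⟨c2, h2⟩ ⟨c3, h3⟩ ⟨ca4 (act (Q8 F) g ve4), ?_⟩ ⟨c1⁻¹, h1'⟩ ⟨c2⁻¹, h2'⟩
      ⟨c3⁻¹, h3'⟩ ⟨cb4 (act (Q8 F) g vf4), ?_⟩
    · rw [hu, hbu]; apply ext8 <;> simp [ve4]
    · rw [hv, hav]; apply ext8 <;> simp [vf4]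

end Cfsg.Agent.Lib.Helper37.D4O8
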