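import Cfsg.Agent.Lib.Helper37.D4O8Defs
import Cfsg.Agent.Lib.Helper39.Do_RED_S1A
import Cfsg.Agent.Lib.Helper85.Do_RED_S1B
import Cfsg.Agent.Lib.Helper61.Do_RED_S2A
import Cfsg.Agent.Lib.Helper74.Do_RED_S2B
import Cfsg.Agent.Lib.Helper21.Do_RED_S3A
import Cfsg.Agent.Lib.Helper85.Do_RED_S3B
import Cfsg.Agent.Lib.Helper13.Do_RED_FIN

/-! # Do hive (helper37, S1082), leaf Do-RED (sub-architect helper13): every isometry of `Q8` lies in `EE·DD` or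
`EE·DD·sw`.  ASSEMBLY of the seven leaves `red_s1a, red_s1b, red_s2a, red_s2b, red_s3a, red_s3b, red_fin` of
tools/helper13/DoRedSkel.lean.txt; `red` is the EXACT statement of tools/helper37/DoSkel.lean.txt. -/

set_option autoImplicit false
set_option linter.unusedSectionVars false
set_option linter.unusedVariables false

namespace Cfsg.Agent.Lib.Helper37.D4O8

open Matrix Module QuadraticMap
open Cfsg.Agent.Lib.Helper8 Cfsg.Agent.Lib.Helper13 Cfsg.Agent.Lib.Helper37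

variable {F : Type*} [Field F]

/-- DO-RED = MAIN (ASSEMBLED; exact statement of `red` in tools/helper37/DoSkel.lean.txt). -/
theorem red (g : OG F) : ∃ h ∈ EE F, h * g ∈ DD F ∨ h * g * sw F ∈ DD F := by
  have hve1 : (ve1 : I8 → F) ≠ 0 := by
    intro h
    have := congrArg ca1 h
    simp [ve1] at this
  have hx : act (Q8 F) g ve1 ≠ 0 := fun h0 => hve1 (act_eq_zero (Q8 F) g ve1 h0)
  have hQ : Q8 F (act (Q8 F) g ve1) = 0 := by
    rw [Q_act, Q8_apply]; simp [ve1]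
  obtain ⟨k1, hk1, c1, hc1, e1⟩ := red_s1a (act (Q8 F) g ve1) hx hQ
  have e1' : act (Q8 F) (k1 * g) ve1 = c1 • ve1 := by rw [act_mul]; exact e1
  obtain ⟨k2, hk2, a1, a1'⟩ := red_s1b (k1 * g) c1 hc1 e1'
  obtain ⟨k3, hk3, c2, hc2, b1, b1', b2⟩ := red_s2a (k2 * (k1 * g)) c1 hc1 a1 a1'
  obtain ⟨k4, hk4, d1, d1', d2, d2'⟩ := red_s2b (k3 * (k2 * (k1 * g))) c1 c2 hc1 hc2 b1 b1' b2
  obtain ⟨k5, hk5, c3, hc3, f1, f1', f2, f2', f3⟩ :=
    red_s3a (k4 * (k3 * (k2 * (k1 * g)))) c1 c2 hc1 hc2 d1 d1' d2 d2'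
  obtain ⟨k6, hk6, g1, g1', g2, g2', g3, g3'⟩ :=
    red_s3b (k5 * (k4 * (k3 * (k2 * (k1 * g))))) c1 c2 c3 hc1 hc2 hc3 f1 f1' f2 f2' f3
  refine ⟨k6 * (k5 * (k4 * (k3 * (k2 * k1)))),
    mul_mem hk6 (mul_mem hk5 (mul_mem hk4 (mul_mem hk3 (mul_mem hk2 hk1)))), ?_⟩
  have e : k6 * (k5 * (k4 * (k3 * (k2 * k1)))) * g = k6 * (k5 * (k4 * (k3 * (k2 * (k1 * g))))) := by
    simp only [mul_assoc]
  rw [e]
  exact red_fin _ c1 c2 c3 hc1 hc2 hc3 g1 g1' g2 g2' g3 g3'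

end Cfsg.Agent.Lib.Helper37.D4O8
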