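import Cfsg.Agent.Lib.Helper76.E8mDefs
import Cfsg.Agent.Lib.Helper18.ChevCommSLTab
import Cfsg.Agent.Lib.Helper18.FastLitE8
import Cfsg.Agent.Lib.Helper36.ChevTabE8
import Cfsg.Prelude.Def_ChevE8

/-! # E8m hive (helper76, S2107), leaf T-BASIC (helper13): the basic facts `TabBasic chevE8` on the sum table of `E₈`.

The check runs on the PACKED tables (`Helper36.mkFast`, `Helper18.fastE8`: big `Nat` literals, digit extraction by
shifts), because a `decide +kernel` over the list-based chain table needs > 30 GB.  Everything except the last three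
theorems is generic in the datum `D` (hypotheses `wfFast D`, `chkSL D`, `tbasic_chkK D`, `tbasic_chkF (mkFast D)`), so the
`E₇` / `E₆` clones only need the four `decide +kernel` facts. -/

set_option autoImplicit false
set_option maxRecDepth 100000

namespace Cfsg.Agent.Lib.Helper76.E8m

open Cfsg Cfsg.Lie Cfsg.Agent.Lib.Helper18 Cfsg.Agent.Lib.Helper36

/-- there are at most `nroots` rows and all keys of all rows are in range -/
def tbasic_chkK (D : ChevalleyDatum) : Bool :=
  decide (D.chain.size ≤ D.nroots) &&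
    D.chain.toList.all fun row => row.toList.all fun e => decide (e.1 < D.nroots)

/-- `-x` read off the packed table -/
def tbasic_ng (T : FastTab) (x : ℕ) : ℕ := dig 8 T.negT x

/-- the code of the chain entry `(a, b)` in the packed table (`0` : no entry) -/
def tbasic_cd (T : FastTab) (a b : ℕ) : ℕ := get2 36 T.n T.chT a b

/-- the property checked for a pair `(a, b)` -/
def tbasic_pairP (T : FastTab) (a b : ℕ) : Prop :=
  tbasic_cd T a b ≠ 0 →
    tbasic_cd T a b / 8 - 1 < T.n ∧ a ≠ b ∧ b ≠ tbasic_ng T a ∧ a ≠ tbasic_ng T b ∧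
    (tbasic_cd T a b % 8 = 5 ∨ tbasic_cd T a b % 8 = 3) ∧
    tbasic_cd T b a = (tbasic_cd T a b / 8 - 1 + 1) * 8 + (8 - tbasic_cd T a b % 8) ∧
    tbasic_cd T a (tbasic_cd T a b / 8 - 1) = 0 ∧ tbasic_cd T a b / 8 - 1 ≠ tbasic_ng T a ∧
    tbasic_cd T b (tbasic_cd T a b / 8 - 1) = 0 ∧ tbasic_cd T a b / 8 - 1 ≠ tbasic_ng T b

/-- fast Bool version of `tbasic_pairP` with shared sub-computations -/
def tbasic_pairF (T : FastTab) (a b : ℕ) : Bool :=
  forceNat (dig (36 * T.n) T.chT a) fun rowa =>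
  forceNat (dig 36 rowa b) fun c =>
    if c = 0 then true else
    forceNat (dig (36 * T.n) T.chT b) fun rowb =>
    forceNat (c / 8 - 1) fun e =>
    forceNat (c % 8) fun m =>
      decide (e < T.n ∧ a ≠ b ∧ b ≠ dig 8 T.negT a ∧ a ≠ dig 8 T.negT b ∧ (m = 5 ∨ m = 3) ∧
        dig 36 rowb a = (e + 1) * 8 + (8 - m) ∧ dig 36 rowa e = 0 ∧ e ≠ dig 8 T.negT a ∧
        dig 36 rowb e = 0 ∧ e ≠ dig 8 T.negT b)

theorem tbasic_pairF_spec (T : FastTab) (a b : ℕ) (h : tbasic_pairF T a b = true) : tbasic_pairP T a b := by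
  unfold tbasic_pairF at h
  simp only [forceNat_eq] at h
  intro hc
  have hc' : ¬ dig 36 (dig (36 * T.n) T.chT a) b = 0 := hc
  rw [if_neg hc'] at h
  exact of_decide_eq_true h

/-- one row of the fast check -/
def tbasic_rowF (T : FastTab) (a : ℕ) : Bool := (List.range T.n).all fun b => tbasic_pairF T a b

/-- `neg` is an involution of the index range -/
def tbasic_negF (T : FastTab) : Bool :=
  (List.range T.n).all fun a => decide (dig 8 T.negT a < T.n ∧ dig 8 T.negT (dig 8 T.negT a) = a)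

/-- the complete fast check -/
def tbasic_chkF (T : FastTab) : Bool := tbasic_negF T && (List.range T.n).all (tbasic_rowF T)

theorem tbasic_chkF_pair (T : FastTab) (hF : tbasic_chkF T = true) (a b : ℕ) (ha : a < T.n) (hb : b < T.n) :
    tbasic_pairP T a b := by
  unfold tbasic_chkF at hF
  rw [Bool.and_eq_true, List.all_eq_true] at hF
  have h1 := hF.2 a (List.mem_range.2 ha)
  unfold tbasic_rowF at h1
  rw [List.all_eq_true] at h1
  exact tbasic_pairF_spec T a b (h1 b (List.mem_range.2 hb))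

theorem tbasic_chkF_neg (T : FastTab) (hF : tbasic_chkF T = true) (a : ℕ) (ha : a < T.n) :
    dig 8 T.negT a < T.n ∧ dig 8 T.negT (dig 8 T.negT a) = a := by
  unfold tbasic_chkF tbasic_negF at hF
  rw [Bool.and_eq_true, List.all_eq_true] at hF
  exact of_decide_eq_true (hF.1 a (List.mem_range.2 ha))

section generic

variable (D : ChevalleyDatum)

theorem tbasic_key (hK : tbasic_chkK D = true) (a : ℕ) (ent : ℕ × Array (ℕ × ℤ))
    (he : ent ∈ (D.chain.getD a #[]).toList) : a < D.nroots ∧ ent.1 < D.nroots := by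
  unfold tbasic_chkK at hK
  rw [Bool.and_eq_true, List.all_eq_true] at hK
  obtain ⟨h1, h2⟩ := hK
  have h1' : D.chain.size ≤ D.nroots := of_decide_eq_true h1
  by_cases ha : a < D.chain.size
  · have hrow : D.chain.getD a #[] ∈ D.chain.toList := by simp [Array.getD, ha]
    have h3 := h2 _ hrow
    rw [List.all_eq_true] at h3
    exact ⟨by omega, of_decide_eq_true (h3 ent he)⟩
  · have : D.chain.getD a #[] = #[] := by simp [Array.getD, ha]
    rw [this] at he
    simp at he

theorem tbasic_entry (a b e : ℕ) (h : sm D a b = some e) :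
    ∃ ent ∈ (D.chain.getD a #[]).toList, ent.1 = b := by
  unfold sm ChevalleyDatum.chainEntry at h
  rcases hf : (D.chain.getD a #[]).toList.find? (fun e => decide (e.1 = b)) with _ | ent
  · rw [hf] at h; simp at h
  · have hmem : ent ∈ (D.chain.getD a #[]).toList := List.mem_of_find?_eq_some hf
    have hb : ent.1 = b := by
      have := List.find?_some hf
      simpa using this
    exact ⟨ent, hmem, hb⟩

/-- decoding of the packed chain entry (simply laced: at most one term) -/
theorem tbasic_dec (hwfF : wfFast D = true) (hSL : chkSL D = true) (a b : ℕ) (ha : a < D.nroots)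
    (hb : b < D.nroots) :
    (D.chainEntry a b = [] ∧ tbasic_cd (mkFast D) a b = 0) ∨
      ∃ q : ℕ × ℤ, D.chainEntry a b = [q] ∧ okQ q ∧ tbasic_cd (mkFast D) a b = encQ q := by
  have hcd : tbasic_cd (mkFast D) a b = encL (D.chainEntry a b) := by
    rw [chainEntry_eq_findEntry]; exact fast_chain D hwfF a b hb
  have hlen : (D.chainEntry a b).length ≤ 1 := by
    rw [chainEntry_eq_findEntry]; exact findEntry_length_le D hSL a ha b
  have hok : ∀ q ∈ D.chainEntry a b, okQ q := by
    rw [chainEntry_eq_findEntry]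
    rcases findEntry_nil_or_mem (D.chain.getD a #[]).toList b with h | ⟨e, he, h⟩
    · rw [h]; intro q hq; simp at hq
    · rw [h]; exact ((wfFast_row D hwfF a).2 e he).2
  rcases hL : D.chainEntry a b with _ | ⟨q, l⟩
  · left; exact ⟨rfl, by rw [hcd, hL]; rfl⟩
  · right
    rw [hL] at hlen hok
    have hl : l = [] := by
      cases l with
      | nil => rfl
      | cons x y => simp at hlen
    subst hl
    exact ⟨q, rfl, hok q (by simp), by rw [hcd, hL]; rfl⟩

theorem tbasic_main (hwfF : wfFast D = true) (hSL : chkSL D = true) (hK : tbasic_chkK D = true)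
    (hF : tbasic_chkF (mkFast D) = true) (a b e : ℕ) (h : sm D a b = some e) :
    a < D.nroots ∧ b < D.nroots ∧ e < D.nroots ∧ a ≠ b ∧ b ≠ D.neg a ∧ a ≠ D.neg b ∧
      (ep D a b = 1 ∨ ep D a b = -1) ∧ sm D b a = some e ∧ ep D b a = - ep D a b ∧ Cm D a e ∧ Cm D b e := by
  obtain ⟨ent, hent, hb'⟩ := tbasic_entry D a b e h
  obtain ⟨ha, hb⟩ := tbasic_key D hK a ent hent
  rw [hb'] at hb
  have hn : (mkFast D).n = D.nroots := rfl
  have hP : tbasic_pairP (mkFast D) a b := tbasic_chkF_pair _ hF a b ha hb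
  have ng : ∀ x, tbasic_ng (mkFast D) x = D.neg x := fun x => fast_neg D hwfF x
  rcases tbasic_dec D hwfF hSL a b ha hb with ⟨h0, -⟩ | ⟨q, hq, hok, hcd⟩
  · unfold sm at h; rw [h0] at h; simp at h
  · have hqe : q.1 = e := by
      unfold sm at h; rw [hq] at h; simpa using h
    have hep : ep D a b = q.2 := by
      unfold ep; rw [hq]; simp
    obtain ⟨hk1, hk2, hk3⟩ := hok
    have hcdv : tbasic_cd (mkFast D) a b = (q.1 + 1) * 8 + (q.2 + 4).toNat := hcd
    have ht : ((q.2 + 4).toNat : ℤ) = q.2 + 4 := Int.toNat_of_nonneg (by omega)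
    generalize (q.2 + 4).toNat = t at hcdv ht
    have ht8 : t < 8 := by omega
    have hc0 : tbasic_cd (mkFast D) a b ≠ 0 := by omega
    have hce : tbasic_cd (mkFast D) a b / 8 - 1 = e := by omega
    have hcm : tbasic_cd (mkFast D) a b % 8 = t := by omega
    obtain ⟨p1, p2, p3, p4, p5, p6, p7, p8, p9, p10⟩ := hP hc0
    rw [hce] at p1 p6 p7 p8 p9 p10
    rw [hcm] at p5 p6
    rw [ng] at p3 p4 p8 p10
    rw [hn] at p1
    have hN : q.2 = 1 ∨ q.2 = -1 := by
      rcases p5 with p5 | p5
      · left; omega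
      · right; omega
    have hba : sm D b a = some e ∧ ep D b a = - q.2 := by
      rcases tbasic_dec D hwfF hSL b a hb ha with ⟨-, h0⟩ | ⟨q', hq', hok', hcd'⟩
      · rw [h0] at p6; omega
      · obtain ⟨hk1', hk2', hk3'⟩ := hok'
        have hcdv' : tbasic_cd (mkFast D) b a = (q'.1 + 1) * 8 + (q'.2 + 4).toNat := hcd'
        have ht' : ((q'.2 + 4).toNat : ℤ) = q'.2 + 4 := Int.toNat_of_nonneg (by omega)
        generalize (q'.2 + 4).toNat = t' at hcdv' ht'
        have h1 : q'.1 = e := by rcases p5 with p5 | p5 <;> omega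
        have h2 : q'.2 = - q.2 := by rcases p5 with p5 | p5 <;> omega
        refine ⟨?_, ?_⟩
        · unfold sm; rw [hq']; simp [h1]
        · unfold ep; rw [hq']; simp [h2]
    have hnil : ∀ x, x < D.nroots → ∀ y, y < D.nroots → tbasic_cd (mkFast D) x y = 0 → D.chainEntry x y = [] := by
      intro x hx y hy h0
      rcases tbasic_dec D hwfF hSL x y hx hy with ⟨h1, -⟩ | ⟨q'', -, -, hcd''⟩
      · exact h1
      · have := encQ_pos q''; omega
    refine ⟨ha, hb, p1, p2, p3, p4, ?_, hba.1, ?_, ⟨ha, p1, p8, hnil a ha e p1 p7⟩, ⟨hb, p1, p10, hnil b hb e p1 p9⟩⟩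
    · rw [hep]; exact hN
    · rw [hep]; exact hba.2

theorem tbasic_cm_symm (hwfF : wfFast D = true) (hSL : chkSL D = true) (hK : tbasic_chkK D = true)
    (hF : tbasic_chkF (mkFast D) = true) (a b : ℕ) (h : Cm D a b) : Cm D b a := by
  obtain ⟨ha, hb, hne, h0⟩ := h
  have hnegb : D.neg (D.neg b) = b := by
    have := (tbasic_chkF_neg _ hF b hb).2
    rw [fast_neg D hwfF, fast_neg D hwfF] at this
    exact this
  refine ⟨hb, ha, ?_, ?_⟩
  · intro hab
    apply hne
    rw [hab, hnegb]
  · rcases tbasic_dec D hwfF hSL b a hb ha with ⟨h1, -⟩ | ⟨q, hq, -, -⟩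
    · exact h1
    · exfalso
      have hs : sm D b a = some q.1 := by unfold sm; rw [hq]; rfl
      have h2 := (tbasic_main D hwfF hSL hK hF b a q.1 hs).2.2.2.2.2.2.2.1
      unfold sm at h2
      rw [h0] at h2
      simp at h2

/-- the generic statement: the four Bool facts give `TabBasic D` -/
theorem tbasic_of_chk (hwfF : wfFast D = true) (hSL : chkSL D = true) (hK : tbasic_chkK D = true)
    (hF : tbasic_chkF (mkFast D) = true) : TabBasic D where
  sm_lt := fun a b e h => by
    obtain ⟨h1, h2, h3, -⟩ := tbasic_main D hwfF hSL hK hF a b e h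
    exact ⟨h1, h2, h3⟩
  sm_ne := fun a b e h => by
    obtain ⟨-, -, -, h1, h2, h3, -⟩ := tbasic_main D hwfF hSL hK hF a b e h
    exact ⟨h1, h2, h3⟩
  ep_sq := fun a b e h => (tbasic_main D hwfF hSL hK hF a b e h).2.2.2.2.2.2.1
  sm_symm := fun a b e h => by
    obtain ⟨-, -, -, -, -, -, -, h1, h2, -⟩ := tbasic_main D hwfF hSL hK hF a b e h
    exact ⟨h1, h2⟩
  cm_symm := fun a b h => tbasic_cm_symm D hwfF hSL hK hF a b h
  cm_sum := fun a b e h => by
    obtain ⟨-, -, -, -, -, -, -, -, -, h1, h2⟩ := tbasic_main D hwfF hSL hK hF a b e h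
    exact ⟨h1, h2⟩

end generic

theorem tbasic_chkK_E8 : tbasic_chkK chevE8 = true := by decide +kernel

theorem tbasic_chkF_E8 : tbasic_chkF fastE8 = true := by decide +kernel

/-- T-BASIC (13440 pairs with a sum; `cm_symm`: 43920 commuting pairs). -/
theorem tabBasic_E8 : TabBasic chevE8 :=
  tbasic_of_chk chevE8 wfFast_E8 chkSL_E8 tbasic_chkK_E8 (by rw [mkFast_E8]; exact tbasic_chkF_E8)

end Cfsg.Agent.Lib.Helper76.E8m
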