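import Mathlib
import Cfsg.Prelude.Def_GeometricClasses
import Cfsg.Agent.Lib.Helper81.EsDefs

/-!
# Es hive (S5877), leaf ES-SETUP: the hypotheses of S5877 give `Setup`.
-/

set_option autoImplicit false
set_option linter.style.haveILetI false
set_option linter.unusedVariables false
set_option linter.unusedSectionVars false

namespace Cfsg.Agent.Lib.Helper81.Es

open scoped MatrixGroups

variable {F : Type*} [Field F] {n : ℕ}

/-- the commutator of two elements of `R` is (the image of) a central element. -/
theorem setup_cm_mem_center (R : Subgroup (GL (Fin n) F))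
    (hext : commutator R = Subgroup.center R) (x y : GL (Fin n) F) (hx : x ∈ R) (hy : y ∈ R) :
    ∃ z : R, z ∈ Subgroup.center R ∧ (z : GL (Fin n) F) = cm x y := by
  refine ⟨(⟨x, hx⟩ : R) * ⟨y, hy⟩ * (⟨x, hx⟩ : R)⁻¹ * (⟨y, hy⟩ : R)⁻¹, ?_, ?_⟩
  · rw [← hext, commutator_def]
    exact Subgroup.commutator_mem_commutator (g₁ := (⟨x, hx⟩ : R)) (g₂ := (⟨y, hy⟩ : R))
      (Subgroup.mem_top _) (Subgroup.mem_top _)
  · simp [cm]

/-- central elements are scalar (Schur). -/
theorem setup_center_scalar (R : Subgroup (GL (Fin n) F))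
    (hschur : ∀ M : Matrix (Fin n) (Fin n) F,
      (∀ x ∈ R, M * (x : Matrix (Fin n) (Fin n) F) = (x : Matrix (Fin n) (Fin n) F) * M) →
        ∃ c : F, M = c • 1) (z : R) (hz : z ∈ Subgroup.center R) :
    ∃ c : F, ((z : GL (Fin n) F) : Matrix (Fin n) (Fin n) F) = c • 1 := by
  apply hschur
  intro x hx
  have h1 := Subgroup.mem_center_iff.mp hz ⟨x, hx⟩
  have h2 : (x : GL (Fin n) F) * (z : GL (Fin n) F) = (z : GL (Fin n) F) * x := by
    have := congrArg Subtype.val h1
    simpa using this
  have h3 := congrArg (fun g : GL (Fin n) F => (g : Matrix (Fin n) (Fin n) F)) h2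
  simpa using h3.symm

/-- central elements have `r`-th power one. -/
theorem setup_center_pow {r : ℕ} (R : Subgroup (GL (Fin n) F))
    (hZ : Nat.card (Subgroup.center R) = r) (z : R) (hz : z ∈ Subgroup.center R) :
    ((z : GL (Fin n) F) : Matrix (Fin n) (Fin n) F) ^ r = 1 := by
  have h1 : (⟨z, hz⟩ : Subgroup.center R) ^ Nat.card (Subgroup.center R) = 1 := pow_card_eq_one'
  rw [hZ] at h1
  have h2 : z ^ r = 1 := by
    have := congrArg Subtype.val h1
    simpa using this
  have h3 : (z : GL (Fin n) F) ^ r = 1 := by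
    have := congrArg Subtype.val h2
    simpa using this
  have h4 := congrArg (fun g : GL (Fin n) F => (g : Matrix (Fin n) (Fin n) F)) h3
  simpa using h4

/-- a scalar matrix of `r`-th power one has scalar an `r`-th root of one (`0 < n`). -/
theorem setup_scalar_pow {r : ℕ} (hn : 0 < n) (c : F)
    (h : ((c • 1 : Matrix (Fin n) (Fin n) F)) ^ r = 1) : c ^ r = 1 := by
  rw [smul_pow, one_pow] at h
  have := congrFun (congrFun h ⟨0, hn⟩) ⟨0, hn⟩
  simpa using this

theorem setup_pos {r : ℕ} (R : Subgroup (GL (Fin n) F)) (hr : r.Prime)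
    (hZ : Nat.card (Subgroup.center R) = r) : 0 < n := by
  rcases Nat.eq_zero_or_pos n with h0 | h0
  · exfalso
    subst h0
    have : Subsingleton (Subgroup.center R) := by
      refine ⟨fun a b => ?_⟩
      apply Subtype.ext
      apply Subtype.ext
      apply Units.ext
      exact Subsingleton.elim _ _
    have h1 : Nat.card (Subgroup.center R) = 1 := Nat.card_unique
    rw [hZ] at h1
    exact hr.one_lt.ne' h1
  · exact h0

theorem setup_of [Fintype F] {r : ℕ} (R : Subgroup (GL (Fin n) F)) (hr : r.Prime)
    (hZ : Nat.card (Subgroup.center R) = r) (hext : commutator R = Subgroup.center R)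
    (hirr : Cfsg.Geo.ActsAbsolutelyIrreducibly (Cfsg.Geo.matrixSet R)) : Setup r R := by
  classical
  have hn : 0 < n := setup_pos R hr hZ
  have hschur : ∀ M : Matrix (Fin n) (Fin n) F,
      (∀ x ∈ R, M * (x : Matrix (Fin n) (Fin n) F) = (x : Matrix (Fin n) (Fin n) F) * M) →
        ∃ c : F, M = c • 1 := by
    intro M hM
    apply hirr.2 M
    rintro s ⟨g, hg, rfl⟩
    exact hM g hg
  refine ⟨hr, hschur, ?_, ?_, ?_⟩
  · -- comm
    intro x hx y hy
    obtain ⟨z, hz, hzx⟩ := setup_cm_mem_center R hext x y hx hy
    obtain ⟨c, hc⟩ := setup_center_scalar R hschur z hz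
    have hp := setup_center_pow R hZ z hz
    rw [hc] at hp
    refine ⟨c, setup_scalar_pow hn c hp, ?_⟩
    rw [← hzx, hc]
  · -- root
    intro ζ hζ
    haveI : Finite (Subgroup.center R) := Nat.finite_of_card_ne_zero (by rw [hZ]; exact hr.ne_zero)
    haveI : Fintype (Subgroup.center R) := Fintype.ofFinite _
    let i₀ : Fin n := ⟨0, hn⟩
    let f : Subgroup.center R → F := fun z =>
      (((z : R) : GL (Fin n) F) : Matrix (Fin n) (Fin n) F) i₀ i₀
    have hf : ∀ z : Subgroup.center R,
        (((z : R) : GL (Fin n) F) : Matrix (Fin n) (Fin n) F) = f z • 1 := by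
      intro z
      obtain ⟨c, hc⟩ := setup_center_scalar R hschur z.1 z.2
      have : f z = c := by
        simp only [f, hc]
        simp
      rw [this, hc]
    have hinj : Function.Injective f := by
      intro z z' h
      apply Subtype.ext
      apply Subtype.ext
      apply Units.ext
      rw [hf z, hf z', h]
    have hsub : Finset.image f Finset.univ ⊆ Polynomial.nthRootsFinset r (1 : F) := by
      intro c hc
      obtain ⟨z, -, rfl⟩ := Finset.mem_image.mp hc
      rw [Polynomial.mem_nthRootsFinset hr.pos]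
      have hp := setup_center_pow R hZ z.1 z.2
      rw [hf z] at hp
      exact setup_scalar_pow hn _ hp
    have hcard : (Polynomial.nthRootsFinset r (1 : F)).card ≤ (Finset.image f Finset.univ).card := by
      rw [Finset.card_image_of_injective _ hinj, Finset.card_univ, ← Nat.card_eq_fintype_card, hZ]
      exact (Multiset.toFinset_card_le _).trans (Polynomial.card_nthRoots r 1)
    have heq := Finset.eq_of_subset_of_card_le hsub hcard
    have hmem : ζ ∈ Finset.image f Finset.univ := by
      rw [heq, Polynomial.mem_nthRootsFinset hr.pos]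
      exact hζ
    obtain ⟨z, -, rfl⟩ := Finset.mem_image.mp hmem
    exact ⟨((z : R) : GL (Fin n) F), (z : R).2, hf z⟩
  · -- prim
    by_contra hcon
    push Not at hcon
    have hbot : commutator R = ⊥ := by
      rw [eq_bot_iff, commutator_def, Subgroup.commutator_le]
      intro g₁ _ g₂ _
      rw [Subgroup.mem_bot]
      apply Subtype.ext
      have := hcon g₁ g₁.2 g₂ g₂.2
      simpa [commutatorElement_def, cm] using this
    rw [hbot] at hext
    have h1 : Nat.card (Subgroup.center R) = 1 := by
      rw [← hext]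
      exact Subgroup.card_bot
    rw [hZ] at h1
    exact hr.one_lt.ne' h1

end Cfsg.Agent.Lib.Helper81.Es
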