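import Cfsg.Agent.Lib.Helper47.FLDefs

set_option autoImplicit false

/-! FL-WC (by helper13) for helper47's S2863 "FL" hive: `P` is weakly closed in its normalizer
(Sylow / Burnside argument from `LBar`). -/

namespace Cfsg.Agent.Lib.Helper47.FL

open Cfsg

/-- conjugation moves the normalizer -/
theorem wc_conj_mem_normalizer {X : Type*} [Group X] {P : Subgroup X} (g : X) {x : X}
    (hx : x ∈ Subgroup.normalizer (P : Set X)) :
    g * x * g⁻¹ ∈ Subgroup.normalizer ((cj g P : Subgroup X) : Set X) := by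
  rw [← cj_eq_self_iff, ← cj_mul]
  have h1 : g * x * g⁻¹ * g = g * x := by group
  rw [h1, cj_mul, cj_eq_self_iff.mpr hx]

/-- the dichotomy of `LBar` for a conjugate of `P` -/
theorem wc_dich_cj {X : Type*} [Group X] {p : ℕ} {P : Subgroup X} (h : LBar p P) (g : X)
    (H : Subgroup X) (hPH : cj g P ≤ H) (hH : H ≠ ⊤) :
    H ≤ Subgroup.normalizer ((cj g P : Subgroup X) : Set X) := by
  have h1 : P ≤ cj g⁻¹ H := by
    have := cj_mono (g := g⁻¹) hPH
    rwa [cj_inv_cj] at this
  rcases h.dich (cj g⁻¹ H) h1 with h2 | h2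
  · intro x hx
    have h3 : g⁻¹ * x * g⁻¹⁻¹ ∈ cj g⁻¹ H := conj_mem_cj hx
    have h4 := wc_conj_mem_normalizer (P := P) g (h2 h3)
    have h5 : g * (g⁻¹ * x * g⁻¹⁻¹) * g⁻¹ = x := by group
    rwa [h5] at h4
  · exfalso
    apply hH
    rw [← cj_cj_inv g H, h2]
    ext x
    rw [mem_cj_iff]
    simp

/-- a Sylow `p`-subgroup containing `P` is proper, and so is its normalizer -/
theorem wc_sylow_props {X : Type*} [Group X] [Finite X] {p : ℕ} [Fact p.Prime]
    {P : Subgroup X} (h : LBar p P) (T : Sylow p X) (hPT : P ≤ (T : Subgroup X)) :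
    (T : Subgroup X) ≠ ⊤ ∧ Subgroup.normalizer ((T : Subgroup X) : Set X) ≠ ⊤ := by
  have key : ¬ (T : Subgroup X).Normal := by
    intro hn
    have h1 : (T : Subgroup X) ≤ pCore p X := by
      unfold Cfsg.pCore
      exact le_sSup ⟨hn, T.isPGroup'⟩
    rw [h.core] at h1
    exact h.ne (le_bot_iff.mp (hPT.trans h1))
  constructor
  · intro htop
    apply key
    rw [htop]
    infer_instance
  · intro htop
    exact key (Subgroup.normalizer_eq_top_iff.mp htop)

/-- LEAF WC. -/
theorem lbar_weakly_closed {X : Type*} [Group X] [Finite X] {p : ℕ} [Fact p.Prime]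
    {P : Subgroup X} (h : LBar p P) (g : X)
    (hg : cj g P ≤ Subgroup.normalizer (P : Set X)) : cj g P = P := by
  have hP' : IsPGroup p ↥(cj g P) := h.pgroup.map _
  have hQ : IsPGroup p ↥(cj g P ⊔ P : Subgroup X) :=
    IsPGroup.to_sup_of_normal_right' hP' h.pgroup hg
  obtain ⟨T, hQT⟩ := hQ.exists_le_sylow
  have hPT : P ≤ (T : Subgroup X) := le_sup_right.trans hQT
  have hP'T : cj g P ≤ (T : Subgroup X) := le_sup_left.trans hQT
  obtain ⟨hTtop, hNTtop⟩ := wc_sylow_props h T hPT
  -- `T` normalizes `P` and `P'`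
  have hTN : (T : Subgroup X) ≤ Subgroup.normalizer (P : Set X) :=
    (h.dich _ hPT).resolve_right hTtop
  have hTN' : (T : Subgroup X) ≤ Subgroup.normalizer ((cj g P : Subgroup X) : Set X) :=
    wc_dich_cj h g _ hP'T hTtop
  -- `g • T` normalizes `P'`
  have hgT : ((g • T : Sylow p X) : Subgroup X) ≤
      Subgroup.normalizer ((cj g P : Subgroup X) : Set X) := by
    intro x hx
    have hx' : x ∈ cj g (T : Subgroup X) := hx
    obtain ⟨y, hy, rfl⟩ := mem_cj.mp hx'
    exact wc_conj_mem_normalizer g (hTN hy)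
  -- Sylow's theorem in `N(P')`
  obtain ⟨c, hc⟩ := MulAction.exists_smul_eq
    ↥(Subgroup.normalizer ((cj g P : Subgroup X) : Set X))
    ((g • T : Sylow p X).subtype hgT) (T.subtype hTN')
  rw [Sylow.smul_subtype hgT c] at hc
  have hc' : c • (g • T : Sylow p X) = T := Sylow.subtype_injective hc
  have hc'' : ((c : X) * g) • T = T := by
    rw [mul_smul]
    exact hc'
  have hcg : (c : X) * g ∈ Subgroup.normalizer ((T : Subgroup X) : Set X) :=
    Sylow.smul_eq_iff_mem_normalizer.mp hc''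
  -- `N(T) ≤ N(P)`
  have hNT : Subgroup.normalizer ((T : Subgroup X) : Set X) ≤ Subgroup.normalizer (P : Set X) :=
    (h.dich _ (hPT.trans Subgroup.le_normalizer)).resolve_right hNTtop
  have h1 : cj ((c : X) * g) P = P := cj_eq_self_iff.mpr (hNT hcg)
  have h2 : cj (c : X) (cj g P) = cj g P := cj_eq_self_iff.mpr c.2
  rw [cj_mul, h2] at h1
  exact h1

end Cfsg.Agent.Lib.Helper47.FL
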