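import Mathlib
import Cfsg.Agent.Lib.Helper83.FpDefs

/-! # Fp hive (helper83, S2276), glue leaf FP-CASEB: all cycles of length 3. -/

set_option autoImplicit false

namespace Cfsg.Agent.Lib.Helper83.Fp

open Equiv

/-- a permutation all of whose cycles have length 3 has cycle type `replicate _ 3`. -/
theorem fpcaseb_type {n : ℕ} (U : Perm (Fin n)) (h : ∀ x ∈ U.cycleType, x = 3) :
    U.cycleType = Multiset.replicate (Multiset.card U.cycleType) 3 :=
  Multiset.eq_replicate_card.2 h

theorem fpcaseb_card_pos {n : ℕ} (U : Perm (Fin n)) (h : U ≠ 1) : 1 ≤ Multiset.card U.cycleType := by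
  rw [Nat.one_le_iff_ne_zero, Ne, Multiset.card_eq_zero, Perm.cycleType_eq_zero]
  exact h

theorem fpcaseb_sum_le {n : ℕ} (U : Perm (Fin n)) : U.cycleType.sum ≤ n := by
  rw [Perm.sum_cycleType]
  calc U.support.card ≤ Fintype.card (Fin n) := Finset.card_le_univ _
    _ = n := Fintype.card_fin n

/-- `(replicate (k + j) 3 - replicate k 3).sum + 3 * k = 3 * (k + j)` -/
theorem fpcaseb_room (a k : ℕ) (hk : k ≤ a) :
    (Multiset.replicate a 3 - Multiset.replicate k 3).sum + 3 * k = 3 * a := by
  obtain ⟨j, rfl⟩ := Nat.exists_eq_add_of_le hk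
  rw [Multiset.replicate_add, add_tsub_cancel_left, Multiset.sum_replicate, smul_eq_mul]
  ring

theorem fpcaseb_not_le_of_count {n : ℕ} (W : Perm (Fin n)) (b : ℕ) (hb : 2 ≤ b)
    (hW : W.cycleType = Multiset.replicate b 3) :
    ¬ Subgroup.centralizer {W} ≤ alternatingGroup (Fin n) := by
  intro h
  have h3 := (Perm.centralizer_le_alternating_iff.mp h).2.2 3
  rw [hW, Multiset.count_replicate_self] at h3
  omega

theorem fpcaseb_not_le_of_card {n : ℕ} (hn : 5 ≤ n) (W : Perm (Fin n))
    (hW : W.cycleType = Multiset.replicate 1 3) :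
    ¬ Subgroup.centralizer {W} ≤ alternatingGroup (Fin n) := by
  intro h
  have h2 := (Perm.centralizer_le_alternating_iff.mp h).2.1
  rw [hW, Fintype.card_fin, Multiset.sum_replicate, smul_eq_mul] at h2
  omega

/-- glue FP-CASEB -/
theorem caseB_of : TransferStmt → Base5Stmt → Base6aStmt → Base6bStmt → CaseBStmt := by
  intro hTr hB5 hB6a hB6b n hn U W hU1 hW1 hU3 hW3 hcard
  have hUt := fpcaseb_type U hU3
  have hWt := fpcaseb_type W hW3
  have hb1 := fpcaseb_card_pos W hW1
  have hUs := fpcaseb_sum_le U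
  set a := Multiset.card U.cycleType with ha
  set b := Multiset.card W.cycleType with hb
  have h3a : 3 * a ≤ n := by
    have : U.cycleType.sum = 3 * a := by
      rw [hUt, Multiset.sum_replicate, smul_eq_mul, mul_comm]
    omega
  have h33 : ({3, 3} : Multiset ℕ) = Multiset.replicate 2 3 := rfl
  have h3 : ({3} : Multiset ℕ) = Multiset.replicate 1 3 := rfl
  by_cases hb2 : 2 ≤ b
  · -- Base6a
    obtain ⟨c, d, hc, hd, hgood⟩ := hB6a
    have ha2 : 2 ≤ a := le_trans hb2 hcard
    refine hTr 3 Nat.prime_three 6 n c d U W ?_ ?_ ?_ ?_ hgood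
      (Or.inr (fpcaseb_not_le_of_count W b hb2 hWt))
    · rw [hc, hUt, h33]; exact Multiset.replicate_le_replicate 3 |>.mpr ha2
    · rw [hc, hUt, h33]
      have := fpcaseb_room a 2 ha2
      omega
    · rw [hd, hWt, h33]; exact Multiset.replicate_le_replicate 3 |>.mpr hb2
    · rw [hd, hWt, h33]
      have := fpcaseb_room b 2 hb2
      omega
  · have hb' : b = 1 := by omega
    have hWt' : W.cycleType = Multiset.replicate 1 3 := by rw [hWt, hb']
    by_cases ha2 : 2 ≤ a
    · -- Base6b
      obtain ⟨c, d, hc, hd, hgood⟩ := hB6b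
      refine hTr 3 Nat.prime_three 6 n c d U W ?_ ?_ ?_ ?_ hgood
        (Or.inr (fpcaseb_not_le_of_card hn W hWt'))
      · rw [hc, hUt, h33]; exact Multiset.replicate_le_replicate 3 |>.mpr ha2
      · rw [hc, hUt, h33]
        have := fpcaseb_room a 2 ha2
        omega
      · rw [hd, hWt', h3]
      · rw [hd, hWt', h3, tsub_self, Multiset.sum_zero]
        omega
    · -- Base5
      have ha' : a = 1 := by omega
      have hUt' : U.cycleType = Multiset.replicate 1 3 := by rw [hUt, ha']
      obtain ⟨c, d, hc, hd, hgood⟩ := hB5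
      refine hTr 3 Nat.prime_three 5 n c d U W ?_ ?_ ?_ ?_ hgood
        (Or.inr (fpcaseb_not_le_of_card hn W hWt'))
      · rw [hc, hUt', h3]
      · rw [hc, hUt', h3, tsub_self, Multiset.sum_zero]
        omega
      · rw [hd, hWt', h3]
      · rw [hd, hWt', h3, tsub_self, Multiset.sum_zero]
        omega

end Cfsg.Agent.Lib.Helper83.Fp
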