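import Cfsg.Agent.Lib.Helper36.ChevRank1
import Cfsg.Agent.Lib.Helper36.ChevHU

/-! # Two generic conjugation lemmas for involutions normalising a rank one subgroup (helper13)

`n * n = 1` and `n x_r(s) n⁻¹ = x_{-r}(c s)`.  Then `n` acts on `⟨X_r, X_{-r}⟩ = φ(SL₂)` like the matrix
`[[0,1],[c,0]]`, and
* `red`: if `c = y²` then `n` is conjugate to `h_r(y⁻¹) n_r(1) n`;
* `gztr`: over a finite field of odd characteristic `n` is conjugate to `h_r(d) n` for every `d ≠ 0`. -/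

set_option autoImplicit false

namespace Cfsg.Agent.Lib.Helper13.G2o

open Cfsg Cfsg.Lie Cfsg.Agent.Lib.Helper36 Matrix

section sl2
variable {F : Type*} [Field F]

open SL2Data

theorem g2o_m2ext {a b c d a' b' c' d' : F} (h1 : a = a') (h2 : b = b') (h3 : c = c') (h4 : d = d') :
    (!![a, b; c, d] : Matrix (Fin 2) (Fin 2) F) = !![a', b'; c', d'] := by
  subst h1 h2 h3 h4; rfl

theorem g2o_sW_eq : (sW : SpecialLinearGroup (Fin 2) F) = sU 1 * sV (-1) * sU 1 := by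
  apply Subtype.ext
  show (!![0, 1; -1, 0] : Matrix (Fin 2) (Fin 2) F) = !![1, 1; 0, 1] * !![1, 0; -1, 1] * !![1, 1; 0, 1]
  ext i j
  fin_cases i <;> fin_cases j <;> simp [Matrix.mul_apply, Fin.sum_univ_two]

theorem g2o_sD_eq (s : F) (hs : s ≠ 0) :
    sD s hs = sU s * sV (-s⁻¹) * sU s * (sU (-1) * sV 1 * sU (-1)) := by
  apply Subtype.ext
  show (!![s, 0; 0, s⁻¹] : Matrix (Fin 2) (Fin 2) F) =
    !![1, s; 0, 1] * !![1, 0; -s⁻¹, 1] * !![1, s; 0, 1] * (!![1, -1; 0, 1] * !![1, 0; 1, 1] * !![1, -1; 0, 1])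
  simp only [Matrix.mul_fin_two]
  apply g2o_m2ext <;> field_simp <;> ring

/-- two homomorphisms on `SL₂(F)` that agree on the elementary matrices are equal -/
theorem g2o_homext {G : Type*} [Group G] (f1 f2 : SpecialLinearGroup (Fin 2) F →* G)
    (hU : ∀ t : F, f1 (sU t) = f2 (sU t)) (hV : ∀ t : F, f1 (sV t) = f2 (sV t)) : f1 = f2 := by
  have hW : f1 (sW : SpecialLinearGroup (Fin 2) F) = f2 sW := by
    rw [g2o_sW_eq]; simp only [map_mul, hU, hV]
  have hDD : ∀ (s : F) (hs : s ≠ 0), f1 (sD s hs) = f2 (sD s hs) := by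
    intro s hs
    rw [g2o_sD_eq]; simp only [map_mul, hU, hV]
  ext g
  by_cases hc : g.1 1 0 = 0
  · obtain ⟨ha, hg⟩ := eq_of_eq_zero g hc
    rw [hg]; simp only [map_mul, hU, hDD]
  · have hg := eq_of_ne_zero g hc
    rw [hg]; simp only [map_mul, hU, hDD, hW]

/-- conjugation by `[[0,1],[c,0]]` on `SL₂(F)` -/
def g2oPsi (c : F) (hc : c ≠ 0) (k : SpecialLinearGroup (Fin 2) F) : SpecialLinearGroup (Fin 2) F :=
  ⟨!![k.1 1 1, k.1 1 0 / c; c * k.1 0 1, k.1 0 0], by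
    rw [Matrix.det_fin_two]
    simp only [Matrix.of_apply, Matrix.cons_val', Matrix.cons_val_zero, Matrix.cons_val_one,
      Matrix.empty_val', Matrix.cons_val_fin_one]
    have := det_eq k
    field_simp
    linear_combination this⟩

theorem g2oPsi_mul (c : F) (hc : c ≠ 0) (k k' : SpecialLinearGroup (Fin 2) F) :
    g2oPsi c hc (k * k') = g2oPsi c hc k * g2oPsi c hc k' := by
  apply Subtype.ext
  have h : (k * k').1 = k.1 * k'.1 := rfl
  show (!![(k * k').1 1 1, (k * k').1 1 0 / c; c * (k * k').1 0 1, (k * k').1 0 0] : Matrix (Fin 2) (Fin 2) F) =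
    !![k.1 1 1, k.1 1 0 / c; c * k.1 0 1, k.1 0 0] * !![k'.1 1 1, k'.1 1 0 / c; c * k'.1 0 1, k'.1 0 0]
  rw [h]
  ext i j
  fin_cases i <;> fin_cases j <;> simp [Matrix.mul_apply, Fin.sum_univ_two] <;> field_simp <;> ring

noncomputable def g2oPsiHom (c : F) (hc : c ≠ 0) :
    SpecialLinearGroup (Fin 2) F →* SpecialLinearGroup (Fin 2) F :=
  MonoidHom.mk' (g2oPsi c hc) (g2oPsi_mul c hc)

theorem g2oPsi_sU (c : F) (hc : c ≠ 0) (t : F) : g2oPsi c hc (sU t) = sV (c * t) := by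
  apply Subtype.ext
  show (!![(sU t).1 1 1, (sU t).1 1 0 / c; c * (sU t).1 0 1, (sU t).1 0 0] : Matrix (Fin 2) (Fin 2) F) =
    !![1, 0; c * t, 1]
  ext i j
  fin_cases i <;> fin_cases j <;> simp [sU]

theorem g2oPsi_sV (c : F) (hc : c ≠ 0) (t : F) : g2oPsi c hc (sV t) = sU (c⁻¹ * t) := by
  apply Subtype.ext
  show (!![(sV t).1 1 1, (sV t).1 1 0 / c; c * (sV t).1 0 1, (sV t).1 0 0] : Matrix (Fin 2) (Fin 2) F) =
    !![1, c⁻¹ * t; 0, 1]
  ext i j
  fin_cases i <;> fin_cases j <;> simp [sV] <;> field_simp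

end sl2

variable (D : ChevalleyDatum) (hD : D ∈ [chevG2, chevB2, chevD4, chevF4, chevE6, chevE7, chevE8])
variable (F : Type*) [Field F]

open SL2Data

/-- the swap relation on `X_{-r}` -/
theorem g2o_swap_neg (r : ℕ) (n : GL D.Idx F) (hnn : n * n = 1) (c : F) (hc : c ≠ 0)
    (hsw : ∀ s : F, n * xGL D hD F r s * n⁻¹ = xGL D hD F (D.neg r) (c * s)) (s : F) :
    n * xGL D hD F (D.neg r) s * n⁻¹ = xGL D hD F r (c⁻¹ * s) := by
  have hninv : n⁻¹ = n := inv_eq_of_mul_eq_one_left hnn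
  have h := hsw (c⁻¹ * s)
  rw [← mul_assoc, mul_inv_cancel₀ hc, one_mul] at h
  rw [← h, hninv]
  calc n * (n * xGL D hD F r (c⁻¹ * s) * n) * n
      = (n * n) * xGL D hD F r (c⁻¹ * s) * (n * n) := by group
    _ = xGL D hD F r (c⁻¹ * s) := by rw [hnn, one_mul, mul_one]

/-- `n` acts on `φ(SL₂)` like conjugation by `[[0,1],[c,0]]` -/
theorem g2o_conj_hom (r : ℕ) (hr : r < D.nroots) (n : GL D.Idx F) (hnn : n * n = 1) (c : F) (hc : c ≠ 0)
    (hsw : ∀ s : F, n * xGL D hD F r s * n⁻¹ = xGL D hD F (D.neg r) (c * s))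
    (k : SpecialLinearGroup (Fin 2) F) :
    n * (rank1Data D hD F r hr).hom k * n⁻¹ = (rank1Data D hD F r hr).hom (g2oPsi c hc k) := by
  have h := g2o_homext ((MulAut.conj n).toMonoidHom.comp (rank1Data D hD F r hr).hom)
    ((rank1Data D hD F r hr).hom.comp (g2oPsiHom c hc)) ?_ ?_
  · exact DFunLike.congr_fun h k
  · intro t
    show n * (rank1Data D hD F r hr).hom (sU t) * n⁻¹ = (rank1Data D hD F r hr).hom (g2oPsi c hc (sU t))
    rw [g2oPsi_sU, hom_sU, hom_sV]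
    exact hsw t
  · intro t
    show n * (rank1Data D hD F r hr).hom (sV t) * n⁻¹ = (rank1Data D hD F r hr).hom (g2oPsi c hc (sV t))
    rw [g2oPsi_sV, hom_sU, hom_sV]
    exact g2o_swap_neg D hD F r n hnn c hc hsw t

/-- master formula: if `k = M * ψ_c(k)` in `SL₂` then `φ(k) n φ(k)⁻¹ = φ(M) n` -/
theorem g2o_master (r : ℕ) (hr : r < D.nroots) (n : GL D.Idx F) (hnn : n * n = 1) (c : F) (hc : c ≠ 0)
    (hsw : ∀ s : F, n * xGL D hD F r s * n⁻¹ = xGL D hD F (D.neg r) (c * s))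
    (k M : SpecialLinearGroup (Fin 2) F) (hk : k = M * g2oPsi c hc k) :
    (rank1Data D hD F r hr).hom k * n * ((rank1Data D hD F r hr).hom k)⁻¹ =
      (rank1Data D hD F r hr).hom M * n := by
  have h1 := g2o_conj_hom D hD F r hr n hnn c hc hsw k
  -- n φ(k) = φ(ψ k) n
  have h2 : n * (rank1Data D hD F r hr).hom k = (rank1Data D hD F r hr).hom (g2oPsi c hc k) * n := by
    rw [← h1]; group
  have h3 : (rank1Data D hD F r hr).hom k =
      (rank1Data D hD F r hr).hom M * (rank1Data D hD F r hr).hom (g2oPsi c hc k) := by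
    conv_lhs => rw [hk]
    rw [map_mul]
  rw [mul_inv_eq_iff_eq_mul, mul_assoc ((rank1Data D hD F r hr).hom M), h2, ← mul_assoc, ← h3]

include hD in
theorem g2o_hom_mem (r : ℕ) (hr : r < D.nroots) (k : SpecialLinearGroup (Fin 2) F) :
    (rank1Data D hD F r hr).hom k ∈ D.group F := by
  have h1 : (rank1Data D hD F r hr).hom k ∈ (rank1Data D hD F r hr).hom.range := ⟨k, rfl⟩
  rw [SL2Data.hom_range] at h1
  refine (Subgroup.closure_le _).2 ?_ h1
  rintro _ (⟨t, rfl⟩ | ⟨t, rfl⟩)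
  · exact xGL_mem_group D hD F r t
  · exact xGL_mem_group D hD F (D.neg r) t

theorem g2o_hom_sD (r : ℕ) (hr : r < D.nroots) (s : F) (hs : s ≠ 0) :
    (rank1Data D hD F r hr).hom (sD s hs) = hGL D hD F r s := by
  have h := (rank1Data D hD F r hr).phi_mul_sD 1 s hs
  rw [one_mul, SL2Data.phi_one, one_mul] at h
  show (rank1Data D hD F r hr).phi (sD s hs) = _
  rw [h, hGL_eq, nGL_eq, nGL_eq]
  rfl

theorem g2o_hom_sW (r : ℕ) (hr : r < D.nroots) :
    (rank1Data D hD F r hr).hom (sW : SpecialLinearGroup (Fin 2) F) = nGL D hD F r 1 := by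
  show (rank1Data D hD F r hr).phi sW = _
  rw [SL2Data.phi_sW_aux, nGL_eq]
  rfl

include hD in
theorem red (r : ℕ) (hr : r < D.nroots) (n : GL D.Idx F) (hnn : n * n = 1) (y : F) (hy : y ≠ 0)
    (h2 : (2 : F) ≠ 0)
    (hsw : ∀ s : F, n * xGL D hD F r s * n⁻¹ = xGL D hD F (D.neg r) (y ^ 2 * s)) :
    ∃ g ∈ D.group F, g * n * g⁻¹ = hGL D hD F r y⁻¹ * nGL D hD F r 1 * n := by
  have hc : y ^ 2 ≠ 0 := pow_ne_zero 2 hy
  have hy' : y⁻¹ ≠ 0 := inv_ne_zero hy
  set k : SpecialLinearGroup (Fin 2) F := sU ((2 * y)⁻¹) * sV (-y) with hk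
  refine ⟨(rank1Data D hD F r hr).hom k, g2o_hom_mem D hD F r hr k, ?_⟩
  have hkey : k = (sD y⁻¹ hy' * sW) * g2oPsi (y ^ 2) hc k := by
    apply Subtype.ext
    have e1 : k.1 = !![1, (2 * y)⁻¹; 0, 1] * !![1, 0; -y, 1] := rfl
    have e1' : k.1 = !![1 + (2 * y)⁻¹ * -y, (2 * y)⁻¹; -y, 1] := by
      rw [e1, Matrix.mul_fin_two]
      apply g2o_m2ext <;> ring
    have h00 : k.1 0 0 = 1 + (2 * y)⁻¹ * -y := by rw [e1']; rfl
    have h01 : k.1 0 1 = (2 * y)⁻¹ := by rw [e1']; rfl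
    have h10 : k.1 1 0 = -y := by rw [e1']; rfl
    have h11 : k.1 1 1 = 1 := by rw [e1']; rfl
    have e2 : ((sD y⁻¹ hy' * sW) * g2oPsi (y ^ 2) hc k).1 =
        (!![y⁻¹, 0; 0, y⁻¹⁻¹] * !![0, 1; -1, 0]) *
          !![k.1 1 1, k.1 1 0 / y ^ 2; y ^ 2 * k.1 0 1, k.1 0 0] := rfl
    rw [e2, h00, h01, h10, h11, e1']
    simp only [Matrix.mul_fin_two]
    apply g2o_m2ext <;> field_simp <;> ring
  rw [g2o_master D hD F r hr n hnn (y ^ 2) hc hsw k _ hkey, map_mul, g2o_hom_sD, g2o_hom_sW]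

include hD in
theorem gztr [Fintype F] (h2 : (2 : F) ≠ 0) (r : ℕ) (hr : r < D.nroots) (n : GL D.Idx F) (hnn : n * n = 1)
    (c : F) (hc : c ≠ 0)
    (hsw : ∀ s : F, n * xGL D hD F r s * n⁻¹ = xGL D hD F (D.neg r) (c * s)) (d : F) (hd : d ≠ 0) :
    ∃ g ∈ D.group F, g * n * g⁻¹ = hGL D hD F r d * n := by
  classical
  -- a solution of X² - c Y² = d
  obtain ⟨X, Y, hXY⟩ : ∃ X Y : F, X ^ 2 - c * Y ^ 2 = d := by
    have hchar : ringChar F ≠ 2 := by
      intro h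
      have : CharP F 2 := by rw [← h]; exact ringChar.charP F
      apply h2
      have := CharP.cast_eq_zero F 2
      exact_mod_cast this
    have hf : (Polynomial.X ^ 2 - Polynomial.C d : Polynomial F).degree = 2 :=
      Polynomial.degree_X_pow_sub_C (by norm_num) d
    have hg : (Polynomial.C (-c) * Polynomial.X ^ 2 : Polynomial F).degree = 2 := by
      rw [Polynomial.degree_C_mul_X_pow 2 (neg_ne_zero.2 hc)]; rfl
    obtain ⟨a, b, hab⟩ := FiniteField.exists_root_sum_quadratic hf hg (FiniteField.odd_card_of_char_ne_two hchar)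
    refine ⟨a, b, ?_⟩
    simp only [Polynomial.eval_sub, Polynomial.eval_pow, Polynomial.eval_X, Polynomial.eval_C,
      Polynomial.eval_mul] at hab
    linear_combination hab
  have hdet : (!![X, Y; c * Y / d, X / d] : Matrix (Fin 2) (Fin 2) F).det = 1 := by
    rw [Matrix.det_fin_two]
    simp only [Matrix.of_apply, Matrix.cons_val', Matrix.cons_val_zero, Matrix.cons_val_one,
      Matrix.empty_val', Matrix.cons_val_fin_one]
    field_simp
    linear_combination hXY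
  set k : SpecialLinearGroup (Fin 2) F := ⟨!![X, Y; c * Y / d, X / d], hdet⟩ with hk
  refine ⟨(rank1Data D hD F r hr).hom k, g2o_hom_mem D hD F r hr k, ?_⟩
  have hkey : k = sD d hd * g2oPsi c hc k := by
    apply Subtype.ext
    have e1 : k.1 = !![X, Y; c * Y / d, X / d] := rfl
    have h00 : k.1 0 0 = X := rfl
    have h01 : k.1 0 1 = Y := rfl
    have h10 : k.1 1 0 = c * Y / d := rfl
    have h11 : k.1 1 1 = X / d := rfl
    have e2 : (sD d hd * g2oPsi c hc k).1 =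
        !![d, 0; 0, d⁻¹] * !![k.1 1 1, k.1 1 0 / c; c * k.1 0 1, k.1 0 0] := rfl
    rw [e2, h00, h01, h10, h11, e1]
    simp only [Matrix.mul_fin_two]
    apply g2o_m2ext <;> field_simp <;> ring
  rw [g2o_master D hD F r hr n hnn c hc hsw k _ hkey, g2o_hom_sD]

end Cfsg.Agent.Lib.Helper13.G2o
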