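import Mathlib
import Cfsg.Prelude.Def_LieClassical
import Cfsg.Agent.Lib.Helper13.Herm

set_option autoImplicit false

namespace Cfsg.Agent.Lib.Helper13

open Matrix

variable {F : Type*} [Field F]

theorem mem_GU_iff (n q : ℕ) (g : GL (Fin n) F) :
    g ∈ Cfsg.GU n F q ↔ ∀ u v, Cfsg.hermForm n F q ((g : Matrix (Fin n) (Fin n) F) *ᵥ u)
      ((g : Matrix (Fin n) (Fin n) F) *ᵥ v) = Cfsg.hermForm n F q u v := Iff.rfl

theorem hermForm_single_single (n q : ℕ) (hq : q ≠ 0) (i j : Fin n) :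
    Cfsg.hermForm n F q (Pi.single i 1) (Pi.single j 1) = if i = j then 1 else 0 := by
  unfold Cfsg.hermForm
  rw [Finset.sum_eq_single i]
  · by_cases hij : i = j
    · subst hij; simp
    · have : (Pi.single j (1 : F) : Fin n → F) i = 0 := by
        rw [Pi.single_apply, if_neg hij]
      rw [this, zero_pow hq, mul_zero, if_neg hij]
  · intro b _ hb
    rw [Pi.single_apply, if_neg hb, zero_mul]
  · intro h
    exact absurd (Finset.mem_univ i) h

/-- For `g ∈ GU`, `gᵀ * g^(q) = 1`. -/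
theorem GU_transpose_mul_map (n q : ℕ) (hq : q ≠ 0) (g : GL (Fin n) F)
    (hg : g ∈ Cfsg.GU n F q) (φ : F →+* F) (hφ : ∀ a, φ a = a ^ q) :
    (g : Matrix (Fin n) (Fin n) F)ᵀ * (g : Matrix (Fin n) (Fin n) F).map φ = 1 := by
  ext i j
  have h1 := (mem_GU_iff n q g).mp hg (Pi.single i 1) (Pi.single j 1)
  rw [hermForm_single_single n q hq, Matrix.mulVec_single_one, Matrix.mulVec_single_one] at h1
  rw [Matrix.mul_apply, Matrix.one_apply, ← h1]
  unfold Cfsg.hermForm
  apply Finset.sum_congr rfl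
  intro k _
  simp [hφ]

theorem GU_det_pow [Fintype F] {q : ℕ} (hF : Fintype.card F = q ^ 2) (n : ℕ) (g : GL (Fin n) F)
    (hg : g ∈ Cfsg.GU n F q) : (g : Matrix (Fin n) (Fin n) F).det ^ (q + 1) = 1 := by
  obtain ⟨φ, hφ⟩ := exists_powRingHom hF
  have hq : q ≠ 0 := by have := two_le_q hF; omega
  have h1 := GU_transpose_mul_map n q hq g hg φ hφ
  have h2 := congrArg Matrix.det h1
  rw [Matrix.det_mul, Matrix.det_transpose, Matrix.det_one] at h2
  have h3 : ((g : Matrix (Fin n) (Fin n) F).map φ).det = (g : Matrix (Fin n) (Fin n) F).det ^ q := by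
    rw [← hφ]
    exact (RingHom.map_det φ _).symm
  rw [h3] at h2
  rw [pow_succ, mul_comm]
  exact h2

theorem diagonal_mem_GU (n q : ℕ) (d : Fin n → F) (hd : ∀ i, d i ^ (q + 1) = 1) (g : GL (Fin n) F)
    (hg : (g : Matrix (Fin n) (Fin n) F) = Matrix.diagonal d) : g ∈ Cfsg.GU n F q := by
  rw [mem_GU_iff]
  intro u v
  rw [hg]
  unfold Cfsg.hermForm
  apply Finset.sum_congr rfl
  intro i _
  rw [Matrix.mulVec_diagonal, Matrix.mulVec_diagonal, mul_pow]
  calc d i * u i * (d i ^ q * v i ^ q) = d i ^ (q + 1) * (u i * v i ^ q) := by ring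
    _ = u i * v i ^ q := by rw [hd, one_mul]

/-- The diagonal matrix with entries of norm one, as an element of `GU`. -/
noncomputable def diagGU (n q : ℕ) (d : Fin n → F) (hd : ∀ i, d i ^ (q + 1) = 1) : Cfsg.GU n F q :=
  ⟨Matrix.GeneralLinearGroup.mkOfDetNeZero (Matrix.diagonal d) (by
    rw [Matrix.det_diagonal]
    apply Finset.prod_ne_zero_iff.mpr
    intro i _ h0
    have := hd i
    rw [h0, zero_pow (by omega)] at this
    exact zero_ne_one this), diagonal_mem_GU n q d hd _ rfl⟩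

theorem diagGU_val (n q : ℕ) (d : Fin n → F) (hd : ∀ i, d i ^ (q + 1) = 1) :
    ((diagGU n q d hd : GL (Fin n) F) : Matrix (Fin n) (Fin n) F) = Matrix.diagonal d := rfl

theorem perm_mem_GU (n q : ℕ) (σ : Equiv.Perm (Fin n)) (g : GL (Fin n) F)
    (hg : (g : Matrix (Fin n) (Fin n) F) = σ.permMatrix F) : g ∈ Cfsg.GU n F q := by
  rw [mem_GU_iff]
  intro u v
  rw [hg, Matrix.permMatrix_mulVec, Matrix.permMatrix_mulVec]
  unfold Cfsg.hermForm
  exact Equiv.sum_comp σ (fun i => u i * v i ^ q)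

noncomputable def permGU (n q : ℕ) (σ : Equiv.Perm (Fin n)) : Cfsg.GU n F q :=
  ⟨Matrix.GeneralLinearGroup.mkOfDetNeZero (σ.permMatrix F) (by
    rw [Matrix.det_permutation]
    have : ((Equiv.Perm.sign σ : ℤˣ) : ℤ) = 1 ∨ ((Equiv.Perm.sign σ : ℤˣ) : ℤ) = -1 := by
      rcases Int.units_eq_one_or (Equiv.Perm.sign σ) with h | h <;> simp [h]
    rcases this with h | h <;> simp [h]), perm_mem_GU n q σ _ rfl⟩

theorem permGU_val (n q : ℕ) (σ : Equiv.Perm (Fin n)) :
    ((permGU (F := F) n q σ : GL (Fin n) F) : Matrix (Fin n) (Fin n) F) = σ.permMatrix F := rfl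

/-- The group of norm-one units. -/
def normOne (F : Type*) [Field F] (q : ℕ) : Subgroup Fˣ := (powMonoidHom (q + 1) : Fˣ →* Fˣ).ker

theorem mem_normOne (q : ℕ) (x : Fˣ) : x ∈ normOne F q ↔ x ^ (q + 1) = 1 := by
  unfold normOne
  rw [MonoidHom.mem_ker, powMonoidHom_apply]

theorem card_normOne [Fintype F] {q : ℕ} (hF : Fintype.card F = q ^ 2) :
    Nat.card (normOne F q) = q + 1 := by
  unfold normOne
  rw [IsCyclic.card_powMonoidHom_ker, Nat.card_units, Nat.card_eq_fintype_card, hF]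
  have h2 := two_le_q hF
  apply Nat.gcd_eq_right
  refine ⟨q - 1, ?_⟩
  have : q ^ 2 - 1 = (q + 1) * (q - 1) := by
    obtain ⟨r, rfl⟩ : ∃ r, q = r + 1 := ⟨q - 1, by omega⟩
    simp only [Nat.add_sub_cancel]
    have : (r + 1) ^ 2 = (r + 1 + 1) * r + 1 := by ring
    rw [this, Nat.add_sub_cancel]
  exact this

theorem exists_normOne_ne_one [Fintype F] {q : ℕ} (hF : Fintype.card F = q ^ 2) :
    ∃ ζ : F, ζ ^ (q + 1) = 1 ∧ ζ ≠ 1 := by
  have hc := card_normOne hF
  have h2 := two_le_q hF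
  have hne : normOne F q ≠ ⊥ := by
    intro h
    rw [h, Subgroup.card_bot] at hc
    omega
  obtain ⟨⟨x, hx⟩, hx1'⟩ := (Subgroup.ne_bot_iff_exists_ne_one).mp hne
  have hx1 : x ≠ 1 := fun h => hx1' (Subtype.ext h)
  rw [mem_normOne] at hx
  refine ⟨(x : F), ?_, ?_⟩
  · rw [← Units.val_pow_eq_pow_val, hx, Units.val_one]
  · intro h
    exact hx1 (Units.ext h)

/-- Central elements of `GU` are scalar. -/
theorem center_GU_scalar [Fintype F] {q : ℕ} (hF : Fintype.card F = q ^ 2) (n : ℕ)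
    (z : Cfsg.GU n F q) (hz : z ∈ Subgroup.center (Cfsg.GU n F q)) :
    ∃ c : F, ((z : GL (Fin n) F) : Matrix (Fin n) (Fin n) F) = c • (1 : Matrix (Fin n) (Fin n) F) := by
  obtain ⟨ζ, hζ, hζ1⟩ := exists_normOne_ne_one hF
  rw [Subgroup.mem_center_iff] at hz
  obtain ⟨Z, hZ⟩ : ∃ Z, Z = ((z : GL (Fin n) F) : Matrix (Fin n) (Fin n) F) := ⟨_, rfl⟩
  have hcomm : ∀ g : Cfsg.GU n F q, ((g : GL (Fin n) F) : Matrix (Fin n) (Fin n) F) * Z
      = Z * ((g : GL (Fin n) F) : Matrix (Fin n) (Fin n) F) := by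
    intro g
    have := hz g
    have h2 := congrArg (fun y : Cfsg.GU n F q => ((y : GL (Fin n) F) : Matrix (Fin n) (Fin n) F)) this
    simp only [Subgroup.coe_mul, Units.val_mul] at h2
    rw [hZ]
    exact h2
  have hoff : ∀ i b : Fin n, b ≠ i → Z i b = 0 := by
    intro i b hbi
    have hd : ∀ k, (Function.update (fun _ => (1 : F)) i ζ) k ^ (q + 1) = 1 := by
      intro k
      by_cases hk : k = i
      · subst hk; simp [hζ]
      · simp [Function.update_of_ne hk]
    have h1 := hcomm (diagGU n q _ hd)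
    rw [diagGU_val] at h1
    have h2 := congrFun (congrFun h1 i) b
    rw [Matrix.diagonal_mul, Matrix.mul_diagonal, Function.update_self,
      Function.update_of_ne hbi, mul_one] at h2
    have h3 : (ζ - 1) * Z i b = 0 := by rw [sub_mul, h2, one_mul, sub_self]
    rcases mul_eq_zero.mp h3 with h4 | h4
    · exact absurd (sub_eq_zero.mp h4) hζ1
    · exact h4
  have hdiag : ∀ i j : Fin n, Z i i = Z j j := by
    intro i j
    by_cases hij : i = j
    · rw [hij]
    have h1 := hcomm (permGU n q (Equiv.swap i j))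
    rw [permGU_val] at h1
    have h2 := congrFun (congrFun h1 i) j
    rw [Matrix.mul_apply, Matrix.mul_apply] at h2
    rw [Finset.sum_eq_single j, Finset.sum_eq_single i] at h2
    · simp [Equiv.Perm.permMatrix, PEquiv.toMatrix_apply, Equiv.toPEquiv_apply] at h2
      exact h2.symm
    · intro b _ hb
      rw [hoff i b hb, zero_mul]
    · intro h; exact absurd (Finset.mem_univ i) h
    · intro b _ hb
      rw [hoff b j hb.symm, mul_zero]
    · intro h; exact absurd (Finset.mem_univ j) h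
  rcases Nat.eq_zero_or_pos n with hn | hn
  · subst hn
    refine ⟨1, ?_⟩
    rw [← hZ]
    ext i j
    exact i.elim0
  · refine ⟨Z ⟨0, hn⟩ ⟨0, hn⟩, ?_⟩
    rw [← hZ]
    ext i j
    rw [Matrix.smul_apply, Matrix.one_apply]
    by_cases hij : i = j
    · rw [if_pos hij, smul_eq_mul, mul_one, ← hij]
      exact hdiag _ _
    · rw [if_neg hij, smul_zero]
      exact hoff i j (Ne.symm hij)

end Cfsg.Agent.Lib.Helper13
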