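import Mathlib

set_option autoImplicit false

namespace Cfsg.Agent.Lib.Helper13

open MulAction

/-- Core of Gleason's lemma: if `a` is the only point of its orbit fixed by the `p`-group `Pa`,
and `b` is the only possible point of that orbit fixed by the `p`-group `Pb`, then `b` lies in the
orbit of `a`. -/
theorem gleason_core {H Ω : Type*} [Group H] [MulAction H Ω] [Finite Ω] {p : ℕ} [Fact p.Prime]
    (a b : Ω) (Pa Pb : Subgroup H) (hPa : IsPGroup p Pa) (hPb : IsPGroup p Pb)
    (haPa : a ∈ fixedPoints Pa Ω)
    (hPa' : ∀ x ∈ orbit H a, x ∈ fixedPoints Pa Ω → x = a)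
    (hPb' : ∀ x ∈ orbit H a, x ∈ fixedPoints Pb Ω → x = b) :
    b ∈ orbit H a := by
  by_contra hb
  have h1 := hPa.card_modEq_card_fixedPoints (orbit H a)
  have h2 := hPb.card_modEq_card_fixedPoints (orbit H a)
  have hfa : Nat.card (fixedPoints Pa (orbit H a)) = 1 := by
    rw [Nat.card_eq_one_iff_unique]
    constructor
    · constructor
      rintro ⟨⟨x, hx⟩, hxfix⟩ ⟨⟨y, hy⟩, hyfix⟩
      have hx' : x = a := by
        apply hPa' x hx
        intro g
        have := hxfix g
        exact congrArg Subtype.val this
      have hy' : y = a := by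
        apply hPa' y hy
        intro g
        have := hyfix g
        exact congrArg Subtype.val this
      subst hx' hy'
      rfl
    · refine ⟨⟨⟨a, mem_orbit_self a⟩, ?_⟩⟩
      intro g
      apply Subtype.ext
      exact haPa g
  have hfb : Nat.card (fixedPoints Pb (orbit H a)) = 0 := by
    rw [Nat.card_eq_zero]
    left
    constructor
    rintro ⟨⟨x, hx⟩, hxfix⟩
    apply hb
    have hx' : x = b := by
      apply hPb' x hx
      intro g
      have := hxfix g
      exact congrArg Subtype.val this
    rw [← hx']
    exact hx
  rw [hfa] at h1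
  rw [hfb] at h2
  have h3 : 1 ≡ 0 [MOD p] := h1.symm.trans h2
  have hp : p.Prime := Fact.out
  have h4 : p ∣ 1 := (Nat.modEq_zero_iff_dvd).mp h3
  exact hp.one_lt.ne' (Nat.dvd_one.mp h4)

/-- If pointwise stabilisers of sets of fewer than `k` points are transitive on the remaining
points, the group is `k`-transitive. -/
theorem isMultiplyPretransitive_of_fixing {α : Type*} [DecidableEq α]
    (G : Subgroup (Equiv.Perm α)) (k : ℕ)
    (h : ∀ (Δ : Finset α), Δ.card < k → ∀ a b, a ∉ Δ → b ∉ Δ →
      ∃ g : G, (∀ d ∈ Δ, g • d = d) ∧ g • a = b) :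
    IsMultiplyPretransitive G α k := by
  rw [isMultiplyPretransitive_iff]
  intro x y
  have key : ∀ j : ℕ, j ≤ k → ∃ g : G, ∀ i : Fin k, (i : ℕ) < j → g • x i = y i := by
    intro j
    induction j with
    | zero =>
      intro _
      exact ⟨1, fun i hi => absurd hi (Nat.not_lt_zero _)⟩
    | succ j ih =>
      intro hj
      obtain ⟨g, hg⟩ := ih (by omega)
      let jj : Fin k := ⟨j, by omega⟩
      let Δ : Finset α := (Finset.univ.filter (fun i : Fin k => (i : ℕ) < j)).image y
      have hΔcard : Δ.card < k := by
        have h1 : Δ.card ≤ (Finset.univ.filter (fun i : Fin k => (i : ℕ) < j)).card :=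
          Finset.card_image_le
        have h2 : (Finset.univ.filter (fun i : Fin k => (i : ℕ) < j)).card ≤ j := by
          have : (Finset.univ.filter (fun i : Fin k => (i : ℕ) < j)).card
              = ((Finset.univ.filter (fun i : Fin k => (i : ℕ) < j)).image
                  (fun i : Fin k => (i : ℕ))).card := by
            rw [Finset.card_image_of_injective _ Fin.val_injective]
          rw [this]
          have hsub : (Finset.univ.filter (fun i : Fin k => (i : ℕ) < j)).image
              (fun i : Fin k => (i : ℕ)) ⊆ Finset.range j := by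
            intro n hn
            obtain ⟨i, hi, rfl⟩ := Finset.mem_image.mp hn
            rw [Finset.mem_filter] at hi
            exact Finset.mem_range.mpr hi.2
          calc _ ≤ (Finset.range j).card := Finset.card_le_card hsub
            _ = j := Finset.card_range j
        omega
      have hmemΔ : ∀ z, z ∈ Δ ↔ ∃ i : Fin k, (i : ℕ) < j ∧ y i = z := by
        intro z
        simp only [Δ, Finset.mem_image, Finset.mem_filter, Finset.mem_univ, true_and]
      have ha : g • x jj ∉ Δ := by
        rw [hmemΔ]
        rintro ⟨i, hi, hyi⟩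
        rw [← hg i hi] at hyi
        have h1 : x i = x jj := smul_left_cancel g hyi
        have h2 : i = jj := x.injective h1
        rw [h2] at hi
        simp [jj] at hi
      have hb : y jj ∉ Δ := by
        rw [hmemΔ]
        rintro ⟨i, hi, hyi⟩
        have h2 : i = jj := y.injective hyi
        rw [h2] at hi
        simp [jj] at hi
      obtain ⟨g', hg'fix, hg'ab⟩ := h Δ hΔcard _ _ ha hb
      refine ⟨g' * g, ?_⟩
      intro i hi
      rw [mul_smul]
      by_cases hij : (i : ℕ) < j
      · rw [hg i hij]
        apply hg'fix
        rw [hmemΔ]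
        exact ⟨i, hij, rfl⟩
      · have : i = jj := by
          apply Fin.ext
          simp only [jj]
          omega
        rw [this]
        exact hg'ab
  obtain ⟨g, hg⟩ := key k le_rfl
  refine ⟨g, ?_⟩
  ext i
  rw [Function.Embedding.smul_apply]
  exact hg i i.2

end Cfsg.Agent.Lib.Helper13
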