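import Cfsg.Agent.Lib.Helper18.ChevBruhat
import Cfsg.Agent.Lib.Helper36.ChevCells
import Cfsg.Agent.S1027
import Cfsg.Agent.S1045

/-! # Involutions of a finite Chevalley group of odd characteristic are `U`-conjugate into `N` (helper13)

`invn_main`: over a finite field of odd order every `t` of the Chevalley group with `t * t = 1` is of the form
`u * n * u⁻¹` with `u ∈ U` and `n ∈ N`, `n * n = 1`.  Generic in the datum `D`. -/

set_option autoImplicit false

namespace Cfsg.Agent.Lib.Helper13.InvN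

open Cfsg Cfsg.Lie Cfsg.Agent.Lib.Helper36 Cfsg.Agent.Lib.Helper18

variable (D : ChevalleyDatum) (hD : D ∈ [chevG2, chevB2, chevD4, chevF4, chevE6, chevE7, chevE8])
variable (F : Type*) [Field F]

/-- abstract group-theoretic core: an element `x` of odd order inverted by an involution `n` has a square root
`s` inverted by `n`, and then `n * x = s⁻¹ * n * s`. -/
theorem invn_sqrt {G : Type*} [Group G] (n x : G) (hn : n * n = 1) (hinv : n * x * n⁻¹ = x⁻¹)
    (m : ℕ) (hm : x ^ (2 * m + 1) = 1) : n * x = (x ^ (m + 1))⁻¹ * n * x ^ (m + 1) := by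
  have hninv : n⁻¹ = n := inv_eq_of_mul_eq_one_left hn
  have hpow : n * x ^ (m + 1) * n⁻¹ = (x ^ (m + 1))⁻¹ := by
    have : n * x ^ (m + 1) * n⁻¹ = (n * x * n⁻¹) ^ (m + 1) := by
      rw [conj_pow]
    rw [this, hinv, inv_pow]
  have hsq : x ^ (m + 1) * x ^ (m + 1) = x := by
    rw [← pow_add]
    have : m + 1 + (m + 1) = (2 * m + 1) + 1 := by ring
    rw [this, pow_succ, hm, one_mul]
  -- n * s = s⁻¹ * n
  have h1 : n * x ^ (m + 1) = (x ^ (m + 1))⁻¹ * n := by
    have := hpow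
    rw [mul_inv_eq_iff_eq_mul] at this
    exact this
  calc n * x = n * (x ^ (m + 1) * x ^ (m + 1)) := by rw [hsq]
    _ = (n * x ^ (m + 1)) * x ^ (m + 1) := by rw [mul_assoc]
    _ = (x ^ (m + 1))⁻¹ * n * x ^ (m + 1) := by rw [h1]

include hD in
/-- every involution is `U`-conjugate into `N` -/
theorem invn_main [Fintype F] (hodd : Odd (Fintype.card F)) (t : GL D.Idx F) (ht : t ∈ D.group F)
    (htt : t * t = 1) :
    ∃ u ∈ D.posUnipotent F, ∃ n ∈ D.monomialSubgroup F, n * n = 1 ∧ t = u * n * u⁻¹ := by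
  classical
  have h45 : ∀ i < D.rank, H45 D F i := fun i hi => Cfsg.Agent.S1045.result D hD i hi
  obtain ⟨P, hB, hN, -⟩ := exists_bnPair D hD F h45
  obtain ⟨b, hb, n0, hn0, v, hv, htbnv⟩ := Cfsg.Agent.Lib.Helper18.bruhat_exists D hD F P hB hN t ht
  obtain ⟨u1, hu1, h1, hh1, hbu⟩ := (mem_borel_iff D hD F b).1 hb
  have hHN : D.diagonalSubgroup F ≤ D.monomialSubgroup F := diagonal_le_monomial D F
  have hHB : D.diagonalSubgroup F ≤ D.borelSubgroup F := by
    unfold ChevalleyDatum.borelSubgroup; exact le_sup_right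
  have hUB : D.posUnipotent F ≤ D.borelSubgroup F := by
    unfold ChevalleyDatum.borelSubgroup; exact le_sup_left
  -- n := h1 * n0
  set n : GL D.Idx F := h1 * n0 with hn_def
  have hn : n ∈ D.monomialSubgroup F := mul_mem (hHN hh1) hn0
  have hvU : v ∈ D.posUnipotent F := uMinus_le_pos D F n0 hv
  -- x := v * u1
  set x : GL D.Idx F := v * u1 with hx_def
  have hxU : x ∈ D.posUnipotent F := mul_mem hvU hu1
  -- t = u1 * (n * x) * u1⁻¹
  have ht1 : t = u1 * (n * x) * u1⁻¹ := by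
    rw [htbnv, ← hbu, hn_def, hx_def]; group
  have hnx : (n * x) * (n * x) = 1 := by
    have : n * x = u1⁻¹ * t * u1 := by rw [ht1]; group
    rw [this]
    calc u1⁻¹ * t * u1 * (u1⁻¹ * t * u1) = u1⁻¹ * (t * t) * u1 := by group
      _ = 1 := by rw [htt]; group
  -- the word of n and the splitting of x
  obtain ⟨l, hl, hconj⟩ := exists_word_conj D hD F n hn
  obtain ⟨a, ha, c, hc, hac⟩ := split_wRoot D hD F l hl x hxU
  have haU : a ∈ D.posUnipotent F := by
    refine (Subgroup.closure_mono ?_ : _ ≤ D.posUnipotent F) ha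
    rintro y ⟨s, t', hs, -, hy⟩
    exact ⟨s, t', hs, hy⟩
  have hcU : c ∈ D.posUnipotent F := by
    refine (Subgroup.closure_mono ?_ : _ ≤ D.posUnipotent F) hc
    rintro y ⟨s, t', hs, -, hy⟩
    exact ⟨s, t', hs, hy⟩
  -- n a n⁻¹ ∈ U
  have hna : n * a * n⁻¹ ∈ D.posUnipotent F := by
    have h3 : (Subgroup.closure {y : GL D.Idx F | ∃ (s : ℕ) (t' : F), D.IsPosRoot s ∧
        D.IsPosRoot (wRoot D l s) ∧ (y : Matrix D.Idx D.Idx F) = D.x F s t'}).map
          (MulAut.conj n).toMonoidHom ≤ D.posUnipotent F := by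
      rw [MonoidHom.map_closure, Subgroup.closure_le]
      rintro _ ⟨y, ⟨s, t', hs, hws, hy⟩, rfl⟩
      have hy' : y = xGL D hD F s t' := Units.ext hy
      obtain ⟨c', -, hc'⟩ := hconj s hs.1
      show n * y * n⁻¹ ∈ D.posUnipotent F
      rw [hy', hc' t']
      unfold ChevalleyDatum.posUnipotent
      exact Subgroup.subset_closure ⟨_, _, hws, rfl⟩
    exact h3 (Subgroup.mem_map_of_mem _ ha)
  -- n c n⁻¹ ∈ V
  have hnc : n * c * n⁻¹ ∈ D.negUnipotent F := by
    have h3 : (Subgroup.closure {y : GL D.Idx F | ∃ (s : ℕ) (t' : F), D.IsPosRoot s ∧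
        D.IsNegRoot (wRoot D l s) ∧ (y : Matrix D.Idx D.Idx F) = D.x F s t'}).map
          (MulAut.conj n).toMonoidHom ≤ D.negUnipotent F := by
      rw [MonoidHom.map_closure, Subgroup.closure_le]
      rintro _ ⟨y, ⟨s, t', hs, hws, hy⟩, rfl⟩
      have hy' : y = xGL D hD F s t' := Units.ext hy
      obtain ⟨c', -, hc'⟩ := hconj s hs.1
      show n * y * n⁻¹ ∈ D.negUnipotent F
      rw [hy', hc' t']
      unfold ChevalleyDatum.negUnipotent
      exact Subgroup.subset_closure ⟨_, _, hws, rfl⟩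
    exact h3 (Subgroup.mem_map_of_mem _ hc)
  -- n * n ∈ H by uniqueness of the Bruhat cell
  have hnnH : n * n ∈ D.diagonalSubgroup F := by
    have hcell1 : n * x ∈ cell D F n := ⟨1, one_mem _, x, hUB hxU, by group⟩
    have hcell2 : n * x ∈ cell D F n⁻¹ := by
      have hinv : n * x = (n * x)⁻¹ := (inv_eq_of_mul_eq_one_left hnx).symm
      refine ⟨x⁻¹, hUB (inv_mem hxU), 1, one_mem _, ?_⟩
      rw [hinv]; group
    have := bruhat_unique' D hD F h45 n n⁻¹ (n * x) hn (inv_mem hn) hcell1 hcell2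
    have h2 : n * n = (n⁻¹ * n⁻¹)⁻¹ := by rw [mul_inv_rev, inv_inv]
    rw [h2]
    exact inv_mem this
  -- the key identity (n a n⁻¹) (n c n⁻¹) (n n) = x⁻¹
  have hkey : (n * a * n⁻¹) * (n * c * n⁻¹) * (n * n) = x⁻¹ := by
    have h1 : (n * a * n⁻¹) * (n * c * n⁻¹) * (n * n) = n * x * n := by rw [hac]; group
    rw [h1]
    have h2 : n * x * n * x = 1 := by rw [← hnx]; group
    exact eq_inv_of_mul_eq_one_left h2
  -- n c n⁻¹ ∈ B ∩ V = 1
  have hnc1 : n * c * n⁻¹ = 1 := by
    have hmemB : n * c * n⁻¹ ∈ D.borelSubgroup F := by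
      have : n * c * n⁻¹ = (n * a * n⁻¹)⁻¹ * x⁻¹ * (n * n)⁻¹ := by rw [← hkey]; group
      rw [this]
      exact mul_mem (mul_mem (inv_mem (hUB hna)) (inv_mem (hUB hxU))) (inv_mem (hHB hnnH))
    have : n * c * n⁻¹ ∈ D.borelSubgroup F ⊓ D.negUnipotent F := ⟨hmemB, hnc⟩
    rw [borel_inf_neg D hD F] at this
    exact Subgroup.mem_bot.1 this
  have hc1 : c = 1 := by
    have : c = n⁻¹ * (n * c * n⁻¹) * n := by group
    rw [this, hnc1]; group
  -- n * n ∈ U ∩ N = 1
  have hnn1 : n * n = 1 := by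
    have hmemU : n * n ∈ D.posUnipotent F := by
      have : n * n = (n * a * n⁻¹)⁻¹ * x⁻¹ := by
        have h := hkey
        rw [hnc1, mul_one] at h
        rw [← h]; group
      rw [this]
      exact mul_mem (inv_mem hna) (inv_mem hxU)
    have : n * n ∈ D.posUnipotent F ⊓ D.monomialSubgroup F := ⟨hmemU, mul_mem hn hn⟩
    rw [pos_inf_monomial D hD F] at this
    exact Subgroup.mem_bot.1 this
  have hxa : x = a := by rw [hac, hc1, mul_one]
  -- n inverts x
  have hinvx : n * x * n⁻¹ = x⁻¹ := by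
    have h := hkey
    rw [hnc1, mul_one, hnn1, mul_one, ← hxa] at h
    exact h
  -- the order of x is odd
  obtain ⟨m, hm⟩ : ∃ m : ℕ, x ^ (2 * m + 1) = 1 := by
    have hcard : Nat.card (D.posUnipotent F) = Fintype.card F ^ (D.nroots / 2) :=
      Cfsg.Agent.S1027.result D hD
    have hoddU : Odd (Nat.card (D.posUnipotent F)) := by rw [hcard]; exact hodd.pow
    obtain ⟨m, hm⟩ := hoddU
    refine ⟨m, ?_⟩
    have h1 : (⟨x, hxU⟩ : D.posUnipotent F) ^ Nat.card (D.posUnipotent F) = 1 := pow_card_eq_one'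
    rw [hm] at h1
    have := congrArg Subtype.val h1
    simpa using this
  have hfin := invn_sqrt n x hnn1 hinvx m hm
  refine ⟨u1 * (x ^ (m + 1))⁻¹, mul_mem hu1 (inv_mem (pow_mem hxU _)), n, hn, hnn1, ?_⟩
  rw [ht1, hfin]; group

end Cfsg.Agent.Lib.Helper13.InvN
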