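import Mathlib
import Cfsg.Agent.Lib.Helper42.OcIdxL
import Cfsg.Agent.Lib.Helper43.ZeroCount

/-!
# Lagrangians and the zero count, in EVERY characteristic (helper13)

A nondegenerate quadratic form `Q` on a `2m`-dimensional space `V` over a finite field with a totally
singular subspace `X` of dimension `m` has the PLUS number of zeros
`(q^m - 1)(q^(m-1) + 1) + 1 = ZZ q 0 1 m`; in particular the standard minus form `minusForm k F a c`
(anisotropic binary part) has no totally singular subspace of dimension `k + 1`.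

Abstract (`QuadraticForm F V`) and characteristic free version of helper42's `idx_card_zeros_of_lagrangian`
(same coset count; uses his `l_card_affine`).
-/

set_option autoImplicit false
set_option linter.style.haveILetI false
set_option linter.unusedSectionVars false

namespace Cfsg.Agent.Lib.Helper13.LagQ

open Module Cfsg.Agent.Lib.Helper44.Oc

section abstract

variable {F : Type*} [Field F] [Fintype F] {V : Type*} [AddCommGroup V] [Module F V]
  [FiniteDimensional F V]

/-- a totally singular subspace of half the dimension is its own orthogonal -/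
theorem orthogonal_eq_self (Q : QuadraticForm F V)
    (hQ : (QuadraticMap.polarBilin Q).Nondegenerate) {m : ℕ} (hdim : finrank F V = 2 * m)
    (X : Submodule F V) (hX : finrank F X = m) (hXQ : ∀ x ∈ X, Q x = 0) :
    LinearMap.BilinForm.orthogonal (QuadraticMap.polarBilin Q : LinearMap.BilinForm F V) X = X := by
  symm
  apply Submodule.eq_of_le_of_finrank_eq
  · intro x hx
    rw [LinearMap.BilinForm.mem_orthogonal_iff]
    intro y hy
    show QuadraticMap.polar Q y x = 0
    unfold QuadraticMap.polar
    rw [hXQ _ (X.add_mem hy hx), hXQ x hx, hXQ y hy]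
    ring
  · rw [LinearMap.BilinForm.finrank_orthogonal hQ, hX, hdim]
    omega

/-- **Lagrangian ⟹ plus zero count**, any characteristic -/
theorem card_zeros_of_lagrangian (Q : QuadraticForm F V)
    (hQ : (QuadraticMap.polarBilin Q).Nondegenerate) {m : ℕ} (hm : 1 ≤ m)
    (hdim : finrank F V = 2 * m) (X : Submodule F V) (hX : finrank F X = m)
    (hXQ : ∀ x ∈ X, Q x = 0) :
    Nat.card {v : V // Q v = 0}
      = (Fintype.card F ^ m - 1) * (Fintype.card F ^ (m - 1) + 1) + 1 := by
  classical
  haveI : Finite V := Module.finite_of_finite F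
  set B : LinearMap.BilinForm F V := QuadraticMap.polarBilin Q with hB
  have hBapp : ∀ u v, B u v = QuadraticMap.polar Q u v := fun u v => rfl
  have hperp : B.orthogonal X = X := orthogonal_eq_self Q hQ hdim X hX hXQ
  have hkey : ∀ v, v ∉ X → ∃ x ∈ X, B v x ≠ 0 := by
    intro v hv
    by_contra h
    simp only [not_exists, not_and, not_not] at h
    apply hv
    rw [← hperp, LinearMap.BilinForm.mem_orthogonal_iff]
    intro y hy
    show B y v = 0
    rw [hBapp, QuadraticMap.polar_comm, ← hBapp]
    exact h y hy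
  have hQadd : ∀ v, ∀ x ∈ X, Q (v + x) = Q v + B v x := by
    intro v x hx
    rw [hBapp]
    unfold QuadraticMap.polar
    rw [hXQ x hx]
    ring
  -- fibres of the quotient map
  have hfib : ∀ v0 : V,
      Nat.card {z : {v : V // Q v = 0} // X.mkQ z.1 = X.mkQ v0}
        = Nat.card {x : X // Q (v0 + x) = 0} := by
    intro v0
    apply Nat.card_congr
    exact
      { toFun := fun z => ⟨⟨z.1.1 - v0, (Submodule.Quotient.eq X).mp z.2⟩, by
          show Q (v0 + (z.1.1 - v0)) = 0
          rw [add_sub_cancel]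
          exact z.1.2⟩
        invFun := fun x => ⟨⟨v0 + x.1.1, x.2⟩, by
          show X.mkQ (v0 + x.1.1) = X.mkQ v0
          rw [Submodule.mkQ_apply, Submodule.mkQ_apply, Submodule.Quotient.eq, add_sub_cancel_left]
          exact x.1.2⟩
        left_inv := fun z => by
          apply Subtype.ext
          apply Subtype.ext
          show v0 + (z.1.1 - v0) = z.1.1
          rw [add_sub_cancel]
        right_inv := fun x => by
          apply Subtype.ext
          apply Subtype.ext
          show v0 + x.1.1 - v0 = x.1.1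
          rw [add_sub_cancel_left] }
  have hcardX : Nat.card X = Fintype.card F ^ m := by
    rw [Module.natCard_eq_pow_finrank (K := F), Nat.card_eq_fintype_card, hX]
  have hg0 : ∀ v0 ∈ X, Nat.card {z : {v : V // Q v = 0} // X.mkQ z.1 = X.mkQ v0}
      = Fintype.card F ^ m := by
    intro v0 hv0
    rw [hfib v0, ← hcardX]
    apply Nat.card_congr
    exact
      { toFun := fun x => x.1
        invFun := fun x => ⟨x, hXQ _ (X.add_mem hv0 x.2)⟩
        left_inv := fun x => rfl
        right_inv := fun x => rfl }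
  have hg1 : ∀ v0 ∉ X, Nat.card {z : {v : V // Q v = 0} // X.mkQ z.1 = X.mkQ v0}
      = Fintype.card F ^ (m - 1) := by
    intro v0 hv0
    rw [hfib v0]
    let φ : X →ₗ[F] F := (B v0).comp X.subtype
    have hφ : φ ≠ 0 := by
      obtain ⟨x, hx, hne⟩ := hkey v0 hv0
      intro h0
      apply hne
      have := LinearMap.congr_fun h0 ⟨x, hx⟩
      exact this
    have := l_card_affine X φ hφ (- Q v0)
    rw [hX] at this
    rw [← this]
    apply Nat.card_congr
    exact
      { toFun := fun x => ⟨x.1, by
          have h1 := hQadd v0 x.1.1 x.1.2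
          have h2 := x.2
          rw [h1] at h2
          show B v0 x.1.1 = - Q v0
          exact eq_neg_of_add_eq_zero_right h2⟩
        invFun := fun x => ⟨x.1, by
          rw [hQadd v0 x.1.1 x.1.2]
          have h2 : B v0 x.1.1 = - Q v0 := x.2
          rw [h2, add_neg_cancel]⟩
        left_inv := fun x => rfl
        right_inv := fun x => rfl }
  -- sum over the cosets
  haveI : Finite (V ⧸ X) := Finite.of_surjective _ X.mkQ_surjective
  haveI : Fintype (V ⧸ X) := Fintype.ofFinite _
  have hsum : Nat.card {v : V // Q v = 0}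
      = ∑ c : V ⧸ X, Nat.card {z : {v : V // Q v = 0} // X.mkQ z.1 = c} := by
    rw [← Nat.card_sigma]
    exact Nat.card_congr (Equiv.sigmaFiberEquiv
      (fun z : {v : V // Q v = 0} => X.mkQ z.1)).symm
  have hcardQ : Fintype.card (V ⧸ X) = Fintype.card F ^ m := by
    have h1 := Submodule.card_eq_card_quotient_mul_card X
    have hpow : Fintype.card F ^ (2 * m) = Fintype.card F ^ m * Fintype.card F ^ m := by
      rw [two_mul, pow_add]
    rw [hcardX, Module.natCard_eq_pow_finrank (K := F) (V := V), Nat.card_eq_fintype_card, hdim,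
      hpow, Nat.card_eq_fintype_card] at h1
    exact (Nat.eq_of_mul_eq_mul_left (Nat.pow_pos Fintype.card_pos) h1).symm
  have hterm : ∀ c : V ⧸ X,
      Nat.card {z : {v : V // Q v = 0} // X.mkQ z.1 = c}
        = if c = 0 then Fintype.card F ^ m else Fintype.card F ^ (m - 1) := by
    intro c
    obtain ⟨v0, rfl⟩ := X.mkQ_surjective c
    by_cases hv0 : v0 ∈ X
    · have : X.mkQ v0 = 0 := by rwa [Submodule.mkQ_apply, Submodule.Quotient.mk_eq_zero]
      rw [if_pos this]
      exact hg0 v0 hv0
    · have : X.mkQ v0 ≠ 0 := by rwa [Submodule.mkQ_apply, Ne, Submodule.Quotient.mk_eq_zero]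
      rw [if_neg this]
      exact hg1 v0 hv0
  rw [hsum, Finset.sum_congr rfl (fun c _ => hterm c),
    ← Finset.add_sum_erase Finset.univ _ (Finset.mem_univ (0 : V ⧸ X)), if_pos rfl,
    Finset.sum_congr rfl (fun c hc => if_neg (Finset.ne_of_mem_erase hc)), Finset.sum_const,
    Finset.card_erase_of_mem (Finset.mem_univ _), Finset.card_univ, hcardQ]
  simp only [smul_eq_mul]
  obtain ⟨j, rfl⟩ : ∃ j, m = j + 1 := ⟨m - 1, by omega⟩
  simp only [Nat.add_sub_cancel]
  have hb : 1 ≤ Fintype.card F ^ (j + 1) := Nat.one_le_pow _ _ Fintype.card_pos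
  obtain ⟨t, ht⟩ : ∃ t, Fintype.card F ^ (j + 1) = t + 1 := ⟨_, (Nat.sub_add_cancel hb).symm⟩
  rw [ht]
  simp only [Nat.add_sub_cancel]
  ring

/-- the same with helper43's `ZZ` -/
theorem card_zeros_of_lagrangian_ZZ (Q : QuadraticForm F V)
    (hQ : (QuadraticMap.polarBilin Q).Nondegenerate) {m : ℕ}
    (hdim : finrank F V = 2 * m) (X : Submodule F V) (hX : finrank F X = m)
    (hXQ : ∀ x ∈ X, Q x = 0) :
    Nat.card {v : V // Q v = 0} = Cfsg.Agent.Lib.Helper43.ZZ (Fintype.card F) 0 1 m := by
  rcases Nat.eq_zero_or_pos m with rfl | hm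
  · -- `V` is trivial
    have hV : Subsingleton V := by
      rw [mul_zero] at hdim
      exact Module.finrank_zero_iff.mp hdim
    rw [Cfsg.Agent.Lib.Helper43.ZZ]
    rw [Nat.card_eq_one_iff_unique]
    exact ⟨⟨fun x y => Subtype.ext (Subsingleton.elim _ _)⟩, ⟨⟨0, map_zero Q⟩⟩⟩
  · obtain ⟨j, rfl⟩ : ∃ j, m = j + 1 := ⟨m - 1, by omega⟩
    rw [card_zeros_of_lagrangian Q hQ hm hdim X hX hXQ,
      Cfsg.Agent.Lib.Helper43.ZZ_plus _ Fintype.card_pos, Nat.add_sub_cancel]

end abstract

section minus

open Cfsg.Agent.Lib.Helper8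

variable {F : Type*} [Field F] [Fintype F]

/-- the standard minus form (anisotropic binary part) has no totally singular subspace of half the
dimension, in any characteristic -/
theorem minusForm_no_lagrangian (a c : F)
    (hac : ∀ z₁ z₂ : F, z₁ ^ 2 + a * z₁ * z₂ + c * z₂ ^ 2 = 0 → z₁ = 0 ∧ z₂ = 0) (k : ℕ)
    (X : Submodule F ((Fin k ⊕ Fin k) ⊕ Fin 2 → F)) (hXQ : ∀ x ∈ X, minusForm k F a c x = 0) :
    finrank F X ≠ k + 1 := by
  intro hX
  have hnd := Cfsg.Agent.Lib.Helper43.ZeroCount.minusForm_nondeg F a c hac k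
  have hdim : finrank F ((Fin k ⊕ Fin k) ⊕ Fin 2 → F) = 2 * (k + 1) := by
    rw [Module.finrank_fintype_fun_eq_card]
    simp
    ring
  have h1 := card_zeros_of_lagrangian_ZZ (minusForm k F a c) hnd hdim X hX hXQ
  rw [Cfsg.Agent.Lib.Helper43.ZeroCount.card_zeros_minus F a c hac k] at h1
  exact Cfsg.Agent.Lib.Helper43.ZZ_plus_ne_minus _ Fintype.one_lt_card k h1.symm

/-- the same for the function `Cfsg.quadFormMinus` -/
theorem quadFormMinus_no_lagrangian (a c : F)
    (hac : ∀ z₁ z₂ : F, z₁ ^ 2 + a * z₁ * z₂ + c * z₂ ^ 2 = 0 → z₁ = 0 ∧ z₂ = 0) (k : ℕ)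
    (X : Submodule F ((Fin k ⊕ Fin k) ⊕ Fin 2 → F))
    (hXQ : ∀ x ∈ X, Cfsg.quadFormMinus k F a c x = 0) :
    finrank F X ≠ k + 1 := by
  apply minusForm_no_lagrangian a c hac k X
  intro x hx
  rw [← minusForm_coe]
  exact hXQ x hx

end minus

end Cfsg.Agent.Lib.Helper13.LagQ
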