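import Cfsg.Agent.Lib.Helper21.Lq.Defs
import Cfsg.Agent.Lib.Helper13.SpParabolic

set_option autoImplicit false

/-!
# Lq hive (helper21, S2333), leaf C-MOVE (helper13): any two root (transvection) subgroups of `Sp_{2m}(F)` with
non-zero centres are conjugate (`Sp` is transitive on non-zero vectors and `g t_{e,c} g⁻¹ = t_{g e, c}`).
-/

namespace Cfsg.Agent.Lib.Helper21.Lq

open Module Cfsg.Agent.Lib.Helper6.Ls Cfsg.Agent.Lib.Helper13

section concrete

variable {F : Type*} [Field F] [Fintype F]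

/-- `g t_{v,c} g⁻¹ = t_{g v, c}` -/
theorem cmove_conj {m : ℕ} (g : Spg F m) (v : Vec F m) (c : F) :
    g * sympTransvElt m v c * g⁻¹ =
      sympTransvElt m (Matrix.mulVec (g : Matrix (Fin m ⊕ Fin m) (Fin m ⊕ Fin m) F) v) c := by
  rw [mul_inv_eq_iff_eq_mul]
  apply Subtype.ext
  show (g : Matrix (Fin m ⊕ Fin m) (Fin m ⊕ Fin m) F) * Cfsg.sympTransvection m v c =
    Cfsg.sympTransvection m (Matrix.mulVec (g : Matrix (Fin m ⊕ Fin m) (Fin m ⊕ Fin m) F) v) c *
      (g : Matrix (Fin m ⊕ Fin m) (Fin m ⊕ Fin m) F)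
  rw [Matrix.ext_iff_mulVec]
  intro x
  rw [← Matrix.mulVec_mulVec, ← Matrix.mulVec_mulVec, sympTransvection_mulVec,
    sympTransvection_mulVec, Matrix.mulVec_add, Matrix.mulVec_smul,
    preserves_of_mem_symplectic m _ g.2]

/-- conjugation by `g` maps the root set of `e` onto that of `g e`. -/
theorem cmove_image_rootSet {m : ℕ} (e : Vec F m) (g : Spg F m) :
    (MulAut.conj g).toMonoidHom '' (rootSet e : Set (Spg F m)) =
      rootSet (Matrix.mulVec (g : Matrix (Fin m ⊕ Fin m) (Fin m ⊕ Fin m) F) e) := by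
  ext z
  constructor
  · rintro ⟨y, ⟨c, rfl⟩, rfl⟩
    exact ⟨c, cmove_conj g e c⟩
  · rintro ⟨c, rfl⟩
    exact ⟨sympTransvElt m e c, ⟨c, rfl⟩, cmove_conj g e c⟩

/-- C-MOVE -/
theorem exists_conj_Zgrp {m : ℕ} (e e' : Vec F m) (he : e ≠ 0) (he' : e' ≠ 0) :
    ∃ g : Spg F m, (Zgrp e).map (MulAut.conj g).toMonoidHom = Zgrp e' := by
  obtain ⟨A, -, hA⟩ := exists_transv_of_ne_zero m e e' he he'
  refine ⟨A, ?_⟩
  unfold Zgrp
  rw [MonoidHom.map_closure, cmove_image_rootSet, hA]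

end concrete

end Cfsg.Agent.Lib.Helper21.Lq
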