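import Cfsg.Agent.Lib.Helper21.Lq.Defs
import Cfsg.Agent.Lib.Helper13.SpParabolic
import Cfsg.Agent.Lib.Helper13.SympGen2

set_option autoImplicit false

/-!
# Lq hive (helper21, S2333), leaf C-TOP (helper13): an irreducible representation of `Sp_{2m}(F)` of degree at least
two is non-trivial on some root (transvection) subgroup, because the transvections generate `Sp`.
-/

namespace Cfsg.Agent.Lib.Helper21.Lq

open Module Cfsg.Agent.Lib.Helper6.Ls Cfsg.Agent.Lib.Helper13

/-- a trivial representation of degree at least two is not irreducible (as in helper5's `LsCTOP`). -/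
theorem ctop_not_irreducible_of_trivial {H : Type*} [Group H] {k : ℕ} (hk : 2 ≤ k)
    (ρ : Representation ℂ H (Fin k → ℂ)) (htriv : ∀ g, ρ g = 1) : ¬ ρ.IsIrreducible := by
  intro hirr
  obtain ⟨i0, hi0⟩ : ∃ i0 : Fin k, i0 = ⟨0, by omega⟩ := ⟨_, rfl⟩
  obtain ⟨i1, hi1⟩ : ∃ i1 : Fin k, i1 = ⟨1, by omega⟩ := ⟨_, rfl⟩
  have hne : i1 ≠ i0 := by
    rw [hi0, hi1]
    intro h
    have := congrArg Fin.val h
    simp at this
  obtain ⟨S, hS⟩ : ∃ S : Subrepresentation ρ,
      S.toSubmodule = Submodule.span ℂ {(Pi.single i0 1 : Fin k → ℂ)} := by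
    refine ⟨⟨Submodule.span ℂ {(Pi.single i0 1 : Fin k → ℂ)}, ?_⟩, rfl⟩
    intro g v hv
    rw [htriv g]
    exact hv
  have hmem : (Pi.single i0 1 : Fin k → ℂ) ∈ S.toSubmodule := by
    rw [hS]
    exact Submodule.subset_span rfl
  rcases hirr.eq_bot_or_eq_top S with h | h
  · have h1 : S.toSubmodule = ⊥ := congrArg Subrepresentation.toSubmodule h
    rw [h1, Submodule.mem_bot] at hmem
    have := congrFun hmem i0
    simp at this
  · have h1 : S.toSubmodule = ⊤ := congrArg Subrepresentation.toSubmodule h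
    have h2 : (Pi.single i1 1 : Fin k → ℂ) ∈ S.toSubmodule := by rw [h1]; trivial
    rw [hS, Submodule.mem_span_singleton] at h2
    obtain ⟨a, ha⟩ := h2
    have := congrFun ha i1
    simp [hne] at this

section concrete

variable {F : Type*} [Field F] [Fintype F]

/-- a homomorphism from `Sp_{2m}(F)` killing all root subgroups is trivial. -/
theorem ctop_ker_top (m : ℕ) {M : Type*} [Monoid M] (φ : Spg F m →* M)
    (hφ : ∀ (e : Vec F m), ∀ z ∈ Zgrp e, φ z = 1) : ∀ g, φ g = 1 := by
  have hle : sympTransvSubgroup F m ≤ φ.ker := by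
    unfold sympTransvSubgroup
    rw [Subgroup.closure_le]
    rintro A ⟨w, c, hA⟩
    show A ∈ φ.ker
    rw [MonoidHom.mem_ker]
    apply hφ w
    apply Subgroup.subset_closure
    exact ⟨c, Subtype.ext hA⟩
  intro g
  have h1 : g ∈ sympTransvSubgroup F m := by
    rw [sympTransvSubgroup_eq_top]
    exact Subgroup.mem_top g
  exact MonoidHom.mem_ker.mp (hle h1)

/-- C-TOP -/
theorem rootNontriv_of_irreducible (m : ℕ) (k : ℕ) (ρ : Representation ℂ (Spg F m) (Fin k → ℂ))
    (hirr : ρ.IsIrreducible) (hk : 2 ≤ k) : RootNontriv ρ := by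
  by_contra hcon
  have htriv : ∀ (e : Vec F m), ∀ z ∈ Zgrp e, ρ z = 1 := by
    intro e z hz
    apply LinearMap.ext
    intro w
    by_contra hne
    exact hcon ⟨e, z, hz, w, Submodule.mem_top, hne⟩
  have hall := ctop_ker_top m (ρ : Spg F m →* Module.End ℂ (Fin k → ℂ)) htriv
  exact ctop_not_irreducible_of_trivial hk ρ hall hirr

end concrete

end Cfsg.Agent.Lib.Helper21.Lq
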