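import Mathlib

set_option autoImplicit false

/-! # McLaughlin's theorem, part A: transvections `tv φ u` as total functions. -/

namespace Cfsg.Agent.Lib.Helper13.McL

open Module

variable {p : ℕ} [Fact p.Prime] {V : Type*} [AddCommGroup V] [Module (ZMod p) V]

/-- The transvection `x ↦ x + φ x • u` (the identity if `φ u ≠ 0`). -/
noncomputable def tv (φ : Dual (ZMod p) V) (u : V) : V ≃ₗ[ZMod p] V :=
  if h : φ u = 0 then LinearEquiv.transvection h else 1

theorem tv_apply {φ : Dual (ZMod p) V} {u : V} (h : φ u = 0) (x : V) :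
    tv φ u x = x + φ x • u := by
  unfold tv
  rw [dif_pos h]
  rfl

theorem tv_zero_left (u : V) : tv (0 : Dual (ZMod p) V) u = 1 := by
  apply LinearEquiv.ext
  intro x
  rw [tv_apply (by simp)]
  simp

theorem tv_zero_right (φ : Dual (ZMod p) V) : tv φ (0 : V) = 1 := by
  apply LinearEquiv.ext
  intro x
  rw [tv_apply (by simp)]
  simp

theorem tv_mul_same_centre {φ φ' : Dual (ZMod p) V} {u : V} (h : φ u = 0) (h' : φ' u = 0) :
    tv φ u * tv φ' u = tv (φ + φ') u := by
  apply LinearEquiv.ext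
  intro x
  have h'' : (φ + φ') u = 0 := by simp [h, h']
  rw [LinearEquiv.mul_apply, tv_apply h', tv_apply h, tv_apply h'']
  simp only [map_add, map_smul, h, smul_eq_mul, mul_zero, add_zero, LinearMap.add_apply]
  module

theorem tv_mul_same_axis {φ : Dual (ZMod p) V} {u u' : V} (h : φ u = 0) (h' : φ u' = 0) :
    tv φ u * tv φ u' = tv φ (u + u') := by
  apply LinearEquiv.ext
  intro x
  have h'' : φ (u + u') = 0 := by simp [h, h']
  rw [LinearEquiv.mul_apply, tv_apply h', tv_apply h, tv_apply h'']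
  simp only [map_add, map_smul, h', smul_eq_mul, mul_zero, add_zero]
  module

theorem tv_inv {φ : Dual (ZMod p) V} {u : V} (h : φ u = 0) : (tv φ u)⁻¹ = tv (-φ) u := by
  have h' : (-φ) u = 0 := by simp [h]
  have : tv φ u * tv (-φ) u = 1 := by
    rw [tv_mul_same_centre h h']
    simp [tv_zero_left]
  exact inv_eq_of_mul_eq_one_right this

theorem tv_pow {φ : Dual (ZMod p) V} {u : V} (h : φ u = 0) (k : ℕ) :
    (tv φ u) ^ k = tv ((k : ZMod p) • φ) u := by
  induction k with
  | zero => simp [tv_zero_left]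
  | succ k ih =>
    have hk : ((k : ZMod p) • φ) u = 0 := by simp [h]
    rw [pow_succ, ih, tv_mul_same_centre hk h]
    congr 1
    push_cast
    module

theorem tv_smul_left (c : ZMod p) (φ : Dual (ZMod p) V) (u : V) (h : φ u = 0) :
    tv (c • φ) u = tv φ (c • u) := by
  apply LinearEquiv.ext
  intro x
  have h1 : (c • φ) u = 0 := by simp [h]
  have h2 : φ (c • u) = 0 := by simp [h]
  rw [tv_apply h1, tv_apply h2]
  simp only [LinearMap.smul_apply, smul_eq_mul]
  module

theorem tv_conj (g : V ≃ₗ[ZMod p] V) {φ : Dual (ZMod p) V} {u : V} (h : φ u = 0) :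
    g * tv φ u * g⁻¹ = tv (φ ∘ₗ (g.symm : V →ₗ[ZMod p] V)) (g u) := by
  apply LinearEquiv.ext
  intro x
  have h1 : (φ ∘ₗ (g.symm : V →ₗ[ZMod p] V)) (g u) = 0 := by simp [h]
  rw [LinearEquiv.mul_apply, LinearEquiv.mul_apply, tv_apply h, tv_apply h1]
  have : g⁻¹ x = g.symm x := rfl
  rw [this]
  simp

theorem tv_eq_one_iff {φ : Dual (ZMod p) V} {u : V} (h : φ u = 0) :
    tv φ u = 1 ↔ φ = 0 ∨ u = 0 := by
  constructor
  · intro h1
    by_contra hcon
    push Not at hcon
    obtain ⟨hφ, hu⟩ := hcon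
    obtain ⟨x, hx⟩ : ∃ x, φ x ≠ 0 := by
      by_contra hall
      push Not at hall
      exact hφ (LinearMap.ext hall)
    have := tv_apply h x
    rw [h1] at this
    have h2 : φ x • u = 0 := by
      have h3 : x = x + φ x • u := this
      have h4 : x + 0 = x + φ x • u := by rw [add_zero]; exact h3
      exact (add_left_cancel h4).symm
    rcases smul_eq_zero.mp h2 with h3 | h3
    · exact hx h3
    · exact hu h3
  · rintro (h1 | h1)
    · rw [h1, tv_zero_left]
    · rw [h1, tv_zero_right]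

theorem tv_comm {φ ψ : Dual (ZMod p) V} {u v : V} (h : φ u = 0) (h' : ψ v = 0)
    (h1 : φ v = 0) (h2 : ψ u = 0) : tv φ u * tv ψ v = tv ψ v * tv φ u := by
  apply LinearEquiv.ext
  intro x
  rw [LinearEquiv.mul_apply, LinearEquiv.mul_apply, tv_apply h', tv_apply h, tv_apply h,
    tv_apply h']
  simp only [map_add, map_smul, h1, h2, smul_eq_mul, mul_zero, add_zero]
  abel

/-- If two transvections agree and the first is nontrivial, the centres are proportional. -/
theorem centre_of_tv_eq {φ φ' : Dual (ZMod p) V} {u u' : V} (h : φ u = 0) (h' : φ' u' = 0)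
    (hφ : φ ≠ 0) (heq : tv φ u = tv φ' u') : ∃ c : ZMod p, u = c • u' := by
  obtain ⟨x, hx⟩ : ∃ x, φ x ≠ 0 := by
    by_contra hall
    push Not at hall
    exact hφ (LinearMap.ext hall)
  have h1 := tv_apply h x
  rw [heq, tv_apply h'] at h1
  have h2 : φ' x • u' = φ x • u := add_left_cancel h1
  refine ⟨(φ x)⁻¹ * φ' x, ?_⟩
  rw [mul_smul, h2, smul_smul, inv_mul_cancel₀ hx, one_smul]

end Cfsg.Agent.Lib.Helper13.McL
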