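import Cfsg.Agent.Lib.Helper13.McLA

set_option autoImplicit false

/-! # McLaughlin's theorem, part B: the system of transvections of a subgroup `H`. -/

namespace Cfsg.Agent.Lib.Helper13.McL

open Module

variable {p : ℕ} [Fact p.Prime] {V : Type*} [AddCommGroup V] [Module (ZMod p) V]

theorem exists_tv_of_hT [Finite V] (t : V ≃ₗ[ZMod p] V) (ho : orderOf t = p)
    (hfix : Module.finrank (ZMod p) ↥(LinearMap.ker ((t : V →ₗ[ZMod p] V) - LinearMap.id)) + 1 =
      Module.finrank (ZMod p) V) :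
    ∃ (φ : Dual (ZMod p) V) (u : V), φ ≠ 0 ∧ u ≠ 0 ∧ φ u = 0 ∧ t = tv φ u := by
  set N : V →ₗ[ZMod p] V := (t : V →ₗ[ZMod p] V) - LinearMap.id with hN
  have hNx : ∀ x, N x = t x - x := fun x => by simp [hN]
  have hrk : Module.finrank (ZMod p) ↥(LinearMap.range N) = 1 := by
    have := LinearMap.finrank_range_add_finrank_ker N
    omega
  obtain ⟨⟨u, hu_mem⟩, hu0, hall⟩ := finrank_eq_one_iff'.mp hrk
  have hu : u ≠ 0 := fun h => hu0 (Subtype.ext h)
  obtain ⟨x₀, hx₀⟩ := hu_mem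
  obtain ⟨ψ, hψ⟩ := Module.Projective.exists_dual_eq_one (ZMod p) hu
  set φ : Dual (ZMod p) V := ψ ∘ₗ N with hφ
  have hNφ : ∀ x, N x = φ x • u := by
    intro x
    obtain ⟨c, hc⟩ := hall ⟨N x, ⟨x, rfl⟩⟩
    have hc' : c • u = N x := congrArg Subtype.val hc
    have : φ x = c := by
      rw [hφ, LinearMap.comp_apply, ← hc', map_smul, hψ, smul_eq_mul, mul_one]
    rw [this, hc']
  have htx : ∀ x, t x = x + φ x • u := by
    intro x
    have := hNφ x
    rw [hNx] at this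
    rw [← this]; abel
  have hφ0 : φ ≠ 0 := by
    intro h
    have : φ x₀ = 1 := by rw [hφ, LinearMap.comp_apply, hx₀, hψ]
    rw [h] at this
    simp at this
  have hpow : ∀ k : ℕ, (t ^ k) u = (1 + φ u) ^ k • u := by
    intro k
    induction k with
    | zero => simp
    | succ k ih =>
      rw [pow_succ', LinearEquiv.mul_apply, ih, map_smul, htx u, pow_succ]
      module
  have htp : t ^ p = 1 := by
    have := pow_orderOf_eq_one t
    rwa [ho] at this
  have h1 := hpow p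
  rw [htp, ZMod.pow_card] at h1
  have h2 : φ u • u = 0 := by
    have : (1 : V ≃ₗ[ZMod p] V) u = u := rfl
    rw [this, add_smul, one_smul] at h1
    have h3 : u + 0 = u + φ u • u := by rw [add_zero]; exact h1
    exact (add_left_cancel h3).symm
  have hφu : φ u = 0 := by
    rcases smul_eq_zero.mp h2 with h | h
    · exact h
    · exact absurd h hu
  refine ⟨φ, u, hφ0, hu, hφu, ?_⟩
  apply LinearEquiv.ext
  intro x
  rw [tv_apply hφu, htx]

variable (H : Subgroup (V ≃ₗ[ZMod p] V))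

/-- The space of axes `φ` such that the transvection with centre `u` and axis `φ` lies in `H`. -/
noncomputable def Phi (u : V) : Submodule (ZMod p) (Dual (ZMod p) V) where
  carrier := {φ | φ u = 0 ∧ tv φ u ∈ H}
  zero_mem' := ⟨by simp, by rw [tv_zero_left]; exact H.one_mem⟩
  add_mem' := fun {a b} ha hb => ⟨by simp [ha.1, hb.1], by
    rw [← tv_mul_same_centre ha.1 hb.1]; exact H.mul_mem ha.2 hb.2⟩
  smul_mem' := fun c a ha => ⟨by simp [ha.1], by
    haveI : NeZero p := ⟨(Fact.out : p.Prime).ne_zero⟩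
    have hc : c = ((c.val : ℕ) : ZMod p) := (ZMod.natCast_zmod_val c).symm
    rw [hc, ← tv_pow ha.1]; exact H.pow_mem ha.2 _⟩

variable {H}

theorem mem_Phi {u : V} {φ : Dual (ZMod p) V} : φ ∈ Phi H u ↔ φ u = 0 ∧ tv φ u ∈ H := Iff.rfl

theorem Phi_apply_self {u : V} {φ : Dual (ZMod p) V} (h : φ ∈ Phi H u) : φ u = 0 := h.1

theorem tv_mem_of_mem_Phi {u : V} {φ : Dual (ZMod p) V} (h : φ ∈ Phi H u) : tv φ u ∈ H := h.2

theorem Phi_smul {c : ZMod p} (hc : c ≠ 0) (u : V) : Phi H (c • u) = Phi H u := by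
  ext φ
  constructor
  · intro h
    have h1 : φ u = 0 := by
      have := h.1
      rw [map_smul, smul_eq_mul] at this
      rcases mul_eq_zero.mp this with h' | h'
      · exact absurd h' hc
      · exact h'
    have h2 : c • φ ∈ Phi H u := by
      refine ⟨by simp [h1], ?_⟩
      rw [tv_smul_left c φ u h1]
      exact h.2
    have := (Phi H u).smul_mem c⁻¹ h2
    rwa [smul_smul, inv_mul_cancel₀ hc, one_smul] at this
  · intro h
    have h1 : φ u = 0 := h.1
    refine ⟨by simp [h1], ?_⟩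
    rw [← tv_smul_left c φ u h1]
    exact ((Phi H u).smul_mem c h).2

theorem Phi_conj {h : V ≃ₗ[ZMod p] V} (hh : h ∈ H) {u : V} {φ : Dual (ZMod p) V}
    (hφ : φ ∈ Phi H u) : φ ∘ₗ (h.symm : V →ₗ[ZMod p] V) ∈ Phi H (h u) := by
  refine ⟨by simp [hφ.1], ?_⟩
  rw [← tv_conj h hφ.1]
  exact H.mul_mem (H.mul_mem hh hφ.2) (H.inv_mem hh)

theorem Phi_conj_iff {h : V ≃ₗ[ZMod p] V} (hh : h ∈ H) {u : V} {ψ : Dual (ZMod p) V} :
    ψ ∈ Phi H (h u) ↔ ψ ∘ₗ (h : V →ₗ[ZMod p] V) ∈ Phi H u := by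
  constructor
  · intro hψ
    have := Phi_conj (H.inv_mem hh) hψ
    have e1 : h⁻¹ (h u) = u := by
      show h.symm (h u) = u
      simp
    have e2 : ((h⁻¹).symm : V →ₗ[ZMod p] V) = (h : V →ₗ[ZMod p] V) := by
      ext x; rfl
    rwa [e1, e2] at this
  · intro hψ
    have := Phi_conj hh hψ
    have e : (ψ ∘ₗ (h : V →ₗ[ZMod p] V)) ∘ₗ (h.symm : V →ₗ[ZMod p] V) = ψ := by
      ext x; simp
    rwa [e] at this

/-- Conjugating `(u, φ)` by the transvection `(v, ψ)`. -/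
theorem Phi_conj_tv {u v : V} {φ ψ : Dual (ZMod p) V} (hφ : φ ∈ Phi H u) (hψ : ψ ∈ Phi H v) :
    φ - φ v • ψ ∈ Phi H (u + ψ u • v) := by
  have h1 := Phi_conj hψ.2 hφ
  have e1 : tv ψ v u = u + ψ u • v := tv_apply hψ.1 u
  have e2 : φ ∘ₗ ((tv ψ v).symm : V →ₗ[ZMod p] V) = φ - φ v • ψ := by
    ext x
    have hinv : (tv ψ v).symm x = (tv ψ v)⁻¹ x := rfl
    have hneg : (-ψ) v = 0 := by simp [hψ.1]
    simp only [LinearMap.comp_apply, LinearEquiv.coe_coe, LinearMap.sub_apply,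
      LinearMap.smul_apply, smul_eq_mul]
    rw [hinv, tv_inv hψ.1, tv_apply hneg]
    simp only [LinearMap.neg_apply, map_add, map_smul, smul_eq_mul]
    ring
  rwa [e1, e2] at h1

theorem Phi_S4 {u v : V} {φ ψ : Dual (ZMod p) V} (hφ : φ ∈ Phi H u) (hψ : ψ ∈ Phi H v)
    (h1 : ψ u = 0) (h2 : φ v ≠ 0) : ψ ∈ Phi H u := by
  have h := Phi_conj_tv hφ hψ
  rw [h1, zero_smul, add_zero] at h
  have h3 : φ v • ψ ∈ Phi H u := by
    have := (Phi H u).sub_mem hφ h
    rwa [sub_sub_cancel] at this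
  have := (Phi H u).smul_mem (φ v)⁻¹ h3
  rwa [smul_smul, inv_mul_cancel₀ h2, one_smul] at this

theorem Phi_F1 {u v : V} {φ ψ : Dual (ZMod p) V} (hφ : φ ∈ Phi H u) (hψ : ψ ∈ Phi H v)
    (h1 : φ v + ψ u = 0) (h2 : ψ u ≠ 0) (c : ZMod p) : φ + c • ψ ∈ Phi H (u + c • v) := by
  have hk : (c * (ψ u)⁻¹) • ψ ∈ Phi H v := (Phi H v).smul_mem _ hψ
  have h := Phi_conj_tv hφ hk
  have e1 : ((c * (ψ u)⁻¹) • ψ) u • v = c • v := by
    rw [LinearMap.smul_apply, smul_eq_mul, mul_assoc, inv_mul_cancel₀ h2, mul_one]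
  have e2 : φ - φ v • (c * (ψ u)⁻¹) • ψ = φ + c • ψ := by
    have hφv : φ v = - ψ u := by
      have := h1
      exact eq_neg_of_add_eq_zero_left this
    rw [hφv, smul_smul]
    have : -ψ u * (c * (ψ u)⁻¹) = -c := by
      field_simp
    rw [this]
    module
  rwa [e1, e2] at h

variable (H)

/-- `u ⊥→ v`: every axis of `u` kills `v`. -/
def Perp (u v : V) : Prop := ∀ φ ∈ Phi H u, φ v = 0

/-- hyperbolic pair of centres -/
def Hyp (u v : V) : Prop := u ≠ 0 ∧ v ≠ 0 ∧ ¬ Perp H u v ∧ ¬ Perp H v u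

/-- `u` is a centre of a nontrivial transvection of `H`. -/
def IsC (u : V) : Prop := u ≠ 0 ∧ ∃ φ ∈ Phi H u, φ ≠ 0

variable {H}

theorem Hyp.symm {u v : V} (h : Hyp H u v) : Hyp H v u := ⟨h.2.1, h.1, h.2.2.2, h.2.2.1⟩

theorem Hyp.isC_left {u v : V} (h : Hyp H u v) : IsC H u := by
  refine ⟨h.1, ?_⟩
  have := h.2.2.1
  unfold Perp at this
  push Not at this
  obtain ⟨φ, hφ, hφv⟩ := this
  exact ⟨φ, hφ, fun h0 => hφv (by rw [h0]; rfl)⟩

theorem Hyp.isC_right {u v : V} (h : Hyp H u v) : IsC H v := h.symm.isC_left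

theorem not_perp_iff {u v : V} : ¬ Perp H u v ↔ ∃ φ ∈ Phi H u, φ v ≠ 0 := by
  unfold Perp
  push Not
  rfl

theorem perp_smul_right {u v : V} (c : ZMod p) (h : Perp H u v) : Perp H u (c • v) := by
  intro φ hφ
  rw [map_smul, h φ hφ, smul_zero]

theorem perp_add_right {u v w : V} (h : Perp H u v) (h' : Perp H u w) : Perp H u (v + w) := by
  intro φ hφ
  rw [map_add, h φ hφ, h' φ hφ, add_zero]

theorem perp_self (u : V) : Perp H u u := fun _ hφ => hφ.1

theorem perp_conj {h : V ≃ₗ[ZMod p] V} (hh : h ∈ H) {u v : V} :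
    Perp H (h u) (h v) ↔ Perp H u v := by
  constructor
  · intro hp φ hφ
    have := hp _ (Phi_conj hh hφ)
    simpa using this
  · intro hp ψ hψ
    have := hp _ ((Phi_conj_iff hh).mp hψ)
    simpa using this

theorem hyp_conj {h : V ≃ₗ[ZMod p] V} (hh : h ∈ H) {u v : V} :
    Hyp H (h u) (h v) ↔ Hyp H u v := by
  unfold Hyp
  rw [perp_conj hh, perp_conj hh]
  simp

theorem isC_conj {h : V ≃ₗ[ZMod p] V} (hh : h ∈ H) {u : V} (hu : IsC H u) : IsC H (h u) := by
  obtain ⟨hu0, φ, hφ, hφ0⟩ := hu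
  refine ⟨by simpa using hu0, φ ∘ₗ (h.symm : V →ₗ[ZMod p] V), Phi_conj hh hφ, ?_⟩
  intro h0
  apply hφ0
  ext x
  have := LinearMap.congr_fun h0 (h x)
  simpa using this

/-- Two non-vanishing conditions can be met simultaneously. -/
theorem exists_phi_two {u v w : V} (h1 : ¬ Perp H u v) (h2 : ¬ Perp H u w) :
    ∃ φ ∈ Phi H u, φ v ≠ 0 ∧ φ w ≠ 0 := by
  obtain ⟨a, ha, hav⟩ := not_perp_iff.mp h1
  obtain ⟨b, hb, hbw⟩ := not_perp_iff.mp h2
  by_cases h3 : a w = 0
  · by_cases h4 : b v = 0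
    · refine ⟨a + b, (Phi H u).add_mem ha hb, ?_, ?_⟩
      · rw [LinearMap.add_apply, h4, add_zero]; exact hav
      · rw [LinearMap.add_apply, h3, zero_add]; exact hbw
    · exact ⟨b, hb, h4, hbw⟩
  · exact ⟨a, ha, hav, h3⟩

/-- special pairs give strict inclusion of axis spaces -/
theorem Phi_lt_of_special {u v : V} (h1 : ¬ Perp H u v) (h2 : Perp H v u) :
    Phi H v < Phi H u := by
  obtain ⟨φ, hφ, hφv⟩ := not_perp_iff.mp h1
  refine lt_of_le_of_ne ?_ ?_
  · intro ψ hψ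
    exact Phi_S4 hφ hψ (h2 ψ hψ) hφv
  · intro heq
    rw [← heq] at hφ
    exact hφv hφ.1

variable (H)

/-- connectedness in the hyperbolic graph -/
def Conn (u v : V) : Prop := Relation.ReflTransGen (Hyp H) u v

variable {H}

theorem Conn.refl (u : V) : Conn H u u := Relation.ReflTransGen.refl

theorem Conn.symm {u v : V} (h : Conn H u v) : Conn H v u := by
  unfold Conn at *
  induction h with
  | refl => exact Relation.ReflTransGen.refl
  | tail _ hab ih => exact Relation.ReflTransGen.head hab.symm ih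

theorem Conn.trans {u v w : V} (h : Conn H u v) (h' : Conn H v w) : Conn H u w :=
  Relation.ReflTransGen.trans h h'

theorem Conn.of_hyp {u v : V} (h : Hyp H u v) : Conn H u v := Relation.ReflTransGen.single h

theorem conn_conj {h : V ≃ₗ[ZMod p] V} (hh : h ∈ H) {u v : V} (hc : Conn H u v) :
    Conn H (h u) (h v) := by
  unfold Conn at *
  induction hc with
  | refl => exact Relation.ReflTransGen.refl
  | tail _ hab ih => exact Relation.ReflTransGen.tail ih ((hyp_conj hh).mpr hab)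

end Cfsg.Agent.Lib.Helper13.McL
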