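import Cfsg.Agent.Lib.Helper13.McLB
import Cfsg.Prelude.Def_Solvable

set_option autoImplicit false

/-! # McLaughlin's theorem, part C: unipotent normal subgroups are trivial. -/

namespace Cfsg.Agent.Lib.Helper13.McL

open Module

variable {p : ℕ} [Fact p.Prime] {V : Type*} [AddCommGroup V] [Module (ZMod p) V]

theorem nsmul_p_eq_zero (x : V) : (p : ℕ) • x = 0 := by
  rw [← Nat.cast_smul_eq_nsmul (ZMod p) p x, ZMod.natCast_self, zero_smul]

theorem pow_apply_of_chain (g : V ≃ₗ[ZMod p] V) (v : V)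
    (h3 : g (g (g v - v) - (g v - v)) = g (g v - v) - (g v - v)) (k : ℕ) :
    (g ^ k) v = v + k • (g v - v) + (k.choose 2) • (g (g v - v) - (g v - v)) := by
  induction k with
  | zero => simp
  | succ k ih =>
    rw [pow_succ', LinearEquiv.mul_apply, ih, map_add, map_add, map_nsmul, map_nsmul, h3]
    have hc : (k + 1).choose 2 = k + k.choose 2 := by
      rw [show 2 = 1 + 1 from rfl, Nat.choose_succ_succ, Nat.choose_one_right]
    rw [hc]
    set a := g v - v with ha
    set b := g a - a with hb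
    have e1 : g v = v + a := by rw [ha]; abel
    have e2 : g a = a + b := by rw [hb]; abel
    rw [e1, e2]
    simp only [add_smul, smul_add, one_smul]
    abel

theorem pow_p_eq_one_of_chain (hp : Odd p) (g : V ≃ₗ[ZMod p] V) (X Y : Submodule (ZMod p) V)
    (h1 : ∀ v, g v - v ∈ X) (h2 : ∀ x ∈ X, g x - x ∈ Y) (h3 : ∀ y ∈ Y, g y = y) :
    g ^ p = 1 := by
  apply LinearEquiv.ext
  intro v
  have h3' : g (g (g v - v) - (g v - v)) = g (g v - v) - (g v - v) :=
    h3 _ (h2 _ (h1 v))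
  rw [pow_apply_of_chain g v h3' p]
  have hpp : p.Prime := Fact.out
  have h2p : p ∣ p.choose 2 := by
    apply hpp.dvd_choose_self (by norm_num)
    have : 2 ≤ p := hpp.two_le
    rcases hp with ⟨m, hm⟩
    omega
  obtain ⟨m, hm⟩ := h2p
  have e1 : (p.choose 2) • (g (g v - v) - (g v - v)) = 0 := by
    rw [hm, mul_comm, mul_smul, nsmul_p_eq_zero (p := p), smul_zero]
  rw [e1, nsmul_p_eq_zero (p := p)]
  simp

variable {H : Subgroup (V ≃ₗ[ZMod p] V)}

/-- An element of `H` stabilising an `H`-invariant chain `0 ≤ Y ≤ X ≤ V` and acting trivially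
on the factors is trivial when `O_p(H) = 1`. -/
theorem chain_trivial (hp : Odd p) (hOp : Cfsg.pCore p ↥H = ⊥) (X Y : Submodule (ZMod p) V)
    (hYX : Y ≤ X)
    (hX : ∀ h ∈ H, ∀ x ∈ X, h x ∈ X) (hY : ∀ h ∈ H, ∀ y ∈ Y, h y ∈ Y)
    {g : V ≃ₗ[ZMod p] V} (hg : g ∈ H)
    (h1 : ∀ v, g v - v ∈ X) (h2 : ∀ x ∈ X, g x - x ∈ Y) (h3 : ∀ y ∈ Y, g y = y) : g = 1 := by
  -- the chain stabiliser
  let N : Subgroup ↥H :=
    { carrier := {g | (∀ v, (g : V ≃ₗ[ZMod p] V) v - v ∈ X) ∧
        (∀ x ∈ X, (g : V ≃ₗ[ZMod p] V) x - x ∈ Y) ∧ (∀ y ∈ Y, (g : V ≃ₗ[ZMod p] V) y = y)}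
      one_mem' := by
        refine ⟨fun v => ?_, fun x _ => ?_, fun y _ => rfl⟩
        · show (1 : V ≃ₗ[ZMod p] V) v - v ∈ X
          simp
        · show (1 : V ≃ₗ[ZMod p] V) x - x ∈ Y
          simp
      mul_mem' := by
        rintro ⟨a, ha⟩ ⟨b, hb⟩ ⟨a1, a2, a3⟩ ⟨b1, b2, b3⟩
        refine ⟨fun v => ?_, fun x hx => ?_, fun y hy => ?_⟩
        · show (a * b) v - v ∈ X
          rw [LinearEquiv.mul_apply]
          have : a (b v) - v = (a (b v) - b v) + (b v - v) := by abel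
          rw [this]
          exact X.add_mem (a1 _) (b1 _)
        · show (a * b) x - x ∈ Y
          rw [LinearEquiv.mul_apply]
          have hbx : b x ∈ X := hX b hb x hx
          have : a (b x) - x = (a (b x) - b x) + (b x - x) := by abel
          rw [this]
          exact Y.add_mem (a2 _ hbx) (b2 _ hx)
        · show (a * b) y = y
          rw [LinearEquiv.mul_apply]
          have e1 : b y = y := b3 y hy
          have e2 : a y = y := a3 y hy
          rw [e1, e2]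
      inv_mem' := by
        rintro ⟨a, ha⟩ ⟨a1, a2, a3⟩
        have hinv : ∀ v, a⁻¹ v - v = -(a (a⁻¹ v) - a⁻¹ v) := by
          intro v
          have : a (a⁻¹ v) = v := by
            show a (a.symm v) = v
            simp
          rw [this]; abel
        refine ⟨fun v => ?_, fun x hx => ?_, fun y hy => ?_⟩
        · show a⁻¹ v - v ∈ X
          rw [hinv]
          exact X.neg_mem (a1 _)
        · show a⁻¹ x - x ∈ Y
          rw [hinv]
          have : a⁻¹ x ∈ X := hX _ (H.inv_mem ha) x hx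
          exact Y.neg_mem (a2 _ this)
        · show a⁻¹ y = y
          have : a y = y := a3 y hy
          have h' : a⁻¹ (a y) = y := by
            show a.symm (a y) = y
            simp
          rw [this] at h'
          exact h' }
  have hNn : N.Normal := by
    constructor
    rintro ⟨a, ha⟩ ⟨a1, a2, a3⟩ ⟨h, hh⟩
    have hinv : ∀ v, h (h⁻¹ v) = v := by
      intro v
      show h (h.symm v) = v
      simp
    have hX' : ∀ x ∈ X, h⁻¹ x ∈ X := fun x hx => hX _ (H.inv_mem hh) x hx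
    have hY' : ∀ y ∈ Y, h⁻¹ y ∈ Y := fun y hy => hY _ (H.inv_mem hh) y hy
    refine ⟨fun v => ?_, fun x hx => ?_, fun y hy => ?_⟩
    · show (h * a * h⁻¹) v - v ∈ X
      rw [LinearEquiv.mul_apply, LinearEquiv.mul_apply]
      have : h (a (h⁻¹ v)) - v = h (a (h⁻¹ v) - h⁻¹ v) := by
        rw [map_sub, hinv]
      rw [this]
      exact hX h hh _ (a1 _)
    · show (h * a * h⁻¹) x - x ∈ Y
      rw [LinearEquiv.mul_apply, LinearEquiv.mul_apply]
      have : h (a (h⁻¹ x)) - x = h (a (h⁻¹ x) - h⁻¹ x) := by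
        rw [map_sub, hinv]
      rw [this]
      exact hY h hh _ (a2 _ (hX' x hx))
    · show (h * a * h⁻¹) y = y
      rw [LinearEquiv.mul_apply, LinearEquiv.mul_apply]
      have : a (h⁻¹ y) = h⁻¹ y := a3 _ (hY' y hy)
      rw [this, hinv]
  have hNp : IsPGroup p N := by
    rintro ⟨⟨a, ha⟩, a1, a2, a3⟩
    refine ⟨1, ?_⟩
    apply Subtype.ext
    apply Subtype.ext
    show a ^ (p ^ 1) = 1
    rw [pow_one]
    exact pow_p_eq_one_of_chain hp a X Y a1 a2 a3
  have hle : N ≤ Cfsg.pCore p ↥H := le_sSup ⟨hNn, hNp⟩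
  rw [hOp] at hle
  have hmem : (⟨g, hg⟩ : ↥H) ∈ N := ⟨h1, h2, h3⟩
  have := hle hmem
  rw [Subgroup.mem_bot] at this
  exact congrArg Subtype.val this

/-- two-step version -/
theorem chain_trivial₂ (hp : Odd p) (hOp : Cfsg.pCore p ↥H = ⊥) (X : Submodule (ZMod p) V)
    (hX : ∀ h ∈ H, ∀ x ∈ X, h x ∈ X)
    {g : V ≃ₗ[ZMod p] V} (hg : g ∈ H)
    (h1 : ∀ v, g v - v ∈ X) (h2 : ∀ x ∈ X, g x = x) : g = 1 := by
  refine chain_trivial hp hOp X ⊥ bot_le hX ?_ hg h1 ?_ ?_
  · intro h _ y hy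
    rw [Submodule.mem_bot] at hy ⊢
    rw [hy, map_zero]
  · intro x hx
    rw [h2 x hx, sub_self]
    exact Submodule.zero_mem _
  · intro y hy
    rw [Submodule.mem_bot] at hy
    rw [hy, map_zero]

section finrank

variable [Finite V]

theorem finrank_Phi_conj {h : V ≃ₗ[ZMod p] V} (hh : h ∈ H) (u : V) :
    Module.finrank (ZMod p) ↥(Phi H (h u)) = Module.finrank (ZMod p) ↥(Phi H u) := by
  -- `Phi H (h u)` is the image of `Phi H u` under the dual of `h.symm`
  have e : Phi H (h u) = (Phi H u).map (h.symm.dualMap : Dual (ZMod p) V →ₗ[ZMod p] Dual (ZMod p) V) := by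
    ext ψ
    rw [Phi_conj_iff hh, Submodule.mem_map]
    constructor
    · intro hψ
      refine ⟨_, hψ, ?_⟩
      ext x
      simp [LinearEquiv.dualMap_apply]
    · rintro ⟨φ, hφ, rfl⟩
      have : (h.symm.dualMap φ) ∘ₗ (h : V →ₗ[ZMod p] V) = φ := by
        ext x
        simp [LinearEquiv.dualMap_apply]
      rw [LinearEquiv.coe_coe, this]
      exact hφ
  rw [e]
  exact LinearEquiv.finrank_map_eq (h.symm.dualMap) (Phi H u)

theorem exists_conj_of_hyp {u v : V} (h : Hyp H u v) :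
    ∃ g ∈ H, ∃ c : ZMod p, c ≠ 0 ∧ g u = c • v := by
  obtain ⟨hu, hv, h1, h2⟩ := h
  obtain ⟨φ, hφ, hφv⟩ := not_perp_iff.mp h1
  obtain ⟨ψ, hψ, hψu⟩ := not_perp_iff.mp h2
  -- g = tv (m φ) u * tv ψ v with m = -1/(ψ u φ v)
  set m : ZMod p := -(ψ u * φ v)⁻¹ with hm
  have hmφ : m • φ ∈ Phi H u := (Phi H u).smul_mem m hφ
  refine ⟨tv (m • φ) u * tv ψ v, H.mul_mem hmφ.2 hψ.2, ψ u, hψu, ?_⟩
  rw [LinearEquiv.mul_apply, tv_apply hψ.1, tv_apply hmφ.1]
  simp only [map_add, map_smul, LinearMap.smul_apply, smul_eq_mul, hφ.1, mul_zero, zero_add]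
  have : ψ u * (m * φ v) = -1 := by
    rw [hm]
    field_simp
  rw [this]
  module

theorem finrank_Phi_of_hyp {u v : V} (h : Hyp H u v) :
    Module.finrank (ZMod p) ↥(Phi H u) = Module.finrank (ZMod p) ↥(Phi H v) := by
  obtain ⟨g, hg, c, hc, hgu⟩ := exists_conj_of_hyp h
  rw [← finrank_Phi_conj hg u, hgu, Phi_smul hc]

theorem finrank_Phi_of_conn {u v : V} (h : Conn H u v) :
    Module.finrank (ZMod p) ↥(Phi H u) = Module.finrank (ZMod p) ↥(Phi H v) := by
  unfold Conn at h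
  induction h with
  | refl => rfl
  | tail _ hab ih => rw [ih, finrank_Phi_of_hyp hab]

/-- within a connected component, `⊥→` is symmetric -/
theorem perp_symm_of_conn {u v : V} (h : Conn H u v) (h1 : Perp H u v) : Perp H v u := by
  by_contra h2
  have hlt := Phi_lt_of_special h2 h1
  have := Submodule.finrank_lt_finrank_of_lt hlt
  rw [finrank_Phi_of_conn h] at this
  exact lt_irrefl _ this

theorem perp_iff_of_conn {u v : V} (h : Conn H u v) : Perp H u v ↔ Perp H v u :=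
  ⟨perp_symm_of_conn h, perp_symm_of_conn h.symm⟩

theorem hyp_of_not_perp {u v : V} (hu : u ≠ 0) (hv : v ≠ 0) (h : Conn H u v)
    (h1 : ¬ Perp H u v) : Hyp H u v :=
  ⟨hu, hv, h1, fun h2 => h1 (perp_symm_of_conn h.symm h2)⟩

end finrank

end Cfsg.Agent.Lib.Helper13.McL
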