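import Cfsg.Agent.Lib.Helper13.McLC

set_option autoImplicit false

/-! # McLaughlin's theorem, part D: components of the hyperbolic graph. -/

namespace Cfsg.Agent.Lib.Helper13.McL

open Module

variable {p : ℕ} [Fact p.Prime] {V : Type*} [AddCommGroup V] [Module (ZMod p) V]

/-- standing hypotheses -/
structure Setup (p : ℕ) [Fact p.Prime] {V : Type*} [AddCommGroup V] [Module (ZMod p) V]
    (H : Subgroup (V ≃ₗ[ZMod p] V)) : Prop where
  odd : Odd p
  core : Cfsg.pCore p ↥H = ⊥
  gen : H = Subgroup.closure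
    {t | t ∈ H ∧ ∃ (φ : Dual (ZMod p) V) (u : V), φ u = 0 ∧ t = tv φ u}

variable {H : Subgroup (V ≃ₗ[ZMod p] V)}

theorem conn_ne_zero {e u : V} (he : e ≠ 0) (h : Conn H e u) : u ≠ 0 := by
  unfold Conn at h
  induction h with
  | refl => exact he
  | tail _ hab _ => exact hab.2.1

theorem conn_isC {e u : V} (he : IsC H e) (h : Conn H e u) : IsC H u := by
  unfold Conn at h
  induction h with
  | refl => exact he
  | tail _ hab _ => exact hab.isC_right

theorem two_ne_zero' (hp : Odd p) : (2 : ZMod p) ≠ 0 := by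
  intro h
  have h2 : ((2 : ℕ) : ZMod p) = 0 := by exact_mod_cast h
  rw [ZMod.natCast_eq_zero_iff] at h2
  have hpp : p.Prime := Fact.out
  have : p = 2 := (Nat.prime_dvd_prime_iff_eq hpp Nat.prime_two).mp h2
  rw [this] at hp
  exact absurd hp (by decide)

variable [Finite V]

theorem exists_hyp_of_isC (hS : Setup p H) {u : V} (hu : IsC H u) : ∃ v, Hyp H u v := by
  by_contra hcon
  push Not at hcon
  set I : Set V := {w | IsC H w ∧ ∀ v, ¬ Hyp H w v} with hI
  have hIne : I.Nonempty := ⟨u, hu, hcon⟩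
  obtain ⟨u₀, hu₀I, hmin⟩ := Set.exists_min_image I
    (fun w => Module.finrank (ZMod p) ↥(Phi H w)) (Set.toFinite I) hIne
  have hperp : ∀ w ∈ I, Perp H u₀ w := by
    intro w hw
    by_contra h1
    have h2 : Perp H w u₀ := by
      by_contra h2
      exact hu₀I.2 w ⟨hu₀I.1.1, hw.1.1, h1, h2⟩
    have hlt := Submodule.finrank_lt_finrank_of_lt (Phi_lt_of_special h1 h2)
    have := hmin w hw
    omega
  have hIinv : ∀ h ∈ H, ∀ w ∈ I, h w ∈ I := by
    intro h hh w hw
    refine ⟨isC_conj hh hw.1, ?_⟩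
    intro v hv
    have : Hyp H (h w) (h (h⁻¹ v)) := by
      have e : h (h⁻¹ v) = v := by
        show h (h.symm v) = v
        simp
      rw [e]; exact hv
    exact hw.2 _ ((hyp_conj hh).mp this)
  set X := Submodule.span (ZMod p) I with hX
  have hXinv : ∀ h ∈ H, ∀ x ∈ X, h x ∈ X := by
    intro h hh x hx
    induction hx using Submodule.span_induction with
    | mem x hx => exact Submodule.subset_span (hIinv h hh x hx)
    | zero => simp
    | add a b _ _ ha hb => rw [map_add]; exact X.add_mem ha hb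
    | smul c a _ ha => rw [map_smul]; exact X.smul_mem c ha
  obtain ⟨φ, hφ, hφ0⟩ := hu₀I.1.2
  have hkill : ∀ x ∈ X, φ x = 0 := by
    intro x hx
    induction hx using Submodule.span_induction with
    | mem x hx => exact hperp x hx φ hφ
    | zero => simp
    | add a b _ _ ha hb => rw [map_add, ha, hb, add_zero]
    | smul c a _ ha => rw [map_smul, ha, smul_zero]
  have h1 : tv φ u₀ = 1 := by
    refine chain_trivial₂ hS.odd hS.core X hXinv hφ.2 ?_ ?_
    · intro v
      rw [tv_apply hφ.1]
      simp only [add_sub_cancel_left]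
      exact X.smul_mem _ (Submodule.subset_span hu₀I)
    · intro x hx
      rw [tv_apply hφ.1, hkill x hx, zero_smul, add_zero]
  rcases (tv_eq_one_iff hφ.1).mp h1 with h | h
  · exact hφ0 h
  · exact hu₀I.1.1 h

/-- a generator maps the component of `e` into itself -/
theorem comp_gen_forward (hS : Setup p H) {e : V} (he : IsC H e) {v : V}
    {ψ : Dual (ZMod p) V} (hψ : ψ ∈ Phi H v) {u : V} (hu : Conn H e u) :
    Conn H e (tv ψ v u) := by
  have htu : tv ψ v u = u + ψ u • v := tv_apply hψ.1 u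
  by_cases hψu : ψ u = 0
  · rw [htu, hψu, zero_smul, add_zero]; exact hu
  by_cases hv0 : v = 0
  · rw [htu, hv0, smul_zero, add_zero]; exact hu
  by_cases hv : Conn H e v
  · have h1 : Conn H (tv ψ v u) (tv ψ v v) := conn_conj hψ.2 (hu.symm.trans hv)
    have h2 : tv ψ v v = v := by rw [tv_apply hψ.1, hψ.1, zero_smul, add_zero]
    rw [h2] at h1
    exact hv.trans h1.symm
  · have hu0 : u ≠ 0 := conn_ne_zero he.1 hu
    have hnvu : ¬ Perp H v u := fun h => hψu (h ψ hψ)
    have hpuv : Perp H u v := by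
      by_contra h
      exact hv (hu.trans (Conn.of_hyp ⟨hu0, hv0, h, hnvu⟩))
    obtain ⟨r, hr⟩ := exists_hyp_of_isC hS (conn_isC he hu)
    have hsub : ∀ φ ∈ Phi H u, φ ∈ Phi H (tv ψ v u) := by
      intro φ hφ
      have := Phi_conj_tv hφ hψ
      rw [hpuv φ hφ, zero_smul, sub_zero] at this
      rw [htu]; exact this
    have htu0 : tv ψ v u ≠ 0 := by
      intro h
      apply hu0
      have := (tv ψ v).injective (h.trans (map_zero _).symm)
      exact this
    have hcr : Conn H e r := hu.trans (Conn.of_hyp hr)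
    by_cases hψr : ψ r = 0
    · have h2 : tv ψ v r = r := by rw [tv_apply hψ.1, hψr, zero_smul, add_zero]
      have h3 : Hyp H (tv ψ v u) (tv ψ v r) := (hyp_conj hψ.2).mpr hr
      rw [h2] at h3
      exact hcr.trans (Conn.of_hyp h3.symm)
    · have hnvr : ¬ Perp H v r := fun h => hψr (h ψ hψ)
      have hprv : Perp H r v := by
        by_contra h
        exact hv (hcr.trans (Conn.of_hyp ⟨hr.2.1, hv0, h, hnvr⟩))
      have h3 : Hyp H (tv ψ v u) r := by
        refine ⟨htu0, hr.2.1, ?_, ?_⟩
        · obtain ⟨φ, hφ, hφr⟩ := not_perp_iff.mp hr.2.2.1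
          exact not_perp_iff.mpr ⟨φ, hsub φ hφ, hφr⟩
        · obtain ⟨ρ, hρ, hρu⟩ := not_perp_iff.mp hr.2.2.2
          refine not_perp_iff.mpr ⟨ρ, hρ, ?_⟩
          rw [htu, map_add, map_smul, hprv ρ hρ, smul_zero, add_zero]
          exact hρu
      exact hcr.trans (Conn.of_hyp h3.symm)

theorem comp_invariant (hS : Setup p H) {e : V} (he : IsC H e) {h : V ≃ₗ[ZMod p] V}
    (hh : h ∈ H) : ∀ u, Conn H e u ↔ Conn H e (h u) := by
  have hgen := hS.gen
  have hh' : h ∈ Subgroup.closure
      {t | t ∈ H ∧ ∃ (φ : Dual (ZMod p) V) (u : V), φ u = 0 ∧ t = tv φ u} := by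
    rw [← hgen]; exact hh
  clear hh
  induction hh' using Subgroup.closure_induction with
  | mem t ht =>
    obtain ⟨htH, ψ, v, hψv, rfl⟩ := ht
    have hψ : ψ ∈ Phi H v := ⟨hψv, htH⟩
    intro u
    constructor
    · exact comp_gen_forward hS he hψ
    · intro h1
      have hψ' : -ψ ∈ Phi H v := (Phi H v).neg_mem hψ
      have := comp_gen_forward hS he hψ' h1
      rw [← tv_inv hψv] at this
      have e1 : (tv ψ v)⁻¹ (tv ψ v u) = u := by
        show (tv ψ v).symm (tv ψ v u) = u
        simp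
      rwa [e1] at this
  | one => intro u; rfl
  | mul a b _ _ iha ihb =>
    intro u
    rw [LinearEquiv.mul_apply, ← iha, ← ihb]
  | inv a _ iha =>
    intro u
    have := iha (a⁻¹ u)
    have e1 : a (a⁻¹ u) = u := by
      show a (a.symm u) = u
      simp
    rw [e1] at this
    exact this.symm

variable (H)

/-- span of the component of `e` -/
noncomputable def Wc (e : V) : Submodule (ZMod p) V := Submodule.span (ZMod p) {u | Conn H e u}

/-- common kernel of all axes of the component of `e` -/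
def Zc (e : V) : Submodule (ZMod p) V where
  carrier := {v | ∀ u, Conn H e u → ∀ φ ∈ Phi H u, φ v = 0}
  zero_mem' := fun u _ φ _ => map_zero φ
  add_mem' := fun {a b} ha hb u hu φ hφ => by rw [map_add, ha u hu φ hφ, hb u hu φ hφ, add_zero]
  smul_mem' := fun c a ha u hu φ hφ => by rw [map_smul, ha u hu φ hφ, smul_zero]

variable {H}

theorem mem_Zc {e v : V} : v ∈ Zc H e ↔ ∀ u, Conn H e u → ∀ φ ∈ Phi H u, φ v = 0 := Iff.rfl

theorem mem_Wc_of_conn {e u : V} (h : Conn H e u) : u ∈ Wc H e := Submodule.subset_span h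

theorem Wc_invariant (hS : Setup p H) {e : V} (he : IsC H e) :
    ∀ h ∈ H, ∀ x ∈ Wc H e, h x ∈ Wc H e := by
  intro h hh x hx
  unfold Wc at hx ⊢
  induction hx using Submodule.span_induction with
  | mem x hx => exact Submodule.subset_span ((comp_invariant hS he hh x).mp hx)
  | zero => simp
  | add a b _ _ ha hb => rw [map_add]; exact Submodule.add_mem _ ha hb
  | smul c a _ ha => rw [map_smul]; exact Submodule.smul_mem _ c ha

theorem Zc_invariant (hS : Setup p H) {e : V} (he : IsC H e) :
    ∀ h ∈ H, ∀ x ∈ Zc H e, h x ∈ Zc H e := by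
  intro h hh x hx u hu φ hφ
  -- φ ∈ Phi (u), u = h (h⁻¹ u)
  have e1 : h (h⁻¹ u) = u := by
    show h (h.symm u) = u
    simp
  have hu' : Conn H e (h⁻¹ u) := (comp_invariant hS he (H.inv_mem hh) u).mp hu
  have hφ' : φ ∘ₗ (h : V →ₗ[ZMod p] V) ∈ Phi H (h⁻¹ u) := by
    rw [← Phi_conj_iff hh, e1]; exact hφ
  have := hx _ hu' _ hφ'
  simpa using this

theorem Wc_kill {e : V} {φ : Dual (ZMod p) V} (h : ∀ u, Conn H e u → φ u = 0) :
    ∀ x ∈ Wc H e, φ x = 0 := by
  intro x hx
  unfold Wc at hx
  induction hx using Submodule.span_induction with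
  | mem x hx => exact h x hx
  | zero => simp
  | add a b _ _ ha hb => rw [map_add, ha, hb, add_zero]
  | smul c a _ ha => rw [map_smul, ha, smul_zero]

/-- distinct components are mutually perpendicular -/
theorem comp_perp (hS : Setup p H) {e e' : V} (he : IsC H e) (he' : IsC H e')
    (hne : ¬ Conn H e e') {u v : V} (hu : Conn H e u) (hv : Conn H e' v) : Perp H u v := by
  by_contra h1
  have hu0 := conn_ne_zero he.1 hu
  have hv0 := conn_ne_zero he'.1 hv
  have hnc : ∀ a b, Conn H e a → Conn H e' b → ¬ Hyp H a b := by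
    intro a b ha hb hab
    exact hne (ha.trans ((Conn.of_hyp hab).trans hb.symm))
  have h2 : Perp H v u := by
    by_contra h2
    exact hnc u v hu hv ⟨hu0, hv0, h1, h2⟩
  have hlt := Submodule.finrank_lt_finrank_of_lt (Phi_lt_of_special h1 h2)
  -- every element of the second component is perpendicular to the first
  have hall : ∀ a b, Conn H e a → Conn H e' b → Perp H b a := by
    intro a b ha hb
    by_contra h3
    have h4 : Perp H a b := by
      by_contra h4
      exact hnc a b ha hb ⟨conn_ne_zero he.1 ha, conn_ne_zero he'.1 hb, h4, h3⟩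
    have hlt' := Submodule.finrank_lt_finrank_of_lt (Phi_lt_of_special h3 h4)
    rw [finrank_Phi_of_conn (hu.symm.trans ha)] at hlt
    rw [finrank_Phi_of_conn (hv.symm.trans hb)] at hlt
    omega
  obtain ⟨ψ, hψ, hψ0⟩ := (conn_isC he' hv).2
  obtain ⟨φ, hφ, hφv⟩ := not_perp_iff.mp h1
  have hψu : ψ ∈ Phi H u := Phi_S4 hφ hψ (h2 ψ hψ) hφv
  have h5 : tv ψ u = 1 := by
    refine chain_trivial₂ hS.odd hS.core (Wc H e) (Wc_invariant hS he) hψu.2 ?_ ?_
    · intro x
      rw [tv_apply hψu.1]
      simp only [add_sub_cancel_left]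
      exact Submodule.smul_mem _ _ (mem_Wc_of_conn hu)
    · intro x hx
      rw [tv_apply hψu.1, Wc_kill (fun a ha => hall a v ha hv ψ hψ) x hx, zero_smul, add_zero]
  rcases (tv_eq_one_iff hψu.1).mp h5 with h | h
  · exact hψ0 h
  · exact hu0 h

end Cfsg.Agent.Lib.Helper13.McL
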