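import Cfsg.Agent.Lib.Helper13.McLD

set_option autoImplicit false

/-! # McLaughlin's theorem, part E: hyperbolic lines, diameter two, and the sum lemma. -/

namespace Cfsg.Agent.Lib.Helper13.McL

open Module

variable {p : ℕ} [Fact p.Prime] {V : Type*} [AddCommGroup V] [Module (ZMod p) V]
variable {H : Subgroup (V ≃ₗ[ZMod p] V)}

theorem hyp_smul_left {u v : V} {c : ZMod p} (hc : c ≠ 0) (h : Hyp H u v) : Hyp H (c • u) v := by
  obtain ⟨hu, hv, h1, h2⟩ := h
  refine ⟨smul_ne_zero hc hu, hv, ?_, ?_⟩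
  · obtain ⟨φ, hφ, hφv⟩ := not_perp_iff.mp h1
    refine not_perp_iff.mpr ⟨φ, ?_, hφv⟩
    rw [Phi_smul hc]; exact hφ
  · obtain ⟨ψ, hψ, hψu⟩ := not_perp_iff.mp h2
    refine not_perp_iff.mpr ⟨ψ, hψ, ?_⟩
    rw [map_smul, smul_eq_mul]
    exact mul_ne_zero hc hψu

theorem hyp_smul_right {u v : V} {c : ZMod p} (hc : c ≠ 0) (h : Hyp H u v) : Hyp H u (c • v) :=
  (hyp_smul_left hc h.symm).symm

/-- the points of a hyperbolic line -/
theorem hyp_line {u v : V} (h : Hyp H u v) {c : ZMod p} (hc : c ≠ 0) : Hyp H u (u + c • v) := by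
  obtain ⟨hu, hv, h1, h2⟩ := h
  obtain ⟨φ, hφ, hφv⟩ := not_perp_iff.mp h1
  obtain ⟨ψ, hψ, hψu⟩ := not_perp_iff.mp h2
  have hk : (c * (ψ u)⁻¹) • ψ ∈ Phi H v := (Phi H v).smul_mem _ hψ
  have hχ := Phi_conj_tv hφ hk
  have e1 : ((c * (ψ u)⁻¹) • ψ) u • v = c • v := by
    rw [LinearMap.smul_apply, smul_eq_mul, mul_assoc, inv_mul_cancel₀ hψu, mul_one]
  rw [e1] at hχ
  have hφw : φ (u + c • v) ≠ 0 := by
    rw [map_add, map_smul, hφ.1, zero_add, smul_eq_mul]
    exact mul_ne_zero hc hφv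
  refine ⟨hu, ?_, not_perp_iff.mpr ⟨φ, hφ, hφw⟩, not_perp_iff.mpr ⟨_, hχ, ?_⟩⟩
  · intro h0
    rw [h0, map_zero] at hφw
    exact hφw rfl
  · simp only [LinearMap.sub_apply, LinearMap.smul_apply, smul_eq_mul, hφ.1, zero_sub]
    rw [mul_assoc, inv_mul_cancel₀ hψu, mul_one]
    exact neg_ne_zero.mpr (mul_ne_zero hφv hc)

theorem comp_line {e u v : V} (hu : Conn H e u) (h : Hyp H u v) (c : ZMod p) :
    Conn H e (u + c • v) := by
  by_cases hc : c = 0
  · rw [hc, zero_smul, add_zero]; exact hu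
  · exact hu.trans (Conn.of_hyp (hyp_line h hc))

variable [Finite V]

theorem comp_smul (hS : Setup p H) {e u : V} (he : IsC H e) (hu : Conn H e u) {c : ZMod p}
    (hc : c ≠ 0) : Conn H e (c • u) := by
  obtain ⟨r, hr⟩ := exists_hyp_of_isC hS (conn_isC he hu)
  exact (hu.trans (Conn.of_hyp hr)).trans (Conn.of_hyp (hyp_smul_left hc hr).symm)

theorem comp_neg (hS : Setup p H) {e u : V} (he : IsC H e) (hu : Conn H e u) :
    Conn H e (-u) := by
  have := comp_smul hS he hu (c := -1) (by simp)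
  simpa using this

/-- the hyperbolic graph on a component has diameter at most two -/
theorem diam2 {e u v : V} (he : IsC H e) (hu : Conn H e u) (huv : Conn H u v) :
    u = v ∨ Hyp H u v ∨ ∃ w, Hyp H u w ∧ Hyp H w v := by
  have hu0 := conn_ne_zero he.1 hu
  unfold Conn at huv
  induction huv with
  | refl => exact Or.inl rfl
  | @tail b c hub hbc ih =>
    have hub' : Conn H u b := hub
    rcases ih with h | h | ⟨w, hw1, hw2⟩
    · subst h; exact Or.inr (Or.inl hbc)
    · exact Or.inr (Or.inr ⟨b, h, hbc⟩)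
    · -- path u ~ w ~ b ~ c
      by_cases h1 : Hyp H u b
      · exact Or.inr (Or.inr ⟨b, h1, hbc⟩)
      by_cases h2 : Hyp H w c
      · exact Or.inr (Or.inr ⟨w, hw1, h2⟩)
      have hb0 := hbc.1
      have hc0 := hbc.2.1
      have hw0 := hw1.2.1
      have hcuw : Conn H u w := Conn.of_hyp hw1
      have hcuc : Conn H u c := hub'.trans (Conn.of_hyp hbc)
      have hpub : Perp H u b := by
        by_contra h
        exact h1 (hyp_of_not_perp hu0 hb0 hub' h)
      have hpcw : Perp H c w := by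
        by_contra h
        exact h2 (hyp_of_not_perp hc0 hw0 (hcuc.symm.trans hcuw) h).symm
      -- y = w + b
      have hy : Hyp H w (w + (1 : ZMod p) • b) := hyp_line hw2 one_ne_zero
      rw [one_smul] at hy
      have hcuy : Conn H u (w + b) := hcuw.trans (Conn.of_hyp hy)
      have h3 : Hyp H u (w + b) := by
        apply hyp_of_not_perp hu0 hy.2.1 hcuy
        obtain ⟨φ, hφ, hφw⟩ := not_perp_iff.mp hw1.2.2.1
        refine not_perp_iff.mpr ⟨φ, hφ, ?_⟩
        rw [map_add, hpub φ hφ, add_zero]; exact hφw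
      have h4 : Hyp H c (w + b) := by
        apply hyp_of_not_perp hc0 hy.2.1 (hcuc.symm.trans hcuy)
        obtain ⟨ψ, hψ, hψb⟩ := not_perp_iff.mp hbc.2.2.2
        refine not_perp_iff.mpr ⟨ψ, hψ, ?_⟩
        rw [map_add, hpcw ψ hψ, zero_add]; exact hψb
      exact Or.inr (Or.inr ⟨w + b, h3, h4.symm⟩)

/-- one of `±1` avoids a bad value -/
theorem exists_sign {a b : ZMod p} (hp : Odd p) (ha : a ≠ 0) :
    ∃ k : ZMod p, k ≠ 0 ∧ a - k * b ≠ 0 := by
  by_cases h1 : a - 1 * b = 0
  · refine ⟨-1, by simp, ?_⟩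
    intro h2
    have : 2 * a = 0 := by linear_combination h1 + h2
    rcases mul_eq_zero.mp this with h | h
    · exact two_ne_zero' hp h
    · exact ha h
  · exact ⟨1, one_ne_zero, h1⟩

/-- **Sum lemma.** If `u, v` lie in a component and `u + v` is not killed by all axes of the
component, then `u + v` lies in the component. -/
theorem comp_add (hS : Setup p H) {e u v x : V} (he : IsC H e) (hu : Conn H e u)
    (hv : Conn H e v) (hx : Conn H e x) (hxy : ¬ Perp H x (u + v)) : Conn H e (u + v) := by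
  have hp := hS.odd
  have hu0 := conn_ne_zero he.1 hu
  have hv0 := conn_ne_zero he.1 hv
  have hy0 : u + v ≠ 0 := by
    intro h
    apply hxy
    rw [h]
    intro φ _
    exact map_zero φ
  -- the hyperbolic case
  have hhyp : ∀ a b : V, Conn H e a → Hyp H a b → Conn H e (a + b) := by
    intro a b ha hab
    have := comp_line ha hab 1
    rwa [one_smul] at this
  by_cases huv : Hyp H u v
  · exact hhyp u v hu huv
  have hcuv : Conn H u v := hu.symm.trans hv
  have hpuv : Perp H u v := by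
    by_contra h
    exact huv (hyp_of_not_perp hu0 hv0 hcuv h)
  have hpvu : Perp H v u := perp_symm_of_conn hcuv hpuv
  rcases diam2 he hu hcuv with h | h | ⟨w, hw1, hw2⟩
  · -- u = v
    subst h
    have : u + u = (2 : ZMod p) • u := by rw [two_smul]
    rw [this]
    exact comp_smul hS he hu (two_ne_zero' hp)
  · exact absurd h huv
  -- Step 2: a common neighbour not perpendicular to `u + v`
  have hcw : Conn H e w := hu.trans (Conn.of_hyp hw1)
  obtain ⟨w', hcw', hw'1, hw'2, hw'y⟩ :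
      ∃ w', Conn H e w' ∧ Hyp H u w' ∧ Hyp H w' v ∧ ¬ Perp H w' (u + v) := by
    by_cases hwy : Perp H w (u + v)
    swap
    · exact ⟨w, hcw, hw1, hw2, hwy⟩
    -- Step 2a
    obtain ⟨x₁, hcx₁, hx₁w, hx₁y⟩ : ∃ x₁, Conn H e x₁ ∧ Hyp H x₁ w ∧ ¬ Perp H x₁ (u + v) := by
      have hcxw : Conn H x w := hx.symm.trans hcw
      rcases diam2 he hx hcxw with h | h | ⟨z, hz1, hz2⟩
      · subst h; exact absurd hwy hxy
      · exact ⟨x, hx, h, hxy⟩
      · by_cases hxw : Hyp H x w
        · exact ⟨x, hx, hxw, hxy⟩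
        have hx0 := conn_ne_zero he.1 hx
        have hw0 := hw1.2.1
        have hpxw : Perp H x w := by
          by_contra h
          exact hxw (hyp_of_not_perp hx0 hw0 hcxw h)
        have hpwx : Perp H w x := perp_symm_of_conn hcxw hpxw
        obtain ⟨ξ, hξ, hξy, hξz⟩ := exists_phi_two hxy hz1.2.2.1
        obtain ⟨ζ, hζ, hζx⟩ := not_perp_iff.mp hz1.2.2.2
        -- choose k = ± 1
        obtain ⟨k, hk0, hk⟩ := exists_sign (a := ξ (u + v)) (b := ξ z * ζ (u + v)) hp hξy
        have hkζ : k • ζ ∈ Phi H z := (Phi H z).smul_mem k hζ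
        have hχ := Phi_conj_tv hξ hkζ
        have hc0 : (k • ζ) x ≠ 0 := by
          rw [LinearMap.smul_apply, smul_eq_mul]
          exact mul_ne_zero hk0 hζx
        set x₁ := x + (k • ζ) x • z with hx₁
        have hcx₁ : Conn H e x₁ := comp_line hx hz1 _
        have hx₁0 : x₁ ≠ 0 := (hyp_line hz1 hc0).2.1
        refine ⟨x₁, hcx₁, ?_, ?_⟩
        · apply (hyp_of_not_perp hw0 hx₁0 (hcw.symm.trans hcx₁) ?_).symm
          obtain ⟨ω, hω, hωz⟩ := not_perp_iff.mp hz2.2.2.2
          refine not_perp_iff.mpr ⟨ω, hω, ?_⟩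
          rw [hx₁, map_add, map_smul, hpwx ω hω, zero_add, smul_eq_mul]
          exact mul_ne_zero hc0 hωz
        · refine not_perp_iff.mpr ⟨_, hχ, ?_⟩
          simp only [LinearMap.sub_apply, LinearMap.smul_apply, smul_eq_mul]
          intro h0
          apply hk
          linear_combination h0
    -- Step 2b
    have hw0 := hw1.2.1
    have hx₁0 := hx₁w.1
    obtain ⟨ξ, hξ, hξy, hξw⟩ := exists_phi_two hx₁y hx₁w.2.2.1
    have hst : ξ u + ξ v ≠ 0 := by rwa [map_add] at hξy
    by_cases hs : ξ u = 0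
    · -- s = 0, t ≠ 0
      have ht : ξ v ≠ 0 := by
        intro h; apply hst; rw [hs, h, add_zero]
      obtain ⟨ψ, hψ, hψu, hψx⟩ := exists_phi_two hw1.2.2.2 hx₁w.2.2.2
      have hψv : ψ v = - ψ u := by
        have := hwy ψ hψ
        rw [map_add] at this
        exact eq_neg_of_add_eq_zero_right this
      obtain ⟨k, hk0, hk⟩ := exists_sign (a := ψ u) (b := - (ψ x₁ * ξ v)) hp hψu
      have hkξ : k • ξ ∈ Phi H x₁ := (Phi H x₁).smul_mem k hξ
      have hχ := Phi_conj_tv hψ hkξ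
      have hc0 : (k • ξ) w ≠ 0 := by
        rw [LinearMap.smul_apply, smul_eq_mul]
        exact mul_ne_zero hk0 hξw
      set w' := w + (k • ξ) w • x₁ with hw'
      have hcw' : Conn H e w' := comp_line hcw hx₁w.symm _
      have hw'0 : w' ≠ 0 := (hyp_line hx₁w.symm hc0).2.1
      refine ⟨w', hcw', ?_, ?_, ?_⟩
      · apply (hyp_of_not_perp hw'0 hu0 (hcw'.symm.trans hu) ?_).symm
        refine not_perp_iff.mpr ⟨_, hχ, ?_⟩
        simp only [LinearMap.sub_apply, LinearMap.smul_apply, smul_eq_mul, hs, mul_zero,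
          sub_zero]
        exact hψu
      · apply hyp_of_not_perp hw'0 hv0 (hcw'.symm.trans hv)
        refine not_perp_iff.mpr ⟨_, hχ, ?_⟩
        simp only [LinearMap.sub_apply, LinearMap.smul_apply, smul_eq_mul, hψv]
        intro h0
        apply hk
        linear_combination -h0
      · refine not_perp_iff.mpr ⟨_, hχ, ?_⟩
        simp only [LinearMap.sub_apply, LinearMap.smul_apply, smul_eq_mul, map_add, hs, hψv]
        intro h0
        have : ψ x₁ * k * ξ v = 0 := by linear_combination -h0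
        exact (mul_ne_zero (mul_ne_zero hψx hk0) ht) this
    by_cases ht : ξ v = 0
    · -- t = 0, s ≠ 0
      obtain ⟨ψ, hψ, hψu, hψx⟩ := exists_phi_two hw1.2.2.2 hx₁w.2.2.2
      have hψv : ψ v = - ψ u := by
        have := hwy ψ hψ
        rw [map_add] at this
        exact eq_neg_of_add_eq_zero_right this
      obtain ⟨k, hk0, hk⟩ := exists_sign (a := ψ u) (b := ψ x₁ * ξ u) hp hψu
      have hkξ : k • ξ ∈ Phi H x₁ := (Phi H x₁).smul_mem k hξ
      have hχ := Phi_conj_tv hψ hkξ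
      have hc0 : (k • ξ) w ≠ 0 := by
        rw [LinearMap.smul_apply, smul_eq_mul]
        exact mul_ne_zero hk0 hξw
      set w' := w + (k • ξ) w • x₁ with hw'
      have hcw' : Conn H e w' := comp_line hcw hx₁w.symm _
      have hw'0 : w' ≠ 0 := (hyp_line hx₁w.symm hc0).2.1
      refine ⟨w', hcw', ?_, ?_, ?_⟩
      · apply (hyp_of_not_perp hw'0 hu0 (hcw'.symm.trans hu) ?_).symm
        refine not_perp_iff.mpr ⟨_, hχ, ?_⟩
        simp only [LinearMap.sub_apply, LinearMap.smul_apply, smul_eq_mul]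
        intro h0
        apply hk
        linear_combination h0
      · apply hyp_of_not_perp hw'0 hv0 (hcw'.symm.trans hv)
        refine not_perp_iff.mpr ⟨_, hχ, ?_⟩
        simp only [LinearMap.sub_apply, LinearMap.smul_apply, smul_eq_mul, hψv, ht, mul_zero,
          sub_zero]
        exact neg_ne_zero.mpr hψu
      · refine not_perp_iff.mpr ⟨_, hχ, ?_⟩
        simp only [LinearMap.sub_apply, LinearMap.smul_apply, smul_eq_mul, map_add, ht, hψv]
        intro h0
        have : ψ x₁ * k * ξ u = 0 := by linear_combination -h0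
        exact (mul_ne_zero (mul_ne_zero hψx hk0) hs) this
    · -- s, t ≠ 0 : take w' = x₁
      refine ⟨x₁, hcx₁, ?_, ?_, hx₁y⟩
      · exact (hyp_of_not_perp hx₁0 hu0 (hcx₁.symm.trans hu)
          (not_perp_iff.mpr ⟨ξ, hξ, hs⟩)).symm
      · exact hyp_of_not_perp hx₁0 hv0 (hcx₁.symm.trans hv) (not_perp_iff.mpr ⟨ξ, hξ, ht⟩)
  -- Step 3
  obtain ⟨ψ, hψ, hψu, hψy⟩ := exists_phi_two hw'1.2.2.2 hw'y
  obtain ⟨φ, hφ, hφw⟩ := not_perp_iff.mp hw'1.2.2.1
  have hχ := Phi_conj_tv hφ hψ
  set x' := u + ψ u • w' with hx'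
  have hcx' : Conn H e x' := comp_line hu hw'1 _
  have hx'0 : x' ≠ 0 := (hyp_line hw'1 hψu).2.1
  set y' := v + (-(ψ u)) • w' with hy'
  have hcy' : Conn H e y' := comp_line hv hw'2.symm _
  have hy'0 : y' ≠ 0 := (hyp_line hw'2.symm (neg_ne_zero.mpr hψu)).2.1
  have hxy' : Hyp H x' y' := by
    apply hyp_of_not_perp hx'0 hy'0 (hcx'.symm.trans hcy')
    refine not_perp_iff.mpr ⟨_, hχ, ?_⟩
    simp only [hy', LinearMap.sub_apply, LinearMap.smul_apply, smul_eq_mul, map_add, map_smul,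
      hpuv φ hφ, hψ.1]
    rw [map_add] at hψy
    intro h0
    have : φ w' * (ψ u + ψ v) = 0 := by linear_combination -h0
    exact (mul_ne_zero hφw hψy) this
  have := hhyp x' y' hcx' hxy'
  have e : x' + y' = u + v := by
    rw [hx', hy']
    module
  rwa [e] at this

end Cfsg.Agent.Lib.Helper13.McL
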