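import Cfsg.Agent.Lib.Helper13.McLE

set_option autoImplicit false

/-! # McLaughlin's theorem, part F: a component together with `0` is a subspace. -/

namespace Cfsg.Agent.Lib.Helper13.McL

open Module

variable {p : ℕ} [Fact p.Prime] {V : Type*} [AddCommGroup V] [Module (ZMod p) V]
variable {H : Subgroup (V ≃ₗ[ZMod p] V)} [Finite V]

theorem perp_of_mem_Zc {e u z : V} (hu : Conn H e u) (hz : z ∈ Zc H e) : Perp H u z :=
  fun φ hφ => hz u hu φ hφ

theorem not_mem_Zc (hS : Setup p H) {e u : V} (he : IsC H e) (hu : Conn H e u) :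
    u ∉ Zc H e := by
  intro h
  obtain ⟨r, hr⟩ := exists_hyp_of_isC hS (conn_isC he hu)
  exact hr.2.2.2 (perp_of_mem_Zc (hu.trans (Conn.of_hyp hr)) h)

theorem perp_congr_of_sub {a w w' : V} (h : Perp H a (w - w')) : Perp H a w ↔ Perp H a w' := by
  constructor
  · intro h1 φ hφ
    have := h φ hφ
    rw [map_sub, h1 φ hφ, zero_sub, neg_eq_zero] at this
    exact this
  · intro h1 φ hφ
    have := h φ hφ
    rw [map_sub, h1 φ hφ, sub_zero] at this
    exact this

theorem Wc_decomp (hS : Setup p H) {e : V} (he : IsC H e) :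
    ∀ w ∈ Wc H e, w ∈ Zc H e ∨ ∃ w₀, Conn H e w₀ ∧ w - w₀ ∈ Zc H e := by
  intro w hw
  unfold Wc at hw
  induction hw using Submodule.span_induction with
  | mem x hx => exact Or.inr ⟨x, hx, by rw [sub_self]; exact Submodule.zero_mem _⟩
  | zero => exact Or.inl (Submodule.zero_mem _)
  | add a b _ _ ha hb =>
    rcases ha with ha | ⟨a₀, ha₀, haz⟩
    · rcases hb with hb | ⟨b₀, hb₀, hbz⟩
      · exact Or.inl (Submodule.add_mem _ ha hb)
      · refine Or.inr ⟨b₀, hb₀, ?_⟩
        have : a + b - b₀ = a + (b - b₀) := by abel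
        rw [this]; exact Submodule.add_mem _ ha hbz
    · rcases hb with hb | ⟨b₀, hb₀, hbz⟩
      · refine Or.inr ⟨a₀, ha₀, ?_⟩
        have : a + b - a₀ = (a - a₀) + b := by abel
        rw [this]; exact Submodule.add_mem _ haz hb
      · by_cases hex : ∃ x, Conn H e x ∧ ¬ Perp H x (a₀ + b₀)
        · obtain ⟨x, hx, hxy⟩ := hex
          refine Or.inr ⟨a₀ + b₀, comp_add hS he ha₀ hb₀ hx hxy, ?_⟩
          have : a + b - (a₀ + b₀) = (a - a₀) + (b - b₀) := by abel
          rw [this]; exact Submodule.add_mem _ haz hbz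
        · push Not at hex
          left
          have h1 : a₀ + b₀ ∈ Zc H e := fun u hu φ hφ => hex u hu φ hφ
          have : a + b = (a₀ + b₀) + ((a - a₀) + (b - b₀)) := by abel
          rw [this]
          exact Submodule.add_mem _ h1 (Submodule.add_mem _ haz hbz)
  | smul c a _ ha =>
    by_cases hc : c = 0
    · left; rw [hc, zero_smul]; exact Submodule.zero_mem _
    rcases ha with ha | ⟨a₀, ha₀, haz⟩
    · exact Or.inl (Submodule.smul_mem _ c ha)
    · refine Or.inr ⟨c • a₀, comp_smul hS he ha₀ hc, ?_⟩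
      rw [← smul_sub]; exact Submodule.smul_mem _ c haz

theorem perp_iff_of_sub_mem_Zc (hS : Setup p H) {e u u' : V} (he : IsC H e) (hu : Conn H e u)
    (hu' : Conn H e u') (hd : u' - u ∈ Zc H e) :
    ∀ w ∈ Wc H e, Perp H u w ↔ Perp H u' w := by
  intro w hw
  rcases Wc_decomp hS he w hw with hz | ⟨w₀, hw₀, hz⟩
  · exact ⟨fun _ => perp_of_mem_Zc hu' hz, fun _ => perp_of_mem_Zc hu hz⟩
  · rw [perp_congr_of_sub (perp_of_mem_Zc hu hz), perp_congr_of_sub (perp_of_mem_Zc hu' hz)]
    rw [perp_iff_of_conn (hu.symm.trans hw₀), perp_iff_of_conn (hu'.symm.trans hw₀)]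
    have h1 : Perp H w₀ (u' - u) := perp_of_mem_Zc hw₀ hd
    exact (perp_congr_of_sub h1).symm

/-- restriction of axes to the span of the component -/
theorem map_restrict_eq (hS : Setup p H) {e u u' : V} (he : IsC H e) (hu : Conn H e u)
    (hu' : Conn H e u') (hd : u' - u ∈ Zc H e) :
    (Phi H u).map (Wc H e).dualRestrict = (Phi H u').map (Wc H e).dualRestrict := by
  have key : ∀ a : V, Conn H e a →
      ∀ w : ↥(Wc H e), w ∈ ((Phi H a).map (Wc H e).dualRestrict).dualCoannihilator ↔
        Perp H a (w : V) := by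
    intro a _ w
    rw [Submodule.mem_dualCoannihilator]
    constructor
    · intro h φ hφ
      have := h _ (Submodule.mem_map_of_mem hφ)
      rwa [Submodule.dualRestrict_apply] at this
    · rintro h _ ⟨φ, hφ, rfl⟩
      rw [Submodule.dualRestrict_apply]
      exact h φ hφ
  have hco : ((Phi H u).map (Wc H e).dualRestrict).dualCoannihilator =
      ((Phi H u').map (Wc H e).dualRestrict).dualCoannihilator := by
    ext w
    rw [key u hu, key u' hu']
    exact perp_iff_of_sub_mem_Zc hS he hu hu' hd w w.2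
  rw [← Subspace.dualCoannihilator_dualAnnihilator_eq
      (W := (Phi H u).map (Wc H e).dualRestrict),
    ← Subspace.dualCoannihilator_dualAnnihilator_eq
      (W := (Phi H u').map (Wc H e).dualRestrict), hco]

/-- centres of a component which are congruent modulo the radical are equal -/
theorem eq_of_sub_mem_Zc (hS : Setup p H) {e u u' : V} (he : IsC H e) (hu : Conn H e u)
    (hu' : Conn H e u') (hd : u' - u ∈ Zc H e) : u = u' := by
  obtain ⟨φ, hφ, hφ0⟩ := (conn_isC he hu).2
  have h1 : (Wc H e).dualRestrict φ ∈ (Phi H u').map (Wc H e).dualRestrict := by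
    rw [← map_restrict_eq hS he hu hu' hd]
    exact Submodule.mem_map_of_mem hφ
  obtain ⟨φ', hφ', hres⟩ := h1
  have hres' : ∀ w ∈ Wc H e, φ' w = φ w := by
    intro w hw
    have := LinearMap.congr_fun hres ⟨w, hw⟩
    rwa [Submodule.dualRestrict_apply, Submodule.dualRestrict_apply] at this
  have huW : u ∈ Wc H e := mem_Wc_of_conn hu
  have hu'W : u' ∈ Wc H e := mem_Wc_of_conn hu'
  have hφu' : φ u' = 0 := by
    have : u' = u + (u' - u) := by abel
    rw [this, map_add, hφ.1, zero_add]
    exact hd u hu φ hφ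
  have hneg : (-φ) u = 0 := by simp [hφ.1]
  -- g₀ = (tv φ u)⁻¹ * tv φ' u'
  have hg : ∀ v, ((tv φ u)⁻¹ * tv φ' u') v - v = φ' v • u' - φ v • u := by
    intro v
    rw [LinearEquiv.mul_apply, tv_inv hφ.1, tv_apply hφ'.1, tv_apply hneg]
    simp only [LinearMap.neg_apply, map_add, map_smul, hφu', smul_eq_mul, mul_zero, add_zero]
    module
  have hgH : (tv φ u)⁻¹ * tv φ' u' ∈ H := H.mul_mem (H.inv_mem hφ.2) hφ'.2
  have hone : (tv φ u)⁻¹ * tv φ' u' = 1 := by
    refine chain_trivial hS.odd hS.core (Wc H e) (Wc H e ⊓ Zc H e) inf_le_left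
      (Wc_invariant hS he) ?_ hgH ?_ ?_ ?_
    · intro h hh y hy
      exact ⟨Wc_invariant hS he h hh y hy.1, Zc_invariant hS he h hh y hy.2⟩
    · intro v
      rw [hg]
      exact Submodule.sub_mem _ (Submodule.smul_mem _ _ hu'W) (Submodule.smul_mem _ _ huW)
    · intro x hx
      rw [hg, hres' x hx, ← smul_sub]
      exact Submodule.smul_mem _ _ ⟨Submodule.sub_mem _ hu'W huW, hd⟩
    · intro y hy
      have h0 := hg y
      rw [hy.2 u hu φ hφ, hy.2 u' hu' φ' hφ', zero_smul, zero_smul, sub_zero] at h0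
      exact sub_eq_zero.mp h0
  have heq : tv φ u = tv φ' u' := by
    have := congrArg (fun t => tv φ u * t) hone
    simpa using this.symm
  obtain ⟨c, hc⟩ := centre_of_tv_eq hφ.1 hφ'.1 hφ0 heq
  by_cases hc1 : c = 1
  · rw [hc, hc1, one_smul]
  · exfalso
    have h2 : (1 - c) • u' ∈ Zc H e := by
      have : (1 - c) • u' = u' - u := by rw [hc]; module
      rw [this]; exact hd
    have h3 : u' ∈ Zc H e := by
      have hne : (1 - c) ≠ 0 := sub_ne_zero.mpr (Ne.symm hc1)
      have := Submodule.smul_mem (Zc H e) (1 - c)⁻¹ h2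
      rwa [smul_smul, inv_mul_cancel₀ hne, one_smul] at this
    exact not_mem_Zc hS he hu' h3

theorem comp_add' (hS : Setup p H) {e u v : V} (he : IsC H e) (hu : Conn H e u)
    (hv : Conn H e v) (hne : u + v ≠ 0) : Conn H e (u + v) := by
  by_cases hex : ∃ x, Conn H e x ∧ ¬ Perp H x (u + v)
  · obtain ⟨x, hx, hxy⟩ := hex
    exact comp_add hS he hu hv hx hxy
  · push Not at hex
    exfalso
    have h1 : u - (-v) ∈ Zc H e := by
      rw [sub_neg_eq_add]
      exact fun a ha φ hφ => hex a ha φ hφ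
    have := eq_of_sub_mem_Zc hS he (comp_neg hS he hv) hu h1
    apply hne
    rw [← this]; abel

/-- every nonzero vector of the span of a component lies in the component -/
theorem conn_of_mem_Wc (hS : Setup p H) {e : V} (he : IsC H e) :
    ∀ w ∈ Wc H e, w ≠ 0 → Conn H e w := by
  have key : ∀ w ∈ Wc H e, w = 0 ∨ Conn H e w := by
    intro w hw
    unfold Wc at hw
    induction hw using Submodule.span_induction with
    | mem x hx => exact Or.inr hx
    | zero => exact Or.inl rfl
    | add a b _ _ ha hb =>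
      rcases ha with ha | ha
      · rw [ha, zero_add]; exact hb
      rcases hb with hb | hb
      · rw [hb, add_zero]; exact Or.inr ha
      by_cases h : a + b = 0
      · exact Or.inl h
      · exact Or.inr (comp_add' hS he ha hb h)
    | smul c a _ ha =>
      by_cases hc : c = 0
      · left; rw [hc, zero_smul]
      rcases ha with ha | ha
      · left; rw [ha, smul_zero]
      · exact Or.inr (comp_smul hS he ha hc)
  intro w hw hw0
  rcases key w hw with h | h
  · exact absurd h hw0
  · exact h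

theorem Wc_inf_Zc (hS : Setup p H) {e : V} (he : IsC H e) : Wc H e ⊓ Zc H e = ⊥ := by
  rw [eq_bot_iff]
  intro w hw
  rw [Submodule.mem_bot]
  by_contra h
  exact not_mem_Zc hS he (conn_of_mem_Wc hS he w hw.1 h) hw.2

end Cfsg.Agent.Lib.Helper13.McL
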