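import Cfsg.Agent.Lib.Helper13.McLF

set_option autoImplicit false

/-! # McLaughlin's theorem, part G: the type dichotomy. -/

namespace Cfsg.Agent.Lib.Helper13.McL

open Module

variable {p : ℕ} [Fact p.Prime] {V : Type*} [AddCommGroup V] [Module (ZMod p) V]
variable {H : Subgroup (V ≃ₗ[ZMod p] V)} [Finite V]

/-- an axis of a centre of the component which vanishes on the span of the component is zero -/
theorem restrict_injOn (hS : Setup p H) {e u : V} (he : IsC H e) (hu : Conn H e u)
    {φ : Dual (ZMod p) V} (hφ : φ ∈ Phi H u) (h : ∀ w ∈ Wc H e, φ w = 0) : φ = 0 := by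
  have h1 : tv φ u = 1 := by
    refine chain_trivial₂ hS.odd hS.core (Wc H e) (Wc_invariant hS he) hφ.2 ?_ ?_
    · intro v
      rw [tv_apply hφ.1]
      simp only [add_sub_cancel_left]
      exact Submodule.smul_mem _ _ (mem_Wc_of_conn hu)
    · intro x hx
      rw [tv_apply hφ.1, h x hx, zero_smul, add_zero]
  rcases (tv_eq_one_iff hφ.1).mp h1 with h2 | h2
  · exact h2
  · exact absurd h2 (conn_ne_zero he.1 hu)

theorem finrank_map_restrict (hS : Setup p H) {e u : V} (he : IsC H e) (hu : Conn H e u) :
    Module.finrank (ZMod p) ↥((Phi H u).map (Wc H e).dualRestrict) =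
      Module.finrank (ZMod p) ↥(Phi H u) := by
  have hinj : Function.Injective ((Wc H e).dualRestrict ∘ₗ (Phi H u).subtype) := by
    rw [injective_iff_map_eq_zero]
    intro φ hφ
    rw [LinearMap.comp_apply] at hφ
    apply Subtype.ext
    apply restrict_injOn hS he hu φ.2
    intro w hw
    have := LinearMap.congr_fun hφ ⟨w, hw⟩
    rwa [Submodule.dualRestrict_apply] at this
  have := LinearMap.finrank_range_of_inj hinj
  rw [LinearMap.range_comp, Submodule.range_subtype] at this
  exact this

variable (H) in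
/-- the vectors of the span of the component which are perpendicular to `u` -/
noncomputable def AW (e u : V) : Submodule (ZMod p) ↥(Wc H e) :=
  ((Phi H u).map (Wc H e).dualRestrict).dualCoannihilator

omit [Finite V] in
theorem mem_AW {e u : V} {w : ↥(Wc H e)} : w ∈ AW H e u ↔ Perp H u (w : V) := by
  unfold AW
  rw [Submodule.mem_dualCoannihilator]
  constructor
  · intro h φ hφ
    have := h _ (Submodule.mem_map_of_mem hφ)
    rwa [Submodule.dualRestrict_apply] at this
  · rintro h _ ⟨φ, hφ, rfl⟩
    rw [Submodule.dualRestrict_apply]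
    exact h φ hφ

theorem finrank_AW (hS : Setup p H) {e u : V} (he : IsC H e) (hu : Conn H e u) :
    Module.finrank (ZMod p) ↥(Phi H u) + Module.finrank (ZMod p) ↥(AW H e u) =
      Module.finrank (ZMod p) ↥(Wc H e) := by
  rw [← finrank_map_restrict hS he hu]
  exact Subspace.finrank_add_finrank_dualCoannihilator_eq _

/-- the restricted axes of `u` are exactly the functionals killing `AW u` -/
theorem map_restrict_eq_annihilator {e u : V} :
    (Phi H u).map (Wc H e).dualRestrict = (AW H e u).dualAnnihilator := by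
  unfold AW
  exact (Subspace.dualCoannihilator_dualAnnihilator_eq).symm

/-- every vector of the span is perpendicular to a point of a totally isotropic line -/
theorem perp_line (hS : Setup p H) {e u v : V} (he : IsC H e) (hu : Conn H e u)
    (hv : Conn H e v) (hpuv : Perp H u v) (hind : ∀ c : ZMod p, v ≠ c • u) :
    ∀ w ∈ Wc H e, Perp H v w ∨ ∃ c : ZMod p, Perp H (u + c • v) w := by
  intro w hw
  by_cases hw0 : w = 0
  · left; rw [hw0]; intro φ _; exact map_zero φ
  have hcw := conn_of_mem_Wc hS he w hw hw0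
  by_cases hpuw : Perp H u w
  · right; exact ⟨0, by rw [zero_smul, add_zero]; exact hpuw⟩
  have hpwu : ¬ Perp H w u := fun h => hpuw (perp_symm_of_conn (hcw.symm.trans hu) h)
  obtain ⟨φ, hφ, hφw⟩ := not_perp_iff.mp hpuw
  obtain ⟨ψ₀, hψ₀, hψ₀u⟩ := not_perp_iff.mp hpwu
  set c : ZMod p := ψ₀ v * (ψ₀ u)⁻¹ with hc
  have key : Perp H w (v - c • u) := by
    intro ψ hψ
    have hψ' : ψ - (ψ u * (ψ₀ u)⁻¹) • ψ₀ ∈ Phi H w :=
      (Phi H w).sub_mem hψ ((Phi H w).smul_mem _ hψ₀)
    have h0 : (ψ - (ψ u * (ψ₀ u)⁻¹) • ψ₀) u = 0 := by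
      simp only [LinearMap.sub_apply, LinearMap.smul_apply, smul_eq_mul]
      field_simp
      ring
    have h1 := Phi_S4 hφ hψ' h0 hφw
    have h2 := hpuv _ h1
    simp only [LinearMap.sub_apply, LinearMap.smul_apply, smul_eq_mul] at h2
    rw [map_sub, map_smul, smul_eq_mul, hc]
    field_simp
    field_simp at h2
    linear_combination h2
  by_cases hc0 : c = 0
  · left
    rw [hc0, zero_smul, sub_zero] at key
    exact perp_symm_of_conn (hcw.symm.trans hv) key
  · right
    refine ⟨-c⁻¹, ?_⟩
    have hne : u + (-c⁻¹) • v ≠ 0 := by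
      intro h
      apply hind c
      have : c • (u + (-c⁻¹) • v) = 0 := by rw [h, smul_zero]
      rw [smul_add, smul_smul, mul_neg, mul_inv_cancel₀ hc0, neg_smul, one_smul] at this
      rw [← sub_eq_add_neg, sub_eq_zero] at this
      exact this.symm
    have hmem : u + (-c⁻¹) • v ∈ Wc H e :=
      Submodule.add_mem _ (mem_Wc_of_conn hu) (Submodule.smul_mem _ _ (mem_Wc_of_conn hv))
    have hcx := conn_of_mem_Wc hS he _ hmem hne
    apply perp_symm_of_conn (hcw.symm.trans hcx)
    have : u + (-c⁻¹) • v = (-c⁻¹) • (v - c • u) := by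
      rw [smul_sub, smul_smul, neg_mul, inv_mul_cancel₀ hc0]
      module
    rw [this]
    exact perp_smul_right _ key

/-- if a centre of the component has at least two independent axes, then perpendicular
vectors of the component are proportional -/
theorem smul_of_perp_of_two_le (hS : Setup p H) {e u v : V} (he : IsC H e)
    (hd : 2 ≤ Module.finrank (ZMod p) ↥(Phi H e)) (hu : Conn H e u) (hv : Conn H e v)
    (hpuv : Perp H u v) : ∃ c : ZMod p, v = c • u := by
  by_contra hcon
  push Not at hcon
  have hpp : p.Prime := Fact.out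
  haveI : NeZero p := ⟨hpp.ne_zero⟩
  -- the points of the line
  let x : Option (ZMod p) → V := fun i => match i with
    | none => v
    | some c => u + c • v
  have hx0 : ∀ i, x i ≠ 0 := by
    intro i
    match i with
    | none => exact conn_ne_zero he.1 hv
    | some c =>
      show u + c • v ≠ 0
      intro h
      by_cases hc0 : c = 0
      · rw [hc0, zero_smul, add_zero] at h
        exact conn_ne_zero he.1 hu h
      · apply hcon (-c⁻¹)
        have : c⁻¹ • (u + c • v) = 0 := by rw [h, smul_zero]
        rw [smul_add, smul_smul, inv_mul_cancel₀ hc0, one_smul] at this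
        rw [neg_smul]
        exact (eq_neg_of_add_eq_zero_right this)
  have hxW : ∀ i, x i ∈ Wc H e := by
    intro i
    match i with
    | none => exact mem_Wc_of_conn hv
    | some c =>
      exact Submodule.add_mem _ (mem_Wc_of_conn hu) (Submodule.smul_mem _ _ (mem_Wc_of_conn hv))
  have hxc : ∀ i, Conn H e (x i) := fun i => conn_of_mem_Wc hS he _ (hxW i) (hx0 i)
  -- the union covers
  have hcover : (Set.univ : Set ↥(Wc H e)) ⊆ ⋃ i, (AW H e (x i) : Set ↥(Wc H e)) := by
    intro w _
    rw [Set.mem_iUnion]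
    rcases perp_line hS he hu hv hpuv hcon w w.2 with h | ⟨c, h⟩
    · exact ⟨none, mem_AW.mpr h⟩
    · exact ⟨some c, mem_AW.mpr h⟩
  set n := Module.finrank (ZMod p) ↥(Wc H e) with hn
  set d := Module.finrank (ZMod p) ↥(Phi H e) with hd'
  have hcard : ∀ i, (AW H e (x i) : Set ↥(Wc H e)).ncard = p ^ (n - d) := by
    intro i
    have h1 := finrank_AW hS he (hxc i)
    rw [finrank_Phi_of_conn (hxc i).symm] at h1
    have h2 : Module.finrank (ZMod p) ↥(AW H e (x i)) = n - d := by omega
    rw [← Nat.card_coe_set_eq]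
    have h3 := Module.natCard_eq_pow_finrank (K := ZMod p) (V := ↥(AW H e (x i)))
    rw [Nat.card_zmod, h2] at h3
    exact h3
  have hle : d ≤ n := by
    have h1 := finrank_AW hS he (Conn.refl e)
    omega
  have htot : p ^ n ≤ (p + 1) * p ^ (n - d) := by
    have h1 : Nat.card ↥(Wc H e) = p ^ n := by
      have h3 := Module.natCard_eq_pow_finrank (K := ZMod p) (V := ↥(Wc H e))
      rwa [Nat.card_zmod] at h3
    have h2 : (Set.univ : Set ↥(Wc H e)).ncard ≤ (⋃ i, (AW H e (x i) : Set ↥(Wc H e))).ncard :=
      Set.ncard_le_ncard hcover (Set.toFinite _)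
    have h3 := Set.ncard_iUnion_le_of_fintype (fun i => (AW H e (x i) : Set ↥(Wc H e)))
    rw [Set.ncard_univ, h1] at h2
    have h4 : ∑ i : Option (ZMod p), (AW H e (x i) : Set ↥(Wc H e)).ncard = (p + 1) * p ^ (n - d) := by
      simp only [hcard]
      rw [Finset.sum_const, Finset.card_univ, Fintype.card_option, ZMod.card, smul_eq_mul]
    omega
  have h5 : p ^ n = p ^ d * p ^ (n - d) := by
    rw [← pow_add]; congr 1; omega
  rw [h5] at htot
  have h6 : p ^ d ≤ p + 1 := Nat.le_of_mul_le_mul_right htot (pow_pos hpp.pos _)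
  have h7 : p ^ 2 ≤ p ^ d := Nat.pow_le_pow_right hpp.pos hd
  have h8 : 2 ≤ p := hpp.two_le
  nlinarith

end Cfsg.Agent.Lib.Helper13.McL
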