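import Cfsg.Agent.Lib.Helper13.McLG

set_option autoImplicit false

/-! # McLaughlin's theorem, part H: the normal subgroup of a component and its restriction. -/

namespace Cfsg.Agent.Lib.Helper13.McL

open Module

variable {p : ℕ} [Fact p.Prime] {V : Type*} [AddCommGroup V] [Module (ZMod p) V]

section res

/-- restriction of a group of linear automorphisms to an invariant subspace -/
noncomputable def resHom (W : Submodule (ZMod p) V) (K : Subgroup (V ≃ₗ[ZMod p] V))
    (hK : ∀ k ∈ K, ∀ w ∈ W, k w ∈ W) : ↥K →* (↥W ≃ₗ[ZMod p] ↥W) where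
  toFun k := LinearEquiv.ofLinearMap
    (((k : V ≃ₗ[ZMod p] V) : V →ₗ[ZMod p] V).restrict (hK k k.2))
    ((((k : V ≃ₗ[ZMod p] V)⁻¹ : V ≃ₗ[ZMod p] V) : V →ₗ[ZMod p] V).restrict
      (hK _ (K.inv_mem k.2)))
    (by
      ext w
      simp only [LinearMap.comp_apply, LinearMap.coe_restrict_apply, LinearMap.id_apply,
        LinearEquiv.coe_coe]
      show (k : V ≃ₗ[ZMod p] V) ((k : V ≃ₗ[ZMod p] V).symm (w : V)) = w
      simp)
    (by
      ext w
      simp only [LinearMap.comp_apply, LinearMap.coe_restrict_apply, LinearMap.id_apply,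
        LinearEquiv.coe_coe]
      show (k : V ≃ₗ[ZMod p] V).symm ((k : V ≃ₗ[ZMod p] V) (w : V)) = w
      simp)
  map_one' := by
    apply LinearEquiv.ext
    intro w
    apply Subtype.ext
    rfl
  map_mul' a b := by
    apply LinearEquiv.ext
    intro w
    apply Subtype.ext
    rfl

theorem resHom_apply (W : Submodule (ZMod p) V) (K : Subgroup (V ≃ₗ[ZMod p] V))
    (hK : ∀ k ∈ K, ∀ w ∈ W, k w ∈ W) (k : ↥K) (w : ↥W) :
    ((resHom W K hK k w : ↥W) : V) = (k : V ≃ₗ[ZMod p] V) (w : V) := rfl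

end res

variable (H : Subgroup (V ≃ₗ[ZMod p] V))

/-- the subgroup generated by the transvections of `H` with centre in the component of `e` -/
def Kc (e : V) : Subgroup (V ≃ₗ[ZMod p] V) :=
  Subgroup.closure {t | ∃ u, Conn H e u ∧ ∃ φ ∈ Phi H u, t = tv φ u}

variable {H} [Finite V]

theorem Kc_le (e : V) : Kc H e ≤ H := by
  unfold Kc
  rw [Subgroup.closure_le]
  rintro _ ⟨u, _, φ, hφ, rfl⟩
  exact hφ.2

theorem tv_mem_Kc {e u : V} (hu : Conn H e u) {φ : Dual (ZMod p) V} (hφ : φ ∈ Phi H u) :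
    tv φ u ∈ Kc H e :=
  Subgroup.subset_closure ⟨u, hu, φ, hφ, rfl⟩

theorem Kc_fix_Zc {e : V} : ∀ k ∈ Kc H e, ∀ z ∈ Zc H e, k z = z := by
  intro k hk
  unfold Kc at hk
  induction hk using Subgroup.closure_induction with
  | mem t ht =>
    obtain ⟨u, hu, φ, hφ, rfl⟩ := ht
    intro z hz
    rw [tv_apply hφ.1, hz u hu φ hφ, zero_smul, add_zero]
  | one => intro z _; rfl
  | mul a b _ _ iha ihb =>
    intro z hz
    rw [LinearEquiv.mul_apply, ihb z hz, iha z hz]
  | inv a _ iha =>
    intro z hz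
    have := iha z hz
    have h' : a⁻¹ (a z) = z := by
      show a.symm (a z) = z
      simp
    rw [this] at h'
    exact h'

theorem Kc_sub_mem_Wc {e : V} : ∀ k ∈ Kc H e, ∀ v, k v - v ∈ Wc H e := by
  intro k hk
  unfold Kc at hk
  induction hk using Subgroup.closure_induction with
  | mem t ht =>
    obtain ⟨u, hu, φ, hφ, rfl⟩ := ht
    intro v
    rw [tv_apply hφ.1]
    simp only [add_sub_cancel_left]
    exact Submodule.smul_mem _ _ (mem_Wc_of_conn hu)
  | one => intro v; simp
  | mul a b _ _ iha ihb =>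
    intro v
    rw [LinearEquiv.mul_apply]
    have : a (b v) - v = (a (b v) - b v) + (b v - v) := by abel
    rw [this]
    exact Submodule.add_mem _ (iha _) (ihb _)
  | inv a _ iha =>
    intro v
    have h1 : a (a⁻¹ v) = v := by
      show a (a.symm v) = v
      simp
    have : a⁻¹ v - v = -(a (a⁻¹ v) - a⁻¹ v) := by rw [h1]; abel
    rw [this]
    exact Submodule.neg_mem _ (iha _)

theorem Kc_map_Wc {e : V} : ∀ k ∈ Kc H e, ∀ w ∈ Wc H e, k w ∈ Wc H e := by
  intro k hk w hw
  have := Kc_sub_mem_Wc k hk w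
  have e1 : k w = (k w - w) + w := by abel
  rw [e1]
  exact Submodule.add_mem _ this hw

theorem Kc_conj (hS : Setup p H) {e : V} (he : IsC H e) :
    ∀ h ∈ H, ∀ k ∈ Kc H e, h * k * h⁻¹ ∈ Kc H e := by
  intro h hh k hk
  unfold Kc at hk
  induction hk using Subgroup.closure_induction with
  | mem t ht =>
    obtain ⟨u, hu, φ, hφ, rfl⟩ := ht
    rw [tv_conj h hφ.1]
    exact tv_mem_Kc ((comp_invariant hS he hh u).mp hu) (Phi_conj hh hφ)
  | one => simp
  | mul a b _ _ iha ihb =>
    have : h * (a * b) * h⁻¹ = (h * a * h⁻¹) * (h * b * h⁻¹) := by group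
    rw [this]
    exact Subgroup.mul_mem _ iha ihb
  | inv a _ iha =>
    have : h * a⁻¹ * h⁻¹ = (h * a * h⁻¹)⁻¹ := by group
    rw [this]
    exact Subgroup.inv_mem _ iha

/-- the subgroups of two distinct components commute -/
theorem Kc_commute (hS : Setup p H) {e e' : V} (he : IsC H e) (he' : IsC H e')
    (hne : ¬ Conn H e e') : ∀ a ∈ Kc H e, ∀ b ∈ Kc H e', a * b = b * a := by
  have hne' : ¬ Conn H e' e := fun h => hne h.symm
  have key : Kc H e' ≤ Subgroup.centralizer (Kc H e : Set (V ≃ₗ[ZMod p] V)) := by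
    unfold Kc
    rw [Subgroup.closure_le]
    rintro _ ⟨v, hv, ψ, hψ, rfl⟩
    rw [SetLike.mem_coe, Subgroup.mem_centralizer_iff]
    intro a ha
    -- a ranges over the closure
    have : a ∈ Subgroup.centralizer ({tv ψ v} : Set (V ≃ₗ[ZMod p] V)) := by
      have hle : Subgroup.closure {t | ∃ u, Conn H e u ∧ ∃ φ ∈ Phi H u, t = tv φ u} ≤
          Subgroup.centralizer ({tv ψ v} : Set (V ≃ₗ[ZMod p] V)) := by
        rw [Subgroup.closure_le]
        rintro _ ⟨u, hu, φ, hφ, rfl⟩
        rw [SetLike.mem_coe, Subgroup.mem_centralizer_iff]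
        intro t ht
        rw [Set.mem_singleton_iff] at ht
        rw [ht]
        exact (tv_comm hφ.1 hψ.1 (comp_perp hS he he' hne hu hv φ hφ)
          (comp_perp hS he' he hne' hv hu ψ hψ)).symm
      exact hle ha
    rw [Subgroup.mem_centralizer_iff] at this
    exact (this _ rfl).symm
  intro a ha b hb
  have := key hb
  rw [Subgroup.mem_centralizer_iff] at this
  exact this a ha

/-- the span of another component lies in the radical of the component of `e` -/
theorem Wc_le_Zc (hS : Setup p H) {e e' : V} (he : IsC H e) (he' : IsC H e')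
    (hne : ¬ Conn H e e') : Wc H e' ≤ Zc H e := by
  unfold Wc
  rw [Submodule.span_le]
  intro v hv u hu φ hφ
  exact comp_perp hS he he' hne hu hv φ hφ

end Cfsg.Agent.Lib.Helper13.McL
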