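import Cfsg.Agent.Lib.Helper13.McLH
import Cfsg.Agent.Lib.Helper13.McLGen

set_option autoImplicit false

/-! # McLaughlin's theorem, part I: components of linear type. -/

namespace Cfsg.Agent.Lib.Helper13.McL

open Module

variable {p : ℕ} [Fact p.Prime] {V : Type*} [AddCommGroup V] [Module (ZMod p) V]
variable {H : Subgroup (V ≃ₗ[ZMod p] V)} [Finite V]

/-- a complement criterion: the axes of the component span a space of dimension at most
that of the span of the component -/
theorem isCompl_of_Psi (hS : Setup p H) {e : V} (he : IsC H e)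
    (Ψ : Submodule (ZMod p) (Dual (ZMod p) V))
    (hΨ : ∀ u, Conn H e u → Phi H u ≤ Ψ)
    (hfr : Module.finrank (ZMod p) ↥Ψ ≤ Module.finrank (ZMod p) ↥(Wc H e)) :
    IsCompl (Wc H e) (Zc H e) := by
  have hdis : Wc H e ⊓ Zc H e = ⊥ := Wc_inf_Zc hS he
  have hle : Ψ.dualCoannihilator ≤ Zc H e := by
    intro v hv u hu φ hφ
    rw [Submodule.mem_dualCoannihilator] at hv
    exact hv φ (hΨ u hu hφ)
  have h1 := Subspace.finrank_add_finrank_dualCoannihilator_eq Ψ
  have h2 := Submodule.finrank_mono hle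
  have h3 := Submodule.finrank_sup_add_finrank_inf_eq (Wc H e) (Zc H e)
  rw [hdis, finrank_bot, add_zero] at h3
  have h4 : Module.finrank (ZMod p) ↥(Wc H e ⊔ Zc H e) ≤ Module.finrank (ZMod p) V :=
    Submodule.finrank_le _
  have h5 : Module.finrank (ZMod p) ↥(Wc H e ⊔ Zc H e) = Module.finrank (ZMod p) V := by omega
  have htop : Wc H e ⊔ Zc H e = ⊤ := Submodule.eq_top_of_finrank_eq h5
  exact ⟨disjoint_iff.mpr hdis, codisjoint_iff.mpr htop⟩

variable (H) in
/-- linear type: perpendicular vectors of the component are proportional -/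
def SLType (e : V) : Prop :=
  ∀ u v, Conn H e u → Conn H e v → Perp H u v → ∃ c : ZMod p, v = c • u

theorem axis_eq_of_restrict_eq (hS : Setup p H) {e : V} (he : IsC H e) (hSL : SLType H e)
    {u u' : V} (hu : Conn H e u) (hu' : Conn H e u') {φ φ' : Dual (ZMod p) V}
    (hφ : φ ∈ Phi H u) (hφ' : φ' ∈ Phi H u') (h : ∀ w ∈ Wc H e, φ w = φ' w) : φ = φ' := by
  have hφ'u : φ' ∈ Phi H u := by
    by_cases hdep : ∃ c : ZMod p, u' = c • u
    · obtain ⟨c, hc⟩ := hdep
      have hc0 : c ≠ 0 := by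
        intro h0
        rw [h0, zero_smul] at hc
        exact conn_ne_zero he.1 hu' hc
      rw [hc, Phi_smul hc0] at hφ'
      exact hφ'
    · have hnp : ¬ Perp H u u' := fun hp => hdep (hSL u u' hu hu' hp)
      obtain ⟨φ₁, hφ₁, hφ₁u'⟩ := not_perp_iff.mp hnp
      have h0 : φ' u = 0 := by
        rw [← h u (mem_Wc_of_conn hu)]; exact hφ.1
      exact Phi_S4 hφ₁ hφ' h0 hφ₁u'
  have hsub : φ - φ' ∈ Phi H u := (Phi H u).sub_mem hφ hφ'u
  have := restrict_injOn hS he hu hsub (fun w hw => by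
    rw [LinearMap.sub_apply, h w hw, sub_self])
  exact sub_eq_zero.mp this

theorem exists_axis_of_restrict (hS : Setup p H) {e : V} (he : IsC H e) (hSL : SLType H e)
    {u : V} (hu : Conn H e u) (f : Dual (ZMod p) ↥(Wc H e))
    (hf : f ⟨u, mem_Wc_of_conn hu⟩ = 0) :
    ∃ φ ∈ Phi H u, (Wc H e).dualRestrict φ = f := by
  have hmem : f ∈ (AW H e u).dualAnnihilator := by
    rw [Submodule.mem_dualAnnihilator]
    intro w hw
    rw [mem_AW] at hw
    by_cases hw0 : (w : V) = 0
    · have : w = 0 := Subtype.ext hw0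
      rw [this, map_zero]
    · obtain ⟨c, hc⟩ := hSL u w hu (conn_of_mem_Wc hS he w w.2 hw0) hw
      have : w = c • (⟨u, mem_Wc_of_conn hu⟩ : ↥(Wc H e)) := Subtype.ext hc
      rw [this, map_smul, hf, smul_zero]
  rw [← map_restrict_eq_annihilator] at hmem
  obtain ⟨φ, hφ, hres⟩ := hmem
  exact ⟨φ, hφ, hres⟩

/-- the space of all axes of a component of linear type -/
noncomputable def PsiSL (hS : Setup p H) {e : V} (he : IsC H e) (hSL : SLType H e)
    (hn3 : 3 ≤ Module.finrank (ZMod p) ↥(Wc H e)) : Submodule (ZMod p) (Dual (ZMod p) V) where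
  carrier := {φ | ∃ u, Conn H e u ∧ φ ∈ Phi H u}
  zero_mem' := ⟨e, Conn.refl e, Submodule.zero_mem _⟩
  smul_mem' := by
    rintro c φ ⟨u, hu, hφ⟩
    exact ⟨u, hu, Submodule.smul_mem _ c hφ⟩
  add_mem' := by
    rintro φ φ' ⟨u, hu, hφ⟩ ⟨u', hu', hφ'⟩
    set f := (Wc H e).dualRestrict φ with hf
    set f' := (Wc H e).dualRestrict φ' with hf'
    have hker : LinearMap.ker (f.prod f') ≠ ⊥ := by
      apply LinearMap.ker_ne_bot_of_finrank_lt
      rw [Module.finrank_prod, Module.finrank_self]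
      omega
    obtain ⟨u₀, hu₀, hu₀0⟩ := Submodule.exists_mem_ne_zero_of_ne_bot hker
    rw [LinearMap.mem_ker, LinearMap.prod_apply, Prod.mk_eq_zero] at hu₀
    have hu₀V : (u₀ : V) ≠ 0 := fun h => hu₀0 (Subtype.ext h)
    have hcu₀ : Conn H e (u₀ : V) := conn_of_mem_Wc hS he u₀ u₀.2 hu₀V
    obtain ⟨φ₀, hφ₀, hres⟩ := exists_axis_of_restrict hS he hSL hcu₀ f hu₀.1
    obtain ⟨φ₀', hφ₀', hres'⟩ := exists_axis_of_restrict hS he hSL hcu₀ f' hu₀.2
    have e1 : φ₀ = φ := by
      apply axis_eq_of_restrict_eq hS he hSL hcu₀ hu hφ₀ hφ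
      intro w hw
      have := LinearMap.congr_fun hres ⟨w, hw⟩
      rwa [hf, Submodule.dualRestrict_apply, Submodule.dualRestrict_apply] at this
    have e2 : φ₀' = φ' := by
      apply axis_eq_of_restrict_eq hS he hSL hcu₀ hu' hφ₀' hφ'
      intro w hw
      have := LinearMap.congr_fun hres' ⟨w, hw⟩
      rwa [hf', Submodule.dualRestrict_apply, Submodule.dualRestrict_apply] at this
    refine ⟨u₀, hcu₀, ?_⟩
    rw [← e1, ← e2]
    exact Submodule.add_mem _ hφ₀ hφ₀'

theorem isCompl_SL (hS : Setup p H) {e : V} (he : IsC H e) (hSL : SLType H e)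
    (hn3 : 3 ≤ Module.finrank (ZMod p) ↥(Wc H e)) : IsCompl (Wc H e) (Zc H e) := by
  refine isCompl_of_Psi hS he (PsiSL hS he hSL hn3) ?_ ?_
  · intro u hu φ hφ
    exact ⟨u, hu, hφ⟩
  · have hinj : Function.Injective
        ((Wc H e).dualRestrict ∘ₗ (PsiSL hS he hSL hn3).subtype) := by
      rw [injective_iff_map_eq_zero]
      rintro ⟨φ, u, hu, hφ⟩ h0
      rw [LinearMap.comp_apply] at h0
      apply Subtype.ext
      apply restrict_injOn hS he hu hφ
      intro w hw
      have := LinearMap.congr_fun h0 ⟨w, hw⟩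
      rwa [Submodule.dualRestrict_apply] at this
    have := LinearMap.finrank_le_finrank_of_injective hinj
    rwa [Subspace.dual_finrank_eq] at this

/-- the determinant character is trivial on the subgroup of a component -/
theorem det_res_eq_one {e : V} (k : V ≃ₗ[ZMod p] V) (hk : k ∈ Kc H e) :
    LinearEquiv.det (resHom (Wc H e) (Kc H e) Kc_map_Wc ⟨k, hk⟩) = 1 := by
  unfold Kc at hk
  induction hk using Subgroup.closure_induction with
  | mem t ht =>
    obtain ⟨u, hu, φ, hφ, rfl⟩ := ht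
    have hfu : ((Wc H e).dualRestrict φ) ⟨u, mem_Wc_of_conn hu⟩ = 0 := by
      rw [Submodule.dualRestrict_apply]; exact hφ.1
    have : resHom (Wc H e) (Kc H e) Kc_map_Wc ⟨tv φ u, Subgroup.subset_closure
        ⟨u, hu, φ, hφ, rfl⟩⟩ = LinearEquiv.transvection hfu := by
      apply LinearEquiv.ext
      intro w
      apply Subtype.ext
      rw [resHom_apply, LinearEquiv.transvection.apply]
      show tv φ u (w : V) = _
      rw [tv_apply hφ.1]
      rfl
    rw [this]
    exact LinearEquiv.transvection.det_eq_one hfu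
  | one => exact map_one _
  | mul a b ha hb iha ihb =>
    have : (⟨a * b, Subgroup.mul_mem _ ha hb⟩ : ↥(Kc H e)) = ⟨a, ha⟩ * ⟨b, hb⟩ := rfl
    rw [this, map_mul, map_mul, iha, ihb, one_mul]
  | inv a ha iha =>
    have : (⟨a⁻¹, Subgroup.inv_mem _ ha⟩ : ↥(Kc H e)) = (⟨a, ha⟩ : ↥(Kc H e))⁻¹ := rfl
    rw [this, map_inv, map_inv, iha, inv_one]

theorem range_SL (hS : Setup p H) {e : V} (he : IsC H e) (hSL : SLType H e) :
    ((resHom (Wc H e) (Kc H e) Kc_map_Wc).range : Set (↥(Wc H e) ≃ₗ[ZMod p] ↥(Wc H e))) =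
      {f : ↥(Wc H e) ≃ₗ[ZMod p] ↥(Wc H e) |
        LinearMap.det (f : ↥(Wc H e) →ₗ[ZMod p] ↥(Wc H e)) = 1} := by
  ext f
  constructor
  · rintro ⟨⟨k, hk⟩, rfl⟩
    have := det_res_eq_one k hk
    have h2 := congrArg Units.val this
    rw [LinearEquiv.coe_det] at h2
    simpa using h2
  · intro hf
    rw [Set.mem_setOf_eq] at hf
    apply mem_of_det_eq_one _ _ f hf
    intro a w haw
    by_cases hw0 : (w : V) = 0
    · have : LinearEquiv.transvection haw = 1 := by
        apply LinearEquiv.ext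
        intro x
        rw [LinearEquiv.transvection.apply]
        have : w = 0 := Subtype.ext hw0
        rw [this, smul_zero, add_zero]
        rfl
      rw [this]; exact Subgroup.one_mem _
    · have hcw : Conn H e (w : V) := conn_of_mem_Wc hS he w w.2 hw0
      obtain ⟨φ, hφ, hres⟩ := exists_axis_of_restrict hS he hSL hcw a haw
      refine ⟨⟨tv φ (w : V), tv_mem_Kc hcw hφ⟩, ?_⟩
      apply LinearEquiv.ext
      intro x
      apply Subtype.ext
      rw [resHom_apply, LinearEquiv.transvection.apply]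
      show tv φ (w : V) (x : V) = _
      rw [tv_apply hφ.1]
      have := LinearMap.congr_fun hres x
      rw [Submodule.dualRestrict_apply] at this
      rw [this]
      rfl

end Cfsg.Agent.Lib.Helper13.McL
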