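import Cfsg.Agent.Lib.Helper13.McLH

set_option autoImplicit false

/-! # McLaughlin's theorem, part J: an additive extension lemma. -/

namespace Cfsg.Agent.Lib.Helper13.McL

open Module

variable {p : ℕ} [Fact p.Prime]

/-- A function which is additive on the complement of the kernel of a nonzero additive
character `γ` (whenever the sum stays in that complement) extends to an additive map. -/
theorem exists_additive_ext {W M : Type*} [AddCommGroup W] [AddCommGroup M] (hp : Odd p)
    (γ : W →+ ZMod p) (f₀ : W) (hf₀ : γ f₀ = 1) (T : W → M)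
    (hT : ∀ x y, γ x ≠ 0 → γ y ≠ 0 → γ (x + y) ≠ 0 → T (x + y) = T x + T y) :
    ∃ θ : W →+ M, ∀ x, γ x ≠ 0 → θ x = T x := by
  classical
  have h2 : (2 : ZMod p) ≠ 0 := two_ne_zero' hp
  have h1 : (1 : ZMod p) ≠ 0 := one_ne_zero
  have h11 : (1 : ZMod p) + 1 ≠ 0 := by
    have : (1 : ZMod p) + 1 = 2 := by norm_num
    rw [this]; exact h2
  let θf : W → M := fun x => if γ x = 0 then T (x + f₀) - T f₀ else T x
  have θ0 : ∀ x, γ x = 0 → θf x = T (x + f₀) - T f₀ := fun x hx => if_pos hx
  have θ1 : ∀ x, γ x ≠ 0 → θf x = T x := fun x hx => if_neg hx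
  -- the case `γ x = 0`, `γ y ≠ 0`
  have case01 : ∀ x y, γ x = 0 → γ y ≠ 0 → θf (x + y) = θf x + θf y := by
    intro x y ha hb
    have hab : γ (x + y) ≠ 0 := by rw [map_add, ha, zero_add]; exact hb
    rw [θ1 _ hab, θ0 _ ha, θ1 _ hb]
    have gx1 : γ (x + f₀) = 1 := by rw [map_add, ha, hf₀, zero_add]
    by_cases hb1 : γ y + 1 = 0
    · have hby : γ y = -1 := eq_neg_of_add_eq_zero_left hb1
      have gx2 : γ (x + f₀ + f₀) = 1 + 1 := by rw [map_add, gx1, hf₀]
      have e1 := hT (x + f₀ + f₀) y (by rw [gx2]; exact h11) hb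
        (by rw [map_add, gx2, hby]; norm_num)
      have e2 := hT (x + f₀) f₀ (by rw [gx1]; exact h1) (by rw [hf₀]; exact h1)
        (by rw [gx2]; exact h11)
      have e3 := hT (x + y) (f₀ + f₀) hab (by rw [map_add, hf₀]; exact h11)
        (by rw [map_add, map_add, map_add, ha, hby, hf₀]; norm_num)
      have e4 := hT f₀ f₀ (by rw [hf₀]; exact h1) (by rw [hf₀]; exact h1)
        (by rw [map_add, hf₀]; exact h11)
      have e5 : x + f₀ + f₀ + y = x + y + (f₀ + f₀) := by abel
      rw [e5, e3, e4, e2] at e1
      -- e1 : T (x + y) + (T f₀ + T f₀) = T (x + f₀) + T f₀ + T y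
      have : T (x + y) = T (x + f₀) - T f₀ + T y := by
        have h := e1
        have h' : T (x + y) = T (x + f₀) + T f₀ + T y - (T f₀ + T f₀) := by
          rw [← h]; abel
        rw [h']; abel
      exact this
    · have e1 := hT (x + f₀) y (by rw [gx1]; exact h1) hb
        (by rw [map_add, gx1, add_comm]; exact hb1)
      have e2 := hT (x + y) f₀ hab (by rw [hf₀]; exact h1)
        (by rw [map_add, map_add, ha, hf₀, zero_add]; exact hb1)
      have e5 : x + f₀ + y = x + y + f₀ := by abel
      rw [e5, e2] at e1
      have : T (x + y) = T (x + f₀) + T y - T f₀ := by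
        rw [← e1]; abel
      rw [this]; abel
  have hadd : ∀ x y, θf (x + y) = θf x + θf y := by
    intro x y
    by_cases ha : γ x = 0
    · by_cases hb : γ y = 0
      · have hab : γ (x + y) = 0 := by rw [map_add, ha, hb, add_zero]
        rw [θ0 _ hab, θ0 _ ha, θ0 _ hb]
        have gx1 : γ (x + f₀) = 1 := by rw [map_add, ha, hf₀, zero_add]
        have gy1 : γ (y + f₀) = 1 := by rw [map_add, hb, hf₀, zero_add]
        have gxy1 : γ (x + y + f₀) = 1 := by rw [map_add, hab, hf₀, zero_add]
        have e1 := hT (x + f₀) (y + f₀) (by rw [gx1]; exact h1) (by rw [gy1]; exact h1)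
          (by rw [map_add, gx1, gy1]; exact h11)
        have e2 := hT (x + y + f₀) f₀ (by rw [gxy1]; exact h1) (by rw [hf₀]; exact h1)
          (by rw [map_add, gxy1, hf₀]; exact h11)
        have e5 : x + f₀ + (y + f₀) = x + y + f₀ + f₀ := by abel
        rw [e5, e2] at e1
        have : T (x + y + f₀) = T (x + f₀) + T (y + f₀) - T f₀ := by
          rw [← e1]; abel
        rw [this]; abel
      · exact case01 x y ha hb
    · by_cases hb : γ y = 0
      · rw [add_comm x y, case01 y x hb ha, add_comm]
      · by_cases hab : γ (x + y) = 0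
        · rw [θ0 _ hab, θ1 _ ha, θ1 _ hb]
          have hab' : γ x + γ y = 0 := by rw [← map_add]; exact hab
          by_cases ha1 : γ x + 1 = 0
          · have hax : γ x = -1 := eq_neg_of_add_eq_zero_left ha1
            have hby : γ y = 1 := by
              have : γ y = -γ x := eq_neg_of_add_eq_zero_right hab'
              rw [this, hax, neg_neg]
            have gy2 : γ (y + f₀) = 1 + 1 := by rw [map_add, hby, hf₀]
            have e1 := hT y f₀ hb (by rw [hf₀]; exact h1) (by rw [gy2]; exact h11)
            have e2 := hT x (y + f₀) ha (by rw [gy2]; exact h11)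
              (by rw [map_add, gy2, hax]; norm_num)
            have e5 : x + (y + f₀) = x + y + f₀ := by abel
            rw [e5, e1] at e2
            rw [e2]; abel
          · have gx1 : γ (x + f₀) = γ x + 1 := by rw [map_add, hf₀]
            have e1 := hT x f₀ ha (by rw [hf₀]; exact h1) (by rw [gx1]; exact ha1)
            have e2 := hT (x + f₀) y (by rw [gx1]; exact ha1) hb
              (by
                rw [map_add, gx1]
                have : γ x + 1 + γ y = 1 := by linear_combination hab'
                rw [this]; exact h1)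
            have e5 : x + f₀ + y = x + y + f₀ := by abel
            rw [e5, e1] at e2
            rw [e2]; abel
        · rw [θ1 _ hab, θ1 _ ha, θ1 _ hb]
          exact hT x y ha hb hab
  exact ⟨AddMonoidHom.mk' θf hadd, fun x hx => θ1 x hx⟩

end Cfsg.Agent.Lib.Helper13.McL
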