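import Cfsg.Agent.Lib.Helper13.McLJ
import Cfsg.Agent.Lib.Helper13.McLI

set_option autoImplicit false

/-! # McLaughlin's theorem, part K: components of symplectic type (normalised axes). -/

namespace Cfsg.Agent.Lib.Helper13.McL

open Module

variable {p : ℕ} [Fact p.Prime] {V : Type*} [AddCommGroup V] [Module (ZMod p) V]
variable {H : Subgroup (V ≃ₗ[ZMod p] V)} [Finite V]

variable (H) in
/-- symplectic type: every centre of the component has a unique axis up to scalars -/
def SpType (e : V) : Prop :=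
  ∀ u, Conn H e u → ∀ φ ∈ Phi H u, ∀ φ' ∈ Phi H u, φ ≠ 0 → ∃ c : ZMod p, φ' = c • φ

theorem spType_of_finrank (hS : Setup p H) {e : V}
    (hd : Module.finrank (ZMod p) ↥(Phi H e) = 1) : SpType H e := by
  intro u hu φ hφ φ' hφ' hφ0
  have h1 : Module.finrank (ZMod p) ↥(Phi H u) = 1 := by
    rw [← finrank_Phi_of_conn hu]; exact hd
  have hne : (⟨φ, hφ⟩ : ↥(Phi H u)) ≠ 0 := fun h => hφ0 (congrArg Subtype.val h)
  obtain ⟨c, hc⟩ := (finrank_eq_one_iff_of_nonzero' _ hne).mp h1 ⟨φ', hφ'⟩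
  exact ⟨c, (congrArg Subtype.val hc).symm⟩

omit [Finite V] in
theorem perp_iff_of_spType {e : V} (hSp : SpType H e) {u : V} (hu : Conn H e u)
    {ψ : Dual (ZMod p) V} (hψ : ψ ∈ Phi H u) (hψ0 : ψ ≠ 0) (v : V) :
    Perp H u v ↔ ψ v = 0 := by
  constructor
  · intro h; exact h ψ hψ
  · intro h φ hφ
    obtain ⟨c, hc⟩ := hSp u hu ψ hψ φ hφ hψ0
    rw [hc, LinearMap.smul_apply, h, smul_zero]

/-- data for the symplectic analysis: a base centre with a chosen axis -/
structure SpData (H : Subgroup (V ≃ₗ[ZMod p] V)) (e : V) (γ : Dual (ZMod p) V) : Prop where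
  setup : Setup p H
  isC : IsC H e
  sp : SpType H e
  mem : γ ∈ Phi H e
  ne : γ ≠ 0

variable {e : V} {γ : Dual (ZMod p) V}

theorem SpData.exT (D : SpData H e γ) {x : V} (hx : Conn H e x) (hγx : γ x ≠ 0) :
    ∃ ψ ∈ Phi H x, ψ e = -γ x := by
  have h1 : ¬ Perp H e x := fun h => hγx (h γ D.mem)
  have h2 : ¬ Perp H x e := fun h => h1 (perp_symm_of_conn hx.symm h)
  obtain ⟨ψ₀, hψ₀, hψ₀e⟩ := not_perp_iff.mp h2
  refine ⟨(-γ x * (ψ₀ e)⁻¹) • ψ₀, Submodule.smul_mem _ _ hψ₀, ?_⟩
  rw [LinearMap.smul_apply, smul_eq_mul, mul_assoc, inv_mul_cancel₀ hψ₀e, mul_one]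

open Classical in
/-- the normalised axis of a vector `x` of the component with `γ x ≠ 0` -/
noncomputable def SpData.T (D : SpData H e γ) (x : V) : Dual (ZMod p) V :=
  if h : Conn H e x ∧ γ x ≠ 0 then Classical.choose (D.exT h.1 h.2) else 0

theorem SpData.T_mem (D : SpData H e γ) {x : V} (hx : Conn H e x) (hγx : γ x ≠ 0) :
    D.T x ∈ Phi H x := by
  unfold SpData.T
  rw [dif_pos ⟨hx, hγx⟩]
  exact (Classical.choose_spec (D.exT hx hγx)).1

theorem SpData.T_e (D : SpData H e γ) {x : V} (hx : Conn H e x) (hγx : γ x ≠ 0) :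
    D.T x e = -γ x := by
  unfold SpData.T
  rw [dif_pos ⟨hx, hγx⟩]
  exact (Classical.choose_spec (D.exT hx hγx)).2

theorem SpData.T_ne (D : SpData H e γ) {x : V} (hx : Conn H e x) (hγx : γ x ≠ 0) :
    D.T x ≠ 0 := by
  intro h
  have := D.T_e hx hγx
  rw [h] at this
  apply hγx
  have h' : (0 : ZMod p) = -γ x := this
  exact neg_eq_zero.mp h'.symm

theorem SpData.T_unique (D : SpData H e γ) {x : V} (hx : Conn H e x) (hγx : γ x ≠ 0)
    {ψ : Dual (ZMod p) V} (hψ : ψ ∈ Phi H x) (hψe : ψ e = -γ x) : ψ = D.T x := by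
  obtain ⟨c, hc⟩ := D.sp x hx (D.T x) (D.T_mem hx hγx) ψ hψ (D.T_ne hx hγx)
  have h1 : ψ e = c * D.T x e := by rw [hc]; rfl
  rw [hψe, D.T_e hx hγx] at h1
  have hne : -γ x ≠ 0 := neg_ne_zero.mpr hγx
  have hc1 : c = 1 := by
    have : (1 - c) * (-γ x) = 0 := by linear_combination h1
    rcases mul_eq_zero.mp this with h | h
    · exact (sub_eq_zero.mp h).symm
    · exact absurd h hne
  rw [hc, hc1, one_smul]

theorem SpData.T_apply_eq_zero_iff (D : SpData H e γ) {x : V} (hx : Conn H e x) (hγx : γ x ≠ 0)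
    (v : V) : D.T x v = 0 ↔ Perp H x v :=
  (perp_iff_of_spType D.sp hx (D.T_mem hx hγx) (D.T_ne hx hγx) v).symm

theorem SpData.perp_e_iff (D : SpData H e γ) (v : V) : Perp H e v ↔ γ v = 0 :=
  perp_iff_of_spType D.sp (Conn.refl e) D.mem D.ne v

/-- antisymmetry of the normalised axes -/
theorem SpData.antisymm (D : SpData H e γ) {x y : V} (hx : Conn H e x) (hγx : γ x ≠ 0)
    (hy : Conn H e y) (hγy : γ y ≠ 0) : D.T x y + D.T y x = 0 := by
  have hxy : Conn H x y := hx.symm.trans hy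
  by_cases hp : Perp H x y
  · have h1 : D.T x y = 0 := hp _ (D.T_mem hx hγx)
    have h2 : D.T y x = 0 := (perp_symm_of_conn hxy hp) _ (D.T_mem hy hγy)
    rw [h1, h2, add_zero]
  · have hp' : ¬ Perp H y x := fun h => hp (perp_symm_of_conn hxy.symm h)
    have hαy : D.T x y ≠ 0 := fun h => hp ((D.T_apply_eq_zero_iff hx hγx y).mp h)
    have hβx : D.T y x ≠ 0 := fun h => hp' ((D.T_apply_eq_zero_iff hy hγy x).mp h)
    set α := D.T x with hα
    set β := D.T y with hβ
    have hαm : α ∈ Phi H x := D.T_mem hx hγx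
    have hβm : β ∈ Phi H y := D.T_mem hy hγy
    set β' : Dual (ZMod p) V := (-(α y) * (β x)⁻¹) • β with hβ'
    have hβ'm : β' ∈ Phi H y := Submodule.smul_mem _ _ hβm
    have hβ'x : β' x = -α y := by
      rw [hβ', LinearMap.smul_apply, smul_eq_mul, mul_assoc, inv_mul_cancel₀ hβx, mul_one]
    have h1 : α y + β' x = 0 := by rw [hβ'x]; ring
    have h2 : β' x ≠ 0 := by rw [hβ'x]; exact neg_ne_zero.mpr hαy
    set c : ZMod p := -γ x * (γ y)⁻¹ with hc
    have hF := Phi_F1 hαm hβ'm h1 h2 c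
    have hhyp : Hyp H x y :=
      ⟨conn_ne_zero D.isC.1 hx, conn_ne_zero D.isC.1 hy, hp, hp'⟩
    have hcz : Conn H e (x + c • y) := comp_line hx hhyp c
    have hγz : γ (x + c • y) = 0 := by
      rw [map_add, map_smul, smul_eq_mul, hc, mul_assoc, inv_mul_cancel₀ hγy]
      ring
    have hpez : Perp H e (x + c • y) := (D.perp_e_iff _).mpr hγz
    have hpze : Perp H (x + c • y) e := perp_symm_of_conn hcz hpez
    have h3 := hpze _ hF
    rw [LinearMap.add_apply, LinearMap.smul_apply, hβ', LinearMap.smul_apply, smul_eq_mul,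
      smul_eq_mul, hα, hβ, D.T_e hx hγx, D.T_e hy hγy, hc] at h3
    rw [← hα, ← hβ] at h3
    -- h3 : -γ x + -γ x * (γ y)⁻¹ * (-(α y) * (β x)⁻¹ * -γ y) = 0
    have h4 : γ x * (β x + α y) = 0 := by
      have e1 : -γ x + -γ x * (γ y)⁻¹ * (-(α y) * (β x)⁻¹ * -γ y) =
          -(γ x * (β x + α y)) * (β x)⁻¹ := by
        field_simp
        ring
      rw [e1] at h3
      rcases mul_eq_zero.mp h3 with h | h
      · exact neg_eq_zero.mp h
      · exact absurd (inv_eq_zero.mp h) hβx
    rcases mul_eq_zero.mp h4 with h | h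
    · exact absurd h hγx
    · rw [add_comm]; exact h

/-- adding a multiple of the base centre -/
theorem SpData.T_add_e (D : SpData H e γ) {x : V} (hx : Conn H e x) (hγx : γ x ≠ 0)
    (c : ZMod p) (hc : Conn H e (x + c • e)) : D.T (x + c • e) = D.T x + c • γ := by
  have hγ' : γ (x + c • e) = γ x := by
    rw [map_add, map_smul, D.mem.1, smul_zero, add_zero]
  have hγ'' : γ (x + c • e) ≠ 0 := by rw [hγ']; exact hγx
  symm
  apply D.T_unique hc hγ''
  · apply Phi_F1 (D.T_mem hx hγx) D.mem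
    · rw [D.T_e hx hγx]; ring
    · exact hγx
  · rw [LinearMap.add_apply, LinearMap.smul_apply, D.mem.1, smul_zero, add_zero, D.T_e hx hγx,
      hγ']

/-- additivity of the normalised axes off the hyperplane `γ = 0` -/
theorem SpData.T_add (D : SpData H e γ) {x y : V} (hx : Conn H e x) (hγx : γ x ≠ 0)
    (hy : Conn H e y) (hγy : γ y ≠ 0) (hγxy : γ (x + y) ≠ 0) :
    D.T (x + y) = D.T x + D.T y := by
  have hS := D.setup
  have he := D.isC
  -- hyperbolic case
  have hypcase : ∀ a b : V, Conn H e a → γ a ≠ 0 → Conn H e b → γ b ≠ 0 → γ (a + b) ≠ 0 →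
      ¬ Perp H a b → D.T (a + b) = D.T a + D.T b := by
    intro a b ha hγa hb hγb hγab hnp
    have hab : Conn H a b := ha.symm.trans hb
    have hnp' : ¬ Perp H b a := fun h => hnp (perp_symm_of_conn hab.symm h)
    have hβa : D.T b a ≠ 0 := fun h => hnp' ((D.T_apply_eq_zero_iff hb hγb a).mp h)
    have hF := Phi_F1 (D.T_mem ha hγa) (D.T_mem hb hγb) (D.antisymm ha hγa hb hγb) hβa 1
    rw [one_smul, one_smul] at hF
    have hcab : Conn H e (a + b) := by
      have := comp_line ha ⟨conn_ne_zero he.1 ha, conn_ne_zero he.1 hb, hnp, hnp'⟩ 1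
      rwa [one_smul] at this
    symm
    apply D.T_unique hcab hγab hF
    rw [LinearMap.add_apply, D.T_e ha hγa, D.T_e hb hγb, map_add]
    ring
  by_cases hp : Perp H x y
  · -- use the base centre
    have hx1W : x + (1 : ZMod p) • e ∈ Wc H e :=
      Submodule.add_mem _ (mem_Wc_of_conn hx) (Submodule.smul_mem _ _ (mem_Wc_of_conn (Conn.refl e)))
    have hy1W : y + (-1 : ZMod p) • e ∈ Wc H e :=
      Submodule.add_mem _ (mem_Wc_of_conn hy) (Submodule.smul_mem _ _ (mem_Wc_of_conn (Conn.refl e)))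
    have hγx1 : γ (x + (1 : ZMod p) • e) = γ x := by
      rw [map_add, map_smul, D.mem.1, smul_zero, add_zero]
    have hγy1 : γ (y + (-1 : ZMod p) • e) = γ y := by
      rw [map_add, map_smul, D.mem.1, smul_zero, add_zero]
    have hx10 : x + (1 : ZMod p) • e ≠ 0 := by
      intro h; rw [h, map_zero] at hγx1; exact hγx hγx1.symm
    have hy10 : y + (-1 : ZMod p) • e ≠ 0 := by
      intro h; rw [h, map_zero] at hγy1; exact hγy hγy1.symm
    have hcx1 := conn_of_mem_Wc hS he _ hx1W hx10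
    have hcy1 := conn_of_mem_Wc hS he _ hy1W hy10
    have e1 := D.T_add_e hx hγx 1 hcx1
    have e2 := D.T_add_e hy hγy (-1) hcy1
    have hsum : x + (1 : ZMod p) • e + (y + (-1 : ZMod p) • e) = x + y := by module
    have hnp : ¬ Perp H (x + (1 : ZMod p) • e) (y + (-1 : ZMod p) • e) := by
      intro h
      have := h _ (D.T_mem hcx1 (by rw [hγx1]; exact hγx))
      rw [e1, LinearMap.add_apply, LinearMap.smul_apply, map_add, map_add, map_smul, map_smul,
        hp _ (D.T_mem hx hγx), D.T_e hx hγx, D.mem.1] at this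
      apply hγxy
      rw [map_add]
      simp only [smul_eq_mul, mul_zero, add_zero, zero_add, mul_neg, mul_one, neg_neg,
        one_mul] at this
      linear_combination this
    have := hypcase _ _ hcx1 (by rw [hγx1]; exact hγx) hcy1 (by rw [hγy1]; exact hγy)
      (by rw [hsum]; exact hγxy) hnp
    rw [hsum, e1, e2] at this
    rw [this]
    module
  · exact hypcase x y hx hγx hy hγy hγxy hp

end Cfsg.Agent.Lib.Helper13.McL
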