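import Cfsg.Agent.Lib.Helper13.McLK

set_option autoImplicit false

/-! # McLaughlin's theorem, part L: the symplectic form of a component of symplectic type. -/

namespace Cfsg.Agent.Lib.Helper13.McL

open Module

variable {p : ℕ} [Fact p.Prime] {V : Type*} [AddCommGroup V] [Module (ZMod p) V]
variable {H : Subgroup (V ≃ₗ[ZMod p] V)} [Finite V]
variable {e : V} {γ : Dual (ZMod p) V}

theorem SpData.exists_f₀ (D : SpData H e γ) : ∃ f₀ : ↥(Wc H e), γ (f₀ : V) = 1 := by
  have : ∃ w ∈ Wc H e, γ w ≠ 0 := by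
    by_contra hcon
    push Not at hcon
    exact D.ne (restrict_injOn D.setup D.isC (Conn.refl e) D.mem hcon)
  obtain ⟨w, hw, hγw⟩ := this
  refine ⟨⟨(γ w)⁻¹ • w, Submodule.smul_mem _ _ hw⟩, ?_⟩
  show γ ((γ w)⁻¹ • w) = 1
  rw [map_smul, smul_eq_mul, inv_mul_cancel₀ hγw]

theorem SpData.exists_theta (D : SpData H e γ) :
    ∃ θ : ↥(Wc H e) →ₗ[ZMod p] Dual (ZMod p) V,
      ∀ w : ↥(Wc H e), γ (w : V) ≠ 0 → θ w = D.T (w : V) := by
  obtain ⟨f₀, hf₀⟩ := D.exists_f₀
  let γW : ↥(Wc H e) →+ ZMod p := (γ ∘ₗ (Wc H e).subtype).toAddMonoidHom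
  have hγW : ∀ w : ↥(Wc H e), γW w = γ (w : V) := fun w => rfl
  have hconn : ∀ w : ↥(Wc H e), γ (w : V) ≠ 0 → Conn H e (w : V) := by
    intro w hw
    apply conn_of_mem_Wc D.setup D.isC _ w.2
    intro h0
    rw [h0, map_zero] at hw
    exact hw rfl
  obtain ⟨θ, hθ⟩ := exists_additive_ext D.setup.odd γW f₀ (by rw [hγW]; exact hf₀)
    (fun w => D.T (w : V))
    (by
      intro x y hx hy hxy
      rw [hγW] at hx hy hxy
      have hxy' : γ ((x : V) + (y : V)) ≠ 0 := hxy
      exact D.T_add (hconn x hx) hx (hconn y hy) hy hxy')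
  refine ⟨θ.toZModLinearMap p, ?_⟩
  intro w hw
  exact hθ w (by rw [hγW]; exact hw)

omit [Finite V] in
theorem perp_neg_left {u v : V} : Perp H (-u) v ↔ Perp H u v := by
  have : -u = (-1 : ZMod p) • u := by simp
  unfold Perp
  rw [this, Phi_smul (by simp)]

/-- the normalised axis `θ w` spans the axes of `w` -/
theorem SpData.theta_mem (D : SpData H e γ) (θ : ↥(Wc H e) →ₗ[ZMod p] Dual (ZMod p) V)
    (hθ : ∀ w : ↥(Wc H e), γ (w : V) ≠ 0 → θ w = D.T (w : V)) (w : ↥(Wc H e)) (hw : w ≠ 0) :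
    θ w ∈ Phi H (w : V) ∧ θ w ≠ 0 := by
  have hS := D.setup
  have he := D.isC
  have hwV : (w : V) ≠ 0 := fun h => hw (Subtype.ext h)
  have hcw : Conn H e (w : V) := conn_of_mem_Wc hS he _ w.2 hwV
  by_cases hγw : γ (w : V) ≠ 0
  · rw [hθ w hγw]
    exact ⟨D.T_mem hcw hγw, D.T_ne hcw hγw⟩
  push Not at hγw
  obtain ⟨f₀, hf₀⟩ := D.exists_f₀
  -- find `f` with `γ f ≠ 0` and `¬ Perp w f`
  obtain ⟨f, hγf, hnp⟩ : ∃ f : ↥(Wc H e), γ (f : V) ≠ 0 ∧ ¬ Perp H (w : V) (f : V) := by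
    obtain ⟨φ, hφ, hφ0⟩ := (conn_isC he hcw).2
    have : ∃ w' ∈ Wc H e, φ w' ≠ 0 := by
      by_contra hcon
      push Not at hcon
      exact hφ0 (restrict_injOn hS he hcw hφ hcon)
    obtain ⟨f₁, hf₁W, hφf₁⟩ := this
    by_cases h1 : γ f₁ ≠ 0
    · exact ⟨⟨f₁, hf₁W⟩, h1, not_perp_iff.mpr ⟨φ, hφ, hφf₁⟩⟩
    push Not at h1
    by_cases h2 : Perp H (w : V) (f₀ : V)
    · refine ⟨⟨f₁, hf₁W⟩ + f₀, ?_, ?_⟩
      · show γ (f₁ + (f₀ : V)) ≠ 0
        rw [map_add, h1, hf₀, zero_add]; exact one_ne_zero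
      · refine not_perp_iff.mpr ⟨φ, hφ, ?_⟩
        show φ (f₁ + (f₀ : V)) ≠ 0
        rw [map_add, h2 φ hφ, add_zero]; exact hφf₁
    · exact ⟨f₀, by rw [hf₀]; exact one_ne_zero, h2⟩
  have hfV : (f : V) ≠ 0 := by
    intro h; rw [h, map_zero] at hγf; exact hγf rfl
  have hcf : Conn H e (f : V) := conn_of_mem_Wc hS he _ f.2 hfV
  have hγwf : γ ((w : V) + (f : V)) ≠ 0 := by rw [map_add, hγw, zero_add]; exact hγf
  have hwf0 : (w : V) + (f : V) ≠ 0 := by
    intro h; rw [h, map_zero] at hγwf; exact hγwf rfl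
  have hcwf : Conn H e ((w : V) + (f : V)) :=
    conn_of_mem_Wc hS he _ (Submodule.add_mem _ w.2 f.2) hwf0
  have hcnf : Conn H e (-(f : V)) := comp_neg hS he hcf
  have hγnf : γ (-(f : V)) ≠ 0 := by rw [map_neg]; exact neg_ne_zero.mpr hγf
  -- θ w = T (w + f) - T f
  have e1 : θ w = D.T ((w : V) + (f : V)) - D.T (f : V) := by
    have h1 : θ (w + f) = θ w + θ f := map_add θ w f
    have h2 : θ (w + f) = D.T ((w : V) + (f : V)) := hθ (w + f) hγwf
    have h3 : θ f = D.T (f : V) := hθ f hγf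
    rw [h2, h3] at h1
    rw [h1]; abel
  have e2 : D.T (-(f : V)) = -D.T (f : V) := by
    symm
    apply D.T_unique hcnf hγnf
    · rw [show -(f : V) = (-1 : ZMod p) • (f : V) by simp, Phi_smul (by simp)]
      exact Submodule.neg_mem _ (D.T_mem hcf hγf)
    · rw [LinearMap.neg_apply, D.T_e hcf hγf, map_neg]
  have hnp_fw : ¬ Perp H (f : V) (w : V) :=
    fun h => hnp (perp_symm_of_conn (hcf.symm.trans hcw) h)
  have hnp1 : ¬ Perp H (f : V) ((w : V) + (f : V)) := by
    intro h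
    apply hnp_fw
    have h' : Perp H (f : V) ((w : V) + (f : V) - (w : V)) := by
      rw [add_sub_cancel_left]; exact perp_self _
    exact (perp_congr_of_sub h').mp h
  have hne1 : D.T (-(f : V)) ((w : V) + (f : V)) ≠ 0 := by
    intro h
    apply hnp1
    rw [← perp_neg_left]
    exact (D.T_apply_eq_zero_iff hcnf hγnf _).mp h
  have hF := Phi_F1 (D.T_mem hcwf hγwf) (D.T_mem hcnf hγnf)
    (D.antisymm hcwf hγwf hcnf hγnf) hne1 1
  rw [one_smul, one_smul, e2, add_neg_cancel_right, ← sub_eq_add_neg, ← e1] at hF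
  refine ⟨hF, ?_⟩
  intro h0
  have h4 : θ w (f : V) = 0 := by rw [h0]; rfl
  rw [e1, LinearMap.sub_apply, (D.T_mem hcf hγf).1, sub_zero] at h4
  have h5 : Perp H ((w : V) + (f : V)) (f : V) := (D.T_apply_eq_zero_iff hcwf hγwf _).mp h4
  exact hnp1 (perp_symm_of_conn (hcwf.symm.trans hcf) h5)

/-- **Symplectic type.** -/
theorem SpData.main (D : SpData H e γ) :
    ∃ B : LinearMap.BilinForm (ZMod p) ↥(Wc H e), B.IsAlt ∧ B.Nondegenerate ∧
      ((resHom (Wc H e) (Kc H e) Kc_map_Wc).range :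
          Set (↥(Wc H e) ≃ₗ[ZMod p] ↥(Wc H e))) =
        {f : ↥(Wc H e) ≃ₗ[ZMod p] ↥(Wc H e) | ∀ x y, B (f x) (f y) = B x y} ∧
      IsCompl (Wc H e) (Zc H e) := by
  have hS := D.setup
  have he := D.isC
  obtain ⟨θ, hθ⟩ := D.exists_theta
  have hmem := D.theta_mem θ hθ
  let B : LinearMap.BilinForm (ZMod p) ↥(Wc H e) := (Wc H e).dualRestrict ∘ₗ θ
  have hB : ∀ x y : ↥(Wc H e), B x y = θ x (y : V) := fun x y => rfl
  have hA : B.IsAlt := by
    intro x
    rw [hB]
    by_cases hx : x = 0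
    · rw [hx, map_zero]; rfl
    · exact (hmem x hx).1.1
  have hneg : ∀ x y, B x y = -B y x := fun x y => (LinearMap.IsAlt.neg hA y x).symm
  have hsep : B.SeparatingLeft := by
    intro x hx
    by_contra hx0
    have hxV : (x : V) ≠ 0 := fun h => hx0 (Subtype.ext h)
    have hcx : Conn H e (x : V) := conn_of_mem_Wc hS he _ x.2 hxV
    apply (hmem x hx0).2
    apply restrict_injOn hS he hcx (hmem x hx0).1
    intro w hw
    exact hx ⟨w, hw⟩
  have hnd : B.Nondegenerate := (LinearMap.IsRefl.nondegenerate_iff_separatingLeft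
    (LinearMap.IsAlt.isRefl hA)).mpr hsep
  -- every axis is a multiple of the normalised one
  have hspan : ∀ (u : V) (hu : Conn H e u), ∀ φ ∈ Phi H u,
      ∃ c : ZMod p, φ = c • θ ⟨u, mem_Wc_of_conn hu⟩ := by
    intro u hu φ hφ
    have hu0 : (⟨u, mem_Wc_of_conn hu⟩ : ↥(Wc H e)) ≠ 0 := by
      intro h
      exact conn_ne_zero he.1 hu (congrArg Subtype.val h)
    exact D.sp u hu _ (hmem _ hu0).1 φ hφ (hmem _ hu0).2
  refine ⟨B, hA, hnd, ?_, ?_⟩
  · -- the range
    have hsub : ∀ (k : V ≃ₗ[ZMod p] V) (hk : k ∈ Kc H e), ∀ x y,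
        B (resHom (Wc H e) (Kc H e) Kc_map_Wc ⟨k, hk⟩ x)
          (resHom (Wc H e) (Kc H e) Kc_map_Wc ⟨k, hk⟩ y) = B x y := by
      intro k hk
      unfold Kc at hk
      induction hk using Subgroup.closure_induction with
      | mem t ht =>
        obtain ⟨u, hu, φ, hφ, rfl⟩ := ht
        obtain ⟨c, hc⟩ := hspan u hu φ hφ
        set u' : ↥(Wc H e) := ⟨u, mem_Wc_of_conn hu⟩ with hu'
        have hact : ∀ x : ↥(Wc H e), resHom (Wc H e) (Kc H e) Kc_map_Wc
            ⟨tv φ u, Subgroup.subset_closure ⟨u, hu, φ, hφ, rfl⟩⟩ x = x + (c * B u' x) • u' := by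
          intro x
          apply Subtype.ext
          rw [resHom_apply]
          show tv φ u (x : V) = _
          rw [tv_apply hφ.1, hc]
          rfl
        intro x y
        rw [hact, hact]
        simp only [map_add, map_smul, LinearMap.add_apply, LinearMap.smul_apply, smul_eq_mul,
          hA u', mul_zero, add_zero]
        rw [hneg x u']
        ring
      | one => intro x y; rfl
      | mul a b ha hb iha ihb =>
        intro x y
        have : (⟨a * b, Subgroup.mul_mem _ ha hb⟩ : ↥(Kc H e)) = ⟨a, ha⟩ * ⟨b, hb⟩ := rfl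
        rw [this, map_mul, LinearEquiv.mul_apply, LinearEquiv.mul_apply, iha, ihb]
      | inv a ha iha =>
        intro x y
        have : (⟨a⁻¹, Subgroup.inv_mem _ ha⟩ : ↥(Kc H e)) = (⟨a, ha⟩ : ↥(Kc H e))⁻¹ := rfl
        rw [this, map_inv]
        set g := resHom (Wc H e) (Kc H e) Kc_map_Wc ⟨a, ha⟩ with hg
        have h1 := iha (g⁻¹ x) (g⁻¹ y)
        have h2 : ∀ z, g (g⁻¹ z) = z := by
          intro z
          show g (g.symm z) = z
          simp
        rw [h2, h2] at h1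
        exact h1.symm
    ext f
    constructor
    · rintro ⟨⟨k, hk⟩, rfl⟩
      exact hsub k hk
    · intro hf
      apply mem_of_isometry B hnd hA _ _ _ f hf
      · intro a c
        by_cases ha0 : a = 0
        · have : symTv B hA a c = 1 := by
            apply LinearEquiv.ext
            intro x
            rw [symTv_apply, ha0, smul_zero, add_zero]
            rfl
          rw [this]; exact Subgroup.one_mem _
        · have haV : (a : V) ≠ 0 := fun h => ha0 (Subtype.ext h)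
          have hca : Conn H e (a : V) := conn_of_mem_Wc hS he _ a.2 haV
          have hφ : (-c) • θ a ∈ Phi H (a : V) := Submodule.smul_mem _ _ (hmem a ha0).1
          refine ⟨⟨tv ((-c) • θ a) (a : V), tv_mem_Kc hca hφ⟩, ?_⟩
          apply LinearEquiv.ext
          intro x
          apply Subtype.ext
          rw [resHom_apply, symTv_apply]
          show tv ((-c) • θ a) (a : V) (x : V) = _
          rw [tv_apply hφ.1, LinearMap.smul_apply, smul_eq_mul, hneg x a, hB]
          simp only [Submodule.coe_add, Submodule.coe_smul]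
          congr 2
          ring
      · rintro g ⟨⟨k, hk⟩, rfl⟩
        exact hsub k hk
  · -- the complement
    refine isCompl_of_Psi hS he (LinearMap.range θ) ?_ (LinearMap.finrank_range_le θ)
    intro u hu φ hφ
    obtain ⟨c, hc⟩ := hspan u hu φ hφ
    exact ⟨c • ⟨u, mem_Wc_of_conn hu⟩, by rw [map_smul, hc]⟩

end Cfsg.Agent.Lib.Helper13.McL
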