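import Mathlib

set_option autoImplicit false

/-! # McLaughlin's theorem, part M: assembling a direct decomposition from complements. -/

namespace Cfsg.Agent.Lib.Helper13.McL

open Module

section internal

variable {R E : Type*} [Field R] [AddCommGroup E] [Module R E]

/-- the family `(⨅ C, ⊥, A 0, A 1, …)` -/
noncomputable def famW {m : ℕ} (A C : Fin m → Submodule R E) : Fin (m + 1 + 1) → Submodule R E :=
  Fin.cons (⨅ k, C k) (Fin.cons ⊥ A)

theorem famW_zero {m : ℕ} (A C : Fin m → Submodule R E) : famW A C 0 = ⨅ k, C k := rfl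

theorem famW_one {m : ℕ} (A C : Fin m → Submodule R E) :
    famW A C (Fin.succ 0) = ⊥ := by
  unfold famW
  rw [Fin.cons_succ, Fin.cons_zero]

theorem famW_succ_succ {m : ℕ} (A C : Fin m → Submodule R E) (k : Fin m) :
    famW A C (Fin.succ (Fin.succ k)) = A k := by
  unfold famW
  rw [Fin.cons_succ, Fin.cons_succ]

theorem famW_internal {m : ℕ} (A C : Fin m → Submodule R E) (h1 : ∀ k, IsCompl (A k) (C k))
    (h2 : ∀ k k', k ≠ k' → A k' ≤ C k) : DirectSum.IsInternal (famW A C) := by
  classical
  rw [DirectSum.isInternal_submodule_iff_iSupIndep_and_iSup_eq_top]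
  let P : Fin m → E →ₗ[R] E := fun k => (A k).projection (C k) (h1 k)
  let Q : E →ₗ[R] E := ∑ k, P k
  have hPmem : ∀ k x, P k x ∈ A k := fun k x => Submodule.projection_apply_mem (h1 k) x
  have hPl : ∀ k x, x ∈ A k → P k x = x :=
    fun k x hx => Submodule.projection_apply_of_mem_left (h1 k) hx
  have hPr : ∀ k x, x ∈ C k → P k x = 0 :=
    fun k x hx => Submodule.projection_apply_of_mem_right (h1 k) hx
  have hQ : ∀ x, Q x = ∑ k, P k x := fun x => by
    simp only [Q, LinearMap.sum_apply]
  have hQ1 : ∀ k x, x ∈ A k → Q x = x := by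
    intro k x hx
    rw [hQ, Finset.sum_eq_single k]
    · exact hPl k x hx
    · intro j _ hjk
      exact hPr j x (h2 j k hjk hx)
    · intro h; exact absurd (Finset.mem_univ k) h
  have hQ2 : ∀ x, x ∈ ⨅ k, C k → Q x = 0 := by
    intro x hx
    rw [hQ]
    apply Finset.sum_eq_zero
    intro k _
    exact hPr k x ((Submodule.mem_iInf _).mp hx k)
  have hQ3 : ∀ v, v - Q v ∈ ⨅ k, C k := by
    intro v
    rw [Submodule.mem_iInf]
    intro k
    rw [← Submodule.projection_apply_eq_zero_iff (h1 k)]
    show P k (v - Q v) = 0
    rw [map_sub, hQ, map_sum, Finset.sum_eq_single k]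
    · rw [hPl k _ (hPmem k v), sub_self]
    · intro j _ hjk
      exact hPr k _ (h2 k j (Ne.symm hjk) (hPmem j v))
    · intro h; exact absurd (Finset.mem_univ k) h
  constructor
  · -- independence
    intro i
    refine Fin.cases ?_ (fun i' => Fin.cases ?_ (fun k => ?_) i') i
    · -- i = 0
      rw [famW_zero, disjoint_iff, eq_bot_iff]
      intro x hx
      rw [Submodule.mem_bot]
      have hle : (⨆ (j : Fin (m + 1 + 1)) (_ : j ≠ 0), famW A C j) ≤
          LinearMap.eqLocus Q LinearMap.id := by
        refine iSup₂_le ?_
        intro j hj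
        revert hj
        refine Fin.cases ?_ (fun j' => Fin.cases ?_ (fun k => ?_) j') j
        · intro hj; exact absurd rfl hj
        · intro _
          rw [famW_one]; exact bot_le
        · intro _
          rw [famW_succ_succ]
          intro y hy
          rw [LinearMap.mem_eqLocus, LinearMap.id_apply]
          exact hQ1 k y hy
      have h3 := hle hx.2
      rw [LinearMap.mem_eqLocus, LinearMap.id_apply] at h3
      rw [← h3]
      exact hQ2 x hx.1
    · rw [famW_one]; exact disjoint_bot_left
    · rw [famW_succ_succ]
      have hle : (⨆ (j : Fin (m + 1 + 1)) (_ : j ≠ Fin.succ (Fin.succ k)), famW A C j) ≤ C k := by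
        refine iSup₂_le ?_
        intro j hj
        revert hj
        refine Fin.cases ?_ (fun j' => Fin.cases ?_ (fun k' => ?_) j') j
        · intro _
          rw [famW_zero]; exact iInf_le _ k
        · intro _
          rw [famW_one]; exact bot_le
        · intro hj
          rw [famW_succ_succ]
          have hkk' : k ≠ k' := by
            intro h; apply hj; rw [h]
          exact h2 k k' hkk'
      exact (h1 k).disjoint.mono_right hle
  · -- the span
    rw [eq_top_iff]
    intro v _
    have hv : v = (v - Q v) + ∑ k, P k v := by rw [← hQ]; abel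
    rw [hv]
    apply Submodule.add_mem
    · have : (⨅ k, C k) ≤ ⨆ i, famW A C i := by
        rw [← famW_zero A C]; exact le_iSup _ 0
      exact this (hQ3 v)
    · apply Submodule.sum_mem
      intro k _
      have : A k ≤ ⨆ i, famW A C i := by
        rw [← famW_succ_succ A C k]; exact le_iSup _ _
      exact this (hPmem k v)

end internal

end Cfsg.Agent.Lib.Helper13.McL
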