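import Cfsg.Agent.Lib.Helper13.McLL
import Cfsg.Agent.Lib.Helper13.McLI
import Cfsg.Agent.Lib.Helper13.McLM

set_option autoImplicit false

/-! # McLaughlin's theorem, part N: final assembly. -/

namespace Cfsg.Agent.Lib.Helper13.McL

open Module

variable {p : ℕ} [Fact p.Prime] {V : Type*} [AddCommGroup V] [Module (ZMod p) V]

/-- build the standing hypotheses from the hypotheses of the theorem -/
theorem setup_of_hyps [Finite V] (hp : Odd p)
    (H : Subgroup (V ≃ₗ[ZMod p] V)) (T : Set (V ≃ₗ[ZMod p] V)) (hHT : H = Subgroup.closure T)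
    (hT : ∀ t ∈ T, orderOf t = p ∧
      Module.finrank (ZMod p) ↥(LinearMap.ker ((t : V →ₗ[ZMod p] V) - LinearMap.id)) + 1 =
        Module.finrank (ZMod p) V)
    (hOp : Cfsg.pCore p ↥H = ⊥) : Setup p H := by
  refine ⟨hp, hOp, ?_⟩
  apply le_antisymm
  · conv_lhs => rw [hHT]
    rw [Subgroup.closure_le]
    intro t ht
    apply Subgroup.subset_closure
    refine ⟨?_, ?_⟩
    · rw [hHT]; exact Subgroup.subset_closure ht
    · obtain ⟨φ, u, _, _, hφu, rfl⟩ := exists_tv_of_hT t (hT t ht).1 (hT t ht).2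
      exact ⟨φ, u, hφu, rfl⟩
  · rw [Subgroup.closure_le]
    intro t ht
    exact ht.1

variable {H : Subgroup (V ≃ₗ[ZMod p] V)}

/-- representatives of the components -/
theorem exists_reps [Finite V] (H : Subgroup (V ≃ₗ[ZMod p] V)) :
    ∃ (m : ℕ) (e : Fin m → V), (∀ k, IsC H (e k)) ∧
      (∀ k k', k ≠ k' → ¬ Conn H (e k) (e k')) ∧ ∀ u, IsC H u → ∃ k, Conn H (e k) u := by
  classical
  let s : Setoid {u : V // IsC H u} :=
    { r := fun a b => Conn H a.1 b.1
      iseqv := ⟨fun a => Conn.refl _, fun h => h.symm, fun h h' => h.trans h'⟩ }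
  have : Finite (Quotient s) := Quotient.finite s
  let E := Finite.equivFin (Quotient s)
  refine ⟨Nat.card (Quotient s), fun k => (Quotient.out (E.symm k)).1, ?_, ?_, ?_⟩
  · intro k
    exact (Quotient.out (E.symm k)).2
  · intro k k' hkk' hc
    apply hkk'
    have h1 : (Quotient.out (E.symm k)) ≈ (Quotient.out (E.symm k')) := hc
    have h2 := Quotient.sound h1
    rw [Quotient.out_eq, Quotient.out_eq] at h2
    exact E.symm.injective h2
  · intro u hu
    refine ⟨E (Quotient.mk s ⟨u, hu⟩), ?_⟩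
    show Conn H (Quotient.out (E.symm (E (Quotient.mk s ⟨u, hu⟩)))).1 u
    rw [Equiv.symm_apply_apply]
    have := Quotient.mk_out (s := s) ⟨u, hu⟩
    exact this

variable [Finite V]

/-- the structure of one component -/
theorem comp_good (hS : Setup p H) {e : V} (he : IsC H e) :
    IsCompl (Wc H e) (Zc H e) ∧
    (((resHom (Wc H e) (Kc H e) Kc_map_Wc).range : Set (↥(Wc H e) ≃ₗ[ZMod p] ↥(Wc H e))) =
        {f : ↥(Wc H e) ≃ₗ[ZMod p] ↥(Wc H e) |
          LinearMap.det (f : ↥(Wc H e) →ₗ[ZMod p] ↥(Wc H e)) = 1} ∨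
      ∃ B : LinearMap.BilinForm (ZMod p) ↥(Wc H e), B.IsAlt ∧ B.Nondegenerate ∧
        ((resHom (Wc H e) (Kc H e) Kc_map_Wc).range :
            Set (↥(Wc H e) ≃ₗ[ZMod p] ↥(Wc H e))) =
          {f : ↥(Wc H e) ≃ₗ[ZMod p] ↥(Wc H e) | ∀ x y, B (f x) (f y) = B x y}) := by
  obtain ⟨φ, hφ, hφ0⟩ := he.2
  have hd1 : 1 ≤ Module.finrank (ZMod p) ↥(Phi H e) := by
    rw [Nat.succ_le_iff, Module.finrank_pos_iff_exists_ne_zero]
    exact ⟨⟨φ, hφ⟩, fun h => hφ0 (congrArg Subtype.val h)⟩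
  rcases Nat.lt_or_ge (Module.finrank (ZMod p) ↥(Phi H e)) 2 with hd | hd
  · have hd' : Module.finrank (ZMod p) ↥(Phi H e) = 1 := by omega
    have D : SpData H e φ := ⟨hS, he, spType_of_finrank hS hd', hφ, hφ0⟩
    obtain ⟨B, hB1, hB2, hB3, hB4⟩ := D.main
    exact ⟨hB4, Or.inr ⟨B, hB1, hB2, hB3⟩⟩
  · have hSL : SLType H e := fun u v hu hv hperp =>
      smul_of_perp_of_two_le hS he hd hu hv hperp
    have hAW : 1 ≤ Module.finrank (ZMod p) ↥(AW H e e) := by
      rw [Nat.succ_le_iff, Module.finrank_pos_iff_exists_ne_zero]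
      refine ⟨⟨⟨e, mem_Wc_of_conn (Conn.refl e)⟩, mem_AW.mpr (perp_self e)⟩, ?_⟩
      intro h
      exact he.1 (congrArg (fun x : ↥(AW H e e) => ((x : ↥(Wc H e)) : V)) h)
    have hsum := finrank_AW hS he (Conn.refl e)
    have hn3 : 3 ≤ Module.finrank (ZMod p) ↥(Wc H e) := by omega
    exact ⟨isCompl_SL hS he hSL hn3, Or.inl (range_SL hS he hSL)⟩


section general

omit [Finite V]

/-- pointwise fixer of a subspace -/
def fixer (X : Submodule (ZMod p) V) : Subgroup (V ≃ₗ[ZMod p] V) where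
  carrier := {g | ∀ x ∈ X, g x = x}
  one_mem' := fun x _ => rfl
  mul_mem' := fun {a b} ha hb x hx => by
    show a (b x) = x
    rw [hb x hx, ha x hx]
  inv_mem' := fun {a} ha x hx => by
    show a.symm x = x
    rw [LinearEquiv.symm_apply_eq, ha x hx]

theorem mem_fixer {X : Submodule (ZMod p) V} {g : V ≃ₗ[ZMod p] V} :
    g ∈ fixer X ↔ ∀ x ∈ X, g x = x := Iff.rfl

theorem map_eq_of_invariant {X : Submodule (ZMod p) V}
    (hX : ∀ h ∈ H, ∀ x ∈ X, h x ∈ X) : ∀ h ∈ H, X.map (h : V →ₗ[ZMod p] V) = X := by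
  intro h hh
  apply le_antisymm
  · rintro _ ⟨x, hx, rfl⟩
    exact hX h hh x hx
  · intro x hx
    refine ⟨h⁻¹ x, hX _ (H.inv_mem hh) x hx, ?_⟩
    show h (h.symm x) = x
    simp

theorem normal_subgroupOf {Kx : Subgroup (V ≃ₗ[ZMod p] V)}
    (hc : ∀ h ∈ H, ∀ k ∈ Kx, h * k * h⁻¹ ∈ Kx) : (Kx.subgroupOf H).Normal := by
  constructor
  intro n hn g
  rw [Subgroup.mem_subgroupOf] at hn ⊢
  exact hc g g.2 n hn

theorem eq_one_of_fix {ι : Type*} (W : ι → Submodule (ZMod p) V) (htop : ⨆ i, W i = ⊤)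
    (g : V ≃ₗ[ZMod p] V) (hg : ∀ i, ∀ x ∈ W i, g x = x) : g = 1 := by
  have hle : ⨆ i, W i ≤ LinearMap.eqLocus (g : V →ₗ[ZMod p] V) LinearMap.id := by
    apply iSup_le
    intro i x hx
    rw [LinearMap.mem_eqLocus]
    exact hg i x hx
  rw [htop] at hle
  apply LinearEquiv.ext
  intro x
  have := hle (Submodule.mem_top (x := x))
  rw [LinearMap.mem_eqLocus] at this
  exact this

/-- the conclusion for one factor -/
def GoodPair (K : Subgroup (V ≃ₗ[ZMod p] V)) (X : Submodule (ZMod p) V) : Prop :=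
  ∃ ρ : ↥K →* (↥X ≃ₗ[ZMod p] ↥X),
    (∀ (h : ↥K) (v : ↥X), ((ρ h v : ↥X) : V) = (h : V ≃ₗ[ZMod p] V) (v : V)) ∧
    ((ρ.range : Set (↥X ≃ₗ[ZMod p] ↥X)) =
        {f : ↥X ≃ₗ[ZMod p] ↥X | LinearMap.det (f : ↥X →ₗ[ZMod p] ↥X) = 1} ∨
      ∃ B : LinearMap.BilinForm (ZMod p) ↥X, B.IsAlt ∧ B.Nondegenerate ∧
        (ρ.range : Set (↥X ≃ₗ[ZMod p] ↥X)) =
          {f : ↥X ≃ₗ[ZMod p] ↥X | ∀ x y, B (f x) (f y) = B x y})

theorem goodPair_bot : GoodPair (⊥ : Subgroup (V ≃ₗ[ZMod p] V)) (⊥ : Submodule (ZMod p) V) := by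
  refine ⟨1, ?_, Or.inl ?_⟩
  · intro h v
    have h1 : (h : V ≃ₗ[ZMod p] V) = 1 := Subgroup.mem_bot.mp h.2
    rw [h1]
    rfl
  · ext f
    have hf : f = 1 := by
      apply LinearEquiv.ext
      intro x
      exact Subsingleton.elim _ _
    subst hf
    simp only [SetLike.mem_coe, Set.mem_ofPred_eq]
    constructor
    · intro _
      show LinearMap.det (LinearMap.id : ↥(⊥ : Submodule (ZMod p) V) →ₗ[ZMod p] _) = 1
      exact LinearMap.det_id
    · intro _
      exact Subgroup.one_mem _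

end general

theorem goodPair_comp (hS : Setup p H) {e : V} (he : IsC H e) :
    GoodPair (Kc H e) (Wc H e) :=
  ⟨resHom (Wc H e) (Kc H e) Kc_map_Wc, resHom_apply _ _ _, (comp_good hS he).2⟩

/-- **McLaughlin's theorem** from the standing hypotheses. -/
theorem mcl_main (hS : Setup p H) :
    ∃ (n : ℕ) (W : Fin (n + 1) → Submodule (ZMod p) V) (K : Fin n → Subgroup (V ≃ₗ[ZMod p] V)),
      1 ≤ n ∧ DirectSum.IsInternal W ∧
      (∀ h ∈ H, ∀ i, (W i).map (h : V →ₗ[ZMod p] V) = W i) ∧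
      (∀ j, K j ≤ H ∧ ((K j).subgroupOf H).Normal) ∧ ⨆ j, K j = H ∧
      (∀ j, K j ⊓ (⨆ j' ∈ {j' : Fin n | j' ≠ j}, K j') = ⊥) ∧
      (∀ j j', j ≠ j' → ∀ a ∈ K j, ∀ b ∈ K j', a * b = b * a) ∧
      (∀ j, ∀ h ∈ K j, ∀ i : Fin (n + 1), i ≠ j.succ → ∀ v ∈ W i, h v = v) ∧
      (∀ j, GoodPair (K j) (W j.succ)) := by
  obtain ⟨m, e, he, hdist, hall⟩ := exists_reps H
  set A : Fin m → Submodule (ZMod p) V := fun k => Wc H (e k) with hA
  set C : Fin m → Submodule (ZMod p) V := fun k => Zc H (e k) with hC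
  set W : Fin (m + 1 + 1) → Submodule (ZMod p) V := famW A C with hW
  set K : Fin (m + 1) → Subgroup (V ≃ₗ[ZMod p] V) :=
    Fin.cons ⊥ (fun k => Kc H (e k)) with hK
  have hK0 : K 0 = ⊥ := rfl
  have hKs : ∀ k : Fin m, K k.succ = Kc H (e k) := fun k => by
    rw [hK, Fin.cons_succ]
  have hW0 : W 0 = ⨅ k, C k := rfl
  have hW1 : W (Fin.succ 0) = ⊥ := famW_one A C
  have hWs : ∀ k : Fin m, W k.succ.succ = A k := fun k => famW_succ_succ A C k
  have hint : DirectSum.IsInternal W :=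
    famW_internal A C (fun k => (comp_good hS (he k)).1)
      (fun k k' hkk' => Wc_le_Zc hS (he k) (he k') (hdist k k' hkk'))
  have htop : ⨆ i, W i = ⊤ := hint.submodule_iSup_eq_top
  -- invariance
  have hWinv : ∀ i, ∀ h ∈ H, ∀ x ∈ W i, h x ∈ W i := by
    intro i
    refine Fin.cases ?_ (fun i' => ?_) i
    · intro h hh x hx
      rw [hW0, Submodule.mem_iInf] at hx ⊢
      intro k
      exact Zc_invariant hS (he k) h hh x (hx k)
    · refine Fin.cases ?_ (fun k => ?_) i'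
      · intro h hh x hx
        rw [hW1, Submodule.mem_bot] at hx
        rw [hx, map_zero]
        exact Submodule.zero_mem _
      · intro h hh x hx
        rw [hWs] at hx ⊢
        exact Wc_invariant hS (he k) h hh x hx
  -- `K j` fixes `W i` for `i ≠ j.succ`
  have hfix : ∀ j, ∀ h ∈ K j, ∀ i : Fin (m + 1 + 1), i ≠ j.succ → ∀ v ∈ W i, h v = v := by
    intro j
    refine Fin.cases ?_ (fun k => ?_) j
    · intro h hh i _ v _
      rw [hK0, Subgroup.mem_bot] at hh
      rw [hh]; rfl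
    · intro h hh i
      rw [hKs] at hh
      refine Fin.cases ?_ (fun i' => ?_) i
      · intro _ v hv
        rw [hW0, Submodule.mem_iInf] at hv
        exact Kc_fix_Zc h hh v (hv k)
      · refine Fin.cases ?_ (fun k' => ?_) i'
        · intro _ v hv
          rw [hW1, Submodule.mem_bot] at hv
          rw [hv, map_zero]
        · intro hne v hv
          rw [hWs] at hv
          have hkk' : k ≠ k' := by
            intro h; apply hne; rw [h]
          exact Kc_fix_Zc h hh v (Wc_le_Zc hS (he k) (he k') (hdist k k' hkk') hv)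
  have hKle : ∀ j, K j ≤ H := by
    intro j
    refine Fin.cases ?_ (fun k => ?_) j
    · rw [hK0]; exact bot_le
    · rw [hKs]; exact Kc_le _
  refine ⟨m + 1, W, K, Nat.le_add_left 1 m, hint, ?_, ?_, ?_, ?_, ?_, hfix, ?_⟩
  · intro h hh i
    exact map_eq_of_invariant (hWinv i) h hh
  · intro j
    refine ⟨hKle j, ?_⟩
    refine Fin.cases ?_ (fun k => ?_) j
    · rw [hK0]
      apply normal_subgroupOf
      intro h _ k hk
      rw [Subgroup.mem_bot] at hk ⊢
      rw [hk]; group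
    · rw [hKs]
      exact normal_subgroupOf (Kc_conj hS (he k))
  · apply le_antisymm
    · exact iSup_le hKle
    · conv_lhs => rw [hS.gen]
      rw [Subgroup.closure_le]
      rintro t ⟨htH, φ, u, hφu, rfl⟩
      by_cases h0 : φ = 0 ∨ u = 0
      · have : tv φ u = 1 := (tv_eq_one_iff hφu).mpr h0
        rw [this]
        exact Subgroup.one_mem _
      · push Not at h0
        have hu : IsC H u := ⟨h0.2, φ, ⟨hφu, htH⟩, h0.1⟩
        obtain ⟨k, hk⟩ := hall u hu
        have h1 : tv φ u ∈ K k.succ := by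
          rw [hKs]; exact tv_mem_Kc hk ⟨hφu, htH⟩
        exact (le_iSup K k.succ) h1
  · intro j
    rw [eq_bot_iff]
    intro g hg
    rw [Subgroup.mem_bot]
    have hg1 : g ∈ K j := hg.1
    have hg2 : g ∈ fixer (W j.succ) := by
      have hle : (⨆ j' ∈ {j' : Fin (m + 1) | j' ≠ j}, K j') ≤ fixer (W j.succ) := by
        apply iSup₂_le
        intro j' hj' a ha
        rw [mem_fixer]
        refine hfix j' a ha j.succ ?_
        intro h
        exact hj' (Fin.succ_injective _ h).symm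
      exact hle hg.2
    apply eq_one_of_fix W htop
    intro i x hx
    by_cases hi : i = j.succ
    · rw [hi] at hx
      exact hg2 x hx
    · exact hfix j g hg1 i hi x hx
  · intro j j'
    refine Fin.cases ?_ (fun k => ?_) j
    · intro _ a ha b _
      rw [hK0, Subgroup.mem_bot] at ha
      rw [ha, one_mul, mul_one]
    · refine Fin.cases ?_ (fun k' => ?_) j'
      · intro _ a _ b hb
        rw [hK0, Subgroup.mem_bot] at hb
        rw [hb, one_mul, mul_one]
      · intro hne a ha b hb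
        rw [hKs] at ha hb
        have hkk' : k ≠ k' := by
          intro h; apply hne; rw [h]
        exact Kc_commute hS (he k) (he k') (hdist k k' hkk') a ha b hb
  · intro j
    refine Fin.cases ?_ (fun k => ?_) j
    · rw [hK0, hW1]
      exact goodPair_bot
    · rw [hKs, hWs]
      exact goodPair_comp hS (he k)

end Cfsg.Agent.Lib.Helper13.McL
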