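import Cfsg.Agent.Lib.Helper81.Mi.Defs

/-! # Mi hive (helper81), leaf MI-TRANS: `SL_n` is transitive on non-zero vectors; covectors with prescribed zeros. -/

set_option autoImplicit false

namespace Cfsg.Agent.Lib.Helper81.Mi

open Matrix

section concrete

variable {F : Type*} [Field F] {n : ℕ}

/-- `tmat u φ *ᵥ x = x + (φ ⬝ᵥ x) • u`. -/
theorem trans_tmat_mulVec (u φ x : Fin n → F) : tmat u φ *ᵥ x = x + (φ ⬝ᵥ x) • u := by
  unfold tmat
  rw [Matrix.add_mulVec, Matrix.one_mulVec]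
  congr 1
  funext i
  simp only [Matrix.mulVec, Matrix.vecMulVec_apply, dotProduct, Pi.smul_apply, smul_eq_mul,
    Finset.sum_mul]
  refine Finset.sum_congr rfl fun j _ => ?_
  ring

theorem trans_e0_zero (i : Fin n) (hi : (i : ℕ) = 0) : e0 F n i = 1 := by
  simp [e0, hi]

theorem trans_e0_ne (i : Fin n) (hi : (i : ℕ) ≠ 0) : e0 F n i = 0 := by
  simp [e0, hi]

/-- the case of a vector with a non-zero coordinate off the first index: one transvection-like matrix. -/
theorem trans_case1 (v : Fin n → F) (i0 k : Fin n) (hi0 : (i0 : ℕ) = 0) (hk : (k : ℕ) ≠ 0)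
    (hvk : v k ≠ 0) :
    ∃ γ : SLn n F, (γ : Matrix (Fin n) (Fin n) F) *ᵥ e0 F n = v := by
  classical
  have h1 : (Pi.single i0 1 + Pi.single k ((1 - v i0) / v k) : Fin n → F) ⬝ᵥ e0 F n = 1 := by
    rw [add_dotProduct, single_dotProduct, single_dotProduct, trans_e0_zero i0 hi0,
      trans_e0_ne k hk]
    ring
  have h2 : (Pi.single i0 1 + Pi.single k ((1 - v i0) / v k) : Fin n → F) ⬝ᵥ v = 1 := by
    rw [add_dotProduct, single_dotProduct, single_dotProduct]
    field_simp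
    ring
  have hdet : (Pi.single i0 1 + Pi.single k ((1 - v i0) / v k) : Fin n → F) ⬝ᵥ (v - e0 F n) = 0 := by
    rw [dotProduct_sub, h1, h2, sub_self]
  refine ⟨tvAux (v - e0 F n) _ hdet, ?_⟩
  show tmat (v - e0 F n) _ *ᵥ e0 F n = v
  rw [trans_tmat_mulVec, h1, one_smul]
  abel

/-- MI-TRANS: `SL_n` is transitive on non-zero vectors (`n ≥ 2`). -/
theorem exists_smul_e0 (hn : 2 ≤ n) (v : Fin n → F) (hv : v ≠ 0) :
    ∃ γ : SLn n F, (γ : Matrix (Fin n) (Fin n) F) *ᵥ e0 F n = v := by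
  classical
  obtain ⟨i0, hi0⟩ : ∃ i0 : Fin n, (i0 : ℕ) = 0 := ⟨⟨0, by omega⟩, rfl⟩
  obtain ⟨i1, hi1⟩ : ∃ i1 : Fin n, (i1 : ℕ) = 1 := ⟨⟨1, by omega⟩, rfl⟩
  have hi1' : (i1 : ℕ) ≠ 0 := by omega
  by_cases h : ∃ k : Fin n, (k : ℕ) ≠ 0 ∧ v k ≠ 0
  · obtain ⟨k, hk, hvk⟩ := h
    exact trans_case1 v i0 k hi0 hk hvk
  · push Not at h
    have hc : v i0 ≠ 0 := by
      intro h0
      apply hv
      funext i
      by_cases hi : (i : ℕ) = 0
      · have : i = i0 := Fin.ext (by omega)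
        rw [this]; exact h0
      · exact h i hi
    have hv' : v = v i0 • e0 F n := by
      funext i
      by_cases hi : (i : ℕ) = 0
      · have : i = i0 := Fin.ext (by omega)
        rw [this, Pi.smul_apply, trans_e0_zero i0 hi0, smul_eq_mul, mul_one]
      · rw [Pi.smul_apply, trans_e0_ne i hi, smul_zero]
        exact h i hi
    have hu1 : (e0 F n + Pi.single i1 1 : Fin n → F) i1 ≠ 0 := by
      rw [Pi.add_apply, trans_e0_ne i1 hi1', Pi.single_eq_same, zero_add]
      exact one_ne_zero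
    obtain ⟨B, hB⟩ := trans_case1 (e0 F n + Pi.single i1 1 : Fin n → F) i0 i1 hi0 hi1' hu1
    have hu2 : ((v i0)⁻¹ • (e0 F n + Pi.single i1 1 : Fin n → F)) i1 ≠ 0 := by
      rw [Pi.smul_apply, smul_eq_mul]
      exact mul_ne_zero (inv_ne_zero hc) hu1
    obtain ⟨A, hA⟩ := trans_case1 ((v i0)⁻¹ • (e0 F n + Pi.single i1 1 : Fin n → F)) i0 i1 hi0 hi1' hu2
    refine ⟨A⁻¹ * B, ?_⟩
    have h3 : (A : Matrix (Fin n) (Fin n) F) *ᵥ v = (e0 F n + Pi.single i1 1 : Fin n → F) := by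
      rw [hv', Matrix.mulVec_smul, hA, smul_smul, mul_inv_cancel₀ hc, one_smul]
    have h4 : ((A⁻¹ * A : SLn n F) : Matrix (Fin n) (Fin n) F) *ᵥ v = v := by
      rw [inv_mul_cancel, Matrix.SpecialLinearGroup.coe_one, Matrix.one_mulVec]
    rw [Matrix.SpecialLinearGroup.coe_mul, ← Matrix.mulVec_mulVec, hB, ← h3, Matrix.mulVec_mulVec,
      ← Matrix.SpecialLinearGroup.coe_mul, h4]

/-- MI-TRANS2: a covector vanishing on two given vectors (`n ≥ 3`). -/
theorem exists_covector (hn : 3 ≤ n) (v w : Fin n → F) :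
    ∃ φ : Fin n → F, φ ≠ 0 ∧ φ ⬝ᵥ v = 0 ∧ φ ⬝ᵥ w = 0 := by
  have hlt : Module.finrank F (Fin 2 → F) < Module.finrank F (Fin n → F) := by
    rw [Module.finrank_fin_fun, Module.finrank_fin_fun]; omega
  have hker := LinearMap.ker_ne_bot_of_finrank_lt (f := (Matrix.of ![v, w] : Matrix (Fin 2) (Fin n) F).mulVecLin) hlt
  obtain ⟨φ, hφ, hφ0⟩ := Submodule.exists_mem_ne_zero_of_ne_bot hker
  rw [LinearMap.mem_ker, Matrix.mulVecLin_apply] at hφ
  refine ⟨φ, hφ0, ?_, ?_⟩
  · have := congrFun hφ 0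
    rw [dotProduct_comm]
    simpa [Matrix.mulVec] using this
  · have := congrFun hφ 1
    rw [dotProduct_comm]
    simpa [Matrix.mulVec] using this

/-- every linear functional on `Fin n → F` is a dot product. -/
theorem trans_dual_eq (f : Module.Dual F (Fin n → F)) (y : Fin n → F) :
    f y = (fun i => f (Pi.single i 1)) ⬝ᵥ y := by
  classical
  rw [LinearMap.pi_apply_eq_sum_univ f y, dotProduct]
  refine Finset.sum_congr rfl fun i _ => ?_
  rw [smul_eq_mul, mul_comm]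
  congr 2
  funext j
  by_cases hij : i = j
  · subst hij; simp
  · rw [if_neg hij, Pi.single_eq_of_ne (Ne.symm hij)]

/-- MI-TRANS3: a covector with prescribed values: if `x ∉ span (S)` ... two-vector version. -/
theorem exists_covector_sep (v w x : Fin n → F) (hx : ∀ a b : F, x ≠ a • v + b • w) :
    ∃ φ : Fin n → F, φ ⬝ᵥ v = 0 ∧ φ ⬝ᵥ w = 0 ∧ φ ⬝ᵥ x = 1 := by
  have hxp : x ∉ Submodule.span F ({v, w} : Set (Fin n → F)) := by
    intro hmem
    rw [Submodule.mem_span_pair] at hmem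
    obtain ⟨a, b, hab⟩ := hmem
    exact hx a b hab.symm
  obtain ⟨f, hfx, hf⟩ := Submodule.exists_dual_map_eq_bot_of_notMem hxp inferInstance
  have hfv : f v = 0 := by
    have : f v ∈ (Submodule.span F ({v, w} : Set (Fin n → F))).map f :=
      Submodule.mem_map_of_mem (Submodule.subset_span (by simp))
    rw [hf] at this
    simpa using this
  have hfw : f w = 0 := by
    have : f w ∈ (Submodule.span F ({v, w} : Set (Fin n → F))).map f :=
      Submodule.mem_map_of_mem (Submodule.subset_span (by simp))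
    rw [hf] at this
    simpa using this
  refine ⟨(f x)⁻¹ • (fun i => f (Pi.single i 1)), ?_, ?_, ?_⟩
  · rw [smul_dotProduct, ← trans_dual_eq, hfv, smul_zero]
  · rw [smul_dotProduct, ← trans_dual_eq, hfw, smul_zero]
  · rw [smul_dotProduct, ← trans_dual_eq, smul_eq_mul, inv_mul_cancel₀ hfx]

end concrete

end Cfsg.Agent.Lib.Helper81.Mi
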