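import Mathlib
import Cfsg.Agent.Lib.Helper99.UnitaryND4
import Cfsg.Agent.Lib.Helper13.UnitaryGen5
import Cfsg.Agent.Lib.Helper8.WittAlt

set_option autoImplicit false

/-!
Subfield subgroups of unitary groups: field-level facts (`F₀` = fixed field of `x ↦ x ^ q`),
components of an element of `F` over `F₀`.
-/

namespace Cfsg.Agent.Lib.Helper13

open Matrix Cfsg.Agent.Lib.Helper99

section sfA

variable {F : Type*} [Field F] [Fintype F] {q : ℕ}

theorem card_subfield_eq (hF : Fintype.card F = q ^ 2) (F₀ : Subfield F)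
    (hcard : Fintype.card F = Nat.card F₀ ^ 2) : Nat.card F₀ = q := by
  have h : Nat.card F₀ ^ 2 = q ^ 2 := by rw [← hcard, hF]
  exact Nat.pow_left_injective (n := 2) (by norm_num) h

theorem pow_q_of_mem (hF : Fintype.card F = q ^ 2) (F₀ : Subfield F)
    (hcard : Fintype.card F = Nat.card F₀ ^ 2) {x : F} (hx : x ∈ F₀) : x ^ q = x := by
  haveI : Fintype F₀ := Fintype.ofFinite F₀
  have h := FiniteField.pow_card (⟨x, hx⟩ : F₀)
  rw [← Nat.card_eq_fintype_card, card_subfield_eq hF F₀ hcard] at h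
  have h2 := congrArg (Subtype.val) h
  simpa using h2

theorem mem_of_pow_q (hF : Fintype.card F = q ^ 2) (F₀ : Subfield F)
    (hcard : Fintype.card F = Nat.card F₀ ^ 2) {x : F} (hx : x ^ q = x) : x ∈ F₀ := by
  classical
  haveI : Fintype F₀ := Fintype.ofFinite F₀
  have hq2 := two_le_q hF
  set p : Polynomial F := Polynomial.X ^ q - Polynomial.X with hp
  have hdeg : p.natDegree = q := FiniteField.X_pow_card_sub_X_natDegree_eq F (by omega)
  have hp0 : p ≠ 0 := by
    intro h0
    rw [h0, Polynomial.natDegree_zero] at hdeg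
    omega
  have hroot : ∀ y : F, y ^ q = y → y ∈ p.roots.toFinset := by
    intro y hy
    rw [Multiset.mem_toFinset, Polynomial.mem_roots hp0, Polynomial.IsRoot, hp]
    simp [hy]
  set S : Finset F := (Finset.univ : Finset F₀).image Subtype.val with hS
  have hScard : S.card = q := by
    rw [hS, Finset.card_image_of_injective _ Subtype.val_injective, Finset.card_univ,
      ← Nat.card_eq_fintype_card, card_subfield_eq hF F₀ hcard]
  have hsub : S ⊆ p.roots.toFinset := by
    intro y hy
    rw [hS, Finset.mem_image] at hy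
    obtain ⟨z, -, rfl⟩ := hy
    exact hroot _ (pow_q_of_mem hF F₀ hcard z.2)
  have hle : p.roots.toFinset.card ≤ S.card := by
    rw [hScard]
    calc p.roots.toFinset.card ≤ Multiset.card p.roots := Multiset.toFinset_card_le _
      _ ≤ p.natDegree := Polynomial.card_roots' p
      _ = q := hdeg
  have heq := Finset.eq_of_subset_of_card_le hsub hle
  have hx' := hroot x hx
  rw [← heq, hS, Finset.mem_image] at hx'
  obtain ⟨z, -, rfl⟩ := hx'
  exact z.2

/-- The `θ`-component of `z`. -/
noncomputable def imC (q : ℕ) (θ z : F) : F := (z - z ^ q) / (θ - θ ^ q)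

/-- The constant component of `z`. -/
noncomputable def reC (q : ℕ) (θ z : F) : F := z - θ * imC q θ z

theorem reC_add (θ z : F) : reC q θ z + θ * imC q θ z = z := by
  unfold reC
  ring

theorem imC_pow (hF : Fintype.card F = q ^ 2) {θ : F} (hθ : θ ^ q ≠ θ) (z : F) :
    (imC q θ z) ^ q = imC q θ z := by
  have h1 : θ - θ ^ q ≠ 0 := sub_ne_zero.mpr (Ne.symm hθ)
  have h2 : θ ^ q - θ ≠ 0 := sub_ne_zero.mpr hθ
  unfold imC
  rw [div_pow, frob_sub hF, frob_sub hF, pow_q_pow_q hF, pow_q_pow_q hF]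
  field_simp
  ring

theorem reC_pow (hF : Fintype.card F = q ^ 2) {θ : F} (hθ : θ ^ q ≠ θ) (z : F) :
    (reC q θ z) ^ q = reC q θ z := by
  have h1 : θ - θ ^ q ≠ 0 := sub_ne_zero.mpr (Ne.symm hθ)
  unfold reC
  rw [frob_sub hF, mul_pow, imC_pow hF hθ]
  unfold imC
  field_simp
  ring

theorem comp_unique (hF : Fintype.card F = q ^ 2) {θ : F} (hθ : θ ^ q ≠ θ) {s t s' t' : F}
    (hs : s ^ q = s) (ht : t ^ q = t) (hs' : s' ^ q = s') (ht' : t' ^ q = t')
    (h : s + θ * t = s' + θ * t') : s = s' ∧ t = t' := by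
  have h1 : θ - θ ^ q ≠ 0 := sub_ne_zero.mpr (Ne.symm hθ)
  have h2 : (s + θ * t) ^ q = (s' + θ * t') ^ q := by rw [h]
  rw [frob_add hF, frob_add hF, mul_pow, mul_pow, hs, ht, hs', ht'] at h2
  have h3 : (θ - θ ^ q) * (t - t') = 0 := by linear_combination h - h2
  have h4 : t = t' := by
    rcases mul_eq_zero.mp h3 with h5 | h5
    · exact absurd h5 h1
    · exact sub_eq_zero.mp h5
  refine ⟨?_, h4⟩
  rw [h4] at h
  exact add_right_cancel h

end sfA

end Cfsg.Agent.Lib.Helper13
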