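import Mathlib
import Cfsg.Agent.Lib.Helper13.SubfieldA

set_option autoImplicit false

/-!
Subfield subgroups: an element of `GL_n(F)` lies in `subfieldSubgroup F₀ P` iff it maps every
vector `P u` (`u` with entries in `F₀`) to a scalar multiple of such a vector.
-/

namespace Cfsg.Agent.Lib.Helper13

open Matrix Cfsg.Agent.Lib.Helper99

section sfB

variable {F : Type*} [Field F] {n : ℕ}

/-- The embedding of `F₀ ^ n` in `F ^ n`. -/
def sfι (F₀ : Subfield F) (u : Fin n → F₀) : Fin n → F := fun i => (u i : F)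

theorem sfι_add (F₀ : Subfield F) (u v : Fin n → F₀) : sfι F₀ (u + v) = sfι F₀ u + sfι F₀ v := by
  funext i
  simp [sfι]

theorem sfι_smul (F₀ : Subfield F) (s : F₀) (u : Fin n → F₀) :
    sfι F₀ (s • u) = (s : F) • sfι F₀ u := by
  funext i
  simp [sfι]

theorem sfι_zero (F₀ : Subfield F) : sfι F₀ (0 : Fin n → F₀) = 0 := by
  funext i
  simp [sfι]

theorem sfι_injective (F₀ : Subfield F) : Function.Injective (sfι (n := n) F₀) := by
  intro u v h
  funext i
  exact Subtype.ext (congrFun h i)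

theorem sfι_single (F₀ : Subfield F) (i : Fin n) :
    sfι F₀ (Pi.single i (1 : F₀)) = Pi.single i (1 : F) := by
  funext k
  by_cases hk : k = i
  · subst hk
    simp [sfι]
  · simp [sfι, Pi.single_eq_of_ne hk]

theorem map_mulVec_sfι (F₀ : Subfield F) (A : Matrix (Fin n) (Fin n) F₀) (u : Fin n → F₀) :
    (A.map (F₀.subtype)) *ᵥ sfι F₀ u = sfι F₀ (A *ᵥ u) := by
  funext k
  simp only [mulVec, dotProduct, sfι, Matrix.map_apply, Subfield.coe_subtype]
  push_cast
  rfl

end sfB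

section sfB2

variable {F : Type*} [Field F] [Fintype F] {q n : ℕ}

/-- Core: a matrix mapping every `F₀`-rational vector to a multiple of an `F₀`-rational vector is a
scalar times an `F₀`-rational matrix. -/
theorem exists_scalar_rational (hF : Fintype.card F = q ^ 2) (F₀ : Subfield F)
    (hcard : Fintype.card F = Nat.card F₀ ^ 2) (hn : 0 < n) (A : GL (Fin n) F)
    (h : ∀ u : Fin n → F₀, ∃ (l : F) (w : Fin n → F₀),
      (A : Matrix (Fin n) (Fin n) F) *ᵥ sfι F₀ u = l • sfι F₀ w) :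
    ∃ l : F, l ≠ 0 ∧ ∀ k i, l⁻¹ * (A : Matrix (Fin n) (Fin n) F) k i ∈ F₀ := by
  classical
  -- Frobenius eigen-property
  have hfrob : ∀ u : Fin n → F₀, ∃ μ : F, ∀ k,
      (((A : Matrix (Fin n) (Fin n) F) *ᵥ sfι F₀ u) k) ^ q =
        μ * ((A : Matrix (Fin n) (Fin n) F) *ᵥ sfι F₀ u) k := by
    intro u
    obtain ⟨l, w, hlw⟩ := h u
    by_cases hl : l = 0
    · refine ⟨1, fun k => ?_⟩
      rw [hlw, hl, zero_smul, Pi.zero_apply, zero_pow (by have := two_le_q hF; omega), mul_zero]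
    · refine ⟨l ^ q / l, fun k => ?_⟩
      rw [hlw, Pi.smul_apply, smul_eq_mul, mul_pow]
      have hw : (sfι F₀ w k) ^ q = sfι F₀ w k := pow_q_of_mem hF F₀ hcard (w k).2
      rw [hw]
      field_simp
  -- columns
  have hcol : ∀ i : Fin n, ∃ μ : F, ∀ k, ((A : Matrix (Fin n) (Fin n) F) k i) ^ q =
      μ * (A : Matrix (Fin n) (Fin n) F) k i := by
    intro i
    obtain ⟨μ, hμ⟩ := hfrob (Pi.single i 1)
    refine ⟨μ, fun k => ?_⟩
    have := hμ k
    rw [sfι_single, Matrix.mulVec_single_one] at this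
    exact this
  choose μ hμ using hcol
  have hinj : ∀ x : Fin n → F, (A : Matrix (Fin n) (Fin n) F) *ᵥ x = 0 → x = 0 := by
    intro x hx
    have := congrArg (fun y => ((A⁻¹ : GL (Fin n) F) : Matrix (Fin n) (Fin n) F) *ᵥ y) hx
    simp only [gl_inv_mulVec_mulVec, mulVec_zero] at this
    exact this
  have hμeq : ∀ i j : Fin n, μ i = μ j := by
    intro i j
    by_cases hij : i = j
    · rw [hij]
    obtain ⟨ν, hν⟩ := hfrob (Pi.single i 1 + Pi.single j 1)
    have hsum : ∀ k, ((A : Matrix (Fin n) (Fin n) F) *ᵥ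
        sfι F₀ (Pi.single i 1 + Pi.single j 1)) k =
        (A : Matrix (Fin n) (Fin n) F) k i + (A : Matrix (Fin n) (Fin n) F) k j := by
      intro k
      rw [sfι_add, sfι_single, sfι_single, mulVec_add, Matrix.mulVec_single_one,
        Matrix.mulVec_single_one]
      rfl
    have hz : (A : Matrix (Fin n) (Fin n) F) *ᵥ
        ((μ i - ν) • Pi.single i (1 : F) + (μ j - ν) • Pi.single j (1 : F)) = 0 := by
      funext k
      rw [mulVec_add, mulVec_smul, mulVec_smul, Matrix.mulVec_single_one,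
        Matrix.mulVec_single_one]
      have h1 := hν k
      rw [hsum k, frob_add hF, hμ i k, hμ j k] at h1
      simp only [Pi.add_apply, Pi.smul_apply, smul_eq_mul, Pi.zero_apply, Matrix.col_apply]
      linear_combination h1
    have h0 := hinj _ hz
    have hi := congrFun h0 i
    have hj := congrFun h0 j
    simp only [Pi.add_apply, Pi.smul_apply, smul_eq_mul, Pi.zero_apply, Pi.single_eq_same,
      Pi.single_eq_of_ne hij, Pi.single_eq_of_ne (Ne.symm hij), mul_one, mul_zero, add_zero,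
      zero_add] at hi hj
    rw [sub_eq_zero.mp hi, sub_eq_zero.mp hj]
  let i₀ : Fin n := ⟨0, hn⟩
  have hall : ∀ k i, ((A : Matrix (Fin n) (Fin n) F) k i) ^ q =
      μ i₀ * (A : Matrix (Fin n) (Fin n) F) k i := by
    intro k i
    rw [hμ i k, hμeq i i₀]
  -- a nonzero entry
  obtain ⟨k₀, hk₀⟩ : ∃ k₀, (A : Matrix (Fin n) (Fin n) F) k₀ i₀ ≠ 0 := by
    by_contra hcon
    push Not at hcon
    have hz : (A : Matrix (Fin n) (Fin n) F) *ᵥ Pi.single i₀ (1 : F) = 0 := by
      funext k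
      rw [Matrix.mulVec_single_one]
      exact hcon k
    have := congrFun (hinj _ hz) i₀
    simp at this
  refine ⟨(A : Matrix (Fin n) (Fin n) F) k₀ i₀, hk₀, fun k i => ?_⟩
  apply mem_of_pow_q hF F₀ hcard
  set l := (A : Matrix (Fin n) (Fin n) F) k₀ i₀ with hl
  have hlq : l ^ q = μ i₀ * l := hall k₀ i₀
  have hμ0 : μ i₀ ≠ 0 := by
    intro h0
    rw [h0, zero_mul] at hlq
    exact hk₀ (pow_eq_zero_iff (by have := two_le_q hF; omega) |>.mp hlq)
  rw [mul_pow, inv_pow, hlq, hall k i]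
  field_simp

end sfB2

section sfB3

variable {F : Type*} [Field F] {n : ℕ}

/-- Elements of the subfield group map `F₀`-rational vectors (in the basis `P`) to multiples of
such vectors. -/
theorem forall_of_mem_subfieldSubgroup (F₀ : Subfield F) (P g : GL (Fin n) F)
    (hg : g ∈ Cfsg.Geo.subfieldSubgroup F₀ P) (u : Fin n → F₀) :
    ∃ (l : F) (w : Fin n → F₀), (g : Matrix (Fin n) (Fin n) F) *ᵥ
      ((P : Matrix (Fin n) (Fin n) F) *ᵥ sfι F₀ u) =
        l • ((P : Matrix (Fin n) (Fin n) F) *ᵥ sfι F₀ w) := by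
  unfold Cfsg.Geo.subfieldSubgroup at hg
  obtain ⟨x, hx, rfl⟩ := Subgroup.mem_map.mp hg
  rw [Subgroup.mem_sup_of_normal_right] at hx
  obtain ⟨y, ⟨A₀, rfl⟩, z, hz, rfl⟩ := hx
  obtain ⟨c, hc⟩ := (Cfsg.Geo.mem_scalars_iff z).mp hz
  refine ⟨(c : F), (A₀ : Matrix (Fin n) (Fin n) F₀) *ᵥ u, ?_⟩
  have e1 : ((MulAut.conj P).toMonoidHom (Matrix.GeneralLinearGroup.map F₀.subtype A₀ * z) :
      GL (Fin n) F) = P * (Matrix.GeneralLinearGroup.map F₀.subtype A₀ * z) * P⁻¹ := rfl
  rw [e1, Units.val_mul, Units.val_mul, Units.val_mul, ← mulVec_mulVec, ← mulVec_mulVec,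
    ← mulVec_mulVec, gl_inv_mulVec_mulVec, hc, smul_mulVec, one_mulVec, mulVec_smul, mulVec_smul]
  congr 2
  exact map_mulVec_sfι F₀ (A₀ : Matrix (Fin n) (Fin n) F₀) u

end sfB3

section sfB4

variable {F : Type*} [Field F] [Fintype F] {q n : ℕ}

/-- An invertible matrix mapping every `P u` (`u` rational) to a multiple of some `P w`
(`w` rational) lies in the subfield group. -/
theorem mem_subfieldSubgroup_of_forall (hF : Fintype.card F = q ^ 2) (F₀ : Subfield F)
    (hcard : Fintype.card F = Nat.card F₀ ^ 2) (hn : 0 < n) (P g : GL (Fin n) F)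
    (h : ∀ u : Fin n → F₀, ∃ (l : F) (w : Fin n → F₀),
      (g : Matrix (Fin n) (Fin n) F) *ᵥ ((P : Matrix (Fin n) (Fin n) F) *ᵥ sfι F₀ u) =
        l • ((P : Matrix (Fin n) (Fin n) F) *ᵥ sfι F₀ w)) :
    g ∈ Cfsg.Geo.subfieldSubgroup F₀ P := by
  classical
  set A : GL (Fin n) F := P⁻¹ * g * P with hA
  have hA' : ∀ u : Fin n → F₀, ∃ (l : F) (w : Fin n → F₀),
      (A : Matrix (Fin n) (Fin n) F) *ᵥ sfι F₀ u = l • sfι F₀ w := by
    intro u
    obtain ⟨l, w, hlw⟩ := h u
    refine ⟨l, w, ?_⟩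
    rw [hA, Units.val_mul, Units.val_mul, ← mulVec_mulVec, ← mulVec_mulVec, hlw, mulVec_smul,
      gl_inv_mulVec_mulVec]
  obtain ⟨l, hl0, hl⟩ := exists_scalar_rational hF F₀ hcard hn A hA'
  let A₀ : Matrix (Fin n) (Fin n) F₀ := fun k i => ⟨l⁻¹ * (A : Matrix (Fin n) (Fin n) F) k i, hl k i⟩
  have hmap : A₀.map F₀.subtype = l⁻¹ • (A : Matrix (Fin n) (Fin n) F) := by
    ext k i
    rfl
  have hdetA : (A : Matrix (Fin n) (Fin n) F).det ≠ 0 := by
    have := (Matrix.GeneralLinearGroup.det A).ne_zero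
    simpa using this
  have hdet : A₀.det ≠ 0 := by
    intro h0
    have h1 : (A₀.map F₀.subtype).det = 0 := by
      have := RingHom.map_det F₀.subtype A₀
      rw [RingHom.mapMatrix_apply] at this
      rw [← this, h0, map_zero]
    rw [hmap, Matrix.det_smul] at h1
    rcases mul_eq_zero.mp h1 with h2 | h2
    · exact inv_ne_zero hl0 (pow_eq_zero_iff (Nat.pos_iff_ne_zero.mp (by simpa using hn)) |>.mp h2)
    · exact hdetA h2
  let A₀' : GL (Fin n) F₀ := Matrix.GeneralLinearGroup.mkOfDetNeZero A₀ hdet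
  let sc : GL (Fin n) F :=
    Units.map (Matrix.scalar (Fin n) : F →+* Matrix (Fin n) (Fin n) F).toMonoidHom (Units.mk0 l hl0)
  have hsc : (sc : Matrix (Fin n) (Fin n) F) = l • (1 : Matrix (Fin n) (Fin n) F) := by
    simp [sc, Matrix.smul_one_eq_diagonal]
  have hscmem : sc ∈ Cfsg.Geo.scalars (Fin n) F :=
    (Cfsg.Geo.mem_scalars_iff sc).mpr ⟨Units.mk0 l hl0, hsc⟩
  have hmapmem : Matrix.GeneralLinearGroup.map F₀.subtype A₀' ∈
      (Matrix.GeneralLinearGroup.map (F₀.subtype : F₀ →+* F)).range := ⟨A₀', rfl⟩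
  have hprod : Matrix.GeneralLinearGroup.map F₀.subtype A₀' * sc = A := by
    apply Units.ext
    rw [Units.val_mul, hsc]
    have : ((Matrix.GeneralLinearGroup.map F₀.subtype A₀' : GL (Fin n) F) :
        Matrix (Fin n) (Fin n) F) = A₀.map F₀.subtype := rfl
    rw [this, hmap, Matrix.mul_smul, Matrix.mul_one, smul_smul, mul_inv_cancel₀ hl0, one_smul]
  unfold Cfsg.Geo.subfieldSubgroup
  refine Subgroup.mem_map.mpr ⟨Matrix.GeneralLinearGroup.map F₀.subtype A₀' * sc,
    Subgroup.mul_mem_sup hmapmem hscmem, ?_⟩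
  rw [hprod, hA]
  show P * (P⁻¹ * g * P) * P⁻¹ = g
  group

end sfB4

end Cfsg.Agent.Lib.Helper13
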