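import Mathlib
import Cfsg.Agent.Lib.Helper13.SubfieldC

set_option autoImplicit false

/-!
The alternating `F₀`-form induced by the unitary form on a rational structure, and lifting of
its transvections to unitary transvections.
-/

namespace Cfsg.Agent.Lib.Helper13

open Matrix Module Cfsg.Agent.Lib.Helper99 Cfsg.Agent.Lib.Helper8

section sfD

variable {F : Type*} [Field F] [Fintype F] {q n : ℕ}

local notation "hh" => Cfsg.hermForm n F q

/-- The vector `P · u` for a rational `u`. -/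
def pv (F₀ : Subfield F) (P : GL (Fin n) F) (u : Fin n → F₀) : Fin n → F :=
  (P : Matrix (Fin n) (Fin n) F) *ᵥ sfι F₀ u

omit [Fintype F] in
theorem pv_add (F₀ : Subfield F) (P : GL (Fin n) F) (u v : Fin n → F₀) :
    pv F₀ P (u + v) = pv F₀ P u + pv F₀ P v := by
  unfold pv
  rw [sfι_add, mulVec_add]

omit [Fintype F] in
theorem pv_smul (F₀ : Subfield F) (P : GL (Fin n) F) (s : F₀) (u : Fin n → F₀) :
    pv F₀ P (s • u) = (s : F) • pv F₀ P u := by
  unfold pv
  rw [sfι_smul, mulVec_smul]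

omit [Fintype F] in
theorem pv_zero (F₀ : Subfield F) (P : GL (Fin n) F) : pv F₀ P 0 = 0 := by
  unfold pv
  rw [sfι_zero, mulVec_zero]

omit [Fintype F] in
theorem pv_injective (F₀ : Subfield F) (P : GL (Fin n) F) : Function.Injective (pv F₀ P) := by
  intro u v h
  unfold pv at h
  have := congrArg (fun y => ((P⁻¹ : GL (Fin n) F) : Matrix (Fin n) (Fin n) F) *ᵥ y) h
  simp only [gl_inv_mulVec_mulVec] at this
  exact sfι_injective F₀ this

variable (hF : Fintype.card F = q ^ 2) (F₀ : Subfield F)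
  (hcard : Fintype.card F = Nat.card F₀ ^ 2) (ζ : F) (P : GL (Fin n) F)
  (hP : Cfsg.Geo.IsFormRationalStructure (Cfsg.hermForm n F q) F₀ ζ P)

include hF hcard hP in
/-- The induced `F₀`-bilinear form. -/
noncomputable def sfForm : LinearMap.BilinForm F₀ (Fin n → F₀) :=
  LinearMap.mk₂ F₀
    (fun u v => (⟨ζ * hh (pv F₀ P u) (pv F₀ P v),
      hP (sfι F₀ u) (sfι F₀ v) (fun i => (u i).2) (fun i => (v i).2)⟩ : F₀))
    (fun u u' v => by
      apply Subtype.ext
      simp only [pv_add, hermForm_add_left, mul_add, Subfield.coe_add])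
    (fun s u v => by
      apply Subtype.ext
      simp only [pv_smul, hermForm_smul_left, smul_eq_mul, Subfield.coe_mul]
      ring)
    (fun u v v' => by
      apply Subtype.ext
      simp only [pv_add, hermForm_add_right hF, mul_add, Subfield.coe_add])
    (fun s u v => by
      apply Subtype.ext
      simp only [pv_smul, hermForm_smul_right, smul_eq_mul, Subfield.coe_mul,
        pow_q_of_mem hF F₀ hcard s.2]
      ring)

theorem sfForm_coe (u v : Fin n → F₀) :
    ((sfForm hF F₀ hcard ζ P hP u v : F₀) : F) = ζ * hh (pv F₀ P u) (pv F₀ P v) := rfl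

theorem sfForm_eq_zero_iff (hζ0 : ζ ≠ 0) (u v : Fin n → F₀) :
    sfForm hF F₀ hcard ζ P hP u v = 0 ↔ hh (pv F₀ P u) (pv F₀ P v) = 0 := by
  constructor
  · intro h
    have h1 := congrArg (Subtype.val) h
    rw [sfForm_coe] at h1
    rcases mul_eq_zero.mp h1 with h2 | h2
    · exact absurd h2 hζ0
    · exact h2
  · intro h
    apply Subtype.ext
    rw [sfForm_coe, h, mul_zero]
    rfl

theorem sfForm_isAlt
    (halt : ∀ u : Fin n → F, (∀ i, u i ∈ F₀) →
      hh ((P : Matrix (Fin n) (Fin n) F) *ᵥ u) ((P : Matrix (Fin n) (Fin n) F) *ᵥ u) = 0) :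
    (sfForm hF F₀ hcard ζ P hP).IsAlt := by
  intro u
  apply Subtype.ext
  rw [sfForm_coe]
  have := halt (sfι F₀ u) (fun i => (u i).2)
  unfold pv
  rw [this, mul_zero]
  rfl

include hF hcard in
/-- Every vector is `P a + θ P b` with `a`, `b` rational. -/
theorem exists_decomp {θ : F} (hθ : θ ^ q ≠ θ) (y : Fin n → F) :
    ∃ a b : Fin n → F₀, y = pv F₀ P a + θ • pv F₀ P b := by
  set z : Fin n → F := ((P⁻¹ : GL (Fin n) F) : Matrix (Fin n) (Fin n) F) *ᵥ y with hz
  refine ⟨fun i => ⟨reC q θ (z i), mem_of_pow_q hF F₀ hcard (reC_pow hF hθ (z i))⟩,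
    fun i => ⟨imC q θ (z i), mem_of_pow_q hF F₀ hcard (imC_pow hF hθ (z i))⟩, ?_⟩
  unfold pv
  rw [← mulVec_smul, ← mulVec_add]
  have : (sfι F₀ fun i => (⟨reC q θ (z i), mem_of_pow_q hF F₀ hcard (reC_pow hF hθ (z i))⟩ : F₀)) +
      θ • (sfι F₀ fun i => (⟨imC q θ (z i), mem_of_pow_q hF F₀ hcard (imC_pow hF hθ (z i))⟩ : F₀))
        = z := by
    funext i
    simp only [sfι, Pi.add_apply, Pi.smul_apply, smul_eq_mul]
    exact reC_add θ (z i)
  rw [this, hz, gl_mulVec_inv_mulVec]

theorem sfForm_nondegenerate (hζ0 : ζ ≠ 0)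
    (halt : ∀ u : Fin n → F, (∀ i, u i ∈ F₀) →
      hh ((P : Matrix (Fin n) (Fin n) F) *ᵥ u) ((P : Matrix (Fin n) (Fin n) F) *ᵥ u) = 0) :
    (sfForm hF F₀ hcard ζ P hP).Nondegenerate := by
  obtain ⟨θ, hθ⟩ := exists_pow_q_ne hF
  have hA := sfForm_isAlt hF F₀ hcard ζ P hP halt
  have hleft : ∀ u : Fin n → F₀, (∀ v, sfForm hF F₀ hcard ζ P hP u v = 0) → u = 0 := by
    intro u hu
    have h1 : pv F₀ P u = 0 := by
      apply hermForm_nd_left hF
      intro y
      obtain ⟨a, b, rfl⟩ := exists_decomp hF F₀ hcard P hθ y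
      rw [hermForm_add_right hF, hermForm_smul_right,
        (sfForm_eq_zero_iff hF F₀ hcard ζ P hP hζ0 u a).mp (hu a),
        (sfForm_eq_zero_iff hF F₀ hcard ζ P hP hζ0 u b).mp (hu b), mul_zero, add_zero]
    apply pv_injective F₀ P
    rw [h1, pv_zero]
  constructor
  · intro u hu
    exact hleft u hu
  · intro u hu
    apply hleft u
    intro v
    have := hu v
    rw [← LinearMap.IsAlt.neg hA, this, neg_zero]

end sfD

end Cfsg.Agent.Lib.Helper13
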