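import Mathlib
import Cfsg.Agent.Lib.Helper13.SubfieldD

set_option autoImplicit false

/-!
Isotropic vectors outside the rational points, and transitivity of the lifted symplectic
transvections on them.
-/

namespace Cfsg.Agent.Lib.Helper13

open Matrix Module Cfsg.Agent.Lib.Helper99 Cfsg.Agent.Lib.Helper8

section sfE

variable {F : Type*} [Field F] [Fintype F] {q n : ℕ}

local notation "hh" => Cfsg.hermForm n F q

variable (hF : Fintype.card F = q ^ 2) (F₀ : Subfield F)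
  (hcard : Fintype.card F = Nat.card F₀ ^ 2) (ζ : F) (P : GL (Fin n) F)
  (hP : Cfsg.Geo.IsFormRationalStructure (Cfsg.hermForm n F q) F₀ ζ P)

include hF hcard hP in
theorem hh_pv_swap (hζ0 : ζ ≠ 0)
    (halt : ∀ u : Fin n → F, (∀ i, u i ∈ F₀) →
      hh ((P : Matrix (Fin n) (Fin n) F) *ᵥ u) ((P : Matrix (Fin n) (Fin n) F) *ᵥ u) = 0)
    (a b : Fin n → F₀) : hh (pv F₀ P b) (pv F₀ P a) = - hh (pv F₀ P a) (pv F₀ P b) := by
  have hA := sfForm_isAlt hF F₀ hcard ζ P hP halt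
  have h1 := LinearMap.IsAlt.neg hA a b
  have h2 := congrArg Subtype.val h1
  rw [Subfield.coe_neg, sfForm_coe, sfForm_coe] at h2
  have h3 : ζ * (hh (pv F₀ P b) (pv F₀ P a) + hh (pv F₀ P a) (pv F₀ P b)) = 0 := by
    linear_combination (-1 : F) * h2
  rcases mul_eq_zero.mp h3 with h4 | h4
  · exact absurd h4 hζ0
  · exact eq_neg_of_add_eq_zero_left h4

include hF hcard hP in
theorem hh_pv_self
    (halt : ∀ u : Fin n → F, (∀ i, u i ∈ F₀) →
      hh ((P : Matrix (Fin n) (Fin n) F) *ᵥ u) ((P : Matrix (Fin n) (Fin n) F) *ᵥ u) = 0)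
    (a : Fin n → F₀) : hh (pv F₀ P a) (pv F₀ P a) = 0 :=
  halt (sfι F₀ a) (fun i => (a i).2)

include hF hcard hP in
/-- The norm of `P a + θ P b`. -/
theorem hh_decomp_self (hζ0 : ζ ≠ 0)
    (halt : ∀ u : Fin n → F, (∀ i, u i ∈ F₀) →
      hh ((P : Matrix (Fin n) (Fin n) F) *ᵥ u) ((P : Matrix (Fin n) (Fin n) F) *ᵥ u) = 0)
    (θ : F) (a b : Fin n → F₀) :
    hh (pv F₀ P a + θ • pv F₀ P b) (pv F₀ P a + θ • pv F₀ P b) =
      (θ ^ q - θ) * hh (pv F₀ P a) (pv F₀ P b) := by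
  rw [hermForm_add_left, hermForm_add_right hF, hermForm_add_right hF, hermForm_smul_left,
    hermForm_smul_left, hermForm_smul_right, hermForm_smul_right,
    hh_pv_self hF F₀ hcard ζ P hP halt a, hh_pv_self hF F₀ hcard ζ P hP halt b,
    hh_pv_swap hF F₀ hcard ζ P hP hζ0 halt a b]
  ring

/-- `g₀` lifts to an element of `M`. -/
def LiftsTo (F₀ : Subfield F) (P : GL (Fin n) F) (M : Subgroup (GL (Fin n) F))
    (g₀ : (Fin n → F₀) ≃ₗ[F₀] (Fin n → F₀)) : Prop :=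
  ∃ h ∈ M, ∀ u : Fin n → F₀, (h : Matrix (Fin n) (Fin n) F) *ᵥ pv F₀ P u = pv F₀ P (g₀ u)

omit [Fintype F] in
theorem liftsTo_refl (M : Subgroup (GL (Fin n) F)) :
    LiftsTo F₀ P M (LinearEquiv.refl F₀ (Fin n → F₀)) :=
  ⟨1, M.one_mem, fun u => by rw [Units.val_one, one_mulVec]; rfl⟩

omit [Fintype F] in
theorem liftsTo_trans (M : Subgroup (GL (Fin n) F))
    (g h : (Fin n → F₀) ≃ₗ[F₀] (Fin n → F₀)) (hg : LiftsTo F₀ P M g) (hh' : LiftsTo F₀ P M h) :
    LiftsTo F₀ P M (g.trans h) := by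
  obtain ⟨x, hx, hxg⟩ := hg
  obtain ⟨y, hy, hyh⟩ := hh'
  refine ⟨y * x, M.mul_mem hy hx, fun u => ?_⟩
  rw [Units.val_mul, ← mulVec_mulVec, hxg, hyh]
  rfl

include hF hcard hP in
theorem liftsTo_altTransv
    (halt : ∀ u : Fin n → F, (∀ i, u i ∈ F₀) →
      hh ((P : Matrix (Fin n) (Fin n) F) *ᵥ u) ((P : Matrix (Fin n) (Fin n) F) *ᵥ u) = 0)
    (M : Subgroup (GL (Fin n) F))
    (hM : ∀ (a : Fin n → F₀) (c : F₀), utv q (pv F₀ P a) ((c : F) * ζ) ∈ M)
    (a : Fin n → F₀) (c : F₀) :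
    LiftsTo F₀ P M (altTransv (sfForm hF F₀ hcard ζ P hP)
      (sfForm_isAlt hF F₀ hcard ζ P hP halt) a c) := by
  refine ⟨utv q (pv F₀ P a) ((c : F) * ζ), hM a c, fun u => ?_⟩
  rw [utv_mulVec _ (hh_pv_self hF F₀ hcard ζ P hP halt a), altTransv_apply, pv_add, pv_smul]
  congr 2
  rw [Subfield.coe_mul, sfForm_coe]
  ring

include hF hcard in
/-- If `a`, `b` are independent then `P a + θ P b` is not a multiple of a rational vector. -/
theorem decomp_ne_smul {θ : F} (hθ : θ ^ q ≠ θ) (a b : Fin n → F₀)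
    (hab : LinearIndependent F₀ ![a, b]) (l : F) (w : Fin n → F₀) :
    pv F₀ P a + θ • pv F₀ P b ≠ l • pv F₀ P w := by
  intro h
  have h1 : sfι F₀ a + θ • sfι F₀ b = l • sfι F₀ w := by
    unfold pv at h
    rw [← mulVec_smul, ← mulVec_add, ← mulVec_smul] at h
    have := congrArg (fun y => ((P⁻¹ : GL (Fin n) F) : Matrix (Fin n) (Fin n) F) *ᵥ y) h
    simpa only [gl_inv_mulVec_mulVec] using this
  set l₁ : F₀ := ⟨reC q θ l, mem_of_pow_q hF F₀ hcard (reC_pow hF hθ l)⟩ with hl₁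
  set l₂ : F₀ := ⟨imC q θ l, mem_of_pow_q hF F₀ hcard (imC_pow hF hθ l)⟩ with hl₂
  have hl : (l₁ : F) + θ * (l₂ : F) = l := reC_add θ l
  have hfix : ∀ x : F₀, (x : F) ^ q = x := fun x => pow_q_of_mem hF F₀ hcard x.2
  have hcomp : ∀ i, a i = l₁ * w i ∧ b i = l₂ * w i := by
    intro i
    have h2 := congrFun h1 i
    simp only [sfι, Pi.add_apply, Pi.smul_apply, smul_eq_mul] at h2
    have h3 : (a i : F) + θ * (b i : F) =
        ((l₁ * w i : F₀) : F) + θ * ((l₂ * w i : F₀) : F) := by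
      rw [h2, ← hl]
      push_cast
      ring
    obtain ⟨e1, e2⟩ := comp_unique hF hθ (hfix (a i)) (hfix (b i)) (hfix (l₁ * w i))
      (hfix (l₂ * w i)) h3
    exact ⟨Subtype.ext e1, Subtype.ext e2⟩
  have ha : a = l₁ • w := funext fun i => (hcomp i).1
  have hb : b = l₂ • w := funext fun i => (hcomp i).2
  rw [LinearIndependent.pair_iff] at hab
  have h4 := hab l₂ (-l₁) (by
    rw [ha, hb, smul_smul, smul_smul, ← add_smul]
    have : l₂ * l₁ + -l₁ * l₂ = 0 := by ring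
    rw [this, zero_smul])
  have hl₁0 : l₁ = 0 := neg_eq_zero.mp h4.2
  have ha0 : a = 0 := by rw [ha, hl₁0, zero_smul]
  have h5 := hab 1 0 (by rw [ha0, smul_zero, zero_smul, add_zero])
  exact one_ne_zero h5.1

omit [Fintype F] in
/-- If `P a + θ P b` is not a multiple of a rational vector then `a`, `b` are independent. -/
theorem indep_of_decomp_ne {θ : F} (a b : Fin n → F₀)
    (h : ∀ (l : F) (w : Fin n → F₀), pv F₀ P a + θ • pv F₀ P b ≠ l • pv F₀ P w) :
    LinearIndependent F₀ ![a, b] := by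
  rw [LinearIndependent.pair_iff]
  intro s t hst
  by_contra hcon
  by_cases ht : t = 0
  · have hs : s ≠ 0 := fun hs => hcon ⟨hs, ht⟩
    rw [ht, zero_smul, add_zero] at hst
    have ha : a = 0 := (smul_eq_zero.mp hst).resolve_left hs
    apply h θ b
    rw [ha, pv_zero, zero_add]
  · have hb : b = (-(s / t)) • a := by
      have h1 : t • b = -(s • a) := eq_neg_of_add_eq_zero_right hst
      calc b = t⁻¹ • (t • b) := by rw [smul_smul, inv_mul_cancel₀ ht, one_smul]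
        _ = (-(s / t)) • a := by
          rw [h1, smul_neg, smul_smul, neg_smul]
          congr 2
          field_simp
    apply h (1 + θ * ((-(s / t) : F₀) : F)) a
    rw [hb, pv_smul, smul_smul, add_smul, one_smul]

include hF hcard hP in
/-- Transitivity on isotropic vectors outside the rational points. -/
theorem exists_lift_map (hζ0 : ζ ≠ 0)
    (halt : ∀ u : Fin n → F, (∀ i, u i ∈ F₀) →
      hh ((P : Matrix (Fin n) (Fin n) F) *ᵥ u) ((P : Matrix (Fin n) (Fin n) F) *ᵥ u) = 0)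
    (M : Subgroup (GL (Fin n) F))
    (hM : ∀ (a : Fin n → F₀) (c : F₀), utv q (pv F₀ P a) ((c : F) * ζ) ∈ M)
    (θ : F) (a b c d : Fin n → F₀)
    (hab : LinearIndependent F₀ ![a, b]) (hcd : LinearIndependent F₀ ![c, d])
    (h1 : hh (pv F₀ P a) (pv F₀ P b) = 0) (h2 : hh (pv F₀ P c) (pv F₀ P d) = 0) :
    ∃ h ∈ M, (h : Matrix (Fin n) (Fin n) F) *ᵥ (pv F₀ P a + θ • pv F₀ P b) =
      pv F₀ P c + θ • pv F₀ P d := by
  have hA := sfForm_isAlt hF F₀ hcard ζ P hP halt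
  have hB := sfForm_nondegenerate hF F₀ hcard ζ P hP hζ0 halt
  have hab0 : sfForm hF F₀ hcard ζ P hP a b = 0 :=
    (sfForm_eq_zero_iff hF F₀ hcard ζ P hP hζ0 a b).mpr h1
  have hcd0 : sfForm hF F₀ hcard ζ P hP c d = 0 :=
    (sfForm_eq_zero_iff hF F₀ hcard ζ P hP hζ0 c d).mpr h2
  have hba0 : sfForm hF F₀ hcard ζ P hP b a = 0 := by
    rw [← LinearMap.IsAlt.neg hA, hab0, neg_zero]
  have hdc0 : sfForm hF F₀ hcard ζ P hP d c = 0 := by
    rw [← LinearMap.IsAlt.neg hA, hcd0, neg_zero]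
  obtain ⟨g, ⟨h, hhM, hlift⟩, -, hg⟩ := witt_family_pred (sfForm hF F₀ hcard ζ P hP) hB hA
    (LiftsTo F₀ P M) (liftsTo_refl F₀ P M)
    (fun a c => liftsTo_altTransv hF F₀ hcard ζ P hP halt M hM a c)
    (fun g h => liftsTo_trans F₀ P M g h) 2 ![a, b] ![c, d] hab hcd (by
      intro i j
      fin_cases i <;> fin_cases j
      · show sfForm hF F₀ hcard ζ P hP c c = sfForm hF F₀ hcard ζ P hP a a
        rw [hA c, hA a]
      · show sfForm hF F₀ hcard ζ P hP c d = sfForm hF F₀ hcard ζ P hP a b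
        rw [hcd0, hab0]
      · show sfForm hF F₀ hcard ζ P hP d c = sfForm hF F₀ hcard ζ P hP b a
        rw [hdc0, hba0]
      · show sfForm hF F₀ hcard ζ P hP d d = sfForm hF F₀ hcard ζ P hP b b
        rw [hA d, hA b])
  refine ⟨h, hhM, ?_⟩
  have e0 : g a = c := hg 0
  have e1 : g b = d := hg 1
  rw [mulVec_add, mulVec_smul, hlift, hlift, e0, e1]

end sfE

end Cfsg.Agent.Lib.Helper13
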