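import Mathlib
import Cfsg.Agent.Lib.Helper13.SubfieldE

set_option autoImplicit false

/-!
The symplectic subfield group is maximal in the special unitary group.
-/

namespace Cfsg.Agent.Lib.Helper13

open Matrix Module Cfsg.Agent.Lib.Helper99 Cfsg.Agent.Lib.Helper8

section sfF

variable {F : Type*} [Field F] [Fintype F] {q n : ℕ}

local notation "hh" => Cfsg.hermForm n F q
local notation "GG" => Cfsg.GU n F q ⊓ Cfsg.Geo.specialLinear (Fin n) F

variable (hF : Fintype.card F = q ^ 2) (F₀ : Subfield F)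
  (hcard : Fintype.card F = Nat.card F₀ ^ 2) (ζ : F) (P : GL (Fin n) F)
  (hP : Cfsg.Geo.IsFormRationalStructure (Cfsg.hermForm n F q) F₀ ζ P)

include hF hcard hP in
/-- The lifted transvections lie in the subfield group (intersected with `SU`). -/
theorem utv_pv_mem (hn : 0 < n) (hζ : ζ + ζ ^ q = 0)
    (halt : ∀ u : Fin n → F, (∀ i, u i ∈ F₀) →
      hh ((P : Matrix (Fin n) (Fin n) F) *ᵥ u) ((P : Matrix (Fin n) (Fin n) F) *ᵥ u) = 0)
    (a : Fin n → F₀) (c : F₀) :
    utv q (pv F₀ P a) ((c : F) * ζ) ∈ Cfsg.Geo.subfieldSubgroup F₀ P ⊓ GG := by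
  have ha0 := hh_pv_self hF F₀ hcard ζ P hP halt a
  refine ⟨?_, utv_mem_suGL hF _ ha0 _ ?_⟩
  · apply mem_subfieldSubgroup_of_forall hF F₀ hcard hn
    intro u
    refine ⟨1, u + (c * sfForm hF F₀ hcard ζ P hP u a) • a, ?_⟩
    rw [one_smul]
    show (utv q (pv F₀ P a) ((c : F) * ζ) : Matrix (Fin n) (Fin n) F) *ᵥ pv F₀ P u = pv F₀ P _
    rw [utv_mulVec _ ha0, pv_add, pv_smul]
    congr 2
    rw [Subfield.coe_mul, sfForm_coe]
    ring
  · rw [mul_pow, pow_q_of_mem hF F₀ hcard c.2, ← mul_add, hζ, mul_zero]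

include hF hcard hP in
/-- Existence of an isotropic vector outside the rational points. -/
theorem exists_nonrational_isotropic (hn : 3 ≤ n) (hζ0 : ζ ≠ 0) :
    ∃ a b : Fin n → F₀, a ≠ 0 ∧ LinearIndependent F₀ ![a, b] ∧
      hh (pv F₀ P a) (pv F₀ P b) = 0 := by
  classical
  set B := sfForm hF F₀ hcard ζ P hP with hBdef
  let a : Fin n → F₀ := Pi.single ⟨0, by omega⟩ 1
  have ha0 : a ≠ 0 := by
    intro h
    have := congrFun h ⟨0, by omega⟩
    simp [a] at this
  let φ : (Fin n → F₀) →ₗ[F₀] F₀ := B a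
  have hrk := LinearMap.finrank_range_add_finrank_ker φ
  rw [Module.finrank_fin_fun] at hrk
  have hr1 : finrank F₀ (LinearMap.range φ) ≤ 1 := by
    have := Submodule.finrank_le (LinearMap.range φ)
    rw [Module.finrank_self] at this
    exact this
  have hker : 2 ≤ finrank F₀ (LinearMap.ker φ) := by omega
  have hnle : ¬ (LinearMap.ker φ ≤ Submodule.span F₀ {a}) := by
    intro hle
    have := Submodule.finrank_mono hle
    rw [finrank_span_singleton ha0] at this
    omega
  obtain ⟨b, hbker, hbspan⟩ := SetLike.not_le_iff_exists.mp hnle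
  refine ⟨a, b, ha0, ?_, ?_⟩
  · rw [LinearIndependent.pair_iff' ha0]
    intro s hs
    apply hbspan
    rw [Submodule.mem_span_singleton]
    exact ⟨s, hs⟩
  · have : B a b = 0 := LinearMap.mem_ker.mp hbker
    exact (sfForm_eq_zero_iff hF F₀ hcard ζ P hP hζ0 a b).mp this

include hF hcard hP in
/-- The symplectic subfield group is maximal in `SU_n(q)`. -/
theorem spSubfield_isMaximalIn (hn : 4 ≤ n) (hζ0 : ζ ≠ 0) (hζ : ζ + ζ ^ q = 0)
    (halt : ∀ u : Fin n → F, (∀ i, u i ∈ F₀) →
      hh ((P : Matrix (Fin n) (Fin n) F) *ᵥ u) ((P : Matrix (Fin n) (Fin n) F) *ᵥ u) = 0) :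
    Cfsg.Geo.IsMaximalIn GG (Cfsg.Geo.subfieldSubgroup F₀ P ⊓ GG) := by
  classical
  obtain ⟨θ, hθ⟩ := exists_pow_q_ne hF
  have hθ' : θ ^ q - θ ≠ 0 := sub_ne_zero.mpr hθ
  have hζq : ζ ^ q = -ζ := eq_neg_of_add_eq_zero_right hζ
  have hself := hh_pv_self hF F₀ hcard ζ P hP halt
  have hdec := hh_decomp_self hF F₀ hcard ζ P hP hζ0 halt θ
  -- isotropy of a decomposed vector
  have hiso : ∀ a b : Fin n → F₀, hh (pv F₀ P a + θ • pv F₀ P b) (pv F₀ P a + θ • pv F₀ P b) = 0 →
      hh (pv F₀ P a) (pv F₀ P b) = 0 := by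
    intro a b h
    rw [hdec] at h
    rcases mul_eq_zero.mp h with h1 | h1
    · exact absurd h1 hθ'
    · exact h1
  constructor
  · -- strictness
    rw [lt_iff_le_and_ne]
    refine ⟨inf_le_right, fun heq => ?_⟩
    obtain ⟨a, b, ha0, hab, habf⟩ := exists_nonrational_isotropic hF F₀ hcard ζ P hP (by omega) hζ0
    have hne := decomp_ne_smul hF F₀ hcard P hθ a b hab
    set x₀ : Fin n → F := pv F₀ P a + θ • pv F₀ P b with hx₀
    have hx₀iso : hh x₀ x₀ = 0 := by rw [hx₀, hdec, habf, mul_zero]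
    have hx₀0 : x₀ ≠ 0 := by
      intro h
      apply hne 0 0
      rw [zero_smul]
      exact h
    have hp0 : pv F₀ P a ≠ 0 := by
      intro h
      apply ha0
      apply pv_injective F₀ P
      rw [h, pv_zero]
    obtain ⟨t, ht, htp⟩ := utv_transitive_isotropic hF (by omega) (pv F₀ P a) x₀ hp0 hx₀0
      (hself a) hx₀iso
    have htG : t ∈ GG := utvGroup_le_suGL hF ht
    rw [← heq] at htG
    obtain ⟨l, w, hlw⟩ := forall_of_mem_subfieldSubgroup F₀ P t htG.1 a
    rw [show (t : Matrix (Fin n) (Fin n) F) *ᵥ ((P : Matrix (Fin n) (Fin n) F) *ᵥ sfι F₀ a) =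
      (t : Matrix (Fin n) (Fin n) F) *ᵥ pv F₀ P a from rfl, htp] at hlw
    exact hne l w hlw
  · intro M hHM hMS
    by_cases hMH : M ≤ Cfsg.Geo.subfieldSubgroup F₀ P ⊓ GG
    · left
      exact le_antisymm hMH hHM
    · right
      obtain ⟨g, hgM, hgH⟩ := SetLike.not_le_iff_exists.mp hMH
      have hgS := hMS hgM
      have hgsub : g ∉ Cfsg.Geo.subfieldSubgroup F₀ P := fun h => hgH ⟨h, hgS⟩
      -- a rational vector moved outside the rational points
      obtain ⟨u, hu⟩ : ∃ u : Fin n → F₀, ∀ (l : F) (w : Fin n → F₀),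
          (g : Matrix (Fin n) (Fin n) F) *ᵥ pv F₀ P u ≠ l • pv F₀ P w := by
        by_contra hcon
        push Not at hcon
        exact hgsub (mem_subfieldSubgroup_of_forall hF F₀ hcard (by omega) P g hcon)
      have hMutv : ∀ (a : Fin n → F₀) (c : F₀), utv q (pv F₀ P a) ((c : F) * ζ) ∈ M :=
        fun a c => hHM (utv_pv_mem hF F₀ hcard ζ P hP (by omega) hζ halt a c)
      -- rational vectors are in `Z`
      have hZrat : ∀ w : Fin n → F₀, InZ q M (pv F₀ P w) := by
        intro w c hc
        have hcq : c ^ q = -c := eq_neg_of_add_eq_zero_right hc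
        have hmem : c / ζ ∈ F₀ := by
          apply mem_of_pow_q hF F₀ hcard
          rw [div_pow, hcq, hζq, neg_div_neg_eq]
        have := hMutv w ⟨c / ζ, hmem⟩
        rw [show ((⟨c / ζ, hmem⟩ : F₀) : F) * ζ = c from div_mul_cancel₀ c hζ0] at this
        exact this
      set x : Fin n → F := (g : Matrix (Fin n) (Fin n) F) *ᵥ pv F₀ P u with hx
      have hxiso : hh x x = 0 := by rw [hx, GU_preserves hgS.1, hself u]
      have hZx : InZ q M x := inZ_map M hMS g hgM _ (hself u) (hZrat u)
      obtain ⟨a, b, hxab⟩ := exists_decomp hF F₀ hcard P hθ x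
      have hab : LinearIndependent F₀ ![a, b] := by
        apply indep_of_decomp_ne F₀ P (θ := θ)
        intro l w
        rw [← hxab]
        exact hu l w
      have habf : hh (pv F₀ P a) (pv F₀ P b) = 0 := by
        apply hiso
        rw [← hxab]
        exact hxiso
      -- all isotropic vectors are in `Z`
      have hall : ∀ y : Fin n → F, hh y y = 0 → InZ q M y := by
        intro y hy
        by_cases hrat : ∃ (l : F) (w : Fin n → F₀), y = l • pv F₀ P w
        · obtain ⟨l, w, rfl⟩ := hrat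
          exact inZ_smul M hF l _ (hself w) (hZrat w)
        · push Not at hrat
          obtain ⟨c, d, hycd⟩ := exists_decomp hF F₀ hcard P hθ y
          have hcd : LinearIndependent F₀ ![c, d] := by
            apply indep_of_decomp_ne F₀ P (θ := θ)
            intro l w
            rw [← hycd]
            exact hrat l w
          have hcdf : hh (pv F₀ P c) (pv F₀ P d) = 0 := by
            apply hiso
            rw [← hycd]
            exact hy
          obtain ⟨h, hhM, hmap⟩ := exists_lift_map hF F₀ hcard ζ P hP hζ0 halt M hMutv θ a b c d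
            hab hcd habf hcdf
          rw [hycd, ← hmap, ← hxab]
          exact inZ_map M hMS h hhM x hxiso hZx
      have hTM : utvGroup n q F ≤ M := by
        unfold utvGroup
        rw [Subgroup.closure_le]
        rintro t ⟨v, c, hv0, hc, rfl⟩
        exact hall v hv0 c hc
      apply le_antisymm hMS
      have hgen : suGL (F := F) n q ≤ utvGroup n q F :=
        suGL_le_utvGroup hF n (by omega) (by omega)
      exact fun y hy => hTM (hgen hy)

end sfF

end Cfsg.Agent.Lib.Helper13
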