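import Mathlib
import Cfsg.Agent.Lib.Helper13.SubfieldF
import Cfsg.Agent.Lib.Helper94.OWitt

set_option autoImplicit false

/-!
Orthogonal subfield subgroup of the unitary group: the induced symmetric form and quadratic form
on the rational structure, and lifting rational isometries.
-/

namespace Cfsg.Agent.Lib.Helper13

open Matrix Module Cfsg.Agent.Lib.Helper99

section osA

variable {F : Type*} [Field F] [Fintype F] {q n : ℕ}

local notation "hh" => Cfsg.hermForm n F q

variable (hF : Fintype.card F = q ^ 2) (F₀ : Subfield F)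
  (hcard : Fintype.card F = Nat.card F₀ ^ 2) (P : GL (Fin n) F)
  (hP : Cfsg.Geo.IsFormRationalStructure (Cfsg.hermForm n F q) F₀ 1 P)

include hP in
/-- The induced symmetric `F₀`-form. -/
def oB (u v : Fin n → F₀) : F₀ :=
  ⟨hh (pv F₀ P u) (pv F₀ P v), by
    have := hP (sfι F₀ u) (sfι F₀ v) (fun i => (u i).2) (fun i => (v i).2)
    rw [one_mul] at this
    exact this⟩

omit [Fintype F] in
theorem oB_coe (u v : Fin n → F₀) : ((oB F₀ P hP u v : F₀) : F) = hh (pv F₀ P u) (pv F₀ P v) := rfl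

include hF hcard in
theorem oB_symm (u v : Fin n → F₀) : oB F₀ P hP u v = oB F₀ P hP v u := by
  apply Subtype.ext
  rw [oB_coe, oB_coe, ← hermForm_conj hF n (pv F₀ P v) (pv F₀ P u)]
  have := pow_q_of_mem hF F₀ hcard (oB F₀ P hP v u).2
  rw [oB_coe] at this
  exact this

omit [Fintype F] in
theorem oB_add_left (u u' v : Fin n → F₀) :
    oB F₀ P hP (u + u') v = oB F₀ P hP u v + oB F₀ P hP u' v := by
  apply Subtype.ext
  simp only [oB_coe, pv_add, hermForm_add_left, Subfield.coe_add]

omit [Fintype F] in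
theorem oB_smul_left (s : F₀) (u v : Fin n → F₀) :
    oB F₀ P hP (s • u) v = s * oB F₀ P hP u v := by
  apply Subtype.ext
  simp only [oB_coe, pv_smul, hermForm_smul_left, Subfield.coe_mul]

include hF hcard in
theorem oB_add_right (u v v' : Fin n → F₀) :
    oB F₀ P hP u (v + v') = oB F₀ P hP u v + oB F₀ P hP u v' := by
  rw [oB_symm hF F₀ hcard P hP, oB_add_left, oB_symm hF F₀ hcard P hP v u,
    oB_symm hF F₀ hcard P hP v' u]

include hF hcard in
theorem oB_smul_right (s : F₀) (u v : Fin n → F₀) :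
    oB F₀ P hP u (s • v) = s * oB F₀ P hP u v := by
  rw [oB_symm hF F₀ hcard P hP, oB_smul_left, oB_symm hF F₀ hcard P hP v u]

include hP in
/-- The induced quadratic form. -/
def oQ (u : Fin n → F₀) : F₀ := oB F₀ P hP u u

include hF hcard in
theorem oQ_polar (u v : Fin n → F₀) :
    QuadraticMap.polar (oQ F₀ P hP) u v = 2 * oB F₀ P hP u v := by
  unfold QuadraticMap.polar oQ
  rw [oB_add_left, oB_add_right hF F₀ hcard P hP, oB_add_right hF F₀ hcard P hP,
    oB_symm hF F₀ hcard P hP v u]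
  ring

include hF in
theorem two_ne_zero_of_odd (hodd : Odd q) : (2 : F) ≠ 0 := by
  intro h2
  have hchar : ringChar F = 2 := CharP.ringChar_of_prime_eq_zero Nat.prime_two h2
  have := (FiniteField.even_card_iff_char_two).mp hchar
  rw [hF] at this
  obtain ⟨k, hk⟩ := hodd
  have : (q ^ 2) % 2 = 1 := by
    rw [hk]
    ring_nf
    omega
  omega

include hF in
theorem two_ne_zero_sub (hodd : Odd q) : (2 : F₀) ≠ 0 := by
  intro h
  apply two_ne_zero_of_odd hF hodd
  have h1 : ((2 : F₀) : F) = ((0 : F₀) : F) := congrArg (Subtype.val) h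
  rw [Subfield.coe_zero] at h1
  rw [← h1]
  norm_cast

include hF hcard in
theorem oQ_nondeg (hodd : Odd q) : Cfsg.Geo.IsNondegenerateQuadraticForm (oQ F₀ P hP) := by
  have h2 := two_ne_zero_sub hF F₀ hodd
  refine ⟨?_, ⟨?_, ?_, ?_, ?_⟩, ?_⟩
  · intro c v
    unfold oQ
    rw [oB_smul_left, oB_smul_right hF F₀ hcard P hP]
    ring
  · intro x y v
    rw [oQ_polar hF F₀ hcard P hP, oQ_polar hF F₀ hcard P hP, oQ_polar hF F₀ hcard P hP,
      oB_add_left]
    ring
  · intro c x v
    rw [oQ_polar hF F₀ hcard P hP, oQ_polar hF F₀ hcard P hP, oB_smul_left]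
    ring
  · intro v x y
    rw [oQ_polar hF F₀ hcard P hP, oQ_polar hF F₀ hcard P hP, oQ_polar hF F₀ hcard P hP,
      oB_add_right hF F₀ hcard P hP]
    ring
  · intro c v x
    rw [oQ_polar hF F₀ hcard P hP, oQ_polar hF F₀ hcard P hP, oB_smul_right hF F₀ hcard P hP]
    ring
  · obtain ⟨θ, hθ⟩ := exists_pow_q_ne hF
    have key : ∀ v : Fin n → F₀, v ≠ 0 → ∃ x, oB F₀ P hP x v ≠ 0 := by
      intro v hv
      by_contra hcon
      push Not at hcon
      apply hv
      apply pv_injective F₀ P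
      rw [pv_zero]
      apply hermForm_nd_right hF
      intro y
      obtain ⟨a, b, rfl⟩ := exists_decomp hF F₀ hcard P hθ y
      rw [hermForm_add_left, hermForm_smul_left, ← oB_coe F₀ P hP a v, ← oB_coe F₀ P hP b v,
        hcon a, hcon b]
      simp
    intro v hv
    obtain ⟨x, hx⟩ := key v hv
    refine ⟨⟨x, ?_⟩, ⟨x, ?_⟩⟩
    · rw [oQ_polar hF F₀ hcard P hP]
      exact mul_ne_zero h2 hx
    · rw [oQ_polar hF F₀ hcard P hP, oB_symm hF F₀ hcard P hP]
      exact mul_ne_zero h2 hx

end osA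

end Cfsg.Agent.Lib.Helper13
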