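import Mathlib
import Cfsg.Agent.Lib.Helper13.OSubA

set_option autoImplicit false

/-!
Lifting rational isometries to the orthogonal subfield subgroup; transitivity on rational singular
vectors.
-/

namespace Cfsg.Agent.Lib.Helper13

open Matrix Module Cfsg.Agent.Lib.Helper99

section osB

variable {F : Type*} [Field F] [Fintype F] {q n : ℕ}

local notation "hh" => Cfsg.hermForm n F q
local notation "GG" => Cfsg.GU n F q ⊓ Cfsg.Geo.specialLinear (Fin n) F

/-- The lift of a rational matrix. -/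
noncomputable def liftH (F₀ : Subfield F) (P : GL (Fin n) F) (A₀ : GL (Fin n) F₀) : GL (Fin n) F :=
  P * Matrix.GeneralLinearGroup.map F₀.subtype A₀ * P⁻¹

omit [Fintype F] in
theorem liftH_pv (F₀ : Subfield F) (P : GL (Fin n) F) (A₀ : GL (Fin n) F₀) (u : Fin n → F₀) :
    (liftH F₀ P A₀ : Matrix (Fin n) (Fin n) F) *ᵥ pv F₀ P u =
      pv F₀ P ((A₀ : Matrix (Fin n) (Fin n) F₀) *ᵥ u) := by
  unfold liftH pv
  rw [Units.val_mul, Units.val_mul, ← mulVec_mulVec, ← mulVec_mulVec, gl_inv_mulVec_mulVec]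
  congr 1
  exact map_mulVec_sfι F₀ (A₀ : Matrix (Fin n) (Fin n) F₀) u

omit [Fintype F] in
theorem liftH_mem_subfield (F₀ : Subfield F) (P : GL (Fin n) F) (A₀ : GL (Fin n) F₀) :
    liftH F₀ P A₀ ∈ Cfsg.Geo.subfieldSubgroup F₀ P := by
  unfold Cfsg.Geo.subfieldSubgroup
  exact Subgroup.mem_map.mpr ⟨Matrix.GeneralLinearGroup.map F₀.subtype A₀,
    Subgroup.mem_sup_left ⟨A₀, rfl⟩, rfl⟩

omit [Fintype F] in
theorem liftH_det (F₀ : Subfield F) (P : GL (Fin n) F) (A₀ : GL (Fin n) F₀) :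
    (liftH F₀ P A₀ : Matrix (Fin n) (Fin n) F).det =
      (((A₀ : Matrix (Fin n) (Fin n) F₀).det : F₀) : F) := by
  unfold liftH
  rw [Units.val_mul, Units.val_mul, Matrix.det_mul, Matrix.det_mul]
  have h1 : ((Matrix.GeneralLinearGroup.map F₀.subtype A₀ : GL (Fin n) F) :
      Matrix (Fin n) (Fin n) F) = (A₀ : Matrix (Fin n) (Fin n) F₀).map F₀.subtype := rfl
  have h2 : ((A₀ : Matrix (Fin n) (Fin n) F₀).map F₀.subtype).det =
      (((A₀ : Matrix (Fin n) (Fin n) F₀).det : F₀) : F) := by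
    have := RingHom.map_det F₀.subtype (A₀ : Matrix (Fin n) (Fin n) F₀)
    rw [RingHom.mapMatrix_apply] at this
    exact this.symm
  rw [h1, h2]
  have h3 : (P : Matrix (Fin n) (Fin n) F).det * ((P⁻¹ : GL (Fin n) F) :
      Matrix (Fin n) (Fin n) F).det = 1 := by
    rw [← Matrix.det_mul, ← Units.val_mul, mul_inv_cancel, Units.val_one, Matrix.det_one]
  calc _ = (((A₀ : Matrix (Fin n) (Fin n) F₀).det : F₀) : F) *
        ((P : Matrix (Fin n) (Fin n) F).det * ((P⁻¹ : GL (Fin n) F) :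
          Matrix (Fin n) (Fin n) F).det) := by ring
    _ = _ := by rw [h3, mul_one]

variable (hF : Fintype.card F = q ^ 2) (F₀ : Subfield F)
  (hcard : Fintype.card F = Nat.card F₀ ^ 2) (P : GL (Fin n) F)

include hF hcard in
/-- An invertible matrix preserving the form on the rational vectors is unitary. -/
theorem mem_GU_of_rational (g : GL (Fin n) F)
    (h : ∀ u v : Fin n → F₀, hh ((g : Matrix (Fin n) (Fin n) F) *ᵥ pv F₀ P u)
      ((g : Matrix (Fin n) (Fin n) F) *ᵥ pv F₀ P v) = hh (pv F₀ P u) (pv F₀ P v)) :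
    g ∈ Cfsg.GU n F q := by
  obtain ⟨θ, hθ⟩ := exists_pow_q_ne hF
  rw [mem_GU_iff]
  intro x y
  obtain ⟨a, b, rfl⟩ := exists_decomp hF F₀ hcard P hθ x
  obtain ⟨c, d, rfl⟩ := exists_decomp hF F₀ hcard P hθ y
  simp only [mulVec_add, mulVec_smul, hermForm_add_left, hermForm_add_right hF,
    hermForm_smul_left, hermForm_smul_right, h]

variable (hP : Cfsg.Geo.IsFormRationalStructure (Cfsg.hermForm n F q) F₀ 1 P)

include hF hcard in
/-- A rational isometry of determinant one lifts to the subfield subgroup of `SU`. -/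
theorem liftH_mem (hodd : Odd q) (A₀ : GL (Fin n) F₀)
    (hA : A₀ ∈ Cfsg.isometryGroup F₀ (oQ F₀ P hP))
    (hdet : (A₀ : Matrix (Fin n) (Fin n) F₀).det = 1) :
    liftH F₀ P A₀ ∈ Cfsg.Geo.subfieldSubgroup F₀ P ⊓ GG := by
  have h2 := two_ne_zero_sub hF F₀ hodd
  have hQ := oQ_nondeg hF F₀ hcard P hP hodd
  have hiso := (Cfsg.Agent.Lib.Helper94.mem_isom A₀).mp hA
  have hB : ∀ u v : Fin n → F₀, oB F₀ P hP ((A₀ : Matrix (Fin n) (Fin n) F₀) *ᵥ u)
      ((A₀ : Matrix (Fin n) (Fin n) F₀) *ᵥ v) = oB F₀ P hP u v := by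
    intro u v
    have h1 := Cfsg.Agent.Lib.Helper94.isom_pol hA u v
    unfold Cfsg.Agent.Lib.Helper94.pol at h1
    rw [oQ_polar hF F₀ hcard P hP, oQ_polar hF F₀ hcard P hP] at h1
    exact mul_left_cancel₀ h2 h1
  refine ⟨liftH_mem_subfield F₀ P A₀, ?_, ?_⟩
  · apply mem_GU_of_rational hF F₀ hcard P
    intro u v
    rw [liftH_pv, liftH_pv, ← oB_coe F₀ P hP, ← oB_coe F₀ P hP, hB]
  · show liftH F₀ P A₀ ∈ Cfsg.Geo.specialLinear (Fin n) F
    rw [mem_specialLinear_iff, liftH_det, hdet]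
    rfl

include hF hcard in
/-- Transitivity of the subfield subgroup on rational singular vectors. -/
theorem exists_H_map_sing (hodd : Odd q) (hn : 3 ≤ n) (u v : Fin n → F₀) (hu : u ≠ 0) (hv : v ≠ 0)
    (hQu : oQ F₀ P hP u = 0) (hQv : oQ F₀ P hP v = 0) :
    ∃ h ∈ Cfsg.Geo.subfieldSubgroup F₀ P ⊓ GG,
      (h : Matrix (Fin n) (Fin n) F) *ᵥ pv F₀ P u = pv F₀ P v := by
  have h2 := two_ne_zero_sub hF F₀ hodd
  have hQ := oQ_nondeg hF F₀ hcard P hP hodd
  obtain ⟨g, hg, hdet, hmap⟩ := Cfsg.Agent.Lib.Helper94.witt_fin_det1 hQ h2 (k := 1)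
    (by rw [Fintype.card_fin]; omega) (fun _ => u) (fun _ => v)
    (linearIndependent_unique_iff.2 hu) (linearIndependent_unique_iff.2 hv)
    (fun _ => by rw [hQu, hQv])
    (fun _ _ => by
      show QuadraticMap.polar (oQ F₀ P hP) v v = QuadraticMap.polar (oQ F₀ P hP) u u
      rw [oQ_polar hF F₀ hcard P hP, oQ_polar hF F₀ hcard P hP]
      have e1 : oB F₀ P hP v v = 0 := hQv
      have e2 : oB F₀ P hP u u = 0 := hQu
      rw [e1, e2])
  refine ⟨liftH F₀ P g, liftH_mem hF F₀ hcard P hP hodd g hg hdet, ?_⟩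
  rw [liftH_pv, hmap 0]

end osB

end Cfsg.Agent.Lib.Helper13
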