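import Mathlib
import Cfsg.Agent.Lib.Helper13.OSubB

set_option autoImplicit false

/-!
Siegel-type elements `x ↦ x + h(x,a) u - h(x,u) a` of the unitary group, for a totally isotropic
pair `u`, `a`.
-/

namespace Cfsg.Agent.Lib.Helper13

open Matrix Module Cfsg.Agent.Lib.Helper99

section osC

variable {F : Type*} [Field F] [Fintype F] {q n : ℕ}

local notation "hh" => Cfsg.hermForm n F q
local notation "GG" => Cfsg.GU n F q ⊓ Cfsg.Geo.specialLinear (Fin n) F

/-- The Siegel element attached to `u`, `a`. -/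
noncomputable def sieg (q : ℕ) (u a : Fin n → F) : GL (Fin n) F :=
  rk1GL u (fun j => 1 * (a j) ^ q) * rk1GL a (fun j => (-1) * (u j) ^ q)

theorem sieg_mulVec (hF : Fintype.card F = q ^ 2) (u a : Fin n → F) (hua : hh u a = 0)
    (haa : hh a a = 0) (x : Fin n → F) :
    (sieg q u a : Matrix (Fin n) (Fin n) F) *ᵥ x = x + hh x a • u - hh x u • a := by
  have hau : hh a u = 0 := hermForm_eq_zero_comm hF hua
  have hne₁ : 1 + (fun j => 1 * (a j) ^ q) ⬝ᵥ u ≠ 0 := by
    rw [utv_dot, hua, mul_zero, add_zero]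
    exact one_ne_zero
  have hne₂ : 1 + (fun j => (-1) * (u j) ^ q) ⬝ᵥ a ≠ 0 := by
    rw [utv_dot, hau, mul_zero, add_zero]
    exact one_ne_zero
  unfold sieg
  rw [Units.val_mul, ← mulVec_mulVec, coe_rk1GL _ _ hne₁, coe_rk1GL _ _ hne₂, rk1_mulVec,
    rk1_mulVec, utv_dot, utv_dot, hermForm_add_left, hermForm_smul_left, haa]
  simp only [mul_zero, add_zero, one_mul, neg_one_mul, neg_smul]
  abel

theorem sieg_mem_SL (hF : Fintype.card F = q ^ 2) (u a : Fin n → F) (hua : hh u a = 0) :
    sieg q u a ∈ Cfsg.Geo.specialLinear (Fin n) F := by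
  have hau : hh a u = 0 := hermForm_eq_zero_comm hF hua
  have hne₁ : 1 + (fun j => 1 * (a j) ^ q) ⬝ᵥ u ≠ 0 := by
    rw [utv_dot, hua, mul_zero, add_zero]
    exact one_ne_zero
  have hne₂ : 1 + (fun j => (-1) * (u j) ^ q) ⬝ᵥ a ≠ 0 := by
    rw [utv_dot, hau, mul_zero, add_zero]
    exact one_ne_zero
  rw [mem_specialLinear_iff]
  unfold sieg
  rw [Units.val_mul, Matrix.det_mul, coe_rk1GL _ _ hne₁, coe_rk1GL _ _ hne₂, det_rk1, det_rk1,
    utv_dot, utv_dot, hua, hau]
  ring

theorem sieg_mem_GU (hF : Fintype.card F = q ^ 2) (u a : Fin n → F) (huu : hh u u = 0)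
    (hua : hh u a = 0) (haa : hh a a = 0) : sieg q u a ∈ Cfsg.GU n F q := by
  have hau : hh a u = 0 := hermForm_eq_zero_comm hF hua
  rw [mem_GU_iff]
  intro x y
  rw [sieg_mulVec hF u a hua haa, sieg_mulVec hF u a hua haa]
  simp only [hermForm_add_left, hermForm_sub_left, hermForm_add_right hF, hermForm_sub_right hF,
    hermForm_smul_left, hermForm_smul_right, huu, hua, hau, haa, mul_zero, add_zero, sub_zero,
    zero_sub, zero_add]
  rw [hermForm_conj hF n y a, hermForm_conj hF n y u]
  ring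

theorem sieg_mem_GG (hF : Fintype.card F = q ^ 2) (u a : Fin n → F) (huu : hh u u = 0)
    (hua : hh u a = 0) (haa : hh a a = 0) : sieg q u a ∈ GG :=
  ⟨sieg_mem_GU hF u a huu hua haa, sieg_mem_SL hF u a hua⟩

/-- Conjugating a Siegel element by an isometry. -/
theorem conj_sieg (hF : Fintype.card F = q ^ 2) (g : GL (Fin n) F) (hg : g ∈ Cfsg.GU n F q)
    (u a : Fin n → F) (hua : hh u a = 0) (haa : hh a a = 0) :
    g * sieg q u a * g⁻¹ = sieg q ((g : Matrix (Fin n) (Fin n) F) *ᵥ u)
      ((g : Matrix (Fin n) (Fin n) F) *ᵥ a) := by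
  have hua' : hh ((g : Matrix (Fin n) (Fin n) F) *ᵥ u) ((g : Matrix (Fin n) (Fin n) F) *ᵥ a) = 0 := by
    rw [GU_preserves hg, hua]
  have haa' : hh ((g : Matrix (Fin n) (Fin n) F) *ᵥ a) ((g : Matrix (Fin n) (Fin n) F) *ᵥ a) = 0 := by
    rw [GU_preserves hg, haa]
  apply Units.ext
  rw [Matrix.ext_iff_mulVec]
  intro x
  rw [Units.val_mul, Units.val_mul, ← mulVec_mulVec, ← mulVec_mulVec, sieg_mulVec hF u a hua haa,
    sieg_mulVec hF _ _ hua' haa', mulVec_sub, mulVec_add, mulVec_smul, mulVec_smul,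
    gl_mulVec_inv_mulVec, GU_preserves_inv hg, GU_preserves_inv hg]

/-- Commutation of two Siegel elements at the same isotropic vector, up to a transvection. -/
theorem sieg_mul_sieg (hF : Fintype.card F = q ^ 2) (u a b : Fin n → F) (huu : hh u u = 0)
    (hua : hh u a = 0) (haa : hh a a = 0) (hub : hh u b = 0) (hbb : hh b b = 0) :
    sieg q u b * sieg q u a = utv q u (hh b a - hh a b) * (sieg q u a * sieg q u b) := by
  have hau : hh a u = 0 := hermForm_eq_zero_comm hF hua
  have hbu : hh b u = 0 := hermForm_eq_zero_comm hF hub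
  apply Units.ext
  rw [Matrix.ext_iff_mulVec]
  intro x
  simp only [Units.val_mul, ← mulVec_mulVec, sieg_mulVec hF u a hua haa,
    sieg_mulVec hF u b hub hbb, utv_mulVec u huu]
  simp only [hermForm_add_left, hermForm_sub_left, hermForm_smul_left, huu, hua, hau, hub, hbu,
    haa, hbb, mul_zero, add_zero, sub_zero, zero_sub, zero_add]
  module

/-- Shifting the second argument by a multiple of the first. -/
theorem sieg_add_smul (hF : Fintype.card F = q ^ 2) (u b : Fin n → F) (l : F) (huu : hh u u = 0)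
    (hub : hh u b = 0) (hbb : hh b b = 0) :
    sieg q u (b + l • u) = sieg q u b * utv q u (l ^ q - l) := by
  have hbu : hh b u = 0 := hermForm_eq_zero_comm hF hub
  have hub' : hh u (b + l • u) = 0 := by
    rw [hermForm_add_right hF, hermForm_smul_right, hub, huu, mul_zero, add_zero]
  have hbb' : hh (b + l • u) (b + l • u) = 0 := by
    simp only [hermForm_add_left, hermForm_add_right hF, hermForm_smul_left, hermForm_smul_right,
      hbb, hbu, hub, huu, mul_zero, add_zero]
  apply Units.ext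
  rw [Matrix.ext_iff_mulVec]
  intro x
  simp only [Units.val_mul, ← mulVec_mulVec, sieg_mulVec hF u b hub hbb,
    sieg_mulVec hF u _ hub' hbb', utv_mulVec u huu]
  simp only [hermForm_add_left, hermForm_add_right hF, hermForm_smul_left, hermForm_smul_right,
    huu, hub, mul_zero, add_zero]
  module

end osC

end Cfsg.Agent.Lib.Helper13
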