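import Mathlib
import Cfsg.Agent.Lib.Helper13.OSubC

set_option autoImplicit false

/-!
Orthogonal subfield subgroup: one transvection at a rational singular point in an overgroup gives
all transvections at all rational singular points.
-/

namespace Cfsg.Agent.Lib.Helper13

open Matrix Module Cfsg.Agent.Lib.Helper99

section osD

variable {F : Type*} [Field F] [Fintype F] {q n : ℕ}

local notation "hh" => Cfsg.hermForm n F q
local notation "GG" => Cfsg.GU n F q ⊓ Cfsg.Geo.specialLinear (Fin n) F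

variable (hF : Fintype.card F = q ^ 2) (F₀ : Subfield F)
  (hcard : Fintype.card F = Nat.card F₀ ^ 2) (P : GL (Fin n) F)
  (hP : Cfsg.Geo.IsFormRationalStructure (Cfsg.hermForm n F q) F₀ 1 P)
  (M : Subgroup (GL (Fin n) F))

omit [Fintype F] in
theorem hh_pv_of_oQ {u : Fin n → F₀} (hu : oQ F₀ P hP u = 0) : hh (pv F₀ P u) (pv F₀ P u) = 0 := by
  have := congrArg Subtype.val hu
  exact this

include hF hcard in
/-- One nontrivial transvection at a rational singular vector gives all of them. -/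
theorem inZ_of_one (hodd : Odd q) (hn : 3 ≤ n)
    (hHM : Cfsg.Geo.subfieldSubgroup F₀ P ⊓ GG ≤ M) (hMS : M ≤ GG)
    (u₀ : Fin n → F₀) (hu₀ : u₀ ≠ 0) (hQ : oQ F₀ P hP u₀ = 0) (c₀ : F) (hc₀ : c₀ ≠ 0)
    (hc₀t : c₀ + c₀ ^ q = 0) (hmem : utv q (pv F₀ P u₀) c₀ ∈ M) : InZ q M (pv F₀ P u₀) := by
  have h2 := two_ne_zero_of_odd hF hodd
  set u := pv F₀ P u₀ with hu
  have huu : hh u u = 0 := hh_pv_of_oQ F₀ P hP hQ
  -- closure properties of the parameter set
  have hadd : ∀ a b : F, utv q u a ∈ M → utv q u b ∈ M → utv q u (a + b) ∈ M := by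
    intro a b ha hb
    rw [← utv_add u huu]
    exact M.mul_mem ha hb
  have hneg : ∀ a : F, utv q u a ∈ M → utv q u (-a) ∈ M := by
    intro a ha
    rw [← utv_inv u huu]
    exact M.inv_mem ha
  have hsq : ∀ (a : F) (s : F₀), s ≠ 0 → utv q u a ∈ M → utv q u (a * ((s : F) * (s : F))) ∈ M := by
    intro a s hs ha
    have hsu₀ : s • u₀ ≠ 0 := smul_ne_zero hs hu₀
    have hQs : oQ F₀ P hP (s • u₀) = 0 := by
      unfold oQ
      rw [oB_smul_left, oB_smul_right hF F₀ hcard P hP]
      have : oB F₀ P hP u₀ u₀ = 0 := hQ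
      rw [this, mul_zero, mul_zero]
    obtain ⟨h, hhH, hmap⟩ := exists_H_map_sing hF F₀ hcard P hP hodd hn u₀ (s • u₀) hu₀ hsu₀ hQ hQs
    have hhM := hHM hhH
    have h1 : h * utv q u a * h⁻¹ ∈ M := M.mul_mem (M.mul_mem hhM ha) (M.inv_mem hhM)
    rw [conj_utv h (hMS hhM).1 u huu, hmap, pv_smul, utv_smul u huu] at h1
    have hsq' : (s : F) ^ (q + 1) = (s : F) * (s : F) := by
      rw [pow_succ, pow_q_of_mem hF F₀ hcard s.2]
    rw [hsq'] at h1
    exact h1
  have hzero : utv q u 0 ∈ M := by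
    rw [utv_zero u huu]
    exact M.one_mem
  have hmul : ∀ (a : F) (t : F₀), utv q u a ∈ M → utv q u (a * (t : F)) ∈ M := by
    intro a t ha
    -- `t = (s+1)^2 - s^2 - 1` with `s = t/2`
    set s : F₀ := t / 2 with hs
    have h2' : (2 : F₀) ≠ 0 := two_ne_zero_sub hF F₀ hodd
    have ht : (t : F) = ((s : F) + 1) * ((s : F) + 1) - (s : F) * (s : F) - 1 := by
      have h3 : 2 * s = t := by
        rw [hs]
        field_simp
      have h4 : (t : F) = 2 * (s : F) := by
        have := congrArg Subtype.val h3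
        rw [← this]
        push_cast
        rfl
      rw [h4]
      ring
    have e1 : utv q u (a * ((s : F) * (s : F))) ∈ M := by
      by_cases hs0 : s = 0
      · rw [hs0]
        simp only [ZeroMemClass.coe_zero, mul_zero]
        exact hzero
      · exact hsq a s hs0 ha
    have e2 : utv q u (a * (((s : F) + 1) * ((s : F) + 1))) ∈ M := by
      by_cases hs1 : s + 1 = 0
      · have : (s : F) + 1 = 0 := by
          have := congrArg Subtype.val hs1
          simpa using this
        rw [this, mul_zero, mul_zero]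
        exact hzero
      · have := hsq a (s + 1) hs1 ha
        simpa using this
    have e3 := hadd _ _ (hadd _ _ e2 (hneg _ e1)) (hneg _ ha)
    have : a * (t : F) = a * (((s : F) + 1) * ((s : F) + 1)) + -(a * ((s : F) * (s : F))) + -a := by
      rw [ht]
      ring
    rw [this]
    exact e3
  intro c hc
  have hcq : c ^ q = -c := eq_neg_of_add_eq_zero_right hc
  have hc₀q : c₀ ^ q = -c₀ := eq_neg_of_add_eq_zero_right hc₀t
  have hmemt : c / c₀ ∈ F₀ := by
    apply mem_of_pow_q hF F₀ hcard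
    rw [div_pow, hcq, hc₀q, neg_div_neg_eq]
  have := hmul c₀ ⟨c / c₀, hmemt⟩ hmem
  rw [show c₀ * ((⟨c / c₀, hmemt⟩ : F₀) : F) = c from mul_div_cancel₀ c hc₀] at this
  exact this

include hF hcard in
/-- Then all rational singular vectors are in `Z`. -/
theorem inZ_all_rational (hodd : Odd q) (hn : 3 ≤ n)
    (hHM : Cfsg.Geo.subfieldSubgroup F₀ P ⊓ GG ≤ M) (hMS : M ≤ GG)
    (u₀ : Fin n → F₀) (hu₀ : u₀ ≠ 0) (hQ : oQ F₀ P hP u₀ = 0) (hZ : InZ q M (pv F₀ P u₀))
    (v₀ : Fin n → F₀) (hQv : oQ F₀ P hP v₀ = 0) : InZ q M (pv F₀ P v₀) := by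
  by_cases hv₀ : v₀ = 0
  · rw [hv₀, pv_zero]
    intro c _
    have : utv q (0 : Fin n → F) c = 1 := by
      apply Units.ext
      rw [Matrix.ext_iff_mulVec]
      intro x
      rw [utv_mulVec 0 (hermForm_zero_left 0), smul_zero, add_zero, Units.val_one, one_mulVec]
    rw [this]
    exact M.one_mem
  obtain ⟨h, hhH, hmap⟩ := exists_H_map_sing hF F₀ hcard P hP hodd hn u₀ v₀ hu₀ hv₀ hQ hQv
  rw [← hmap]
  exact inZ_map M hMS h (hHM hhH) _ (hh_pv_of_oQ F₀ P hP hQ) hZ

end osD

end Cfsg.Agent.Lib.Helper13
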