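import Mathlib
import Cfsg.Agent.Lib.Helper13.OSubD

set_option autoImplicit false

/-!
Orthogonal subfield subgroup: if all rational singular vectors are transvection directions of an
overgroup `M`, then so are all isotropic vectors.
-/

namespace Cfsg.Agent.Lib.Helper13

open Matrix Module Cfsg.Agent.Lib.Helper99

section osE

variable {F : Type*} [Field F] [Fintype F] {q n : ℕ}

local notation "hh" => Cfsg.hermForm n F q
local notation "GG" => Cfsg.GU n F q ⊓ Cfsg.Geo.specialLinear (Fin n) F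

/-- Closure of `Z` under hyperbolic lines. -/
theorem inZ_line (hF : Fintype.card F = q ^ 2) (M : Subgroup (GL (Fin n) F)) (hMS : M ≤ GG)
    (z u : Fin n → F) (hz : hh z z = 0) (hu : hh u u = 0) (hzu : hh z u ≠ 0)
    (hZz : InZ q M z) (hZu : InZ q M u) (t : F) (hiso : hh (z + t • u) (z + t • u) = 0) :
    InZ q M (z + t • u) := by
  have huz : hh u z = (hh z u) ^ q := (hermForm_conj hF n z u).symm
  have hzuq : (hh z u) ^ q ≠ 0 := pow_ne_zero _ hzu
  have hexp : t ^ q * hh z u + t * (hh z u) ^ q = 0 := by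
    rw [hermForm_add_left, hermForm_add_right hF, hermForm_add_right hF, hermForm_smul_left,
      hermForm_smul_left, hermForm_smul_right, hermForm_smul_right, hz, hu, huz] at hiso
    linear_combination hiso
  set c : F := t / hh z u with hc
  have hct : c + c ^ q = 0 := by
    rw [hc, div_pow]
    field_simp
    linear_combination hexp
  have h1 := inZ_map M hMS (utv q u c) (hZu c hct) z hz hZz
  rw [utv_mulVec u hu, hc, div_mul_cancel₀ t hzu] at h1
  exact h1

variable (hF : Fintype.card F = q ^ 2) (F₀ : Subfield F)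
  (hcard : Fintype.card F = Nat.card F₀ ^ 2) (P : GL (Fin n) F)
  (hP : Cfsg.Geo.IsFormRationalStructure (Cfsg.hermForm n F q) F₀ 1 P)
  (M : Subgroup (GL (Fin n) F))

include hF hcard in
/-- The form on decomposed vectors, for `θ ^ q = -θ`. -/
theorem hh_decomp_o {θ : F} (hθ : θ ^ q = -θ) (a b c d : Fin n → F₀) :
    hh (pv F₀ P a + θ • pv F₀ P b) (pv F₀ P c + θ • pv F₀ P d) =
      ((oB F₀ P hP a c : F₀) : F) - θ ^ 2 * ((oB F₀ P hP b d : F₀) : F) +
        θ * (((oB F₀ P hP b c : F₀) : F) - ((oB F₀ P hP a d : F₀) : F)) := by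
  rw [hermForm_add_left, hermForm_add_right hF, hermForm_add_right hF, hermForm_smul_left,
    hermForm_smul_left, hermForm_smul_right, hermForm_smul_right, hθ, oB_coe, oB_coe, oB_coe,
    oB_coe]
  ring

include hF hcard in
theorem hh_decomp_o_right {θ : F} (a b w : Fin n → F₀) :
    hh (pv F₀ P a + θ • pv F₀ P b) (pv F₀ P w) =
      ((oB F₀ P hP a w : F₀) : F) + θ * ((oB F₀ P hP b w : F₀) : F) := by
  rw [hermForm_add_left, hermForm_smul_left, oB_coe, oB_coe]

include hF hcard in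
theorem oQ_add_smul (a u : Fin n → F₀) (t : F₀) :
    oQ F₀ P hP (a + t • u) = oQ F₀ P hP a + 2 * t * oB F₀ P hP a u + t ^ 2 * oQ F₀ P hP u := by
  unfold oQ
  rw [oB_add_left, oB_add_right hF F₀ hcard P hP, oB_add_right hF F₀ hcard P hP, oB_smul_left,
    oB_smul_left, oB_smul_right hF F₀ hcard P hP, oB_smul_right hF F₀ hcard P hP,
    oB_symm hF F₀ hcard P hP u a]
  ring

include hF hcard in
/-- `s₁ + θ s₂ ≠ 0` when `s₁ ≠ 0`, for rational `s₁`, `s₂`. -/
theorem comp_ne_zero {θ : F} (hθ : θ ^ q ≠ θ) (s₁ s₂ : F₀) (hs₁ : s₁ ≠ 0) :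
    (s₁ : F) + θ * (s₂ : F) ≠ 0 := by
  intro h
  have h0 : ((0 : F₀) : F) ^ q = ((0 : F₀) : F) := pow_q_of_mem hF F₀ hcard (0 : F₀).2
  have := comp_unique hF hθ (pow_q_of_mem hF F₀ hcard s₁.2) (pow_q_of_mem hF F₀ hcard s₂.2) h0 h0
    (by rw [h]; simp)
  exact hs₁ (Subtype.ext this.1)

include hF hcard in
/-- Vectors `P a' + θ P b'` with both `a'`, `b'` singular are in `Z`. -/
theorem inZ_both_singular (hodd : Odd q) (hn : 13 ≤ n) (hMS : M ≤ GG)
    (hrat : ∀ v₀ : Fin n → F₀, oQ F₀ P hP v₀ = 0 → InZ q M (pv F₀ P v₀))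
    {θ : F} (hθ : θ ^ q = -θ) (a b : Fin n → F₀)
    (hQa : oQ F₀ P hP a = 0) (hQb : oQ F₀ P hP b = 0) :
    InZ q M (pv F₀ P a + θ • pv F₀ P b) := by
  classical
  have h2 := two_ne_zero_sub hF F₀ hodd
  have hQ := oQ_nondeg hF F₀ hcard P hP hodd
  haveI : Fintype F₀ := Fintype.ofFinite F₀
  have hBaa : oB F₀ P hP a a = 0 := hQa
  have hBbb : oB F₀ P hP b b = 0 := hQb
  have hpa : hh (pv F₀ P a) (pv F₀ P a) = 0 := hh_pv_of_oQ F₀ P hP hQa
  have hpb : hh (pv F₀ P b) (pv F₀ P b) = 0 := hh_pv_of_oQ F₀ P hP hQb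
  -- first subcase: `B(a,b) ≠ 0`
  have hcase1 : ∀ a b : Fin n → F₀, oQ F₀ P hP a = 0 → oQ F₀ P hP b = 0 → oB F₀ P hP a b ≠ 0 →
      InZ q M (pv F₀ P a + θ • pv F₀ P b) := by
    intro a b hQa hQb hab
    have hBaa : oB F₀ P hP a a = 0 := hQa
    have hBbb : oB F₀ P hP b b = 0 := hQb
    apply inZ_line hF M hMS _ _ (hh_pv_of_oQ F₀ P hP hQa) (hh_pv_of_oQ F₀ P hP hQb) _
      (hrat a hQa) (hrat b hQb)
    · rw [hh_decomp_o hF F₀ hcard P hP hθ, hBaa, hBbb, oB_symm hF F₀ hcard P hP b a]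
      simp
    · rw [← oB_coe F₀ P hP]
      intro h
      apply hab
      exact Subtype.ext h
  by_cases hab : oB F₀ P hP a b = 0
  · by_cases ha0 : a = 0
    · rw [ha0, pv_zero, zero_add]
      exact inZ_smul M hF θ _ hpb (hrat b hQb)
    by_cases hbspan : b ∈ Submodule.span F₀ {a}
    · obtain ⟨s, rfl⟩ := Submodule.mem_span_singleton.mp hbspan
      have : pv F₀ P a + θ • pv F₀ P (s • a) = (1 + θ * (s : F)) • pv F₀ P a := by
        rw [pv_smul, smul_smul, add_smul, one_smul]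
      rw [this]
      exact inZ_smul M hF _ _ hpa (hrat a hQa)
    -- a singular `u₁` orthogonal to `b` but not to `a`
    have haspan : a ∉ Submodule.span F₀ {b} := by
      intro h
      obtain ⟨s, hs⟩ := Submodule.mem_span_singleton.mp h
      have hs0 : s ≠ 0 := by
        rintro rfl
        rw [zero_smul] at hs
        exact ha0 hs.symm
      apply hbspan
      rw [Submodule.mem_span_singleton]
      refine ⟨s⁻¹, ?_⟩
      rw [← hs, smul_smul, inv_mul_cancel₀ hs0, one_smul]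
    obtain ⟨u₁, hQu₁, hu₁b, hu₁a⟩ := Cfsg.Agent.Lib.Helper94.exists_sing_orth_ne hQ h2
      (by rw [Fintype.card_fin]; omega) b a haspan
    unfold Cfsg.Agent.Lib.Helper94.pol at hu₁b hu₁a
    rw [oQ_polar hF F₀ hcard P hP] at hu₁b hu₁a
    have hBu₁b : oB F₀ P hP u₁ b = 0 := by
      rcases mul_eq_zero.mp hu₁b with h | h
      · exact absurd h h2
      · exact h
    have hBu₁a : oB F₀ P hP u₁ a ≠ 0 := fun h => hu₁a (by rw [h, mul_zero])
    have hBu₁u₁ : oB F₀ P hP u₁ u₁ = 0 := hQu₁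
    have hQb'' : oQ F₀ P hP (b + u₁) = 0 := by
      have := oQ_add_smul hF F₀ hcard P hP b u₁ 1
      rw [one_smul] at this
      rw [this, hQb, hQu₁, oB_symm hF F₀ hcard P hP b u₁, hBu₁b]
      ring
    have hab'' : oB F₀ P hP a (b + u₁) ≠ 0 := by
      rw [oB_add_right hF F₀ hcard P hP, hab, zero_add, oB_symm hF F₀ hcard P hP]
      exact hBu₁a
    have hx'' := hcase1 a (b + u₁) hQa hQb'' hab''
    have hx''iso : hh (pv F₀ P a + θ • pv F₀ P (b + u₁)) (pv F₀ P a + θ • pv F₀ P (b + u₁)) = 0 := by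
      have e1 : oB F₀ P hP (b + u₁) (b + u₁) = 0 := hQb''
      rw [hh_decomp_o hF F₀ hcard P hP hθ, hBaa, e1, oB_symm hF F₀ hcard P hP (b + u₁) a]
      simp
    have heq : pv F₀ P a + θ • pv F₀ P b =
        (pv F₀ P a + θ • pv F₀ P (b + u₁)) + (-θ) • pv F₀ P u₁ := by
      rw [pv_add]
      module
    rw [heq]
    apply inZ_line hF M hMS _ _ hx''iso (hh_pv_of_oQ F₀ P hP hQu₁) _ hx'' (hrat u₁ hQu₁)
    · rw [← heq, hh_decomp_o hF F₀ hcard P hP hθ, hBaa, hBbb, oB_symm hF F₀ hcard P hP b a]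
      simp
    · rw [hh_decomp_o_right hF F₀ hcard P hP, oB_add_left, hBu₁u₁, add_zero,
        oB_symm hF F₀ hcard P hP b u₁, hBu₁b, oB_symm hF F₀ hcard P hP a u₁]
      simp only [ZeroMemClass.coe_zero, mul_zero, add_zero]
      intro h
      exact hBu₁a (Subtype.ext h)
  · exact hcase1 a b hQa hQb hab

include hF hcard in
/-- All isotropic vectors are in `Z` once the rational singular ones are. -/
theorem inZ_all_isotropic (hodd : Odd q) (hn : 13 ≤ n) (hMS : M ≤ GG)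
    (hrat : ∀ v₀ : Fin n → F₀, oQ F₀ P hP v₀ = 0 → InZ q M (pv F₀ P v₀))
    (x : Fin n → F) (hx : hh x x = 0) : InZ q M x := by
  classical
  have h2 := two_ne_zero_sub hF F₀ hodd
  have h2F := two_ne_zero_of_odd hF hodd
  have hQ := oQ_nondeg hF F₀ hcard P hP hodd
  haveI : Fintype F₀ := Fintype.ofFinite F₀
  obtain ⟨η, hη⟩ := exists_pow_q_ne hF
  set θ : F := η - η ^ q with hθdef
  have hθ : θ ^ q = -θ := by
    rw [hθdef, frob_sub hF, pow_q_pow_q hF]
    ring
  have hθ0 : θ ≠ 0 := sub_ne_zero.mpr (Ne.symm hη)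
  have hθne : θ ^ q ≠ θ := by
    rw [hθ]
    intro h
    have : (2 : F) * θ = 0 := by linear_combination -h
    rcases mul_eq_zero.mp this with h3 | h3
    · exact h2F h3
    · exact hθ0 h3
  have hνmem : θ ^ 2 ∈ F₀ := by
    apply mem_of_pow_q hF F₀ hcard
    rw [← pow_mul, mul_comm, pow_mul, hθ]
    ring
  set ν : F₀ := ⟨θ ^ 2, hνmem⟩ with hν
  have hν0 : ν ≠ 0 := by
    intro h
    have := congrArg Subtype.val h
    exact hθ0 (pow_eq_zero_iff (by norm_num) |>.mp this)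
  obtain ⟨a, b, rfl⟩ := exists_decomp hF F₀ hcard P hθne x
  -- isotropy: `Q a = ν Q b`
  have hQab : oQ F₀ P hP a = ν * oQ F₀ P hP b := by
    rw [hh_decomp_o hF F₀ hcard P hP hθ, oB_symm hF F₀ hcard P hP b a] at hx
    apply Subtype.ext
    rw [Subfield.coe_mul]
    show ((oB F₀ P hP a a : F₀) : F) = θ ^ 2 * ((oB F₀ P hP b b : F₀) : F)
    linear_combination hx
  by_cases ha0 : a = 0
  · have hQb : oQ F₀ P hP b = 0 := by
      have h0 : oQ F₀ P hP a = 0 := by
        rw [ha0]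
        unfold oQ
        have := oB_smul_left F₀ P hP 0 (0 : Fin n → F₀) 0
        rw [zero_smul, zero_mul] at this
        exact this
      rw [h0] at hQab
      rcases mul_eq_zero.mp hQab.symm with h | h
      · exact absurd h hν0
      · exact h
    have hQa : oQ F₀ P hP a = 0 := by rw [hQab, hQb, mul_zero]
    exact inZ_both_singular hF F₀ hcard P hP M hodd hn hMS hrat hθ a b hQa hQb
  by_cases hb0 : b = 0
  · have hQb : oQ F₀ P hP b = 0 := by
      rw [hb0]
      unfold oQ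
      have := oB_smul_left F₀ P hP 0 (0 : Fin n → F₀) 0
      rw [zero_smul, zero_mul] at this
      exact this
    have hQa : oQ F₀ P hP a = 0 := by rw [hQab, hQb, mul_zero]
    exact inZ_both_singular hF F₀ hcard P hP M hodd hn hMS hrat hθ a b hQa hQb
  -- a singular vector not orthogonal to `a` nor `b`
  obtain ⟨u₀, hQu₀, hu₀a, hu₀b⟩ := Cfsg.Agent.Lib.Helper94.exists_sing_both hQ h2
    (by rw [Fintype.card_fin]; omega) a b ha0 hb0
  unfold Cfsg.Agent.Lib.Helper94.pol at hu₀a hu₀b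
  rw [oQ_polar hF F₀ hcard P hP] at hu₀a hu₀b
  have hBa : oB F₀ P hP a u₀ ≠ 0 := by
    rw [oB_symm hF F₀ hcard P hP]
    exact fun h => hu₀a (by rw [h, mul_zero])
  have hBb : oB F₀ P hP b u₀ ≠ 0 := by
    rw [oB_symm hF F₀ hcard P hP]
    exact fun h => hu₀b (by rw [h, mul_zero])
  set m : F₀ := oQ F₀ P hP b with hm
  set t₂ : F₀ := -m / (2 * oB F₀ P hP b u₀) with ht₂
  set t₁ : F₀ := -(ν * m) / (2 * oB F₀ P hP a u₀) with ht₁
  have hQa' : oQ F₀ P hP (a + t₁ • u₀) = 0 := by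
    rw [oQ_add_smul hF F₀ hcard P hP, hQu₀, hQab, ht₁]
    field_simp
    ring
  have hQb' : oQ F₀ P hP (b + t₂ • u₀) = 0 := by
    rw [oQ_add_smul hF F₀ hcard P hP, hQu₀, ht₂]
    field_simp
    ring
  have hx' := inZ_both_singular hF F₀ hcard P hP M hodd hn hMS hrat hθ _ _ hQa' hQb'
  have hx'iso : hh (pv F₀ P (a + t₁ • u₀) + θ • pv F₀ P (b + t₂ • u₀))
      (pv F₀ P (a + t₁ • u₀) + θ • pv F₀ P (b + t₂ • u₀)) = 0 := by
    have e1 : oB F₀ P hP (a + t₁ • u₀) (a + t₁ • u₀) = 0 := hQa'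
    have e2 : oB F₀ P hP (b + t₂ • u₀) (b + t₂ • u₀) = 0 := hQb'
    rw [hh_decomp_o hF F₀ hcard P hP hθ, e1, e2,
      oB_symm hF F₀ hcard P hP (b + t₂ • u₀) (a + t₁ • u₀)]
    simp
  have heq : pv F₀ P a + θ • pv F₀ P b =
      (pv F₀ P (a + t₁ • u₀) + θ • pv F₀ P (b + t₂ • u₀)) +
        (-((t₁ : F) + θ * (t₂ : F))) • pv F₀ P u₀ := by
    rw [pv_add, pv_add, pv_smul, pv_smul]
    module
  rw [heq]
  apply inZ_line hF M hMS _ _ hx'iso (hh_pv_of_oQ F₀ P hP hQu₀) _ hx' (hrat u₀ hQu₀)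
  · rw [← heq]
    exact hx
  · have hu₀u₀ : oB F₀ P hP u₀ u₀ = 0 := hQu₀
    have e1 : oB F₀ P hP (a + t₁ • u₀) u₀ = oB F₀ P hP a u₀ := by
      rw [oB_add_left, oB_smul_left, hu₀u₀, mul_zero, add_zero]
    have e2 : oB F₀ P hP (b + t₂ • u₀) u₀ = oB F₀ P hP b u₀ := by
      rw [oB_add_left, oB_smul_left, hu₀u₀, mul_zero, add_zero]
    rw [hh_decomp_o_right hF F₀ hcard P hP, e1, e2]
    exact comp_ne_zero hF F₀ hcard hθne _ _ hBa

end osE

end Cfsg.Agent.Lib.Helper13
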