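import Mathlib
import Cfsg.Agent.Lib.Helper13.OSubE

set_option autoImplicit false

/-!
Orthogonal subfield subgroup: a transvection at a rational singular point forces the whole special
unitary group; rational Siegel elements; uniform description of the subfield group.
-/

namespace Cfsg.Agent.Lib.Helper13

open Matrix Module Cfsg.Agent.Lib.Helper99

section osF0

variable {F : Type*} [Field F] {n : ℕ}

/-- Uniform description of the elements of the subfield group. -/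
theorem exists_uniform_of_mem_subfieldSubgroup (F₀ : Subfield F) (P g : GL (Fin n) F)
    (hg : g ∈ Cfsg.Geo.subfieldSubgroup F₀ P) :
    ∃ (c : F) (A₀ : GL (Fin n) F₀), c ≠ 0 ∧ ∀ u : Fin n → F₀,
      (g : Matrix (Fin n) (Fin n) F) *ᵥ pv F₀ P u =
        c • pv F₀ P ((A₀ : Matrix (Fin n) (Fin n) F₀) *ᵥ u) := by
  unfold Cfsg.Geo.subfieldSubgroup at hg
  obtain ⟨x, hx, rfl⟩ := Subgroup.mem_map.mp hg
  rw [Subgroup.mem_sup_of_normal_right] at hx
  obtain ⟨y, ⟨A₀, rfl⟩, z, hz, rfl⟩ := hx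
  obtain ⟨c, hc⟩ := (Cfsg.Geo.mem_scalars_iff z).mp hz
  refine ⟨(c : F), A₀, c.ne_zero, fun u => ?_⟩
  have e1 : ((MulAut.conj P).toMonoidHom (Matrix.GeneralLinearGroup.map F₀.subtype A₀ * z) :
      GL (Fin n) F) = P * (Matrix.GeneralLinearGroup.map F₀.subtype A₀ * z) * P⁻¹ := rfl
  unfold pv
  rw [e1, Units.val_mul, Units.val_mul, Units.val_mul, ← mulVec_mulVec, ← mulVec_mulVec,
    ← mulVec_mulVec, gl_inv_mulVec_mulVec, hc, smul_mulVec, one_mulVec, mulVec_smul, mulVec_smul]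
  congr 2
  exact map_mulVec_sfι F₀ (A₀ : Matrix (Fin n) (Fin n) F₀) u

end osF0

section osF

variable {F : Type*} [Field F] [Fintype F] {q n : ℕ}

local notation "hh" => Cfsg.hermForm n F q
local notation "GG" => Cfsg.GU n F q ⊓ Cfsg.Geo.specialLinear (Fin n) F

variable (hF : Fintype.card F = q ^ 2) (F₀ : Subfield F)
  (hcard : Fintype.card F = Nat.card F₀ ^ 2) (P : GL (Fin n) F)
  (hP : Cfsg.Geo.IsFormRationalStructure (Cfsg.hermForm n F q) F₀ 1 P)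
  (M : Subgroup (GL (Fin n) F))

include hF hcard in
/-- A nontrivial transvection at a rational singular vector forces `M = SU`. -/
theorem eq_top_of_transvection (hodd : Odd q) (hn : 13 ≤ n)
    (hHM : Cfsg.Geo.subfieldSubgroup F₀ P ⊓ GG ≤ M) (hMS : M ≤ GG)
    (u₀ : Fin n → F₀) (hu₀ : u₀ ≠ 0) (hQ : oQ F₀ P hP u₀ = 0) (c₀ : F) (hc₀ : c₀ ≠ 0)
    (hc₀t : c₀ + c₀ ^ q = 0) (hmem : utv q (pv F₀ P u₀) c₀ ∈ M) : M = GG := by
  have h1 := inZ_of_one hF F₀ hcard P hP M hodd (by omega) hHM hMS u₀ hu₀ hQ c₀ hc₀ hc₀t hmem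
  have h2 := inZ_all_rational hF F₀ hcard P hP M hodd (by omega) hHM hMS u₀ hu₀ hQ h1
  have h3 := inZ_all_isotropic hF F₀ hcard P hP M hodd hn hMS h2
  have hTM : utvGroup n q F ≤ M := by
    unfold utvGroup
    rw [Subgroup.closure_le]
    rintro t ⟨v, c, hv0, hc, rfl⟩
    exact h3 v hv0 c hc
  apply le_antisymm hMS
  have hgen : suGL (F := F) n q ≤ utvGroup n q F := suGL_le_utvGroup hF n (by omega) (by omega)
  exact fun y hy => hTM (hgen hy)

include hF hcard in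
/-- Rational Siegel elements lie in the subfield group. -/
theorem sieg_pv_mem (hn : 0 < n) (u₀ a₀ : Fin n → F₀) (hQu : oQ F₀ P hP u₀ = 0)
    (hQa : oQ F₀ P hP a₀ = 0) (hua : oB F₀ P hP u₀ a₀ = 0) :
    sieg q (pv F₀ P u₀) (pv F₀ P a₀) ∈ Cfsg.Geo.subfieldSubgroup F₀ P ⊓ GG := by
  have huu : hh (pv F₀ P u₀) (pv F₀ P u₀) = 0 := hh_pv_of_oQ F₀ P hP hQu
  have haa : hh (pv F₀ P a₀) (pv F₀ P a₀) = 0 := hh_pv_of_oQ F₀ P hP hQa
  have hua' : hh (pv F₀ P u₀) (pv F₀ P a₀) = 0 := by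
    rw [← oB_coe F₀ P hP, hua]
    rfl
  refine ⟨?_, sieg_mem_GG hF _ _ huu hua' haa⟩
  apply mem_subfieldSubgroup_of_forall hF F₀ hcard hn
  intro x₀
  refine ⟨1, x₀ + oB F₀ P hP x₀ a₀ • u₀ - oB F₀ P hP x₀ u₀ • a₀, ?_⟩
  rw [one_smul]
  show (sieg q (pv F₀ P u₀) (pv F₀ P a₀) : Matrix (Fin n) (Fin n) F) *ᵥ pv F₀ P x₀ = pv F₀ P _
  rw [sieg_mulVec hF _ _ hua' haa, sub_eq_add_neg, sub_eq_add_neg, ← neg_smul, ← neg_smul, pv_add,
    pv_add, pv_smul, pv_smul, oB_coe, Subfield.coe_neg, oB_coe]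

end osF

end Cfsg.Agent.Lib.Helper13
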