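import Mathlib
import Cfsg.Agent.Lib.Helper13.OSubF

set_option autoImplicit false

/-!
Orthogonal subfield subgroup: when an overgroup contains no transvection at a rational singular
point, Siegel elements at a rational singular point that lie in the overgroup are rational.
-/

namespace Cfsg.Agent.Lib.Helper13

open Matrix Module Cfsg.Agent.Lib.Helper99

section osG

variable {F : Type*} [Field F] [Fintype F] {q n : ℕ}

local notation "hh" => Cfsg.hermForm n F q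
local notation "GG" => Cfsg.GU n F q ⊓ Cfsg.Geo.specialLinear (Fin n) F

/-- An element `θ` with `θ ^ q = -θ`. -/
theorem exists_theta_neg (hF : Fintype.card F = q ^ 2) (hodd : Odd q) :
    ∃ θ : F, θ ^ q = -θ ∧ θ ≠ 0 ∧ θ ^ q ≠ θ := by
  have h2F := two_ne_zero_of_odd hF hodd
  obtain ⟨η, hη⟩ := exists_pow_q_ne hF
  have hθ : (η - η ^ q) ^ q = -(η - η ^ q) := by
    rw [frob_sub hF, pow_q_pow_q hF]
    ring
  have hθ0 : η - η ^ q ≠ 0 := sub_ne_zero.mpr (Ne.symm hη)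
  refine ⟨η - η ^ q, hθ, hθ0, ?_⟩
  rw [hθ]
  intro h
  have : (2 : F) * (η - η ^ q) = 0 := by linear_combination -h
  rcases mul_eq_zero.mp this with h3 | h3
  · exact h2F h3
  · exact hθ0 h3

/-- Scaling the first argument of a Siegel element. -/
theorem sieg_smul_left (hF : Fintype.card F = q ^ 2) (u y : Fin n → F) (μ : F)
    (huy : hh u y = 0) (hyy : hh y y = 0) :
    sieg q (μ • u) y = sieg q u (μ ^ q • y) := by
  have h1 : hh (μ • u) y = 0 := by rw [hermForm_smul_left, huy, mul_zero]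
  have h2 : hh u (μ ^ q • y) = 0 := by rw [hermForm_smul_right, huy, mul_zero]
  have h3 : hh (μ ^ q • y) (μ ^ q • y) = 0 := by
    rw [hermForm_smul_left, hermForm_smul_right, hyy, mul_zero, mul_zero]
  apply Units.ext
  rw [Matrix.ext_iff_mulVec]
  intro x
  rw [sieg_mulVec hF _ _ h1 hyy, sieg_mulVec hF _ _ h2 h3, hermForm_smul_right,
    hermForm_smul_right, pow_q_pow_q hF]
  module

variable (hF : Fintype.card F = q ^ 2) (F₀ : Subfield F)
  (hcard : Fintype.card F = Nat.card F₀ ^ 2) (P : GL (Fin n) F)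
  (hP : Cfsg.Geo.IsFormRationalStructure (Cfsg.hermForm n F q) F₀ 1 P)
  (M : Subgroup (GL (Fin n) F))

omit [Fintype F] in
/-- If `pv a = c • pv b` with `a ≠ 0` then `c` is rational. -/
theorem rat_coeff_mem (a b : Fin n → F₀) (c : F) (ha : a ≠ 0)
    (h : pv F₀ P a = c • pv F₀ P b) : c ∈ F₀ := by
  have h1 : sfι F₀ a = c • sfι F₀ b := by
    have := congrArg (fun y => ((P⁻¹ : GL (Fin n) F) : Matrix (Fin n) (Fin n) F) *ᵥ y) h
    simp only [pv, mulVec_smul, gl_inv_mulVec_mulVec] at this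
    exact this
  obtain ⟨i, hi⟩ : ∃ i, a i ≠ 0 := by
    by_contra hcon
    push Not at hcon
    exact ha (funext hcon)
  have h2 : ((a i : F₀) : F) = c * ((b i : F₀) : F) := congrFun h1 i
  have hbi : ((b i : F₀) : F) ≠ 0 := by
    intro hb
    rw [hb, mul_zero] at h2
    exact hi (Subtype.ext h2)
  have : c = ((a i / b i : F₀) : F) := by
    rw [Subfield.coe_div, h2, mul_div_cancel_right₀ c hbi]
  rw [this]
  exact (a i / b i).2

include hF hcard in
theorem pol_eq_zero_iff (hodd : Odd q) (x y : Fin n → F₀) :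
    Cfsg.Agent.Lib.Helper94.pol (oQ F₀ P hP) x y = 0 ↔ oB F₀ P hP x y = 0 := by
  have h2 := two_ne_zero_sub hF F₀ hodd
  unfold Cfsg.Agent.Lib.Helper94.pol
  rw [oQ_polar hF F₀ hcard P hP]
  constructor
  · intro h
    rcases mul_eq_zero.mp h with h3 | h3
    · exact absurd h3 h2
    · exact h3
  · intro h
    rw [h, mul_zero]

include hF hcard in
/-- A vector orthogonal to everything orthogonal to `X` lies in `X`. -/
theorem mem_of_orth_all (hodd : Odd q) (X : Submodule F₀ (Fin n → F₀)) (b : Fin n → F₀)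
    (h : ∀ w : Fin n → F₀, (∀ x ∈ X, oB F₀ P hP x w = 0) → oB F₀ P hP b w = 0) : b ∈ X := by
  classical
  have hQ := oQ_nondeg hF F₀ hcard P hP hodd
  by_contra hb
  obtain ⟨w, hw, hne⟩ := Cfsg.Agent.Lib.Helper94.pol_exists_orth hQ X b hb
  apply hne
  rw [pol_eq_zero_iff hF F₀ hcard P hP hodd]
  apply h w
  intro x hx
  rw [← pol_eq_zero_iff hF F₀ hcard P hP hodd]
  exact hw x hx

include hF hcard in
/-- Every vector orthogonal to `u₀` is a sum of two singular vectors orthogonal to `u₀`. -/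
theorem sing_sum_o (hodd : Odd q) (hn : 7 ≤ n) (u₀ x₀ : Fin n → F₀)
    (h : oB F₀ P hP u₀ x₀ = 0) :
    ∃ x1 x2 : Fin n → F₀, oQ F₀ P hP x1 = 0 ∧ oQ F₀ P hP x2 = 0 ∧ oB F₀ P hP u₀ x1 = 0 ∧
      oB F₀ P hP u₀ x2 = 0 ∧ x₀ = x1 + x2 := by
  classical
  have h2 := two_ne_zero_sub hF F₀ hodd
  have hQ := oQ_nondeg hF F₀ hcard P hP hodd
  haveI : Fintype F₀ := Fintype.ofFinite F₀
  obtain ⟨x1, x2, h1, h2', h3, h4, h5⟩ := Cfsg.Agent.Lib.Helper94.sing_sum hQ h2
    (by rw [Fintype.card_fin]; omega) u₀ x₀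
    (by rw [pol_eq_zero_iff hF F₀ hcard P hP hodd, oB_symm hF F₀ hcard P hP]; exact h)
  rw [pol_eq_zero_iff hF F₀ hcard P hP hodd, oB_symm hF F₀ hcard P hP] at h3 h4
  exact ⟨x1, x2, h1, h2', h3, h4, h5⟩

include hF hcard in
/-- If `h(b₁ + θ b₂, x₀)` is rational then `B(b₂, x₀) = 0`. -/
theorem oB_eq_zero_of_rat {θ : F} (hθ : θ ^ q ≠ θ) (b₁ b₂ x₀ : Fin n → F₀)
    (h : (hh (pv F₀ P b₁ + θ • pv F₀ P b₂) (pv F₀ P x₀)) ^ q =
      hh (pv F₀ P b₁ + θ • pv F₀ P b₂) (pv F₀ P x₀)) :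
    oB F₀ P hP b₂ x₀ = 0 := by
  rw [hh_decomp_o_right hF F₀ hcard P hP] at h
  have h0 : ((0 : F₀) : F) ^ q = ((0 : F₀) : F) := pow_q_of_mem hF F₀ hcard (0 : F₀).2
  have := comp_unique hF hθ (pow_q_of_mem hF F₀ hcard (oB F₀ P hP b₁ x₀).2)
    (pow_q_of_mem hF F₀ hcard (oB F₀ P hP b₂ x₀).2) h h0
    (by rw [Subfield.coe_zero, mul_zero, add_zero])
  exact Subtype.ext this.2

include hF hcard in
/-- A Siegel element at a rational singular point lying in `M` has rational parameter, when `M`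
contains no transvection at a rational singular point. -/
theorem rational_of_sieg_mem (hodd : Odd q) (hn : 13 ≤ n)
    (hHM : Cfsg.Geo.subfieldSubgroup F₀ P ⊓ GG ≤ M)
    (hT : ∀ (u₀ : Fin n → F₀) (c : F), u₀ ≠ 0 → oQ F₀ P hP u₀ = 0 → c + c ^ q = 0 →
      utv q (pv F₀ P u₀) c ∈ M → c = 0)
    (u₀ : Fin n → F₀) (hu₀ : u₀ ≠ 0) (hQu : oQ F₀ P hP u₀ = 0) (b : Fin n → F)
    (hub : hh (pv F₀ P u₀) b = 0) (hbb : hh b b = 0) (hmem : sieg q (pv F₀ P u₀) b ∈ M) :
    ∃ b₁ : Fin n → F₀, b = pv F₀ P b₁ := by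
  classical
  have h2F := two_ne_zero_of_odd hF hodd
  obtain ⟨θ, hθ, hθ0, hθne⟩ := exists_theta_neg hF hodd
  set u := pv F₀ P u₀ with hu
  have huu : hh u u = 0 := hh_pv_of_oQ F₀ P hP hQu
  -- the form values against rational singular vectors orthogonal to `u₀` are rational
  have key1 : ∀ a : Fin n → F₀, oQ F₀ P hP a = 0 → oB F₀ P hP u₀ a = 0 →
      (hh b (pv F₀ P a)) ^ q = hh b (pv F₀ P a) := by
    intro a hQa hua
    have haa : hh (pv F₀ P a) (pv F₀ P a) = 0 := hh_pv_of_oQ F₀ P hP hQa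
    have hua' : hh u (pv F₀ P a) = 0 := by
      rw [hu, ← oB_coe F₀ P hP, hua]
      rfl
    have hsa : sieg q u (pv F₀ P a) ∈ M :=
      hHM (sieg_pv_mem hF F₀ hcard P hP (by omega) u₀ a hQu hQa hua)
    have hcomm := sieg_mul_sieg hF u (pv F₀ P a) b huu hua' haa hub hbb
    have hmem2 : utv q u (hh b (pv F₀ P a) - hh (pv F₀ P a) b) ∈ M := by
      have : utv q u (hh b (pv F₀ P a) - hh (pv F₀ P a) b) =
          sieg q u b * sieg q u (pv F₀ P a) * (sieg q u (pv F₀ P a) * sieg q u b)⁻¹ := by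
        rw [hcomm, mul_inv_cancel_right]
      rw [this]
      exact M.mul_mem (M.mul_mem hmem hsa) (M.inv_mem (M.mul_mem hsa hmem))
    have hc := hT u₀ _ hu₀ hQu (by
      rw [frob_sub hF, hermForm_conj hF n, hermForm_conj hF n]
      ring) hmem2
    rw [hermForm_conj hF n]
    exact (sub_eq_zero.mp hc).symm
  have key2 : ∀ x₀ : Fin n → F₀, oB F₀ P hP u₀ x₀ = 0 →
      (hh b (pv F₀ P x₀)) ^ q = hh b (pv F₀ P x₀) := by
    intro x₀ hx₀
    obtain ⟨x1, x2, h1, h2', h3, h4, rfl⟩ := sing_sum_o hF F₀ hcard P hP hodd (by omega) u₀ x₀ hx₀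
    rw [pv_add, hermForm_add_right hF, frob_add hF, key1 x1 h1 h3, key1 x2 h2' h4]
  obtain ⟨b₁, b₂, hb⟩ := exists_decomp hF F₀ hcard P hθne b
  have key3 : ∀ x₀ : Fin n → F₀, oB F₀ P hP u₀ x₀ = 0 → oB F₀ P hP b₂ x₀ = 0 := by
    intro x₀ hx₀
    apply oB_eq_zero_of_rat hF F₀ hcard P hP hθne b₁ b₂ x₀
    rw [← hb]
    exact key2 x₀ hx₀
  have hspan : b₂ ∈ Submodule.span F₀ {u₀} := by
    apply mem_of_orth_all hF F₀ hcard P hP hodd
    intro w hw
    exact key3 w (hw u₀ (Submodule.mem_span_singleton_self u₀))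
  obtain ⟨s, hs⟩ := Submodule.mem_span_singleton.mp hspan
  have hb' : b = pv F₀ P b₁ + (θ * (s : F)) • u := by
    rw [hb, ← hs, pv_smul, smul_smul]
  have hub₁ : hh u (pv F₀ P b₁) = 0 := by
    have := hub
    rw [hb', hermForm_add_right hF, hermForm_smul_right, huu, mul_zero, add_zero] at this
    exact this
  have hb₁u : hh (pv F₀ P b₁) u = 0 := hermForm_eq_zero_comm hF hub₁
  have hb₁b₁ : hh (pv F₀ P b₁) (pv F₀ P b₁) = 0 := by
    have := hbb
    rw [hb'] at this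
    simp only [hermForm_add_left, hermForm_add_right hF, hermForm_smul_left, hermForm_smul_right,
      huu, hub₁, hb₁u, mul_zero, add_zero] at this
    exact this
  have hQb₁ : oQ F₀ P hP b₁ = 0 := Subtype.ext hb₁b₁
  have hub₁' : oB F₀ P hP u₀ b₁ = 0 := Subtype.ext hub₁
  have hsb₁ : sieg q u (pv F₀ P b₁) ∈ M :=
    hHM (sieg_pv_mem hF F₀ hcard P hP (by omega) u₀ b₁ hQu hQb₁ hub₁')
  have hsplit := sieg_add_smul hF u (pv F₀ P b₁) (θ * (s : F)) huu hub₁ hb₁b₁
  rw [← hb'] at hsplit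
  have hmem3 : utv q u ((θ * (s : F)) ^ q - θ * (s : F)) ∈ M := by
    have : utv q u ((θ * (s : F)) ^ q - θ * (s : F)) = (sieg q u (pv F₀ P b₁))⁻¹ * sieg q u b := by
      rw [hsplit, inv_mul_cancel_left]
    rw [this]
    exact M.mul_mem (M.inv_mem hsb₁) hmem
  have hc := hT u₀ _ hu₀ hQu (by
    rw [frob_sub hF, pow_q_pow_q hF]
    ring) hmem3
  have hsq : (s : F) ^ q = (s : F) := pow_q_of_mem hF F₀ hcard s.2
  rw [mul_pow, hθ, hsq] at hc
  have hs0 : θ * (s : F) = 0 := by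
    have h3 : (2 : F) * (θ * (s : F)) = 0 := by linear_combination -hc
    rcases mul_eq_zero.mp h3 with h4 | h4
    · exact absurd h4 h2F
    · exact h4
  refine ⟨b₁, ?_⟩
  rw [hb', hs0, zero_smul, add_zero]

end osG

end Cfsg.Agent.Lib.Helper13
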