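import Mathlib
import Cfsg.Agent.Lib.Helper13.OSubG

set_option autoImplicit false

/-!
Orthogonal subfield subgroup: stabilizers of rational singular points in a transvection-free
overgroup lie in the subfield group.
-/

namespace Cfsg.Agent.Lib.Helper13

open Matrix Module Cfsg.Agent.Lib.Helper99

section osH

variable {F : Type*} [Field F] [Fintype F] {q n : ℕ}

local notation "hh" => Cfsg.hermForm n F q
local notation "GG" => Cfsg.GU n F q ⊓ Cfsg.Geo.specialLinear (Fin n) F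

variable (hF : Fintype.card F = q ^ 2) (F₀ : Subfield F)
  (hcard : Fintype.card F = Nat.card F₀ ^ 2) (P : GL (Fin n) F)
  (hP : Cfsg.Geo.IsFormRationalStructure (Cfsg.hermForm n F q) F₀ 1 P)
  (M : Subgroup (GL (Fin n) F))

omit [Fintype F] in
theorem pv_ne_zero {u₀ : Fin n → F₀} (hu₀ : u₀ ≠ 0) : pv F₀ P u₀ ≠ 0 := by
  intro h
  apply hu₀
  apply pv_injective F₀ P
  rw [h, pv_zero]

omit [Fintype F] in
theorem gl_mulVec_eq_zero (g : GL (Fin n) F) (x : Fin n → F)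
    (h : (g : Matrix (Fin n) (Fin n) F) *ᵥ x = 0) : x = 0 := by
  have := congrArg (fun y => ((g⁻¹ : GL (Fin n) F) : Matrix (Fin n) (Fin n) F) *ᵥ y) h
  simp only [gl_inv_mulVec_mulVec, mulVec_zero] at this
  exact this

include hF hcard in
/-- An element of `M` fixing a rational singular point maps the rational vectors orthogonal to it
to rational vectors, up to a scalar. -/
theorem stab_orth_rational (hodd : Odd q) (hn : 13 ≤ n)
    (hHM : Cfsg.Geo.subfieldSubgroup F₀ P ⊓ GG ≤ M) (hMS : M ≤ GG)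
    (hT : ∀ (u₀ : Fin n → F₀) (c : F), u₀ ≠ 0 → oQ F₀ P hP u₀ = 0 → c + c ^ q = 0 →
      utv q (pv F₀ P u₀) c ∈ M → c = 0)
    (u₀ : Fin n → F₀) (hu₀ : u₀ ≠ 0) (hQu : oQ F₀ P hP u₀ = 0)
    (m : GL (Fin n) F) (hm : m ∈ M) (μ : F)
    (hmu : (m : Matrix (Fin n) (Fin n) F) *ᵥ pv F₀ P u₀ = μ • pv F₀ P u₀)
    (x₀ : Fin n → F₀) (hx₀ : oB F₀ P hP u₀ x₀ = 0) :
    ∃ x₁ : Fin n → F₀, oB F₀ P hP u₀ x₁ = 0 ∧
      μ ^ q • ((m : Matrix (Fin n) (Fin n) F) *ᵥ pv F₀ P x₀) = pv F₀ P x₁ := by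
  classical
  set u := pv F₀ P u₀ with hu
  have huu : hh u u = 0 := hh_pv_of_oQ F₀ P hP hQu
  have hpu0 : u ≠ 0 := pv_ne_zero F₀ P hu₀
  have hmGU : m ∈ Cfsg.GU n F q := (hMS hm).1
  have hμ0 : μ ≠ 0 := by
    rintro rfl
    rw [zero_smul] at hmu
    exact hpu0 (gl_mulVec_eq_zero m u hmu)
  have hsing : ∀ a₀ : Fin n → F₀, oQ F₀ P hP a₀ = 0 → oB F₀ P hP u₀ a₀ = 0 →
      ∃ x₁ : Fin n → F₀, oB F₀ P hP u₀ x₁ = 0 ∧
        μ ^ q • ((m : Matrix (Fin n) (Fin n) F) *ᵥ pv F₀ P a₀) = pv F₀ P x₁ := by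
    intro a₀ hQa hua
    have haa : hh (pv F₀ P a₀) (pv F₀ P a₀) = 0 := hh_pv_of_oQ F₀ P hP hQa
    have hua' : hh u (pv F₀ P a₀) = 0 := by
      rw [hu, ← oB_coe F₀ P hP, hua]
      rfl
    have hsa : sieg q u (pv F₀ P a₀) ∈ M :=
      hHM (sieg_pv_mem hF F₀ hcard P hP (by omega) u₀ a₀ hQu hQa hua)
    set y := (m : Matrix (Fin n) (Fin n) F) *ᵥ pv F₀ P a₀ with hy
    have hyy : hh y y = 0 := by rw [hy, GU_preserves hmGU, haa]
    have huy : hh u y = 0 := by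
      have h1 : hh ((m : Matrix (Fin n) (Fin n) F) *ᵥ u) y = 0 := by
        rw [hy, GU_preserves hmGU, hua']
      rw [hmu, hermForm_smul_left] at h1
      rcases mul_eq_zero.mp h1 with h2 | h2
      · exact absurd h2 hμ0
      · exact h2
    have hconj : m * sieg q u (pv F₀ P a₀) * m⁻¹ = sieg q u (μ ^ q • y) := by
      rw [conj_sieg hF m hmGU u (pv F₀ P a₀) hua' haa, hmu, ← hy, sieg_smul_left hF u y μ huy hyy]
    have hmem : sieg q u (μ ^ q • y) ∈ M := by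
      rw [← hconj]
      exact M.mul_mem (M.mul_mem hm hsa) (M.inv_mem hm)
    have hub : hh u (μ ^ q • y) = 0 := by rw [hermForm_smul_right, huy, mul_zero]
    have hbb : hh (μ ^ q • y) (μ ^ q • y) = 0 := by
      rw [hermForm_smul_left, hermForm_smul_right, hyy, mul_zero, mul_zero]
    obtain ⟨b₁, hb₁⟩ := rational_of_sieg_mem hF F₀ hcard P hP M hodd hn hHM hT u₀ hu₀ hQu
      (μ ^ q • y) hub hbb hmem
    refine ⟨b₁, ?_, hb₁⟩
    apply Subtype.ext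
    rw [oB_coe, ← hb₁]
    exact hub
  obtain ⟨x1, x2, h1, h2, h3, h4, rfl⟩ := sing_sum_o hF F₀ hcard P hP hodd (by omega) u₀ x₀ hx₀
  obtain ⟨y1, hy1, hy1'⟩ := hsing x1 h1 h3
  obtain ⟨y2, hy2, hy2'⟩ := hsing x2 h2 h4
  refine ⟨y1 + y2, ?_, ?_⟩
  · rw [oB_add_right hF F₀ hcard P hP, hy1, hy2, add_zero]
  · rw [pv_add, pv_add, mulVec_add, smul_add, hy1', hy2']

include hF hcard in
/-- An element of `M` fixing a rational singular point maps the rational vectors to rational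
vectors, up to a scalar. -/
theorem stab_rational (hodd : Odd q) (hn : 13 ≤ n)
    (hHM : Cfsg.Geo.subfieldSubgroup F₀ P ⊓ GG ≤ M) (hMS : M ≤ GG)
    (hT : ∀ (u₀ : Fin n → F₀) (c : F), u₀ ≠ 0 → oQ F₀ P hP u₀ = 0 → c + c ^ q = 0 →
      utv q (pv F₀ P u₀) c ∈ M → c = 0)
    (u₀ : Fin n → F₀) (hu₀ : u₀ ≠ 0) (hQu : oQ F₀ P hP u₀ = 0)
    (m : GL (Fin n) F) (hm : m ∈ M) (μ : F)
    (hmu : (m : Matrix (Fin n) (Fin n) F) *ᵥ pv F₀ P u₀ = μ • pv F₀ P u₀)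
    (x₀ : Fin n → F₀) :
    ∃ x₁ : Fin n → F₀, μ ^ q • ((m : Matrix (Fin n) (Fin n) F) *ᵥ pv F₀ P x₀) = pv F₀ P x₁ := by
  classical
  have h2 := two_ne_zero_sub hF F₀ hodd
  have hQ := oQ_nondeg hF F₀ hcard P hP hodd
  obtain ⟨θ, hθ, hθ0, hθne⟩ := exists_theta_neg hF hodd
  set u := pv F₀ P u₀ with hu
  have huu : hh u u = 0 := hh_pv_of_oQ F₀ P hP hQu
  have hpu0 : u ≠ 0 := pv_ne_zero F₀ P hu₀
  have hmG : m ∈ GG := hMS hm
  have hmGU : m ∈ Cfsg.GU n F q := hmG.1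
  have hμ0 : μ ≠ 0 := by
    rintro rfl
    rw [zero_smul] at hmu
    exact hpu0 (gl_mulVec_eq_zero m u hmu)
  have hμq0 : μ ^ q ≠ 0 := pow_ne_zero _ hμ0
  -- the norm of `μ`
  have hNmem : μ * μ ^ q ∈ F₀ := by
    apply mem_of_pow_q hF F₀ hcard
    rw [mul_pow, pow_q_pow_q hF, mul_comm]
  have hN0 : μ * μ ^ q ≠ 0 := mul_ne_zero hμ0 hμq0
  have hfwd := stab_orth_rational hF F₀ hcard P hP M hodd hn hHM hMS hT u₀ hu₀ hQu m hm μ hmu
  have hminv : ((m⁻¹ : GL (Fin n) F) : Matrix (Fin n) (Fin n) F) *ᵥ u = μ⁻¹ • u := by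
    have := congrArg (fun y => ((m⁻¹ : GL (Fin n) F) : Matrix (Fin n) (Fin n) F) *ᵥ y) hmu
    simp only [gl_inv_mulVec_mulVec, mulVec_smul] at this
    calc ((m⁻¹ : GL (Fin n) F) : Matrix (Fin n) (Fin n) F) *ᵥ u
        = μ⁻¹ • (μ • ((m⁻¹ : GL (Fin n) F) : Matrix (Fin n) (Fin n) F) *ᵥ u) := by
          rw [smul_smul, inv_mul_cancel₀ hμ0, one_smul]
      _ = μ⁻¹ • u := by rw [← this]
  have hbwd := stab_orth_rational hF F₀ hcard P hP M hodd hn hHM hMS hT u₀ hu₀ hQu m⁻¹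
    (M.inv_mem hm) μ⁻¹ hminv
  have hsurj : ∀ x₀' : Fin n → F₀, oB F₀ P hP u₀ x₀' = 0 → ∃ x₀ : Fin n → F₀,
      oB F₀ P hP u₀ x₀ = 0 ∧
        μ ^ q • ((m : Matrix (Fin n) (Fin n) F) *ᵥ pv F₀ P x₀) = pv F₀ P x₀' := by
    intro x₀' hx₀'
    obtain ⟨x₀, hx₀, hx₀e⟩ := hbwd x₀' hx₀'
    refine ⟨x₀, hx₀, ?_⟩
    rw [← hx₀e, mulVec_smul, gl_mulVec_inv_mulVec, smul_smul, ← mul_pow, mul_inv_cancel₀ hμ0,
      one_pow, one_smul]
  -- a rational vector not orthogonal to `u₀`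
  obtain ⟨f₀, hf₀⟩ := Cfsg.Agent.Lib.Helper94.pol_exists_ne hQ u₀ hu₀
  have hβ : oB F₀ P hP f₀ u₀ ≠ 0 := fun h => hf₀ ((pol_eq_zero_iff hF F₀ hcard P hP hodd f₀ u₀).mpr h)
  set β : F₀ := oB F₀ P hP f₀ u₀ with hβdef
  have hβF : (β : F) ≠ 0 := fun h => hβ (Subtype.ext h)
  have hβu : hh (pv F₀ P f₀) u = (β : F) := (oB_coe F₀ P hP f₀ u₀).symm
  obtain ⟨w₁, w₂, hw⟩ := exists_decomp hF F₀ hcard P hθne
    (μ ^ q • ((m : Matrix (Fin n) (Fin n) F) *ᵥ pv F₀ P f₀))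
  have key : ∀ x₀' : Fin n → F₀, oB F₀ P hP u₀ x₀' = 0 → oB F₀ P hP w₂ x₀' = 0 := by
    intro x₀' hx₀'
    obtain ⟨x₀, hx₀, hx₀e⟩ := hsurj x₀' hx₀'
    apply oB_eq_zero_of_rat hF F₀ hcard P hP hθne w₁ w₂ x₀'
    rw [← hw, ← hx₀e, hermForm_smul_left, hermForm_smul_right, GU_preserves hmGU, pow_q_pow_q hF,
      ← oB_coe F₀ P hP, mul_pow, mul_pow, pow_q_pow_q hF,
      pow_q_of_mem hF F₀ hcard (oB F₀ P hP f₀ x₀).2]
    ring
  have hspan : w₂ ∈ Submodule.span F₀ {u₀} := by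
    apply mem_of_orth_all hF F₀ hcard P hP hodd
    intro w hw'
    exact key w (hw' u₀ (Submodule.mem_span_singleton_self u₀))
  obtain ⟨s, hs⟩ := Submodule.mem_span_singleton.mp hspan
  have hw' : μ ^ q • ((m : Matrix (Fin n) (Fin n) F) *ᵥ pv F₀ P f₀) =
      pv F₀ P w₁ + (θ * (s : F)) • u := by
    rw [hw, ← hs, pv_smul, smul_smul]
  -- the correcting transvection
  obtain ⟨c, hc⟩ : ∃ c : F, c = -(θ * (s : F)) / ((β : F) * (μ * μ ^ q)) := ⟨_, rfl⟩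
  have hct : c + c ^ q = 0 := by
    rw [hc, div_pow, frob_neg hF, mul_pow, mul_pow, hθ, pow_q_of_mem hF F₀ hcard s.2,
      pow_q_of_mem hF F₀ hcard β.2, pow_q_of_mem hF F₀ hcard hNmem]
    ring
  have hτG : utv q u c ∈ GG := ⟨utv_mem_GU hF u huu c hct, utv_mem_SL u huu c⟩
  have hall : ∀ x₀ : Fin n → F₀, ∃ x₁ : Fin n → F₀,
      μ ^ q • (((m * utv q u c : GL (Fin n) F) : Matrix (Fin n) (Fin n) F) *ᵥ pv F₀ P x₀) =
        pv F₀ P x₁ := by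
    intro x₀
    set r : F₀ := oB F₀ P hP x₀ u₀ / β with hr
    have hrβ : r * β = oB F₀ P hP x₀ u₀ := by
      rw [hr]
      field_simp
    have hx₀'' : oB F₀ P hP u₀ (x₀ - r • f₀) = 0 := by
      rw [sub_eq_add_neg, ← neg_smul, oB_add_right hF F₀ hcard P hP, oB_smul_right hF F₀ hcard P hP,
        oB_symm hF F₀ hcard P hP u₀ f₀, oB_symm hF F₀ hcard P hP u₀ x₀, ← hβdef, ← hrβ]
      ring
    obtain ⟨x₁, -, hx₁⟩ := hfwd (x₀ - r • f₀) hx₀''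
    refine ⟨x₁ + r • w₁, ?_⟩
    have hx₀split : pv F₀ P x₀ = pv F₀ P (x₀ - r • f₀) + (r : F) • pv F₀ P f₀ := by
      rw [← pv_smul, ← pv_add, sub_add_cancel]
    have hxu : hh (pv F₀ P x₀) u = (r : F) * (β : F) := by
      rw [hu, ← oB_coe F₀ P hP, ← hrβ, Subfield.coe_mul]
    rw [Units.val_mul, ← mulVec_mulVec, utv_mulVec u huu, hxu, mulVec_add, mulVec_smul, hmu,
      smul_add]
    nth_rewrite 1 [hx₀split]
    rw [mulVec_add, mulVec_smul, smul_add, hx₁, smul_comm (μ ^ q) (r : F), hw', pv_add, pv_smul,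
      hc]
    have hden : (β : F) * (μ * μ ^ q) ≠ 0 := mul_ne_zero hβF hN0
    have e1 : μ ^ q • (-(θ * (s : F)) / ((β : F) * (μ * μ ^ q)) * ((r : F) * (β : F))) • μ • u =
        (-(θ * (s : F)) * (r : F)) • u := by
      rw [smul_smul, smul_smul]
      congr 1
      field_simp
    rw [e1]
    module
  have hmτS : m * utv q u c ∈ Cfsg.Geo.subfieldSubgroup F₀ P := by
    apply mem_subfieldSubgroup_of_forall hF F₀ hcard (by omega)
    intro x₀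
    obtain ⟨x₁, hx₁⟩ := hall x₀
    refine ⟨(μ ^ q)⁻¹, x₁, ?_⟩
    show ((m * utv q u c : GL (Fin n) F) : Matrix (Fin n) (Fin n) F) *ᵥ pv F₀ P x₀ =
      (μ ^ q)⁻¹ • pv F₀ P x₁
    rw [← hx₁, smul_smul, inv_mul_cancel₀ hμq0, one_smul]
  have hmτM : m * utv q u c ∈ M := hHM ⟨hmτS, (GG).mul_mem hmG hτG⟩
  have hτM : utv q u c ∈ M := by
    have : utv q u c = m⁻¹ * (m * utv q u c) := by rw [inv_mul_cancel_left]
    rw [this]
    exact M.mul_mem (M.inv_mem hm) hmτM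
  have hc0 : c = 0 := hT u₀ c hu₀ hQu hct hτM
  rw [hc0, utv_zero u huu, mul_one] at hall
  exact hall x₀

include hF hcard in
/-- An element of `M` fixing a rational singular point lies in the subfield group. -/
theorem stab_mem_subfield (hodd : Odd q) (hn : 13 ≤ n)
    (hHM : Cfsg.Geo.subfieldSubgroup F₀ P ⊓ GG ≤ M) (hMS : M ≤ GG)
    (hT : ∀ (u₀ : Fin n → F₀) (c : F), u₀ ≠ 0 → oQ F₀ P hP u₀ = 0 → c + c ^ q = 0 →
      utv q (pv F₀ P u₀) c ∈ M → c = 0)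
    (u₀ : Fin n → F₀) (hu₀ : u₀ ≠ 0) (hQu : oQ F₀ P hP u₀ = 0)
    (m : GL (Fin n) F) (hm : m ∈ M) (μ : F)
    (hmu : (m : Matrix (Fin n) (Fin n) F) *ᵥ pv F₀ P u₀ = μ • pv F₀ P u₀) :
    m ∈ Cfsg.Geo.subfieldSubgroup F₀ P := by
  have hμ0 : μ ≠ 0 := by
    rintro rfl
    rw [zero_smul] at hmu
    exact pv_ne_zero F₀ P hu₀ (gl_mulVec_eq_zero m _ hmu)
  have hμq0 : μ ^ q ≠ 0 := pow_ne_zero _ hμ0
  apply mem_subfieldSubgroup_of_forall hF F₀ hcard (by omega)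
  intro x₀
  obtain ⟨x₁, hx₁⟩ := stab_rational hF F₀ hcard P hP M hodd hn hHM hMS hT u₀ hu₀ hQu m hm μ hmu x₀
  refine ⟨(μ ^ q)⁻¹, x₁, ?_⟩
  show (m : Matrix (Fin n) (Fin n) F) *ᵥ pv F₀ P x₀ = (μ ^ q)⁻¹ • pv F₀ P x₁
  rw [← hx₁, smul_smul, inv_mul_cancel₀ hμq0, one_smul]

include hF hcard in
/-- An element of `M` outside the subfield group maps no rational singular point to a rational
point. -/
theorem not_smul_rational (hodd : Odd q) (hn : 13 ≤ n)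
    (hHM : Cfsg.Geo.subfieldSubgroup F₀ P ⊓ GG ≤ M) (hMS : M ≤ GG)
    (hT : ∀ (u₀ : Fin n → F₀) (c : F), u₀ ≠ 0 → oQ F₀ P hP u₀ = 0 → c + c ^ q = 0 →
      utv q (pv F₀ P u₀) c ∈ M → c = 0)
    (g : GL (Fin n) F) (hg : g ∈ M) (hgS : g ∉ Cfsg.Geo.subfieldSubgroup F₀ P)
    (u₀ : Fin n → F₀) (hu₀ : u₀ ≠ 0) (hQu : oQ F₀ P hP u₀ = 0) (l : F) (w : Fin n → F₀) :
    (g : Matrix (Fin n) (Fin n) F) *ᵥ pv F₀ P u₀ ≠ l • pv F₀ P w := by
  intro h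
  have hgGU : g ∈ Cfsg.GU n F q := (hMS hg).1
  have hpu0 : pv F₀ P u₀ ≠ 0 := pv_ne_zero F₀ P hu₀
  have hl0 : l ≠ 0 := by
    rintro rfl
    rw [zero_smul] at h
    exact hpu0 (gl_mulVec_eq_zero g _ h)
  have hw0 : w ≠ 0 := by
    rintro rfl
    rw [pv_zero, smul_zero] at h
    exact hpu0 (gl_mulVec_eq_zero g _ h)
  have hQw : oQ F₀ P hP w = 0 := by
    apply Subtype.ext
    show hh (pv F₀ P w) (pv F₀ P w) = 0
    have h1 : hh ((g : Matrix (Fin n) (Fin n) F) *ᵥ pv F₀ P u₀)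
        ((g : Matrix (Fin n) (Fin n) F) *ᵥ pv F₀ P u₀) = 0 := by
      rw [GU_preserves hgGU, hh_pv_of_oQ F₀ P hP hQu]
    rw [h, hermForm_smul_left, hermForm_smul_right] at h1
    rcases mul_eq_zero.mp h1 with h2 | h2
    · exact absurd h2 hl0
    · rcases mul_eq_zero.mp h2 with h3 | h3
      · exact absurd h3 (pow_ne_zero _ hl0)
      · exact h3
  obtain ⟨h', hh'H, hmap⟩ := exists_H_map_sing hF F₀ hcard P hP hodd (by omega) w u₀ hw0 hu₀ hQw hQu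
  have hh'M : h' ∈ M := hHM hh'H
  have hfix : ((h' * g : GL (Fin n) F) : Matrix (Fin n) (Fin n) F) *ᵥ pv F₀ P u₀ =
      l • pv F₀ P u₀ := by
    rw [Units.val_mul, ← mulVec_mulVec, h, mulVec_smul, hmap]
  have hmem := stab_mem_subfield hF F₀ hcard P hP M hodd hn hHM hMS hT u₀ hu₀ hQu (h' * g)
    (M.mul_mem hh'M hg) l hfix
  apply hgS
  have : g = h'⁻¹ * (h' * g) := by rw [inv_mul_cancel_left]
  rw [this]
  exact (Cfsg.Geo.subfieldSubgroup F₀ P).mul_mem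
    ((Cfsg.Geo.subfieldSubgroup F₀ P).inv_mem hh'H.1) hmem

end osH

end Cfsg.Agent.Lib.Helper13
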