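import Mathlib
import Cfsg.Agent.Lib.Helper13.OSubH

set_option autoImplicit false

/-!
Orthogonal subfield subgroup of the special unitary group: maximality.
-/

namespace Cfsg.Agent.Lib.Helper13

open Matrix Module Cfsg.Agent.Lib.Helper99

section osI

variable {F : Type*} [Field F] [Fintype F] {q n : ℕ}

local notation "hh" => Cfsg.hermForm n F q
local notation "GG" => Cfsg.GU n F q ⊓ Cfsg.Geo.specialLinear (Fin n) F

variable (hF : Fintype.card F = q ^ 2) (F₀ : Subfield F)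
  (hcard : Fintype.card F = Nat.card F₀ ^ 2) (P : GL (Fin n) F)
  (hP : Cfsg.Geo.IsFormRationalStructure (Cfsg.hermForm n F q) F₀ 1 P)
  (M : Subgroup (GL (Fin n) F))

omit [Fintype F] in
theorem oB_zero_left (v : Fin n → F₀) : oB F₀ P hP 0 v = 0 := by
  have := oB_smul_left F₀ P hP 0 (0 : Fin n → F₀) v
  rw [zero_smul, zero_mul] at this
  exact this

include hF hcard in
/-- A singular vector orthogonal to a small family, with a witness. -/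
theorem exists_sing_orth_o (hodd : Odd q) {k : ℕ} (b : Fin k → (Fin n → F₀))
    (hk : 2 * (k + 2) < n) :
    ∃ z y1 : Fin n → F₀, oQ F₀ P hP z = 0 ∧ (∀ i, oB F₀ P hP z (b i) = 0) ∧
      (∀ i, oB F₀ P hP (b i) y1 = 0) ∧ oB F₀ P hP z y1 ≠ 0 := by
  classical
  have h2 := two_ne_zero_sub hF F₀ hodd
  have hQ := oQ_nondeg hF F₀ hcard P hP hodd
  haveI : Fintype F₀ := Fintype.ofFinite F₀
  obtain ⟨z, y1, h1, h3, h4, h5⟩ := Cfsg.Agent.Lib.Helper94.exists_sing_orth_k hQ h2 b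
    (by rw [Fintype.card_fin]; exact hk)
  refine ⟨z, y1, h1, fun i => ?_, fun i => ?_, fun h => h5 ?_⟩
  · exact (pol_eq_zero_iff hF F₀ hcard P hP hodd _ _).mp (h3 i)
  · exact (pol_eq_zero_iff hF F₀ hcard P hP hodd _ _).mp (h4 i)
  · exact (pol_eq_zero_iff hF F₀ hcard P hP hodd _ _).mpr h

include hF hcard in
/-- `h(a + θ b, w) = 0` forces `B(a, w) = B(b, w) = 0`. -/
theorem oB_eq_zero_of_hh {θ : F} (hθ : θ ^ q ≠ θ) (a b w : Fin n → F₀)
    (h : hh (pv F₀ P a + θ • pv F₀ P b) (pv F₀ P w) = 0) :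
    oB F₀ P hP a w = 0 ∧ oB F₀ P hP b w = 0 := by
  rw [hh_decomp_o_right hF F₀ hcard P hP] at h
  have h0 : ((0 : F₀) : F) ^ q = ((0 : F₀) : F) := pow_q_of_mem hF F₀ hcard (0 : F₀).2
  have := comp_unique hF hθ (pow_q_of_mem hF F₀ hcard (oB F₀ P hP a w).2)
    (pow_q_of_mem hF F₀ hcard (oB F₀ P hP b w).2) h0 h0
    (by rw [h, Subfield.coe_zero, mul_zero, add_zero])
  exact ⟨Subtype.ext this.1, Subtype.ext this.2⟩

include hF hcard in
/-- `h(w, a + θ b) = 0` when `w` is orthogonal to `a` and `b`. -/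
theorem hh_eq_zero_of_oB {θ : F} (a b w : Fin n → F₀)
    (ha : oB F₀ P hP a w = 0) (hb : oB F₀ P hP b w = 0) :
    hh (pv F₀ P w) (pv F₀ P a + θ • pv F₀ P b) = 0 := by
  apply hermForm_eq_zero_comm hF
  rw [hh_decomp_o_right hF F₀ hcard P hP, ha, hb]
  simp

include hF hcard in
/-- Key step: the image of a rational totally singular pair. -/
theorem image_mem_span (hodd : Odd q) (hn : 13 ≤ n)
    (hHM : Cfsg.Geo.subfieldSubgroup F₀ P ⊓ GG ≤ M) (hMS : M ≤ GG)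
    (hT : ∀ (u₀ : Fin n → F₀) (c : F), u₀ ≠ 0 → oQ F₀ P hP u₀ = 0 → c + c ^ q = 0 →
      utv q (pv F₀ P u₀) c ∈ M → c = 0)
    (k : GL (Fin n) F) (hk : k ∈ M) (hkS : k ∉ Cfsg.Geo.subfieldSubgroup F₀ P)
    (u₀ a₀ : Fin n → F₀) (hu₀ : u₀ ≠ 0) (hQu : oQ F₀ P hP u₀ = 0) (hQa : oQ F₀ P hP a₀ = 0)
    (hua : oB F₀ P hP u₀ a₀ = 0) {θ : F} (hθne : θ ^ q ≠ θ)
    (x₁ x₂ y₁ y₂ : Fin n → F₀)
    (hx : (k : Matrix (Fin n) (Fin n) F) *ᵥ pv F₀ P u₀ = pv F₀ P x₁ + θ • pv F₀ P x₂)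
    (hy : (k : Matrix (Fin n) (Fin n) F) *ᵥ pv F₀ P a₀ = pv F₀ P y₁ + θ • pv F₀ P y₂) :
    y₁ ∈ Submodule.span F₀ {x₁, x₂} ∧ y₂ ∈ Submodule.span F₀ {x₁, x₂} := by
  classical
  have hkGU : k ∈ Cfsg.GU n F q := (hMS hk).1
  have huu : hh (pv F₀ P u₀) (pv F₀ P u₀) = 0 := hh_pv_of_oQ F₀ P hP hQu
  have haa : hh (pv F₀ P a₀) (pv F₀ P a₀) = 0 := hh_pv_of_oQ F₀ P hP hQa
  have hua' : hh (pv F₀ P u₀) (pv F₀ P a₀) = 0 := by
    rw [← oB_coe F₀ P hP, hua]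
    rfl
  set x := pv F₀ P x₁ + θ • pv F₀ P x₂ with hxdef
  set y := pv F₀ P y₁ + θ • pv F₀ P y₂ with hydef
  have hxy : hh x y = 0 := by rw [← hx, ← hy, GU_preserves hkGU, hua']
  have hyy : hh y y = 0 := by rw [← hy, GU_preserves hkGU, haa]
  have hsa : sieg q (pv F₀ P u₀) (pv F₀ P a₀) ∈ M :=
    hHM (sieg_pv_mem hF F₀ hcard P hP (by omega) u₀ a₀ hQu hQa hua)
  have ht'M : sieg q x y ∈ M := by
    have := conj_sieg hF k hkGU (pv F₀ P u₀) (pv F₀ P a₀) hua' haa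
    rw [hx, hy] at this
    rw [← this]
    exact M.mul_mem (M.mul_mem hk hsa) (M.inv_mem hk)
  -- a rational singular vector fixed by `t'`
  obtain ⟨p₀, yp, hQp, hporth, -, hpne⟩ := exists_sing_orth_o hF F₀ hcard P hP hodd
    ![x₁, x₂, y₁, y₂] (by omega)
  have hp₀ : p₀ ≠ 0 := by
    rintro rfl
    exact hpne (oB_zero_left F₀ P hP yp)
  have hpx₁ : oB F₀ P hP x₁ p₀ = 0 := by
    rw [oB_symm hF F₀ hcard P hP]
    exact hporth 0
  have hpx₂ : oB F₀ P hP x₂ p₀ = 0 := by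
    rw [oB_symm hF F₀ hcard P hP]
    exact hporth 1
  have hpy₁ : oB F₀ P hP y₁ p₀ = 0 := by
    rw [oB_symm hF F₀ hcard P hP]
    exact hporth 2
  have hpy₂ : oB F₀ P hP y₂ p₀ = 0 := by
    rw [oB_symm hF F₀ hcard P hP]
    exact hporth 3
  have hfix : (sieg q x y : Matrix (Fin n) (Fin n) F) *ᵥ pv F₀ P p₀ = (1 : F) • pv F₀ P p₀ := by
    rw [sieg_mulVec hF x y hxy hyy, hh_eq_zero_of_oB hF F₀ hcard P hP x₁ x₂ p₀ hpx₁ hpx₂,
      hh_eq_zero_of_oB hF F₀ hcard P hP y₁ y₂ p₀ hpy₁ hpy₂, zero_smul, zero_smul, add_zero,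
      sub_zero, one_smul]
  have hrat := stab_rational hF F₀ hcard P hP M hodd hn hHM hMS hT p₀ hp₀ hQp (sieg q x y) ht'M 1
    hfix
  -- consequence for vectors orthogonal to `x₁`, `x₂`
  have key : ∀ v₀ : Fin n → F₀, oB F₀ P hP x₁ v₀ = 0 → oB F₀ P hP x₂ v₀ = 0 →
      oB F₀ P hP y₁ v₀ = 0 ∧ oB F₀ P hP y₂ v₀ = 0 := by
    intro v₀ h1 h2
    obtain ⟨v₁, hv₁⟩ := hrat v₀
    rw [one_pow, one_smul, sieg_mulVec hF x y hxy hyy,
      hh_eq_zero_of_oB hF F₀ hcard P hP x₁ x₂ v₀ h1 h2, zero_smul, sub_zero] at hv₁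
    have hlam : hh (pv F₀ P v₀) y = 0 := by
      by_contra hne
      apply not_smul_rational hF F₀ hcard P hP M hodd hn hHM hMS hT k hk hkS u₀ hu₀ hQu
        (hh (pv F₀ P v₀) y)⁻¹ (v₁ - v₀)
      rw [hx, sub_eq_add_neg, pv_add, ← hv₁]
      have : pv F₀ P (-v₀) = -pv F₀ P v₀ := by
        have := pv_smul F₀ P (-1 : F₀) v₀
        rw [neg_one_smul] at this
        rw [this]
        simp
      rw [this, add_assoc, add_comm (hh (pv F₀ P v₀) y • x), ← add_assoc, add_neg_cancel, zero_add,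
        smul_smul, inv_mul_cancel₀ hne, one_smul]
    exact oB_eq_zero_of_hh hF F₀ hcard P hP hθne y₁ y₂ v₀ (hermForm_eq_zero_comm hF hlam)
  have hx₁X : x₁ ∈ Submodule.span F₀ {x₁, x₂} := Submodule.subset_span (by simp)
  have hx₂X : x₂ ∈ Submodule.span F₀ {x₁, x₂} := Submodule.subset_span (by simp)
  constructor
  · apply mem_of_orth_all hF F₀ hcard P hP hodd
    intro w hw
    exact (key w (hw x₁ hx₁X) (hw x₂ hx₂X)).1
  · apply mem_of_orth_all hF F₀ hcard P hP hodd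
    intro w hw
    exact (key w (hw x₁ hx₁X) (hw x₂ hx₂X)).2

end osI

end Cfsg.Agent.Lib.Helper13
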