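import Mathlib
import Cfsg.Agent.Lib.Helper13.OSubI

set_option autoImplicit false

/-!
Orthogonal subfield subgroup of the special unitary group: maximality (final assembly).
-/

namespace Cfsg.Agent.Lib.Helper13

open Matrix Module Cfsg.Agent.Lib.Helper99

section osJ

variable {F : Type*} [Field F] [Fintype F] {q n : ℕ}

local notation "hh" => Cfsg.hermForm n F q
local notation "GG" => Cfsg.GU n F q ⊓ Cfsg.Geo.specialLinear (Fin n) F

variable (hF : Fintype.card F = q ^ 2) (F₀ : Subfield F)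
  (hcard : Fintype.card F = Nat.card F₀ ^ 2) (P : GL (Fin n) F)
  (hP : Cfsg.Geo.IsFormRationalStructure (Cfsg.hermForm n F q) F₀ 1 P)
  (M : Subgroup (GL (Fin n) F))

omit [Fintype F] in
/-- Rational combinations stay in the `F`-span of the images. -/
theorem pv_mem_span_pair (x₁ x₂ y : Fin n → F₀) (hy : y ∈ Submodule.span F₀ {x₁, x₂}) :
    pv F₀ P y ∈ Submodule.span F (Set.range ![pv F₀ P x₁, pv F₀ P x₂]) := by
  obtain ⟨a, b, rfl⟩ := Submodule.mem_span_pair.mp hy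
  rw [pv_add, pv_smul, pv_smul]
  apply Submodule.add_mem
  · exact Submodule.smul_mem _ _ (Submodule.subset_span ⟨0, rfl⟩)
  · exact Submodule.smul_mem _ _ (Submodule.subset_span ⟨1, rfl⟩)

include hF hcard in
/-- A transvection-free overgroup is contained in the subfield group. -/
theorem no_outside_element (hodd : Odd q) (hn : 13 ≤ n)
    (hHM : Cfsg.Geo.subfieldSubgroup F₀ P ⊓ GG ≤ M) (hMS : M ≤ GG)
    (hT : ∀ (u₀ : Fin n → F₀) (c : F), u₀ ≠ 0 → oQ F₀ P hP u₀ = 0 → c + c ^ q = 0 →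
      utv q (pv F₀ P u₀) c ∈ M → c = 0)
    (k : GL (Fin n) F) (hk : k ∈ M) (hkS : k ∉ Cfsg.Geo.subfieldSubgroup F₀ P) : False := by
  classical
  have hkGU : k ∈ Cfsg.GU n F q := (hMS hk).1
  obtain ⟨θ, hθ, hθ0, hθne⟩ := exists_theta_neg hF hodd
  -- a rational totally singular triple with witnesses
  obtain ⟨u₀, yu, hQu, -, -, huyu⟩ := exists_sing_orth_o hF F₀ hcard P hP hodd
    (![] : Fin 0 → (Fin n → F₀)) (by omega)
  obtain ⟨a₀, ya, hQa, hau, hbya, haya⟩ := exists_sing_orth_o hF F₀ hcard P hP hodd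
    ![u₀] (by omega)
  obtain ⟨a₀', ya', hQa', hau', hbya', haya'⟩ := exists_sing_orth_o hF F₀ hcard P hP hodd
    ![u₀, a₀] (by omega)
  have hu₀ : u₀ ≠ 0 := by
    rintro rfl
    exact huyu (oB_zero_left F₀ P hP yu)
  have hua : oB F₀ P hP u₀ a₀ = 0 := by
    rw [oB_symm hF F₀ hcard P hP]
    exact hau 0
  have hua' : oB F₀ P hP u₀ a₀' = 0 := by
    rw [oB_symm hF F₀ hcard P hP]
    exact hau' 0
  have huya : oB F₀ P hP u₀ ya = 0 := hbya 0
  have huya' : oB F₀ P hP u₀ ya' = 0 := hbya' 0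
  have haya'0 : oB F₀ P hP a₀ ya' = 0 := hbya' 1
  -- images
  obtain ⟨x₁, x₂, hx⟩ := exists_decomp hF F₀ hcard P hθne
    ((k : Matrix (Fin n) (Fin n) F) *ᵥ pv F₀ P u₀)
  obtain ⟨y₁, y₂, hy⟩ := exists_decomp hF F₀ hcard P hθne
    ((k : Matrix (Fin n) (Fin n) F) *ᵥ pv F₀ P a₀)
  obtain ⟨z₁, z₂, hz⟩ := exists_decomp hF F₀ hcard P hθne
    ((k : Matrix (Fin n) (Fin n) F) *ᵥ pv F₀ P a₀')
  obtain ⟨hy₁, hy₂⟩ := image_mem_span hF F₀ hcard P hP M hodd hn hHM hMS hT k hk hkS u₀ a₀ hu₀ hQu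
    hQa hua hθne x₁ x₂ y₁ y₂ hx hy
  obtain ⟨hz₁, hz₂⟩ := image_mem_span hF F₀ hcard P hP M hodd hn hHM hMS hT k hk hkS u₀ a₀' hu₀ hQu
    hQa' hua' hθne x₁ x₂ z₁ z₂ hx hz
  set W : Submodule F (Fin n → F) := Submodule.span F (Set.range ![pv F₀ P x₁, pv F₀ P x₂])
    with hW
  have hxW : (k : Matrix (Fin n) (Fin n) F) *ᵥ pv F₀ P u₀ ∈ W := by
    rw [hx]
    apply Submodule.add_mem
    · exact Submodule.subset_span ⟨0, rfl⟩
    · exact Submodule.smul_mem _ _ (Submodule.subset_span ⟨1, rfl⟩)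
  have hyW : (k : Matrix (Fin n) (Fin n) F) *ᵥ pv F₀ P a₀ ∈ W := by
    rw [hy]
    exact Submodule.add_mem _ (pv_mem_span_pair F₀ P x₁ x₂ y₁ hy₁)
      (Submodule.smul_mem _ _ (pv_mem_span_pair F₀ P x₁ x₂ y₂ hy₂))
  have hzW : (k : Matrix (Fin n) (Fin n) F) *ᵥ pv F₀ P a₀' ∈ W := by
    rw [hz]
    exact Submodule.add_mem _ (pv_mem_span_pair F₀ P x₁ x₂ z₁ hz₁)
      (Submodule.smul_mem _ _ (pv_mem_span_pair F₀ P x₁ x₂ z₂ hz₂))
  -- independence of the three images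
  have hli : LinearIndependent F ![(k : Matrix (Fin n) (Fin n) F) *ᵥ pv F₀ P u₀,
      (k : Matrix (Fin n) (Fin n) F) *ᵥ pv F₀ P a₀,
      (k : Matrix (Fin n) (Fin n) F) *ᵥ pv F₀ P a₀'] := by
    rw [Fintype.linearIndependent_iff]
    intro c hc
    rw [Fin.sum_univ_three] at hc
    simp only [Matrix.cons_val_zero, Matrix.cons_val_one, Matrix.cons_val_two, Matrix.head_cons,
      Matrix.tail_cons] at hc
    have e : ∀ w : Fin n → F₀, c 0 * ((oB F₀ P hP u₀ w : F₀) : F) +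
        c 1 * ((oB F₀ P hP a₀ w : F₀) : F) + c 2 * ((oB F₀ P hP a₀' w : F₀) : F) = 0 := by
      intro w
      have := congrArg (fun v => hh v ((k : Matrix (Fin n) (Fin n) F) *ᵥ pv F₀ P w)) hc
      simp only [hermForm_add_left, hermForm_smul_left, GU_preserves hkGU, hermForm_zero_left]
        at this
      rw [oB_coe, oB_coe, oB_coe]
      exact this
    have hc2 : c 2 = 0 := by
      have := e ya'
      rw [huya', haya'0] at this
      simp only [ZeroMemClass.coe_zero, mul_zero, zero_add] at this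
      rcases mul_eq_zero.mp this with h | h
      · exact h
      · exact absurd (Subtype.ext h) haya'
    have hc1 : c 1 = 0 := by
      have := e ya
      rw [huya, hc2] at this
      simp only [ZeroMemClass.coe_zero, mul_zero, zero_add, zero_mul, add_zero] at this
      rcases mul_eq_zero.mp this with h | h
      · exact h
      · exact absurd (Subtype.ext h) haya
    have hc0 : c 0 = 0 := by
      have := e yu
      rw [hc1, hc2] at this
      simp only [zero_mul, add_zero] at this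
      rcases mul_eq_zero.mp this with h | h
      · exact h
      · exact absurd (Subtype.ext h) huyu
    intro i
    fin_cases i
    · exact hc0
    · exact hc1
    · exact hc2
  have h3 := finrank_span_eq_card hli
  rw [Fintype.card_fin] at h3
  have hle : Submodule.span F (Set.range ![(k : Matrix (Fin n) (Fin n) F) *ᵥ pv F₀ P u₀,
      (k : Matrix (Fin n) (Fin n) F) *ᵥ pv F₀ P a₀,
      (k : Matrix (Fin n) (Fin n) F) *ᵥ pv F₀ P a₀']) ≤ W := by
    rw [Submodule.span_le]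
    rintro _ ⟨i, rfl⟩
    fin_cases i
    · exact hxW
    · exact hyW
    · exact hzW
  have h4 := Submodule.finrank_mono hle
  have h5 : Module.finrank F W ≤ 2 :=
    Cfsg.Agent.Lib.Helper94.finrank_span_fin_le ![pv F₀ P x₁, pv F₀ P x₂]
  omega

include hF hcard hP in
/-- The orthogonal subfield group is a proper subgroup of the special unitary group. -/
theorem oSubfield_lt (hodd : Odd q) (hn : 13 ≤ n) :
    Cfsg.Geo.subfieldSubgroup F₀ P ⊓ GG < GG := by
  classical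
  have hQ := oQ_nondeg hF F₀ hcard P hP hodd
  rw [lt_iff_le_and_ne]
  refine ⟨inf_le_right, fun heq => ?_⟩
  obtain ⟨θ, hθ, hθ0, hθne⟩ := exists_theta_neg hF hodd
  obtain ⟨u₀, yu, hQu, -, -, huyu⟩ := exists_sing_orth_o hF F₀ hcard P hP hodd
    (![] : Fin 0 → (Fin n → F₀)) (by omega)
  have hu₀ : u₀ ≠ 0 := by
    rintro rfl
    exact huyu (oB_zero_left F₀ P hP yu)
  set u := pv F₀ P u₀ with hu
  have huu : hh u u = 0 := hh_pv_of_oQ F₀ P hP hQu
  have hpu0 : u ≠ 0 := pv_ne_zero F₀ P hu₀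
  have hct : θ + θ ^ q = 0 := by rw [hθ, add_neg_cancel]
  have hτG : utv q u θ ∈ GG := ⟨utv_mem_GU hF u huu θ hct, utv_mem_SL u huu θ⟩
  rw [← heq] at hτG
  obtain ⟨c', A₀, hc', hall⟩ := exists_uniform_of_mem_subfieldSubgroup F₀ P _ hτG.1
  -- the scalar is rational
  have hc'mem : c' ∈ F₀ := by
    have h1 := hall u₀
    rw [utv_mulVec u huu, huu, mul_zero, zero_smul, add_zero] at h1
    exact rat_coeff_mem F₀ P u₀ _ c' hu₀ h1
  -- evaluate on a vector not orthogonal to `u₀`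
  have h1 := hall yu
  rw [utv_mulVec u huu] at h1
  have h2 : hh (pv F₀ P yu) u = ((oB F₀ P hP yu u₀ : F₀) : F) := (oB_coe F₀ P hP yu u₀).symm
  have hβ : oB F₀ P hP yu u₀ ≠ 0 := by
    rw [oB_symm hF F₀ hcard P hP]
    exact huyu
  have hβF : ((oB F₀ P hP yu u₀ : F₀) : F) ≠ 0 := fun h => hβ (Subtype.ext h)
  rw [h2] at h1
  have h3 : pv F₀ P ((⟨c', hc'mem⟩ : F₀) • ((A₀ : Matrix (Fin n) (Fin n) F₀) *ᵥ yu) - yu) =
      (θ * ((oB F₀ P hP yu u₀ : F₀) : F)) • pv F₀ P u₀ := by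
    have e1 : pv F₀ P (-yu) = -pv F₀ P yu := by
      have := pv_smul F₀ P (-1 : F₀) yu
      rw [neg_one_smul] at this
      rw [this]
      simp
    rw [sub_eq_add_neg, pv_add, pv_smul, e1]
    show c' • pv F₀ P ((A₀ : Matrix (Fin n) (Fin n) F₀) *ᵥ yu) + -pv F₀ P yu = _
    rw [← h1]
    abel
  have hne : (⟨c', hc'mem⟩ : F₀) • ((A₀ : Matrix (Fin n) (Fin n) F₀) *ᵥ yu) - yu ≠ 0 := by
    intro h0
    rw [h0, pv_zero] at h3
    have := h3.symm
    rw [smul_eq_zero] at this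
    rcases this with h | h
    · exact (mul_ne_zero hθ0 hβF) h
    · exact hpu0 h
  have hmem := rat_coeff_mem F₀ P _ u₀ _ hne h3
  have hθmem : θ ∈ F₀ := by
    have : θ = (θ * ((oB F₀ P hP yu u₀ : F₀) : F)) * ((oB F₀ P hP yu u₀ : F₀) : F)⁻¹ := by
      rw [mul_assoc, mul_inv_cancel₀ hβF, mul_one]
    rw [this]
    exact F₀.mul_mem hmem (F₀.inv_mem (oB F₀ P hP yu u₀).2)
  exact hθne (pow_q_of_mem hF F₀ hcard hθmem)

include hF hcard hP in
/-- The orthogonal subfield group is maximal in `SU_n(q)`, `q` odd, `n ≥ 13`. -/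
theorem oSubfield_isMaximalIn (hodd : Odd q) (hn : 13 ≤ n) :
    Cfsg.Geo.IsMaximalIn GG (Cfsg.Geo.subfieldSubgroup F₀ P ⊓ GG) := by
  classical
  refine ⟨oSubfield_lt hF F₀ hcard P hP hodd hn, ?_⟩
  intro M hHM hMS
  by_cases hMH : M ≤ Cfsg.Geo.subfieldSubgroup F₀ P ⊓ GG
  · left
    exact le_antisymm hMH hHM
  · right
    obtain ⟨g, hgM, hgH⟩ := SetLike.not_le_iff_exists.mp hMH
    have hgsub : g ∉ Cfsg.Geo.subfieldSubgroup F₀ P := fun h => hgH ⟨h, hMS hgM⟩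
    by_cases hex : ∃ (u₀ : Fin n → F₀) (c : F), u₀ ≠ 0 ∧ oQ F₀ P hP u₀ = 0 ∧ c ≠ 0 ∧
        c + c ^ q = 0 ∧ utv q (pv F₀ P u₀) c ∈ M
    · obtain ⟨u₀, c, hu₀, hQ, hc, hct, hmem⟩ := hex
      exact eq_top_of_transvection hF F₀ hcard P hP M hodd hn hHM hMS u₀ hu₀ hQ c hc hct hmem
    · exfalso
      have hT : ∀ (u₀ : Fin n → F₀) (c : F), u₀ ≠ 0 → oQ F₀ P hP u₀ = 0 → c + c ^ q = 0 →
          utv q (pv F₀ P u₀) c ∈ M → c = 0 := by
        intro u₀ c hu₀ hQ hct hmem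
        by_contra hc
        exact hex ⟨u₀, c, hu₀, hQ, hc, hct, hmem⟩
      exact no_outside_element hF F₀ hcard P hP M hodd hn hHM hMS hT g hgM hgsub

end osJ

end Cfsg.Agent.Lib.Helper13
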