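import Mathlib
import Cfsg.Prelude.Def_GeometricClasses
import Cfsg.Agent.Lib.Helper44.UfDefs
import Cfsg.Agent.Lib.Helper99.QuadStd
import Cfsg.Agent.Lib.Helper43.OrthCardForms
import Cfsg.Agent.Lib.Helper8.SpOrthF

/-! # S5981 hive (helper44), leaf OF-CARDO (helper13): the order of the isometry group of an
arbitrary nondegenerate quadratic form in odd dimension over a finite field of odd characteristic -/

set_option autoImplicit false
set_option linter.unusedSectionVars false
set_option linter.unusedVariables false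
open scoped MatrixGroups
open Matrix Polynomial

namespace Cfsg.Agent.Lib.Helper44.Of

universe v

variable {F : Type v} [Field F]

open Cfsg.Agent.Lib.Helper44.Uf

theorem cardo_mem_iff {κ : Type} [Fintype κ] [DecidableEq κ] (Q : (κ → F) → F) (g : GL κ F) :
    g ∈ Cfsg.isometryGroup F Q ↔ ∀ u, Q ((g : Matrix κ κ F) *ᵥ u) = Q u := by
  constructor
  · intro h u
    exact h u 0
  · intro h u v
    exact h u

/-- scaling the form by a nonzero constant does not change the isometry group -/
theorem cardo_scale {κ : Type} [Fintype κ] [DecidableEq κ] (Q : (κ → F) → F) (l : F) (hl : l ≠ 0) :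
    Cfsg.isometryGroup F (fun v => l * Q v) = Cfsg.isometryGroup F Q := by
  ext g
  rw [cardo_mem_iff, cardo_mem_iff]
  constructor
  · intro h u
    exact mul_left_cancel₀ hl (h u)
  · intro h u
    show l * Q _ = l * Q u
    rw [h u]

/-- OF-CARDO -/
theorem card_isometryGroup_of_odd [Fintype F] (h2 : (2 : F) ≠ 0) {n m : ℕ} (hnm : n = 2 * m + 1)
    (Q : (Fin n → F) → F) (hQ : Cfsg.Geo.IsNondegenerateQuadraticForm Q) :
    Nat.card (Cfsg.isometryGroup F Q)
      = 2 * Fintype.card F ^ (m ^ 2) * ∏ i ∈ Finset.range m, (Fintype.card F ^ (2 * (i + 1)) - 1) := by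
  classical
  have hcard : Fintype.card (Fin n) = Fintype.card (Unit ⊕ (Fin m ⊕ Fin m)) := by
    simp only [Fintype.card_sum, Fintype.card_fin, Fintype.card_unit]
    omega
  let e : Fin n ≃ Unit ⊕ (Fin m ⊕ Fin m) := Fintype.equivOfCardEq hcard
  obtain ⟨B, l, hB⟩ := Cfsg.Agent.Lib.Helper99.QuadStd.exists_std_odd m e Q hQ
  rw [← Cfsg.Agent.Lib.Helper43.card_isometryGroup_odd m F h2, ← cardo_scale Q (l : F) l.ne_zero]
  let Θ : (Fin n → F) ≃ₗ[F] (Unit ⊕ (Fin m ⊕ Fin m) → F) :=
    (Matrix.toLinearEquiv' (B : Matrix (Fin n) (Fin n) F) (Units.invertible B)).trans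
      (LinearEquiv.funCongrLeft F F e.symm)
  apply Cfsg.Agent.Lib.Helper8.card_isometryGroup_of_coords _ _ Θ
  intro v
  have := hB v
  rw [Cfsg.Agent.Lib.Helper99.QuadStd.reidx_apply] at this
  rw [← this]
  rfl

end Cfsg.Agent.Lib.Helper44.Of
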