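import Mathlib
import Cfsg.Prelude.Def_GeometricClasses
import Cfsg.Agent.Lib.Helper44.UfDefs

/-! # S5981 hive (helper44), leaf OF-SPEC (helper13): similitudes of a nondegenerate quadratic form
are spectrally symmetric (`q₀ = 1`) -/

set_option autoImplicit false
set_option linter.unusedSectionVars false
set_option linter.unusedVariables false
open scoped MatrixGroups
open Matrix Polynomial

namespace Cfsg.Agent.Lib.Helper44.Of

universe v

variable {F : Type v} [Field F]

open Cfsg.Agent.Lib.Helper44.Uf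

/-- the polar form of `Q` as a Mathlib bilinear form -/
noncomputable def ofspec_B {n : ℕ} (Q : (Fin n → F) → F)
    (hQ : Cfsg.Geo.IsNondegenerateQuadraticForm Q) : LinearMap.BilinForm F (Fin n → F) :=
  LinearMap.mk₂ F (QuadraticMap.polar Q) hQ.polar_bilinear.add_left
    (fun c m n => by rw [hQ.polar_bilinear.smul_left, smul_eq_mul]) hQ.polar_bilinear.add_right
    (fun c m n => by rw [hQ.polar_bilinear.smul_right, smul_eq_mul])

theorem ofspec_B_apply {n : ℕ} (Q : (Fin n → F) → F)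
    (hQ : Cfsg.Geo.IsNondegenerateQuadraticForm Q) (u v : Fin n → F) :
    ofspec_B Q hQ u v = QuadraticMap.polar Q u v := rfl

/-- the Gram matrix of the polar form is invertible -/
theorem ofspec_det_gram {n : ℕ} (Q : (Fin n → F) → F)
    (hQ : Cfsg.Geo.IsNondegenerateQuadraticForm Q) :
    IsUnit (LinearMap.BilinForm.toMatrix' (ofspec_B Q hQ)).det := by
  rw [← Matrix.isUnit_iff_isUnit_det, ← Matrix.mulVec_injective_iff_isUnit]
  intro v w hvw
  by_contra hne
  have hne' : v - w ≠ 0 := sub_ne_zero.mpr hne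
  obtain ⟨⟨x, hx⟩, -⟩ := hQ.nondegenerate (v - w) hne'
  apply hx
  rw [← ofspec_B_apply Q hQ, ← Matrix.toBilin'_toMatrix' (ofspec_B Q hQ), Matrix.toBilin'_apply',
    Matrix.mulVec_sub, hvw, sub_self, dotProduct_zero]

/-- the Gram identity `Aᵀ G A = c G` -/
theorem ofspec_gram {n : ℕ} (Q : (Fin n → F) → F) (hQ : Cfsg.Geo.IsNondegenerateQuadraticForm Q)
    (A : Matrix (Fin n) (Fin n) F) (c : F) (hc : ∀ v, Q (A *ᵥ v) = c * Q v) :
    Aᵀ * LinearMap.BilinForm.toMatrix' (ofspec_B Q hQ) * A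
      = c • LinearMap.BilinForm.toMatrix' (ofspec_B Q hQ) := by
  have h1 : (ofspec_B Q hQ).comp (Matrix.toLin' A) (Matrix.toLin' A) = c • ofspec_B Q hQ := by
    refine LinearMap.ext fun u => LinearMap.ext fun v => ?_
    rw [LinearMap.BilinForm.comp_apply, Matrix.toLin'_apply, Matrix.toLin'_apply,
      LinearMap.smul_apply, LinearMap.smul_apply, ofspec_B_apply, ofspec_B_apply, smul_eq_mul]
    unfold QuadraticMap.polar
    rw [← Matrix.mulVec_add, hc, hc, hc]
    ring
  have h2 := LinearMap.BilinForm.toMatrix'_comp (ofspec_B Q hQ) (Matrix.toLin' A) (Matrix.toLin' A)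
  rw [h1, LinearMap.toMatrix'_toLin', map_smul] at h2
  exact h2.symm

/-- OF-SPEC -/
theorem specSym_of_mem {n : ℕ} (Q : (Fin n → F) → F) (hQ : Cfsg.Geo.IsNondegenerateQuadraticForm Q)
    (h : GL (Fin n) F) (hh : h ∈ Cfsg.Geo.quadSimilarityGroup Q) :
    SpecSym 1 (h : Matrix (Fin n) (Fin n) F) := by
  obtain ⟨c, hc⟩ := hh
  set A : Matrix (Fin n) (Fin n) F := (h : Matrix (Fin n) (Fin n) F) with hA
  set G : Matrix (Fin n) (Fin n) F := LinearMap.BilinForm.toMatrix' (ofspec_B Q hQ) with hG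
  have hc0 : (c : F) ≠ 0 := c.ne_zero
  have hgram : Aᵀ * G * A = (c : F) • G := ofspec_gram Q hQ A c hc
  have hdetG : IsUnit G.det := ofspec_det_gram Q hQ
  have hdetA : IsUnit A.det := by
    rw [← Matrix.isUnit_iff_isUnit_det]
    exact ⟨h, rfl⟩
  have hdetGA : IsUnit (G * A).det := by
    rw [Matrix.det_mul]
    exact hdetG.mul hdetA
  refine ⟨c, hc0, pow_one _, ?_⟩
  intro μ hμ
  rw [pow_one]
  have hprod : (A - μ • (1 : Matrix (Fin n) (Fin n) F))ᵀ * (G * A)
      = (-μ) • (G * (A - ((c : F) / μ) • (1 : Matrix (Fin n) (Fin n) F))) := by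
    rw [Matrix.transpose_sub, Matrix.transpose_smul, Matrix.transpose_one, Matrix.sub_mul,
      ← Matrix.mul_assoc, hgram, Matrix.smul_mul, Matrix.one_mul, Matrix.mul_sub, Matrix.mul_smul,
      Matrix.mul_one, smul_sub, smul_smul]
    have : -μ * ((c : F) / μ) = -(c : F) := by field_simp
    rw [this]
    simp only [neg_smul, sub_neg_eq_add]
    abel
  have hμ' : (-μ) ∈ nonZeroDivisors F := mem_nonZeroDivisors_of_ne_zero (neg_ne_zero.mpr hμ)
  calc (A - μ • (1 : Matrix (Fin n) (Fin n) F)).rank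
      = ((A - μ • (1 : Matrix (Fin n) (Fin n) F))ᵀ).rank := (Matrix.rank_transpose _).symm
    _ = ((A - μ • (1 : Matrix (Fin n) (Fin n) F))ᵀ * (G * A)).rank :=
        (Matrix.rank_mul_eq_left_of_isUnit_det _ _ hdetGA).symm
    _ = (G * (A - ((c : F) / μ) • (1 : Matrix (Fin n) (Fin n) F))).rank := by
        rw [hprod, Matrix.rank_smul_of_mem_nonZeroDivisors _ hμ']
    _ = (A - ((c : F) / μ) • (1 : Matrix (Fin n) (Fin n) F)).rank :=
        Matrix.rank_mul_eq_right_of_isUnit_det _ _ hdetG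

end Cfsg.Agent.Lib.Helper44.Of
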