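import Mathlib
import Cfsg.Agent.Lib.Helper67.OgDefs
import Cfsg.Agent.Lib.Helper54.OgEE
import Cfsg.Agent.Lib.Helper27.OgSCAL

/-! OG-LFS (by helper13) for helper67's Og hive (S2413 / S2414 / S2415): long root elements from two short ones.
`g = L(1 + E_{l i})` maps `e i` to `e i + e l` and fixes `W`, so `Ee (e i + e l) w' ∈ H`; the commutator formula with
`Ee (e i) (t • w)` gives `Ee (e i) (c • (e i + e l)) = Ee (e i) (c • e l)`. -/

set_option autoImplicit false
set_option linter.unusedSectionVars false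
set_option linter.unusedVariables false

namespace Cfsg.Agent.Lib.Helper67.Og

open Matrix Module QuadraticMap
open Cfsg.Agent.Lib.Helper37 Cfsg.Agent.Lib.Helper8
open scoped commutatorElement

section abstract

variable {ι : Type} [Fintype ι] [DecidableEq ι] {F : Type*} [Field F]
variable (Q : QuadraticForm F (ι → F)) (hQ : (QuadraticMap.polarBilin Q).Nondegenerate)
variable {k : ℕ} {e f : Fin k → ι → F}
variable {L : Matrix.SpecialLinearGroup (Fin k) F →* ↥(Cfsg.isometryGroup F ⇑Q)}

/-- the Levi image of the transvection `1 + E_{l i}` maps `e i` to `e i + e l` -/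
theorem lfs_act_transvection (D : LeviData Q k e f L) {i l : Fin k} (hli : l ≠ i) :
    act Q (L (Matrix.SpecialLinearGroup.transvection hli 1)) (e i) = e i + e l := by
  rw [D.act_e]
  simp only [Matrix.SpecialLinearGroup.transvection_coe, Matrix.add_apply, Matrix.one_apply,
    Matrix.single_apply, add_smul, Finset.sum_add_distrib, ite_smul, one_smul, zero_smul]
  simp

theorem long_of_short (D : LeviData Q k e f L) (hk : 2 ≤ k)
    (H : Subgroup ↥(Cfsg.isometryGroup F ⇑Q)) (hLH : ∀ A, L A ∈ H) (i : Fin k) {w w' : ι → F}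
    (hw : InW Q e f w) (hw' : InW Q e f w') (hne : polar ⇑Q w w' ≠ 0)
    (h1 : Ee Q hQ (e i) w ∈ H) (h2 : Ee Q hQ (e i) w' ∈ H) (l : Fin k) (c : F) :
    Ee Q hQ (e i) (c • e l) ∈ H := by
  have hqe := D.fam.qe
  have hee := D.fam.ee
  by_cases hli : l = i
  · subst hli
    have h0 : polar ⇑Q (e l) 0 = 0 := by simp [polar]
    have h3 := Ee_add_smul Q hQ (hqe l) h0 c
    rw [zero_add] at h3
    rw [h3, Ee_zero]
    exact H.one_mem
  · set g := L (Matrix.SpecialLinearGroup.transvection hli 1) with hg
    have hge : act Q g (e i) = e i + e l := lfs_act_transvection Q D hli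
    have hgw : act Q g w' = w' := D.act_w _ _ hw'
    have h3 : Ee Q hQ (e i + e l) w' ∈ H := by
      have h4 := H.mul_mem (H.mul_mem (hLH (Matrix.SpecialLinearGroup.transvection hli 1)) h2)
        (H.inv_mem (hLH (Matrix.SpecialLinearGroup.transvection hli 1)))
      rw [← hg, Ee_conj, hge, hgw] at h4
      exact h4
    have hp : polar ⇑Q w' w ≠ 0 := by rwa [polar_comm]
    set t : F := -c / polar ⇑Q w' w with ht
    have h5 : Ee Q hQ (e i) (t • w) ∈ H := Ee_smul_W_mem Q hQ D hk H hLH i hw h1 t
    have hQ2 : Q (e i + e l) = 0 := by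
      rw [QuadraticMap.map_add Q (e i) (e l), hqe, hqe, hee, add_zero, add_zero]
    have h12 : polar ⇑Q (e i) (e i + e l) = 0 := by
      rw [polar_add_right, hee, hee, add_zero]
    have h1w : polar ⇑Q (e i) (t • w) = 0 := by
      rw [polar_smul_right, (hw i).1, smul_zero]
    have h2w : polar ⇑Q (e i + e l) (t • w) = 0 := by
      rw [polar_add_left, polar_smul_right, polar_smul_right, (hw i).1, (hw l).1, smul_zero,
        add_zero]
    have h1w' : polar ⇑Q (e i) w' = 0 := (hw' i).1
    have h2w' : polar ⇑Q (e i + e l) w' = 0 := by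
      rw [polar_add_left, (hw' i).1, (hw' l).1, add_zero]
    have h6 := Ee_commutator Q hQ (hqe i) hQ2 h12 h1w h2w h1w' h2w'
    have h7 : ⁅Ee Q hQ (e i + e l) w', Ee Q hQ (e i) (t • w)⁆ ∈ H := by
      rw [commutatorElement_def]
      exact H.mul_mem (H.mul_mem (H.mul_mem h3 h5) (H.inv_mem h3)) (H.inv_mem h5)
    rw [h6] at h7
    have hc : -polar ⇑Q w' (t • w) = c := by
      rw [polar_smul_right, ht, smul_eq_mul]
      field_simp
    rw [hc, smul_add, add_comm] at h7
    have h8 : polar ⇑Q (e i) (c • e l) = 0 := by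
      rw [polar_smul_right, hee, smul_zero]
    rw [Ee_add_smul Q hQ (hqe i) h8] at h7
    exact h7

end abstract

end Cfsg.Agent.Lib.Helper67.Og
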