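import Mathlib
import Cfsg.Prelude.Def_ClassicalGeometry
import Cfsg.Prelude.Def_GeometricClasses
import Cfsg.Agent.Lib.Helper46.OmDefs
import Cfsg.Agent.Lib.Helper8.SpBlkDec

/-! OM-E core (by helper13) for helper46's S5991 "Om" hive: the arithmetic glue of ON-E1 / OM-E2 / OM-E3 /
OM-ODDMEM (which enter as hypotheses).  Clone of helper80's `Lib/Helper80/OnEcore.lean`. -/

set_option autoImplicit false
set_option linter.unusedVariables false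
set_option linter.unusedSectionVars false

namespace Cfsg.Agent.Lib.Helper46.Om

open Module
open Cfsg.Agent.Lib.Helper8.SpBlk (blk)

section concrete

variable {F : Type*} [Field F]

local notation "MatP" d => Matrix (Fin d ⊕ Fin d) (Fin d ⊕ Fin d) F
local notation "MatM" d => Matrix ((Fin d ⊕ Fin d) ⊕ Fin 2) ((Fin d ⊕ Fin d) ⊕ Fin 2) F

/-- the identity of `quadFormMinus n₁` -/
theorem e_one (r n₁ : ℕ) (a b : F) :
    ∃ x : GL ((Fin n₁ ⊕ Fin n₁) ⊕ Fin 2) F,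
      x ∈ Cfsg.isometryGroup F (Cfsg.quadFormMinus n₁ F a b) ∧ x ^ r = 1 ∧
      finrank F (LinearMap.ker (Matrix.toLin' (x : MatM n₁) - 1)) = 2 * n₁ + 2 := by
  refine ⟨1, Subgroup.one_mem _, one_pow r, ?_⟩
  rw [Units.val_one, Matrix.toLin'_one]
  have h0 : (LinearMap.id : (((Fin n₁ ⊕ Fin n₁) ⊕ Fin 2) → F) →ₗ[F]
      (((Fin n₁ ⊕ Fin n₁) ⊕ Fin 2) → F)) - 1 = 0 := sub_self _
  rw [h0, LinearMap.ker_zero, finrank_top, Module.finrank_fintype_fun_eq_card]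
  simp only [Fintype.card_sum, Fintype.card_fin]
  omega

/-- the conclusion of OM-E for a dimension given as a sum -/
theorem e_sum {r : ℕ} (a b : F)
    (hE3 : ∀ (n₁ n₂ j : ℕ) (x₁ : GL ((Fin n₁ ⊕ Fin n₁) ⊕ Fin 2) F)
      (h₁ : x₁ ∈ Cfsg.isometryGroup F (Cfsg.quadFormMinus n₁ F a b)) (hx₁ : x₁ ^ j = 1)
      (x₂ : GL (Fin n₂ ⊕ Fin n₂) F)
      (h₂ : x₂ ∈ Cfsg.isometryGroup F (Cfsg.quadFormPlus n₂ F)) (hx₂ : x₂ ^ j = 1),
      ∃ x : GL ((Fin (n₁ + n₂) ⊕ Fin (n₁ + n₂)) ⊕ Fin 2) F,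
        x ∈ Cfsg.isometryGroup F (Cfsg.quadFormMinus (n₁ + n₂) F a b) ∧ x ^ j = 1 ∧
        finrank F (LinearMap.ker (Matrix.toLin' (x : MatM (n₁ + n₂)) - 1))
          = finrank F (LinearMap.ker (Matrix.toLin' (x₁ : MatM n₁) - 1))
            + finrank F (LinearMap.ker (Matrix.toLin' (x₂ : MatP n₂) - 1)))
    (k n₁ n₂ t : ℕ) (hk : k = n₁ + n₂)
    (x₁ : GL ((Fin n₁ ⊕ Fin n₁) ⊕ Fin 2) F)
    (h₁ : x₁ ∈ Cfsg.isometryGroup F (Cfsg.quadFormMinus n₁ F a b)) (hx₁ : x₁ ^ r = 1)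
    (hf₁ : finrank F (LinearMap.ker (Matrix.toLin' (x₁ : MatM n₁) - 1)) = t)
    (x₂ : GL (Fin n₂ ⊕ Fin n₂) F)
    (h₂ : x₂ ∈ Cfsg.isometryGroup F (Cfsg.quadFormPlus n₂ F)) (hx₂ : x₂ ^ r = 1)
    (hf₂ : finrank F (LinearMap.ker (Matrix.toLin' (x₂ : MatP n₂) - 1)) = 0) :
    ∃ x : GL ((Fin k ⊕ Fin k) ⊕ Fin 2) F,
      x ∈ Cfsg.isometryGroup F (Cfsg.quadFormMinus k F a b) ∧ x ^ r = 1 ∧
      finrank F (LinearMap.ker (Matrix.toLin' (x : MatM k) - 1)) = t := by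
  subst hk
  obtain ⟨x, hx, hxr, hxf⟩ := hE3 n₁ n₂ r x₁ h₁ hx₁ x₂ h₂ hx₂
  exact ⟨x, hx, hxr, by rw [hxf, hf₁, hf₂, add_zero]⟩

section elements

variable [Fintype F] {r : ℕ} [Fact r.Prime]

/-- OM-E core. -/
theorem e_core (hr2 : r ≠ 2) (k : ℕ) (a b : F)
    (hE1 : ∀ d n : ℕ, n * orderOf ((Fintype.card F : ℕ) : ZMod r) ≤ d →
      ∃ x : GL (Fin d ⊕ Fin d) F, x ∈ Cfsg.isometryGroup F (Cfsg.quadFormPlus d F) ∧ x ^ r = 1 ∧
        finrank F (LinearMap.ker (Matrix.toLin' (x : MatP d) - 1))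
          = 2 * d - 2 * (n * orderOf ((Fintype.card F : ℕ) : ZMod r)))
    (hE2 : ∀ n₁ : ℕ, Even (orderOf ((Fintype.card F : ℕ) : ZMod r)) →
      orderOf ((Fintype.card F : ℕ) : ZMod r) ≤ 2 * n₁ + 2 →
      n₁ + 1 < orderOf ((Fintype.card F : ℕ) : ZMod r) →
      ∃ x : GL ((Fin n₁ ⊕ Fin n₁) ⊕ Fin 2) F,
        x ∈ Cfsg.isometryGroup F (Cfsg.quadFormMinus n₁ F a b) ∧ x ^ r = 1 ∧
        finrank F (LinearMap.ker (Matrix.toLin' (x : MatM n₁) - 1))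
          = 2 * n₁ + 2 - orderOf ((Fintype.card F : ℕ) : ZMod r))
    (hE3 : ∀ (n₁ n₂ j : ℕ) (x₁ : GL ((Fin n₁ ⊕ Fin n₁) ⊕ Fin 2) F)
      (h₁ : x₁ ∈ Cfsg.isometryGroup F (Cfsg.quadFormMinus n₁ F a b)) (hx₁ : x₁ ^ j = 1)
      (x₂ : GL (Fin n₂ ⊕ Fin n₂) F)
      (h₂ : x₂ ∈ Cfsg.isometryGroup F (Cfsg.quadFormPlus n₂ F)) (hx₂ : x₂ ^ j = 1),
      ∃ x : GL ((Fin (n₁ + n₂) ⊕ Fin (n₁ + n₂)) ⊕ Fin 2) F,
        x ∈ Cfsg.isometryGroup F (Cfsg.quadFormMinus (n₁ + n₂) F a b) ∧ x ^ j = 1 ∧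
        finrank F (LinearMap.ker (Matrix.toLin' (x : MatM (n₁ + n₂)) - 1))
          = finrank F (LinearMap.ker (Matrix.toLin' (x₁ : MatM n₁) - 1))
            + finrank F (LinearMap.ker (Matrix.toLin' (x₂ : MatP n₂) - 1)))
    (hODD : ∀ (x : GL ((Fin k ⊕ Fin k) ⊕ Fin 2) F),
      x ∈ Cfsg.isometryGroup F (Cfsg.quadFormMinus k F a b) → Odd (orderOf x) →
      x ∈ Cfsg.Geo.omegaGL (Cfsg.quadFormMinus k F a b))
    (hc : blk F r ≤ 2 * k + 2)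
    (hside : (2 * k + 2) % blk F r ≠ 0 ∨
      (Even (orderOf ((Fintype.card F : ℕ) : ZMod r)) ∧ Odd ((2 * k + 2) / blk F r))) :
    ∃ x : GL ((Fin k ⊕ Fin k) ⊕ Fin 2) F,
      x ∈ Cfsg.Geo.omegaGL (Cfsg.quadFormMinus k F a b) ∧ x ^ r = 1 ∧
      finrank F (LinearMap.ker (Matrix.toLin' (x : MatM k) - 1)) = (2 * k + 2) % blk F r := by
  have hr : r.Prime := Fact.out
  have hrodd : Odd r := hr.odd_of_ne_two hr2
  -- it is enough to find the element in the isometry group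
  suffices hmain : ∃ x : GL ((Fin k ⊕ Fin k) ⊕ Fin 2) F,
      x ∈ Cfsg.isometryGroup F (Cfsg.quadFormMinus k F a b) ∧ x ^ r = 1 ∧
      finrank F (LinearMap.ker (Matrix.toLin' (x : MatM k) - 1)) = (2 * k + 2) % blk F r by
    obtain ⟨x, hx, hxr, hxf⟩ := hmain
    refine ⟨x, hODD x hx ?_, hxr, hxf⟩
    rcases (Nat.dvd_prime hr).1 (orderOf_dvd_of_pow_eq_one hxr) with h | h
    · rw [h]
      exact odd_one
    · rw [h]
      exact hrodd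
  have hblk : blk F r = if Even (orderOf ((Fintype.card F : ℕ) : ZMod r))
      then orderOf ((Fintype.card F : ℕ) : ZMod r)
      else 2 * orderOf ((Fintype.card F : ℕ) : ZMod r) := rfl
  obtain ⟨i, hi⟩ : ∃ i, i = orderOf ((Fintype.card F : ℕ) : ZMod r) := ⟨_, rfl⟩
  rw [← hi] at hE1 hE2 hside hblk
  -- the identity part plus split blocks: `2 k + 2 = k' + 2 (n i)` with `k' = 2 μ + 2`
  have hcase1 : ∀ n μ : ℕ, k = μ + n * i →
      ∃ x : GL ((Fin k ⊕ Fin k) ⊕ Fin 2) F,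
        x ∈ Cfsg.isometryGroup F (Cfsg.quadFormMinus k F a b) ∧ x ^ r = 1 ∧
        finrank F (LinearMap.ker (Matrix.toLin' (x : MatM k) - 1)) = 2 * μ + 2 := by
    intro n μ hk
    obtain ⟨x₁, hx₁, hxr₁, hxf₁⟩ := e_one (F := F) r μ a b
    obtain ⟨x₂, hx₂, hxr₂, hxf₂⟩ := hE1 (n * i) n le_rfl
    exact e_sum a b hE3 k μ (n * i) (2 * μ + 2) hk x₁ hx₁ hxr₁ hxf₁ x₂ hx₂ hxr₂
      (by rw [hxf₂]; omega)
  by_cases hev : Even i
  · -- `blk = i`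
    rw [if_pos hev] at hblk
    rw [hblk] at hc hside ⊢
    have hdiv : (2 * k + 2) % i + i * ((2 * k + 2) / i) = 2 * k + 2 := Nat.mod_add_div _ _
    by_cases hs : Even ((2 * k + 2) / i)
    · -- `s` even: `k' ≠ 0`
      have hm0 : (2 * k + 2) % i ≠ 0 := by
        rcases hside with h' | ⟨-, h'⟩
        · exact h'
        · exact absurd hs (Nat.not_even_iff_odd.2 h')
      obtain ⟨n, hn⟩ := hs
      have h1 : i * ((2 * k + 2) / i) = 2 * (n * i) := by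
        rw [hn]
        ring
      obtain ⟨j, hj⟩ := hev
      obtain ⟨μ, hμ⟩ : ∃ μ, (2 * k + 2) % i = 2 * μ + 2 := ⟨((2 * k + 2) % i - 2) / 2, by omega⟩
      obtain ⟨x, hx, hxr, hxf⟩ := hcase1 n μ (by omega)
      exact ⟨x, hx, hxr, by rw [hxf, hμ]⟩
    · -- `s` odd
      have hsodd : Odd ((2 * k + 2) / i) := Nat.not_even_iff_odd.1 hs
      have hi0 : 0 < i := by
        rcases Nat.eq_zero_or_pos i with h | h
        · exfalso
          rw [h, Nat.div_zero] at hs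
          exact hs (by decide)
        · exact h
      have hmlt : (2 * k + 2) % i < i := Nat.mod_lt _ hi0
      obtain ⟨j, hj⟩ := hev
      obtain ⟨n, hn⟩ := hsodd
      have h1 : i * ((2 * k + 2) / i) = 2 * (n * i) + i := by
        rw [hn]
        ring
      obtain ⟨μ, hμ⟩ : ∃ μ, (2 * k + 2) % i = 2 * μ := ⟨(2 * k + 2) % i / 2, by omega⟩
      have hj1 : 1 ≤ j := by omega
      obtain ⟨x₁, hx₁, hxr₁, hxf₁⟩ := hE2 (j + μ - 1) ⟨j, hj⟩ (by omega) (by omega)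
      obtain ⟨x₂, hx₂, hxr₂, hxf₂⟩ := hE1 (n * i) n le_rfl
      exact e_sum a b hE3 k (j + μ - 1) (n * i) ((2 * k + 2) % i) (by omega) x₁ hx₁ hxr₁
        (by rw [hxf₁]; omega) x₂ hx₂ hxr₂ (by rw [hxf₂]; omega)
  · -- `blk = 2 i`
    rw [if_neg hev] at hblk
    rw [hblk] at hc hside ⊢
    have hm0 : (2 * k + 2) % (2 * i) ≠ 0 := by
      rcases hside with h' | ⟨h', -⟩
      · exact h'
      · exact absurd h' hev
    have hdiv : (2 * k + 2) % (2 * i) + 2 * i * ((2 * k + 2) / (2 * i)) = 2 * k + 2 :=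
      Nat.mod_add_div _ _
    have hmm : (2 * k + 2) % (2 * i) = 2 * ((k + 1) % i) := by
      rw [show 2 * k + 2 = 2 * (k + 1) by ring, Nat.mul_mod_mul_left]
    have hdd : (2 * k + 2) / (2 * i) = (k + 1) / i := by
      rw [show 2 * k + 2 = 2 * (k + 1) by ring]
      exact Nat.mul_div_mul_left _ _ two_pos
    have hdiv' : (k + 1) % i + i * ((k + 1) / i) = k + 1 := Nat.mod_add_div _ _
    obtain ⟨μ, hμ⟩ : ∃ μ, (k + 1) % i = μ + 1 := ⟨(k + 1) % i - 1, by omega⟩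
    obtain ⟨x, hx, hxr, hxf⟩ := hcase1 ((k + 1) / i) μ (by
      have : (k + 1) / i * i = i * ((k + 1) / i) := mul_comm _ _
      omega)
    exact ⟨x, hx, hxr, by rw [hxf, hmm, hμ]; ring⟩

end elements

end concrete

end Cfsg.Agent.Lib.Helper46.Om
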