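import Mathlib
import Cfsg.Prelude.Def_ClassicalGeometry
import Cfsg.Prelude.Def_GeometricClasses
import Cfsg.Agent.Lib.Helper46.OmDefs
import Cfsg.Agent.Lib.Helper46.OmBR
import Cfsg.Agent.Lib.Helper8.SpBlkDec
import Cfsg.Agent.Lib.Helper19.OnE1
import Cfsg.Agent.Lib.Helper80.OmE2
import Cfsg.Agent.Lib.Helper1.OmE3
import Cfsg.Agent.Lib.Helper13.OmEcore

/-! OM-E (by helper13) for helper46's S5991 "Om" hive: an element of `Ω⁻` of order `r` with the smallest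
possible fixed space (clone of helper80's `Lib/Helper80/OnE.lean`). -/

set_option autoImplicit false
set_option linter.unusedVariables false

namespace Cfsg.Agent.Lib.Helper46.Om

open Module
open Cfsg.Agent.Lib.Helper2.BG Cfsg.Agent.Lib.Helper99 Cfsg.Agent.Lib.Helper48.Ti
open Cfsg.Agent.Lib.Helper5.Hy (Plus Orth Fix)
open Cfsg.Agent.Lib.Helper81.On (SameType Fixes)
open Cfsg.Agent.Lib.Helper8.SpBlk (blk)

section concrete

variable {F : Type*} [Field F] [Fintype F]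

section elements

variable {p : ℕ} [Fact p.Prime] [CharP F p] {r : ℕ} [Fact r.Prime]

/-- OM-E. -/
theorem exists_max_elt (h2 : (2 : F) ≠ 0) (hr2 : r ≠ 2) (hrp : r ≠ p) (k : ℕ) (a b : F)
    (hab : ∀ x y : F, x ^ 2 + a * x * y + b * y ^ 2 = 0 → x = 0 ∧ y = 0)
    (hc : blk F r ≤ 2 * k + 2)
    (hside : (2 * k + 2) % blk F r ≠ 0 ∨
      (Even (orderOf ((Fintype.card F : ℕ) : ZMod r)) ∧ Odd ((2 * k + 2) / blk F r))) :
    ∃ x : Matrix.GeneralLinearGroup ((Fin k ⊕ Fin k) ⊕ Fin 2) F,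
      x ∈ Cfsg.Geo.omegaGL (Cfsg.quadFormMinus k F a b) ∧ x ^ r = 1 ∧
      finrank F (LinearMap.ker (Matrix.toLin'
        (x : Matrix ((Fin k ⊕ Fin k) ⊕ Fin 2) ((Fin k ⊕ Fin k) ⊕ Fin 2) F) - 1))
        = (2 * k + 2) % blk F r :=
  e_core hr2 k a b
    (fun d n hn => Cfsg.Agent.Lib.Helper81.On.exists_split_elt (p := p) hrp d n hn)
    (fun n₁ hev h1 h2' => exists_single_elt (p := p) h2 hr2 hrp n₁ a b hab hev h1 h2')
    (fun n₁ n₂ j x₁ h₁ hx₁ x₂ h₂ hx₂ => exists_block_sum n₁ n₂ j a b x₁ h₁ hx₁ x₂ h₂ hx₂)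
    (fun x hx hodd => mem_omegaGL_of_odd_order h2 k a b hab x hx hodd) hc hside

end elements
end concrete
end Cfsg.Agent.Lib.Helper46.Om
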