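import Mathlib
import Cfsg.Prelude.Def_ClassicalGeometry
import Cfsg.Prelude.Def_GeometricClasses
import Cfsg.Agent.Lib.Helper46.OmDefs
import Cfsg.Agent.Lib.Helper46.OmBR
import Cfsg.Agent.Lib.Helper13.LagQ

/-! # OM-NOTPLUS (Om hive S5991, helper46): `quadFormMinus` is of minus type.

A totally isotropic subspace for the polar form `minusB k a b` is totally singular for
`quadFormMinus k F a b` (as `2 ≠ 0`), and `LagQ.quadFormMinus_no_lagrangian` says that such a subspace
never has dimension `k + 1`. -/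

set_option autoImplicit false

namespace Cfsg.Agent.Lib.Helper46.Om

open Module
open Cfsg.Agent.Lib.Helper2.BG Cfsg.Agent.Lib.Helper99 Cfsg.Agent.Lib.Helper48.Ti
open Cfsg.Agent.Lib.Helper5.Hy (Plus Orth Fix)

section concrete

variable {F : Type*} [Field F] [Fintype F]

/-- OM-NOTPLUS: `quadFormMinus` is of minus type. -/
theorem not_plus_minusB (h2 : (2 : F) ≠ 0) (k : ℕ) (a b : F)
    (hab : ∀ x y : F, x ^ 2 + a * x * y + b * y ^ 2 = 0 → x = 0 ∧ y = 0) :
    ¬ Plus (minusB k a b) ⊤ := by
  rintro ⟨U, -, hTI, hdim⟩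
  have hQ : ∀ x ∈ U, Cfsg.quadFormMinus k F a b x = 0 := by
    intro x hx
    have h1 : minusB k a b x x = 0 := hTI x hx x hx
    rw [minusB_self] at h1
    exact (mul_eq_zero.mp h1).resolve_left h2
  have hne := Cfsg.Agent.Lib.Helper13.LagQ.quadFormMinus_no_lagrangian a b hab k U hQ
  have htop : finrank F (⊤ : Submodule F (VM k F)) = 2 * k + 2 := by
    rw [finrank_top]; exact finrank_VM k
  have h3 : 2 * finrank F U = 2 * k + 2 := hdim.trans htop
  exact hne (Nat.eq_of_mul_eq_mul_left two_pos (h3.trans (by ring)))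

end concrete

end Cfsg.Agent.Lib.Helper46.Om
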