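import Mathlib
import Cfsg.Agent.Lib.Helper39.OoDefs

/-! # S2547 hive (OO, helper39), leaf OO-MONO (helper13): the shape of a monomial isometry of
`quadFormOdd m F` -/

set_option autoImplicit false
set_option linter.unusedSectionVars false
set_option linter.unusedVariables false

namespace Cfsg.Agent.Lib.Helper39.OoBN

open Matrix Cfsg

variable {F : Type*} [Field F] {m : ℕ}

/-- the polar form of `quadFormOdd` in coordinates -/
theorem mono_polar_eq (u v : Idx m → F) :
    Cfsg.quadFormOdd m F (u + v) - Cfsg.quadFormOdd m F u - Cfsg.quadFormOdd m F v =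
      ∑ a : Idx m, wt F a * u a * v (bar a) := by
  unfold Cfsg.quadFormOdd
  rw [Fintype.sum_sum_type, Fintype.sum_sum_type]
  simp only [Pi.add_apply, Fintype.sum_unique, wt, bar]
  have hsum : ∑ i : Fin m, (u (Sum.inr (Sum.inl i)) + v (Sum.inr (Sum.inl i))) *
        (u (Sum.inr (Sum.inr i)) + v (Sum.inr (Sum.inr i)))
      = ∑ i : Fin m, u (Sum.inr (Sum.inl i)) * u (Sum.inr (Sum.inr i))
        + ∑ i : Fin m, v (Sum.inr (Sum.inl i)) * v (Sum.inr (Sum.inr i))
        + (∑ i : Fin m, 1 * u (Sum.inr (Sum.inl i)) * v (Sum.inr (Sum.inr i))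
          + ∑ i : Fin m, 1 * u (Sum.inr (Sum.inr i)) * v (Sum.inr (Sum.inl i))) := by
    rw [← Finset.sum_add_distrib, ← Finset.sum_add_distrib, ← Finset.sum_add_distrib]
    apply Finset.sum_congr rfl
    intro i _
    ring
  rw [hsum]
  ring

/-- the polar form at scaled basis vectors -/
theorem mono_polar_single [DecidableEq (Idx m)] (a' b' : Idx m) (c c' : F) :
    Cfsg.quadFormOdd m F (c • Pi.single a' 1 + c' • Pi.single b' 1)
        - Cfsg.quadFormOdd m F (c • Pi.single a' (1 : F))
        - Cfsg.quadFormOdd m F (c' • Pi.single b' (1 : F))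
      = if b' = bar a' then wt F a' * c * c' else 0 := by
  rw [mono_polar_eq, Finset.sum_eq_single a']
  · simp only [Pi.smul_apply, Pi.single_eq_same, smul_eq_mul, mul_one, Pi.single_apply]
    by_cases hb : b' = bar a'
    · rw [if_pos hb, if_pos hb.symm, mul_one]
    · rw [if_neg hb, if_neg (fun h => hb h.symm), mul_zero, mul_zero]
  · intro a _ ha
    simp only [Pi.smul_apply, Pi.single_apply, if_neg ha, smul_eq_mul, mul_zero, zero_mul]
  · intro h
    exact absurd (Finset.mem_univ a') h

/-- isometries preserve the polar form -/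
theorem mono_polar_preserves (g : OG F m) (u v : Idx m → F) :
    Cfsg.quadFormOdd m F (mat g *ᵥ u + mat g *ᵥ v) - Cfsg.quadFormOdd m F (mat g *ᵥ u)
        - Cfsg.quadFormOdd m F (mat g *ᵥ v)
      = Cfsg.quadFormOdd m F (u + v) - Cfsg.quadFormOdd m F u - Cfsg.quadFormOdd m F v := by
  rw [← Matrix.mulVec_add, mat_preserves, mat_preserves, mat_preserves]

theorem mono_bar_fix {a : Idx m} (h : bar a = a) : a = e0 := by
  rcases a with u | i | i
  · rfl
  · simp [bar] at h
  · simp [bar] at h

theorem mono_wt_ne (h2 : (2 : F) ≠ 0) (a : Idx m) : wt F a ≠ 0 := by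
  rcases a with u | i
  · exact h2
  · exact one_ne_zero

theorem mono_wt_of_ne {a : Idx m} (h : a ≠ e0) : wt F a = 1 := by
  rcases a with u | i
  · exact absurd rfl h
  · rfl

/-- LEAF MONO -/
theorem mono_orth (h2 : (2 : F) ≠ 0) (g : OG F m) {π : Equiv.Perm (Idx m)} {d : Idx m → F}
    (h : IsMonoG (mat g) π d) :
    π e0 = e0 ∧ (∀ a, π (bar a) = bar (π a)) ∧ d e0 ^ 2 = 1 ∧ ∀ i : Fin m, d (xi i) * d (yi i) = 1 := by
  classical
  -- the key identity at the pair `(a, bar a)`
  have key : ∀ a : Idx m, π (bar a) = bar (π a) ∧ wt F (π a) * d a * d (bar a) = wt F a := by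
    intro a
    have h1 := mono_polar_preserves g (Pi.single a 1) (Pi.single (bar a) 1)
    rw [h.mulVec_single, h.mulVec_single, mono_polar_single] at h1
    have h3 := mono_polar_single (F := F) a (bar a) 1 1
    rw [one_smul, one_smul, if_pos rfl, mul_one, mul_one] at h3
    rw [h3] at h1
    by_cases hb : π (bar a) = bar (π a)
    · rw [if_pos hb] at h1
      exact ⟨hb, h1⟩
    · rw [if_neg hb] at h1
      exact absurd h1.symm (mono_wt_ne h2 a)
  have h0 : π e0 = e0 := by
    have := (key e0).1
    rw [bar_e0] at this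
    exact mono_bar_fix this.symm
  refine ⟨h0, fun a => (key a).1, ?_, ?_⟩
  · have := (key e0).2
    rw [bar_e0, h0] at this
    have hw : wt F (e0 : Idx m) ≠ 0 := mono_wt_ne h2 e0
    have h5 : wt F (e0 : Idx m) * (d e0 ^ 2 - 1) = 0 := by linear_combination this
    rcases mul_eq_zero.mp h5 with h6 | h6
    · exact absurd h6 hw
    · exact sub_eq_zero.mp h6
  · intro i
    have := (key (xi i)).2
    rw [bar_xi] at this
    have hne : π (xi i) ≠ e0 := by
      intro hx
      rw [← h0] at hx
      have := π.injective hx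
      simp [xi, e0] at this
    rw [mono_wt_of_ne hne, mono_wt_of_ne (show (xi i : Idx m) ≠ e0 by simp [xi, e0]), one_mul] at this
    exact this

end Cfsg.Agent.Lib.Helper39.OoBN
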