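import Mathlib
import Cfsg.Agent.Lib.Helper39.OoDefs

/-! # S2547 hive (OO, helper39), leaf OO-TCONJ (helper13): a monomial conjugate of an element of
`B ∩ N` (a diagonal isometry) lies in `B` -/

set_option autoImplicit false
set_option linter.unusedSectionVars false
set_option linter.unusedVariables false

namespace Cfsg.Agent.Lib.Helper39.OoBN

open Matrix Cfsg

variable {F : Type*} [Field F] {m : ℕ}

theorem tconj_rk_inj : Function.Injective (rk : Idx m → ℕ) := by
  intro a b h
  rcases a with u | i | i <;> rcases b with u' | j | j <;> simp only [rk] at h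
  · rfl
  · exfalso; have := j.2; omega
  · exfalso; have := j.2; omega
  · exfalso; have := i.2; omega
  · have : i = j := Fin.ext h
    rw [this]
  · exfalso; have := i.2; have := j.2; omega
  · exfalso; have := i.2; omega
  · exfalso; have := i.2; have := j.2; omega
  · have : i = j := Fin.ext (by have := i.2; have := j.2; omega)
    rw [this]

/-- an upper triangular monomial isometry has trivial permutation -/
theorem tconj_perm_eq_one (t : OG F m) (ht : t ∈ Bo F m) {π : Equiv.Perm (Idx m)} {d : Idx m → F}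
    (h : IsMonoG (mat t) π d) : π = 1 := by
  classical
  have hd : ∀ s, d s ≠ 0 := fun s => h.ne_zero (mat_inv_mul t) s
  have hle : ∀ s, rk (π s) ≤ rk s := by
    intro s
    by_contra hlt
    push Not at hlt
    have h1 := (mem_Bo_iff t).mp ht (π s) s hlt
    rw [h (π s) s, if_pos rfl] at h1
    exact hd s h1
  have hsum : ∑ s : Idx m, rk (π s) = ∑ s : Idx m, rk s := Equiv.sum_comp π rk
  have heq := (Finset.sum_eq_sum_iff_of_le (fun s _ => hle s)).mp hsum
  ext s
  rw [Equiv.Perm.one_apply]
  exact tconj_rk_inj (heq s (Finset.mem_univ s))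

/-- LEAF TCONJ -/
theorem T_conj : ∀ n ∈ No F m, ∀ t ∈ Bo F m ⊓ No F m, n * t * n⁻¹ ∈ Bo F m := by
  classical
  rintro n ⟨ρ, e, hn⟩ t ⟨htB, π, d, ht⟩
  have hπ : π = 1 := tconj_perm_eq_one t htB ht
  subst hπ
  have hninv := isMonoG_inv (mat_inv_mul n) hn
  have h1 := isMonoG_mul (isMonoG_mul hn ht) hninv
  rw [mem_Bo_iff]
  intro a b hab
  have hne : a ≠ b := by
    rintro rfl
    exact lt_irrefl _ hab
  have h2 := h1 a b
  rw [mat_mul, mat_mul]
  rw [h2, if_neg]
  simpa using hne

end Cfsg.Agent.Lib.Helper39.OoBN
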