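import Mathlib
import Cfsg.Prelude.Def_Characters
import Cfsg.Agent.Lib.Helper74.Osima5
import Cfsg.Agent.Lib.Helper79.PG3
import Cfsg.Agent.Lib.Helper79.Abelian
import Cfsg.Agent.Lib.Helper3.OddOrder

/-! # OPBN-EXC-A (helper40 S2548 hive): the "Steinberg character" of `X / Z(X)` for `|X| ∣ 18`

If `|X| ∣ 18` then `Y = X / Z(X)` has an irreducible character of degree `|Y|_2` vanishing on the
nontrivial elements of the Sylow `2`-subgroups: if `Y` is commutative then `|Y|` is odd (trivial character);
otherwise a nonlinear irreducible character has degree `2` (abelian Sylow `3`-subgroup of index `≤ 2`) and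
has `2`-defect zero. -/

set_option autoImplicit false
set_option linter.style.haveILetI false

namespace Cfsg.Agent.Lib.Helper40.OpBN

open Cfsg
open scoped commutatorElement

/-- group-theoretic core: an abelian subgroup `S` of odd order and index two, `X / Z(X)` commutative
⟹ `X` commutative -/
theorem exca_comm_of_index_two {X : Type*} [Group X] [Finite X] (S : Subgroup X)
    (hS : ∀ a ∈ S, ∀ b ∈ S, a * b = b * a) (hidx : S.index = 2) (hodd : Odd (Nat.card S))
    (hY : ∀ a b : X ⧸ Subgroup.center X, a * b = b * a) : ∀ a b : X, a * b = b * a := by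
  have hN : S.Normal := Subgroup.normal_of_index_eq_two hidx
  obtain ⟨t, ht⟩ : ∃ t : X, t ∉ S := by
    obtain ⟨a, ha⟩ := Subgroup.index_eq_two_iff.1 hidx
    refine ⟨a, fun h => ?_⟩
    have h1 := ha 1
    rw [one_mul] at h1
    rcases h1 with ⟨_, h2⟩ | ⟨_, h2⟩
    · exact h2 S.one_mem
    · exact h2 h
  -- the key: `t` centralises `S`
  have key : ∀ s ∈ S, t * s = s * t := by
    intro s hs
    set c : X := t * s * t⁻¹ * s⁻¹ with hc
    have hcZ : c ∈ Subgroup.center X := by
      rw [← QuotientGroup.eq_one_iff]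
      have h1 : ((c : X) : X ⧸ Subgroup.center X) =
          (t : X ⧸ Subgroup.center X) * (s : X ⧸ Subgroup.center X) *
            (t : X ⧸ Subgroup.center X)⁻¹ * (s : X ⧸ Subgroup.center X)⁻¹ := rfl
      rw [h1, hY (t : X ⧸ Subgroup.center X) (s : X ⧸ Subgroup.center X)]
      group
    have hcS : c ∈ S := S.mul_mem (hN.conj_mem s hs t) (S.inv_mem hs)
    have hct : ∀ g : X, g * c = c * g := fun g => Subgroup.mem_center_iff.1 hcZ g
    have e1 : t * s * t⁻¹ = c * s := by rw [hc, inv_mul_cancel_right]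
    have e2 : t * (c * s) * t⁻¹ = c * (c * s) := by
      rw [← mul_assoc, hct t, mul_assoc c t s, mul_assoc c (t * s) t⁻¹, e1]
    have hw : t * t ∈ S := by
      have := Subgroup.sq_mem_of_index_two hidx t
      rwa [pow_two] at this
    have e3 : (t * t) * s * (t * t)⁻¹ = s := by
      rw [hS _ hw _ hs, mul_inv_cancel_right]
    have e4 : (t * t) * s * (t * t)⁻¹ = c * (c * s) := by
      rw [← e2, ← e1]
      group
    have hcc : c * c = 1 := by
      have h5 : c * (c * s) = s := e4.symm.trans e3
      rw [← mul_assoc] at h5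
      exact mul_eq_right.1 h5
    have hc1 : c = 1 := by
      have h6 : orderOf c ∣ 2 := orderOf_dvd_of_pow_eq_one (by rw [pow_two, hcc])
      have h7 : orderOf c ∣ Nat.card S := Subgroup.orderOf_dvd_natCard S hcS
      have h8 : orderOf c ∣ Nat.gcd 2 (Nat.card S) := Nat.dvd_gcd h6 h7
      have h9 : Nat.gcd 2 (Nat.card S) = 1 := by
        exact Nat.coprime_two_left.2 hodd
      rw [h9, Nat.dvd_one] at h8
      exact orderOf_eq_one_iff.1 h8
    have h10 : t * s * t⁻¹ = s := by rw [e1, hc1, one_mul]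
    calc t * s = t * s * t⁻¹ * t := by rw [inv_mul_cancel_right]
      _ = s * t := by rw [h10]
  -- every element is in `S` or of the form `t * s`
  have hdec : ∀ g : X, g ∉ S → ∃ s ∈ S, g = t * s := by
    intro g hg
    refine ⟨t⁻¹ * g, ?_, by rw [mul_inv_cancel_left]⟩
    rw [Subgroup.mul_mem_iff_of_index_two hidx, inv_mem_iff]
    exact ⟨fun h => absurd h ht, fun h => absurd h hg⟩
  have hSZ : ∀ s ∈ S, s ∈ Subgroup.center X := by
    intro s hs
    rw [Subgroup.mem_center_iff]
    intro g
    by_cases hg : g ∈ S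
    · exact hS g hg s hs
    · obtain ⟨s', hs', rfl⟩ := hdec g hg
      rw [mul_assoc, hS s' hs' s hs, ← mul_assoc, key s hs, mul_assoc]
  have htZ : t ∈ Subgroup.center X := by
    rw [Subgroup.mem_center_iff]
    intro g
    by_cases hg : g ∈ S
    · exact (key g hg).symm
    · obtain ⟨s', hs', rfl⟩ := hdec g hg
      rw [mul_assoc, ← key s' hs']
  have hall : ∀ g : X, g ∈ Subgroup.center X := by
    intro g
    by_cases hg : g ∈ S
    · exact hSZ g hg
    · obtain ⟨s', hs', rfl⟩ := hdec g hg
      exact Subgroup.mul_mem _ htZ (hSZ s' hs')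
  intro a b
  exact (Subgroup.mem_center_iff.1 (hall b) a)

/-- a `3`-group of order dividing `18` is commutative -/
theorem exca_comm_three {S : Type*} [Group S] [Finite S] (h3 : IsPGroup 3 S)
    (hd : Nat.card S ∣ 18) : ∀ a b : S, a * b = b * a := by
  haveI : Fact (Nat.Prime 3) := ⟨Nat.prime_three⟩
  obtain ⟨k, hk⟩ := IsPGroup.iff_card.1 h3
  have hk2 : k ≤ 2 := by
    by_contra hlt
    push Not at hlt
    have h1 : 3 ^ 3 ∣ 3 ^ k := pow_dvd_pow 3 hlt
    rw [← hk] at h1
    have h2 := h1.trans hd
    omega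
  interval_cases k
  · rw [pow_zero] at hk
    haveI : Subsingleton S := (Nat.card_eq_one_iff_unique.1 hk).1
    intro a b
    rw [Subsingleton.elim a b]
  · rw [pow_one] at hk
    haveI := isCyclic_of_prime_card hk
    intro a b
    exact (IsCyclic.isMulCommutative (α := S)).is_comm.comm a b
  · intro a b
    exact (IsPGroup.isMulCommutative_of_card_eq_prime_sq hk).is_comm.comm a b

/-- LEAF EXC-A -/
theorem exca_exists_char {X : Type*} [Group X] [Finite X] (h : Nat.card X ∣ 18) :
    ∃ χ : X ⧸ Subgroup.center X → ℂ, Cfsg.IsIrrCharacter (X ⧸ Subgroup.center X) χ ∧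
      ∀ P : Sylow 2 (X ⧸ Subgroup.center X), χ 1 = Nat.card P ∧
        ∀ x : X ⧸ Subgroup.center X, x ∈ P → x ≠ 1 → χ x = 0 := by
  classical
  haveI : Fact (Nat.Prime 3) := ⟨Nat.prime_three⟩
  haveI : Fact (Nat.Prime 2) := ⟨Nat.prime_two⟩
  obtain ⟨S3⟩ : Nonempty (Sylow 3 X) := inferInstance
  set S : Subgroup X := (S3 : Subgroup X) with hSdef
  have hSd : Nat.card S ∣ 18 := (Subgroup.card_subgroup_dvd_card S).trans h
  have hScomm : ∀ a b : S, a * b = b * a := exca_comm_three S3.isPGroup' hSd
  have hSodd : Odd (Nat.card S) := by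
    obtain ⟨k, hk⟩ := IsPGroup.iff_card.1 S3.isPGroup'
    rw [hk]
    exact Odd.pow (by decide)
  have hidx : S.index = 1 ∨ S.index = 2 := by
    have h1 : S.index ∣ 18 := (Subgroup.index_dvd_card S).trans h
    have h2 : ¬ 3 ∣ S.index := S3.not_dvd_index
    have h3 : S.index ∈ Nat.divisors 18 := Nat.mem_divisors.2 ⟨h1, by norm_num⟩
    have h4 : Nat.divisors 18 = {1, 2, 3, 6, 9, 18} := by decide
    rw [h4] at h3
    simp only [Finset.mem_insert, Finset.mem_singleton] at h3
    rcases h3 with h3 | h3 | h3 | h3 | h3 | h3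
    · exact Or.inl h3
    · exact Or.inr h3
    all_goals omega
  set A : Subgroup (X ⧸ Subgroup.center X) := S.map (QuotientGroup.mk' (Subgroup.center X))
    with hAdef
  have hAcomm : ∀ a ∈ A, ∀ b ∈ A, a * b = b * a := by
    rintro _ ⟨a, ha, rfl⟩ _ ⟨b, hb, rfl⟩
    rw [← map_mul, ← map_mul]
    congr 1
    exact congrArg Subtype.val (hScomm ⟨a, ha⟩ ⟨b, hb⟩)
  have hAidx : A.index ∣ S.index :=
    Subgroup.index_map_dvd S (QuotientGroup.mk'_surjective _)
  have hYd : Nat.card (X ⧸ Subgroup.center X) ∣ 18 :=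
    (Subgroup.card_quotient_dvd_card _).trans h
  have h4 : ¬ 4 ∣ Nat.card (X ⧸ Subgroup.center X) := fun h4 => by
    have := h4.trans hYd
    omega
  by_cases hYc : ∀ a b : X ⧸ Subgroup.center X, a * b = b * a
  · -- `Y` commutative: `|Y|` is odd
    have hYodd : ¬ 2 ∣ Nat.card (X ⧸ Subgroup.center X) := by
      intro h2
      have h2X : 2 ∣ Nat.card X := h2.trans (Subgroup.card_quotient_dvd_card _)
      have hi2 : S.index = 2 := by
        rcases hidx with h1 | h2'
        · exfalso
          have h5 := Subgroup.index_mul_card S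
          rw [h1, one_mul] at h5
          rw [← h5] at h2X
          exact (Nat.not_even_iff_odd.2 hSodd) (even_iff_two_dvd.2 h2X)
        · exact h2'
      have hXc := exca_comm_of_index_two S
        (fun a ha b hb => congrArg Subtype.val (hScomm ⟨a, ha⟩ ⟨b, hb⟩)) hi2 hSodd hYc
      have hZ : Subgroup.center X = ⊤ := by
        rw [eq_top_iff]
        intro g _
        rw [Subgroup.mem_center_iff]
        intro a
        exact hXc a g
      have h6 : Nat.card (X ⧸ Subgroup.center X) = 1 := by
        rw [← Subgroup.index_eq_card, hZ, Subgroup.index_top]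
      rw [h6] at h2
      omega
    refine ⟨fun _ => 1, Cfsg.Agent.Lib.Helper3.isIrrCharacter_one, ?_⟩
    intro P
    have hP1 : Nat.card (P : Subgroup (X ⧸ Subgroup.center X)) = 1 := by
      obtain ⟨j, hj⟩ := IsPGroup.iff_card.1 P.isPGroup'
      have hPd : Nat.card (P : Subgroup (X ⧸ Subgroup.center X)) ∣
          Nat.card (X ⧸ Subgroup.center X) := Subgroup.card_subgroup_dvd_card _
      rcases Nat.eq_zero_or_pos j with rfl | hjpos
      · rw [hj, pow_zero]
      · exfalso
        apply hYodd
        rw [hj] at hPd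
        exact (dvd_pow_self 2 hjpos.ne').trans hPd
    refine ⟨?_, ?_⟩
    · change (1 : ℂ) = ((Nat.card (P : Subgroup (X ⧸ Subgroup.center X)) : ℕ) : ℂ)
      rw [hP1, Nat.cast_one]
    · intro x hx hx1
      exfalso
      have h7 := Subgroup.card_eq_one.1 hP1
      have hx' : x ∈ (P : Subgroup (X ⧸ Subgroup.center X)) := hx
      rw [h7] at hx'
      exact hx1 (Subgroup.mem_bot.1 hx')
  · -- `Y` not commutative: a nonlinear irreducible character has degree two
    have hne : commutator (X ⧸ Subgroup.center X) ≠ ⊥ := by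
      intro hbot
      apply hYc
      intro a b
      rw [← commutatorElement_eq_one_iff_mul_comm]
      have h5 : ⁅a, b⁆ ∈ commutator (X ⧸ Subgroup.center X) :=
        Subgroup.commutator_mem_commutator (Subgroup.mem_top a) (Subgroup.mem_top b)
      rw [hbot] at h5
      exact Subgroup.mem_bot.1 h5
    obtain ⟨n, ρ, hirr, hn1⟩ := Cfsg.Agent.Lib.Helper79.exists_nonlinear_irr hne
    have hχ : Cfsg.IsIrrCharacter (X ⧸ Subgroup.center X) ρ.character := ⟨n, ρ, hirr, rfl⟩
    have hχ1 : ρ.character 1 = (n : ℂ) := by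
      rw [Representation.char_one, Module.finrank_fin_fun]
    haveI : Fintype (X ⧸ Subgroup.center X) := Fintype.ofFinite _
    obtain ⟨n', hn', hdvd, hn0⟩ := Cfsg.Agent.Lib.Helper3.IsIrrCharacter.apply_one_dvd_card hχ
    have hnn : n' = n := by
      rw [hχ1] at hn'
      exact (Nat.cast_injective hn').symm
    subst hnn
    haveI : IsMulCommutative A := ⟨⟨fun a b => Subtype.ext (hAcomm a a.2 b b.2)⟩⟩
    have hle := Cfsg.Agent.Lib.Helper79.card_comm_subgroup_mul_degree_le ρ hirr A
    have hAi : A.index ≤ 2 := by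
      rcases hidx with h1 | h2
      · rw [h1] at hAidx
        exact (Nat.le_of_dvd one_pos hAidx).trans one_le_two
      · rw [h2] at hAidx
        exact Nat.le_of_dvd two_pos hAidx
    have hn2 : n' ≤ 2 := by
      have h5 := Subgroup.index_mul_card A
      have hApos : 0 < Nat.card A := Nat.card_pos
      have h6 : Nat.card A * n' ≤ Nat.card A * 2 := by
        calc Nat.card A * n' ≤ Nat.card (X ⧸ Subgroup.center X) := hle
          _ = A.index * Nat.card A := h5.symm
          _ ≤ 2 * Nat.card A := Nat.mul_le_mul_right _ hAi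
          _ = Nat.card A * 2 := mul_comm _ _
      exact Nat.le_of_mul_le_mul_left h6 hApos
    have hn : n' = 2 := by omega
    subst hn
    obtain ⟨k, hk⟩ := hdvd
    have hkodd : ¬ 2 ∣ k := by
      rintro ⟨k', rfl⟩
      apply h4
      rw [hk]
      exact ⟨k', by ring⟩
    refine ⟨ρ.character, hχ, ?_⟩
    intro P
    have hP2 : Nat.card (P : Subgroup (X ⧸ Subgroup.center X)) = 2 := by
      obtain ⟨j, hj⟩ := IsPGroup.iff_card.1 P.isPGroup'
      have hPd : Nat.card (P : Subgroup (X ⧸ Subgroup.center X)) ∣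
          Nat.card (X ⧸ Subgroup.center X) := Subgroup.card_subgroup_dvd_card _
      have h2P : 2 ∣ Nat.card (P : Subgroup (X ⧸ Subgroup.center X)) :=
        P.dvd_card_of_dvd_card (by rw [hk]; exact dvd_mul_right 2 k)
      have hj1 : j = 1 := by
        rcases j with _ | _ | j
        · rw [hj, pow_zero] at h2P
          omega
        · rfl
        · exfalso
          apply h4
          have h8 : 4 ∣ 2 ^ (j + 1 + 1) := ⟨2 ^ j, by ring⟩
          rw [hj] at hPd
          exact h8.trans hPd
      rw [hj, hj1, pow_one]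
    refine ⟨?_, ?_⟩
    · rw [hχ1, hP2]
    · intro x hx hx1
      have hx' : x ∈ (P : Subgroup (X ⧸ Subgroup.center X)) := hx
      have hox : orderOf x ∣ 2 := by
        rw [← hP2]
        exact Subgroup.orderOf_dvd_natCard _ hx'
      have hox2 : 2 ∣ orderOf x := by
        rcases (Nat.dvd_prime Nat.prime_two).1 hox with h1 | h2
        · exact absurd (orderOf_eq_one_iff.1 h1) hx1
        · rw [h2]
      exact Cfsg.Agent.Lib.Helper74.irr_vanish_of_defect_zero Nat.prime_two
        ⟨ρ.character, hχ⟩ 2 k hχ1 hk hkodd x hox2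

/-- LEAF EXC-A under the name requested by the EXC assembly -/
theorem exc_a {X : Type*} [Group X] [Finite X] (h : Nat.card X ∣ 18) :
    ∃ χ : X ⧸ Subgroup.center X → ℂ, Cfsg.IsIrrCharacter (X ⧸ Subgroup.center X) χ ∧
      ∀ P : Sylow 2 (X ⧸ Subgroup.center X), χ 1 = Nat.card P ∧
        ∀ x : X ⧸ Subgroup.center X, x ∈ P → x ≠ 1 → χ x = 0 :=
  exca_exists_char h

end Cfsg.Agent.Lib.Helper40.OpBN
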