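import Mathlib
import Cfsg.Agent.Lib.Helper40.OpBNDefs

/-! # OPBN-SMALL (helper40 S2548 hive): `PΩ⁺_2(F)` is trivial

`O⁺_2(F)` (form `x y`) consists of the diagonal matrices `diag(a, a⁻¹)` and the antidiagonal ones; the
"parity" is a hom to a commutative group whose kernel (the diagonal matrices) is commutative, so
`Ω = O'` is commutative and `PΩ = Ω / Z(Ω)` is trivial. -/

set_option autoImplicit false

namespace Cfsg.Agent.Lib.Helper40.OpBN

open Matrix Cfsg Cfsg.Agent.Lib.Helper13 Cfsg.Agent.Lib.Helper41.SpBN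

variable {F : Type*} [Field F] {m : ℕ}

/-- entries of a product of `2 × 2` matrices indexed by `Idx 1` -/
theorem small_mul_apply (A B : Matrix (Idx 1) (Idx 1) F) (i j : Idx 1) :
    (A * B) i j = A i (Sum.inl 0) * B (Sum.inl 0) j + A i (Sum.inr 0) * B (Sum.inr 0) j := by
  rw [Matrix.mul_apply, Fintype.sum_sum_type, Fin.sum_univ_one, Fin.sum_univ_one]

theorem small_mulVec_apply (A : Matrix (Idx 1) (Idx 1) F) (v : Idx 1 → F) (i : Idx 1) :
    (A *ᵥ v) i = A i (Sum.inl 0) * v (Sum.inl 0) + A i (Sum.inr 0) * v (Sum.inr 0) := by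
  rw [Matrix.mulVec, dotProduct, Fintype.sum_sum_type, Fin.sum_univ_one, Fin.sum_univ_one]

theorem small_quad (v : Idx 1 → F) : Cfsg.quadFormPlus 1 F v = v (Sum.inl 0) * v (Sum.inr 0) := by
  unfold Cfsg.quadFormPlus
  rw [Fin.sum_univ_one]

/-- the three relations satisfied by the entries of an isometry of `x y` -/
theorem small_rel (g : OG F 1) :
    mt g (Sum.inl 0) (Sum.inl 0) * mt g (Sum.inr 0) (Sum.inl 0) = 0 ∧
    mt g (Sum.inl 0) (Sum.inr 0) * mt g (Sum.inr 0) (Sum.inr 0) = 0 ∧
    mt g (Sum.inl 0) (Sum.inl 0) * mt g (Sum.inr 0) (Sum.inr 0) +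
      mt g (Sum.inl 0) (Sum.inr 0) * mt g (Sum.inr 0) (Sum.inl 0) = 1 := by
  have h1 := mt_preserves g (fun i => Sum.elim (fun _ => (1 : F)) (fun _ => 0) i)
  have h2 := mt_preserves g (fun i => Sum.elim (fun _ => (0 : F)) (fun _ => 1) i)
  have h3 := mt_preserves g (fun _ => (1 : F))
  rw [small_quad, small_quad, small_mulVec_apply, small_mulVec_apply] at h1 h2 h3
  simp only [Sum.elim_inl, Sum.elim_inr, mul_one, mul_zero, add_zero, zero_add] at h1 h2 h3
  refine ⟨h1, h2, ?_⟩
  have h4 : (mt g (Sum.inl 0) (Sum.inl 0) + mt g (Sum.inl 0) (Sum.inr 0)) *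
      (mt g (Sum.inr 0) (Sum.inl 0) + mt g (Sum.inr 0) (Sum.inr 0)) =
      mt g (Sum.inl 0) (Sum.inl 0) * mt g (Sum.inr 0) (Sum.inl 0) +
      mt g (Sum.inl 0) (Sum.inr 0) * mt g (Sum.inr 0) (Sum.inr 0) +
      (mt g (Sum.inl 0) (Sum.inl 0) * mt g (Sum.inr 0) (Sum.inr 0) +
      mt g (Sum.inl 0) (Sum.inr 0) * mt g (Sum.inr 0) (Sum.inl 0)) := by ring
  rw [h4, h1, h2, zero_add, zero_add] at h3
  exact h3

/-- diagonal isometries -/
def small_diag (g : OG F 1) : Prop :=
  mt g (Sum.inl 0) (Sum.inr 0) = 0 ∧ mt g (Sum.inr 0) (Sum.inl 0) = 0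

/-- antidiagonal isometries -/
def small_anti (g : OG F 1) : Prop :=
  mt g (Sum.inl 0) (Sum.inl 0) = 0 ∧ mt g (Sum.inr 0) (Sum.inr 0) = 0

theorem small_diag_or_anti (g : OG F 1) : small_diag g ∨ small_anti g := by
  obtain ⟨h1, h2, h3⟩ := small_rel g
  rcases mul_eq_zero.1 h1 with ha | hc
  · right
    rw [ha, zero_mul, zero_add] at h3
    have hb : mt g (Sum.inl 0) (Sum.inr 0) ≠ 0 := by
      intro h0
      rw [h0, zero_mul] at h3
      exact zero_ne_one h3
    exact ⟨ha, (mul_eq_zero.1 h2).resolve_left hb⟩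
  · left
    rw [hc, mul_zero, add_zero] at h3
    have hd : mt g (Sum.inr 0) (Sum.inr 0) ≠ 0 := by
      intro h0
      rw [h0, mul_zero] at h3
      exact zero_ne_one h3
    exact ⟨(mul_eq_zero.1 h2).resolve_right hd, hc⟩

theorem small_not_both (g : OG F 1) (h1 : small_diag g) (h2 : small_anti g) : False := by
  obtain ⟨-, -, h3⟩ := small_rel g
  rw [h1.1, h2.1, zero_mul, zero_mul, zero_add] at h3
  exact zero_ne_one h3

theorem small_dd {g h : OG F 1} (hg : small_diag g) (hh : small_diag h) : small_diag (g * h) := by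
  unfold small_diag at *
  rw [mt_mul, small_mul_apply, small_mul_apply, hg.1, hg.2, hh.1, hh.2]
  simp

theorem small_aa {g h : OG F 1} (hg : small_anti g) (hh : small_anti h) : small_diag (g * h) := by
  unfold small_diag
  unfold small_anti at hg hh
  rw [mt_mul, small_mul_apply, small_mul_apply, hg.1, hg.2, hh.1, hh.2]
  simp

theorem small_da {g h : OG F 1} (hg : small_diag g) (hh : small_anti h) : small_anti (g * h) := by
  unfold small_anti at *
  unfold small_diag at hg
  rw [mt_mul, small_mul_apply, small_mul_apply, hg.1, hg.2, hh.1, hh.2]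
  simp

theorem small_ad {g h : OG F 1} (hg : small_anti g) (hh : small_diag h) : small_anti (g * h) := by
  unfold small_anti at *
  unfold small_diag at hh
  rw [mt_mul, small_mul_apply, small_mul_apply, hg.1, hg.2, hh.1, hh.2]
  simp

theorem small_diag_one : small_diag (1 : OG F 1) := by
  unfold small_diag
  rw [mt_one]
  simp

open Classical in
/-- the parity of an isometry of the hyperbolic plane, as a hom to `Multiplicative (ZMod 2)` -/
noncomputable def small_par : OG F 1 →* Multiplicative (ZMod 2) where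
  toFun g := if small_diag g then 1 else Multiplicative.ofAdd 1
  map_one' := by rw [if_pos small_diag_one]
  map_mul' g h := by
    by_cases hg : small_diag g
    · by_cases hh : small_diag h
      · rw [if_pos hg, if_pos hh, if_pos (small_dd hg hh), one_mul]
      · have hh' : small_anti h := (small_diag_or_anti h).resolve_left hh
        have h1 : ¬ small_diag (g * h) := fun h2 => small_not_both _ h2 (small_da hg hh')
        rw [if_pos hg, if_neg hh, if_neg h1, one_mul]
    · have hg' : small_anti g := (small_diag_or_anti g).resolve_left hg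
      by_cases hh : small_diag h
      · have h1 : ¬ small_diag (g * h) := fun h2 => small_not_both _ h2 (small_ad hg' hh)
        rw [if_neg hg, if_pos hh, if_neg h1, mul_one]
      · have hh' : small_anti h := (small_diag_or_anti h).resolve_left hh
        rw [if_neg hg, if_neg hh, if_pos (small_aa hg' hh')]
        decide

theorem small_mem_ker {g : OG F 1} (hg : g ∈ (small_par (F := F)).ker) : small_diag g := by
  classical
  by_contra h
  rw [MonoidHom.mem_ker] at hg
  change (if small_diag g then (1 : Multiplicative (ZMod 2)) else Multiplicative.ofAdd 1) = 1 at hg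
  rw [if_neg h] at hg
  revert hg
  decide

theorem small_comm {g h : OG F 1} (hg : small_diag g) (hh : small_diag h) : g * h = h * g := by
  apply mt_ext
  rw [mt_mul, mt_mul]
  unfold small_diag at hg hh
  ext i j
  rw [small_mul_apply, small_mul_apply]
  rcases i with i | i <;> rcases j with j | j <;>
    rw [Subsingleton.elim i 0, Subsingleton.elim j 0] <;>
    simp [hg.1, hg.2, hh.1, hh.2, mul_comm]

/-- LEAF SMALL -/
theorem subsingleton_pomega_one :
    Subsingleton (Cfsg.POmega F (Cfsg.quadFormPlus 1 F)) := by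
  have hle : Cfsg.Omega F (Cfsg.quadFormPlus 1 F) ≤ (small_par (F := F)).ker :=
    Abelianization.commutator_subset_ker _
  have hc : Subgroup.center (Cfsg.Omega F (Cfsg.quadFormPlus 1 F)) = ⊤ := by
    rw [eq_top_iff]
    intro x _
    rw [Subgroup.mem_center_iff]
    intro y
    apply Subtype.ext
    rw [Subgroup.coe_mul, Subgroup.coe_mul]
    exact small_comm (small_mem_ker (hle y.2)) (small_mem_ker (hle x.2))
  constructor
  intro x y
  induction x using QuotientGroup.induction_on with
  | H a =>
    induction y using QuotientGroup.induction_on with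
    | H b =>
      rw [QuotientGroup.eq, hc]
      exact Subgroup.mem_top _

end Cfsg.Agent.Lib.Helper40.OpBN
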