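import Mathlib
import Cfsg.Agent.Lib.Helper14.P4Defs

/-! # P4-B1 (helper13, for helper14's S6000 hive): non-scalar elements of a `PauliLike` group are traceless -/

set_option autoImplicit false
set_option linter.unusedSectionVars false

namespace Cfsg.Agent.Lib.Helper14.P4

open Matrix

variable {F : Type*} [Field F] [Fintype F]

/-- a non-scalar element of `R` anticommutes with some element of `R` -/
theorem b1_exists_anti (R : Subgroup (GL (Fin 4) F))
    (hR : PauliLike R) (g : GL (Fin 4) F) (hg : g ∈ R)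
    (hns : ∀ c : F, (g : Matrix (Fin 4) (Fin 4) F) ≠ c • 1) :
    ∃ h ∈ R, (g : Matrix (Fin 4) (Fin 4) F) * (h : Matrix (Fin 4) (Fin 4) F) =
      -((h : Matrix (Fin 4) (Fin 4) F) * (g : Matrix (Fin 4) (Fin 4) F)) := by
  by_contra hcon
  push Not at hcon
  obtain ⟨c, hc⟩ := hR.comm (g : Matrix (Fin 4) (Fin 4) F) (fun h hh => by
    rcases hR.anti g hg h hh with h1 | h1
    · exact h1
    · exact absurd h1 (hcon h hh))
  exact hns c hc

/-- P4-B1.  Non-scalar elements of `R` are traceless. -/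
theorem trace_eq_zero_of_not_scalar (h2 : (2 : F) ≠ 0) (R : Subgroup (GL (Fin 4) F))
    (hR : PauliLike R) (g : GL (Fin 4) F) (hg : g ∈ R)
    (hns : ∀ c : F, (g : Matrix (Fin 4) (Fin 4) F) ≠ c • 1) :
    Matrix.trace (g : Matrix (Fin 4) (Fin 4) F) = 0 := by
  obtain ⟨h, hh, hanti⟩ := b1_exists_anti R hR g hg hns
  have hHH : (h : Matrix (Fin 4) (Fin 4) F) * ((h⁻¹ : GL (Fin 4) F) : Matrix (Fin 4) (Fin 4) F) = 1 := by
    rw [← Units.val_mul, mul_inv_cancel, Units.val_one]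
  have h1 : (g : Matrix (Fin 4) (Fin 4) F) =
      -((h : Matrix (Fin 4) (Fin 4) F) * (g : Matrix (Fin 4) (Fin 4) F) *
        ((h⁻¹ : GL (Fin 4) F) : Matrix (Fin 4) (Fin 4) F)) := by
    calc (g : Matrix (Fin 4) (Fin 4) F)
        = (g : Matrix (Fin 4) (Fin 4) F) * ((h : Matrix (Fin 4) (Fin 4) F) *
            ((h⁻¹ : GL (Fin 4) F) : Matrix (Fin 4) (Fin 4) F)) := by rw [hHH, mul_one]
      _ = ((g : Matrix (Fin 4) (Fin 4) F) * (h : Matrix (Fin 4) (Fin 4) F)) *
            ((h⁻¹ : GL (Fin 4) F) : Matrix (Fin 4) (Fin 4) F) := by rw [mul_assoc]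
      _ = _ := by rw [hanti, neg_mul]
  have h3 : Matrix.trace (g : Matrix (Fin 4) (Fin 4) F) = -Matrix.trace (g : Matrix (Fin 4) (Fin 4) F) := by
    conv_lhs => rw [h1]
    have hH'H : ((h⁻¹ : GL (Fin 4) F) : Matrix (Fin 4) (Fin 4) F) * (h : Matrix (Fin 4) (Fin 4) F) = 1 := by
      rw [← Units.val_mul, inv_mul_cancel, Units.val_one]
    rw [Matrix.trace_neg, Matrix.trace_mul_cycle, hH'H, one_mul]
  have h4 : (2 : F) * Matrix.trace (g : Matrix (Fin 4) (Fin 4) F) = 0 := by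
    rw [two_mul]
    nth_rewrite 1 [h3]
    exact neg_add_cancel _
  rcases mul_eq_zero.mp h4 with h5 | h5
  · exact absurd h5 h2
  · exact h5

end Cfsg.Agent.Lib.Helper14.P4
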