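import Mathlib
import Cfsg.Agent.Lib.Helper14.P4Defs
import Cfsg.Agent.Lib.Helper13.P4B1

/-! # P4-A3 (helper13, for helper14's S6000 hive): the character count `tr y * tr y⁻¹ ∈ {0,1,2,4,8}` for `y ∈ N(R)` -/

set_option autoImplicit false
set_option linter.unusedSectionVars false
set_option linter.unusedSimpArgs false

namespace Cfsg.Agent.Lib.Helper14.P4

open Matrix

variable {F : Type*} [Field F] [Fintype F]

local notation "M4" => Matrix (Fin 4) (Fin 4) F

theorem a3_val_inv (g : GL (Fin 4) F) : (g.1 : M4) * (g⁻¹).1 = 1 := by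
  rw [← Units.val_mul, mul_inv_cancel, Units.val_one]

theorem a3_inv_val (g : GL (Fin 4) F) : ((g⁻¹).1 : M4) * g.1 = 1 := by
  rw [← Units.val_mul, inv_mul_cancel, Units.val_one]

/-- the twirl -/
theorem a3_twirl (h2 : (2 : F) ≠ 0) (R : Subgroup (GL (Fin 4) F)) (hR : PauliLike R) [Fintype R]
    (A : M4) :
    ∑ h : R, (h.1.1 : M4) * A * (h.1⁻¹).1 = (16 * Matrix.trace A) • (1 : M4) := by
  set S : M4 := ∑ h : R, (h.1.1 : M4) * A * (h.1⁻¹).1 with hS
  have hconj : ∀ g ∈ R, (g.1 : M4) * S * (g⁻¹).1 = S := by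
    intro g hg
    rw [hS, Finset.mul_sum, Finset.sum_mul]
    apply Fintype.sum_equiv (Equiv.mulLeft (⟨g, hg⟩ : R))
    intro h
    simp only [Equiv.coe_mulLeft, Subgroup.coe_mul, Units.val_mul, _root_.mul_inv_rev]
    simp only [mul_assoc]
  obtain ⟨c, hc⟩ := hR.comm S (fun g hg => by
    have h1 := hconj g hg
    calc S * g.1 = (g.1 * S * (g⁻¹).1) * g.1 := by rw [h1]
      _ = g.1 * S * ((g⁻¹).1 * g.1) := by simp only [mul_assoc]
      _ = g.1 * S := by rw [a3_inv_val, mul_one])
  have htr : Matrix.trace S = 64 * Matrix.trace A := by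
    rw [hS, Matrix.trace_sum]
    have : ∀ h : R, Matrix.trace ((h.1.1 : M4) * A * (h.1⁻¹).1) = Matrix.trace A := by
      intro h
      rw [Matrix.trace_mul_cycle, a3_inv_val, one_mul]
    rw [Finset.sum_congr rfl (fun h _ => this h), Finset.sum_const, Finset.card_univ,
      ← Nat.card_eq_fintype_card, hR.card]
    simp
  have h4 : (4 : F) ≠ 0 := by
    have : (4 : F) = 2 * 2 := by norm_num
    rw [this]; exact mul_ne_zero h2 h2
  have hc' : c = 16 * Matrix.trace A := by
    have h1 : Matrix.trace S = c * 4 := by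
      rw [hc, Matrix.trace_smul, Matrix.trace_one]; simp
    rw [htr] at h1
    have : (4 : F) * (16 * Matrix.trace A) = 4 * c := by linear_combination h1
    exact (mul_left_cancel₀ h4 this).symm
  rw [hc, hc']


/-- Step 2: the sum of the traces of the commutators -/
theorem a3_sum_tau (h2 : (2 : F) ≠ 0) (R : Subgroup (GL (Fin 4) F)) (hR : PauliLike R) [Fintype R]
    (y : GL (Fin 4) F) :
    ∑ h : R, Matrix.trace ((y⁻¹ * h.1 * y * h.1⁻¹ : GL (Fin 4) F).1 : M4) =
      16 * (Matrix.trace (y.1 : M4) * Matrix.trace ((y⁻¹).1 : M4)) := by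
  have h0 := a3_twirl h2 R hR (y.1 : M4)
  have h1 := congrArg (fun X : M4 => Matrix.trace ((y⁻¹).1 * X)) h0
  simp only [Finset.mul_sum, Matrix.trace_sum] at h1
  rw [Matrix.mul_smul, Matrix.mul_one, Matrix.trace_smul, smul_eq_mul] at h1
  rw [← mul_assoc, ← h1]
  apply Finset.sum_congr rfl
  intro h _
  simp only [Units.val_mul, mul_assoc]

/-- Schur orthogonality for the trace -/
theorem a3_orth (h2 : (2 : F) ≠ 0) (R : Subgroup (GL (Fin 4) F)) (hR : PauliLike R) [Fintype R] :
    ∑ h : R, Matrix.trace (h.1.1 : M4) * Matrix.trace ((h.1⁻¹).1 : M4) = 64 := by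
  have key : ∀ i k : Fin 4, ∑ h : R, (h.1.1 : M4) i i * ((h.1⁻¹).1 : M4) k k =
      if i = k then 16 else 0 := by
    intro i k
    have h0 := a3_twirl h2 R hR (Matrix.vecMulVec (Pi.single i 1) (Pi.single k 1))
    have h1 := congrFun (congrFun h0 i) k
    rw [Matrix.sum_apply] at h1
    have h3 : ∀ h : R, (((h.1.1 : M4) * Matrix.vecMulVec (Pi.single i 1) (Pi.single k 1) *
        (h.1⁻¹).1 : M4)) i k = (h.1.1 : M4) i i * ((h.1⁻¹).1 : M4) k k := by
      intro h
      rw [Matrix.mul_vecMulVec, Matrix.vecMulVec_mul, Matrix.vecMulVec_apply]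
      simp
    rw [Finset.sum_congr rfl (fun h _ => h3 h)] at h1
    rw [h1, Matrix.trace_vecMulVec, Matrix.smul_apply, Matrix.one_apply]
    by_cases hik : i = k
    · subst hik; simp
    · simp [hik]
  have h1 : ∀ h : R, Matrix.trace (h.1.1 : M4) * Matrix.trace ((h.1⁻¹).1 : M4) =
      ∑ i : Fin 4, ∑ k : Fin 4, (h.1.1 : M4) i i * ((h.1⁻¹).1 : M4) k k := by
    intro h
    simp only [Matrix.trace, Matrix.diag_apply]
    rw [Finset.sum_mul_sum]
  rw [Finset.sum_congr rfl (fun h _ => h1 h), Finset.sum_comm]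
  have h3 : ∀ i : Fin 4, ∑ h : R, ∑ k : Fin 4, (h.1.1 : M4) i i * ((h.1⁻¹).1 : M4) k k = 16 := by
    intro i
    rw [Finset.sum_comm, Finset.sum_congr rfl (fun k _ => key i k)]
    simp
  rw [Finset.sum_congr rfl (fun i _ => h3 i)]
  simp
  norm_num

open Classical in
theorem a3_sum_ind {G : Type*} [Group G] [Fintype G] (S : Subgroup G) (a : F) :
    ∑ h : G, (if h ∈ S then a else 0) = a * (Nat.card S : F) := by
  rw [← Finset.sum_filter, Finset.sum_const, Nat.card_eq_fintype_card, Fintype.card_subtype,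
    nsmul_eq_mul, mul_comm]

/-- the scalar elements of `R`, as a subgroup of `R` -/
def a3_Z (R : Subgroup (GL (Fin 4) F)) : Subgroup R where
  carrier := {h | ∃ c : F, (h.1.1 : M4) = c • 1}
  one_mem' := ⟨1, by simp⟩
  mul_mem' := by
    rintro a b ⟨c, hc⟩ ⟨d, hd⟩
    refine ⟨c * d, ?_⟩
    rw [Subgroup.coe_mul, Units.val_mul, hc, hd, Matrix.smul_mul, Matrix.one_mul, smul_smul]
  inv_mem' := by
    rintro a ⟨c, hc⟩
    refine ⟨c⁻¹, ?_⟩
    have h1 := a3_val_inv a.1
    rw [hc, Matrix.smul_mul, Matrix.one_mul] at h1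
    have hc0 : c ≠ 0 := by
      rintro rfl
      rw [zero_smul] at h1
      exact zero_ne_one h1
    rw [Subgroup.coe_inv, ← h1, smul_smul, inv_mul_cancel₀ hc0, one_smul]

theorem a3_mem_Z (R : Subgroup (GL (Fin 4) F)) (h : R) :
    h ∈ a3_Z R ↔ ∃ c : F, (h.1.1 : M4) = c • 1 := Iff.rfl

theorem a3_card_Z (h2 : (2 : F) ≠ 0) (R : Subgroup (GL (Fin 4) F)) (hR : PauliLike R) [Fintype R] :
    ((Nat.card (a3_Z R) : ℕ) : F) = 4 := by
  classical
  have h0 := a3_orth h2 R hR
  have h1 : ∀ h : R, Matrix.trace (h.1.1 : M4) * Matrix.trace ((h.1⁻¹).1 : M4) =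
      if h ∈ a3_Z R then (16 : F) else 0 := by
    intro h
    by_cases hh : h ∈ a3_Z R
    · rw [if_pos hh]
      obtain ⟨c, hc⟩ := hh
      have h3 := a3_val_inv h.1
      rw [hc, Matrix.smul_mul, Matrix.one_mul] at h3
      have hc0 : c ≠ 0 := by
        rintro rfl
        rw [zero_smul] at h3
        exact zero_ne_one h3
      have h4 : ((h.1⁻¹).1 : M4) = c⁻¹ • 1 := by
        rw [← h3, smul_smul, inv_mul_cancel₀ hc0, one_smul]
      rw [hc, h4, Matrix.trace_smul, Matrix.trace_smul, Matrix.trace_one]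
      simp
      field_simp
      norm_num
    · rw [if_neg hh]
      have : Matrix.trace (h.1.1 : M4) = 0 := by
        apply trace_eq_zero_of_not_scalar h2 R hR h.1 h.2
        intro c hc
        exact hh ⟨c, hc⟩
      rw [this, zero_mul]
  rw [Finset.sum_congr rfl (fun h _ => h1 h), a3_sum_ind] at h0
  have h16 : (16 : F) ≠ 0 := by
    have : (16 : F) = 2 * 2 * 2 * 2 := by norm_num
    rw [this]
    exact mul_ne_zero (mul_ne_zero (mul_ne_zero h2 h2) h2) h2
  have : (16 : F) * (Nat.card (a3_Z R) : F) = 16 * 4 := by rw [h0]; norm_num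
  exact mul_left_cancel₀ h16 this


/-- P4-A3 (character count). -/
theorem trace_mul_trace_inv (h2 : (2 : F) ≠ 0) (R : Subgroup (GL (Fin 4) F)) (hR : PauliLike R)
    (y : GL (Fin 4) F) (hy : y ∈ Subgroup.normalizer (R : Set (GL (Fin 4) F))) :
    Matrix.trace (y : Matrix (Fin 4) (Fin 4) F) *
        Matrix.trace ((y⁻¹ : GL (Fin 4) F) : Matrix (Fin 4) (Fin 4) F) = 0 ∨
      Matrix.trace (y : Matrix (Fin 4) (Fin 4) F) *
        Matrix.trace ((y⁻¹ : GL (Fin 4) F) : Matrix (Fin 4) (Fin 4) F) = 1 ∨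
      Matrix.trace (y : Matrix (Fin 4) (Fin 4) F) *
        Matrix.trace ((y⁻¹ : GL (Fin 4) F) : Matrix (Fin 4) (Fin 4) F) = 2 ∨
      Matrix.trace (y : Matrix (Fin 4) (Fin 4) F) *
        Matrix.trace ((y⁻¹ : GL (Fin 4) F) : Matrix (Fin 4) (Fin 4) F) = 4 ∨
      Matrix.trace (y : Matrix (Fin 4) (Fin 4) F) *
        Matrix.trace ((y⁻¹ : GL (Fin 4) F) : Matrix (Fin 4) (Fin 4) F) = 8 ∨
      ∃ c : F, (y : Matrix (Fin 4) (Fin 4) F) = c • 1 := by
  classical
  have : Finite R := Nat.finite_of_card_ne_zero (by rw [hR.card]; norm_num)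
  have : Fintype R := Fintype.ofFinite R
  set T : F := Matrix.trace (y : M4) * Matrix.trace ((y⁻¹ : GL (Fin 4) F) : M4) with hT
  have h4 : (4 : F) ≠ 0 := by
    have : (4 : F) = 2 * 2 := by norm_num
    rw [this]; exact mul_ne_zero h2 h2
  have h16 : (16 : F) ≠ 0 := by
    have : (16 : F) = 4 * 4 := by norm_num
    rw [this]; exact mul_ne_zero h4 h4
  -- the commutators lie in `R`
  have hk : ∀ h : R, y⁻¹ * h.1 * y * h.1⁻¹ ∈ R := by
    intro h
    have h1 : y⁻¹ * h.1 * y ∈ R := (Subgroup.mem_normalizer_iff''.mp hy h.1).mp h.2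
    exact R.mul_mem h1 (R.inv_mem h.2)
  have hsum := a3_sum_tau h2 R hR y
  rw [← hT] at hsum
  by_cases hex : ∃ d : R, ∃ c : F, c ≠ 1 ∧ ((y⁻¹ * d.1 * y * d.1⁻¹ : GL (Fin 4) F).1 : M4) = c • 1
  · -- a nontrivial character: `T = 0`
    left
    obtain ⟨d, c, hc1, hdc⟩ := hex
    have hshift : ∀ h : R,
        Matrix.trace ((y⁻¹ * (d * h).1 * y * (d * h).1⁻¹ : GL (Fin 4) F).1 : M4) =
          c * Matrix.trace ((y⁻¹ * h.1 * y * h.1⁻¹ : GL (Fin 4) F).1 : M4) := by
      intro h
      have hgrp : y⁻¹ * (d * h).1 * y * (d * h).1⁻¹ =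
          (y⁻¹ * d.1 * y * d.1⁻¹) * d.1 * (y⁻¹ * h.1 * y * h.1⁻¹) * d.1⁻¹ := by
        rw [Subgroup.coe_mul]; group
      rw [hgrp, Units.val_mul, Units.val_mul, Units.val_mul, hdc, Matrix.smul_mul, Matrix.smul_mul,
        Matrix.smul_mul, Matrix.one_mul, Matrix.trace_smul, smul_eq_mul, Matrix.trace_mul_cycle,
        a3_inv_val, one_mul]
    have h1 : ∑ h : R, Matrix.trace ((y⁻¹ * h.1 * y * h.1⁻¹ : GL (Fin 4) F).1 : M4) =
        c * ∑ h : R, Matrix.trace ((y⁻¹ * h.1 * y * h.1⁻¹ : GL (Fin 4) F).1 : M4) := by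
      rw [Finset.mul_sum]
      rw [← Fintype.sum_equiv (Equiv.mulLeft d)
        (fun h : R => Matrix.trace ((y⁻¹ * (d * h).1 * y * (d * h).1⁻¹ : GL (Fin 4) F).1 : M4))
        (fun h : R => Matrix.trace ((y⁻¹ * h.1 * y * h.1⁻¹ : GL (Fin 4) F).1 : M4))
        (fun h => rfl)]
      exact Finset.sum_congr rfl (fun h _ => hshift h)
    rw [hsum] at h1
    have h3 : (1 - c) * (16 * T) = 0 := by linear_combination h1
    rcases mul_eq_zero.mp h3 with h5 | h5
    · exact absurd (sub_eq_zero.mp h5).symm hc1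
    · rcases mul_eq_zero.mp h5 with h6 | h6
      · exact absurd h6 h16
      · exact h6
  · push Not at hex
    right
    -- the centralizer of `y` in `R`
    set Dsub : Subgroup R := (Subgroup.centralizer ({y} : Set (GL (Fin 4) F))).subgroupOf R with hD
    have hmemD : ∀ h : R, h ∈ Dsub ↔ y * h.1 = h.1 * y := by
      intro h
      rw [hD, Subgroup.mem_subgroupOf, Subgroup.mem_centralizer_iff]
      constructor
      · intro hh; exact hh y rfl
      · intro hh z hz
        rw [Set.mem_singleton_iff.mp hz]; exact hh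
    have hτ : ∀ h : R, Matrix.trace ((y⁻¹ * h.1 * y * h.1⁻¹ : GL (Fin 4) F).1 : M4) =
        if h ∈ Dsub then (4 : F) else 0 := by
      intro h
      by_cases hsc : ∃ c : F, ((y⁻¹ * h.1 * y * h.1⁻¹ : GL (Fin 4) F).1 : M4) = c • 1
      · obtain ⟨c, hc⟩ := hsc
        have hc1 : c = 1 := by
          by_contra hne
          exact hex h c hne hc
        have hone : y⁻¹ * h.1 * y * h.1⁻¹ = 1 := by
          apply Units.ext
          rw [hc, hc1, one_smul, Units.val_one]
        have hcom : y * h.1 = h.1 * y := by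
          have : y * (y⁻¹ * h.1 * y * h.1⁻¹) * h.1 = y * h.1 := by rw [hone, mul_one]
          rw [← this]; group
        rw [if_pos ((hmemD h).mpr hcom), hone, Units.val_one, Matrix.trace_one]
        simp
      · push Not at hsc
        have hnotD : h ∉ Dsub := by
          intro hh
          have hcom := (hmemD h).mp hh
          have hone : y⁻¹ * h.1 * y * h.1⁻¹ = 1 := by
            have : y⁻¹ * h.1 * y * h.1⁻¹ = y⁻¹ * (h.1 * y) * h.1⁻¹ := by group
            rw [this, ← hcom]; group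
          apply hsc 1
          rw [hone, Units.val_one, one_smul]
        rw [if_neg hnotD]
        exact trace_eq_zero_of_not_scalar h2 R hR _ (hk h) hsc
    rw [Finset.sum_congr rfl (fun h _ => hτ h), a3_sum_ind] at hsum
    have hDT : ((Nat.card Dsub : ℕ) : F) = 4 * T := by
      have : (4 : F) * (Nat.card Dsub : F) = 4 * (4 * T) := by rw [hsum]; ring
      exact mul_left_cancel₀ h4 this
    -- the scalars
    have hZ := a3_card_Z h2 R hR
    have hZD : a3_Z R ≤ Dsub := by
      intro h hh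
      obtain ⟨c, hc⟩ := hh
      rw [hmemD]
      apply Units.ext
      rw [Units.val_mul, Units.val_mul, hc, Matrix.mul_smul, Matrix.smul_mul, Matrix.mul_one,
        Matrix.one_mul]
    have hdvd1 : Nat.card (a3_Z R) ∣ Nat.card Dsub := Subgroup.card_dvd_of_le hZD
    have hdvd2 : Nat.card Dsub ∣ 64 := by
      have := Subgroup.card_subgroup_dvd_card Dsub
      rwa [hR.card] at this
    have hmemdiv : Nat.card Dsub ∈ Nat.divisors 64 := Nat.mem_divisors.mpr ⟨hdvd2, by norm_num⟩
    have hdiv : Nat.divisors 64 = {1, 2, 4, 8, 16, 32, 64} := by decide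
    rw [hdiv] at hmemdiv
    simp only [Finset.mem_insert, Finset.mem_singleton] at hmemdiv
    rcases hmemdiv with h1 | h1 | h1 | h1 | h1 | h1 | h1
    · -- card 1
      rw [h1] at hdvd1 hDT
      have hz1 : Nat.card (a3_Z R) = 1 := Nat.dvd_one.mp hdvd1
      rw [hz1] at hZ
      left
      have : (4 : F) * T = 4 * 1 := by rw [← hDT, mul_one]; exact hZ
      exact mul_left_cancel₀ h4 this
    · -- card 2
      rw [h1] at hdvd1 hDT
      have hz : Nat.card (a3_Z R) = 1 ∨ Nat.card (a3_Z R) = 2 := by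
        have := Nat.le_of_dvd (by norm_num) hdvd1
        have hpos : 0 < Nat.card (a3_Z R) := Nat.pos_of_dvd_of_pos hdvd1 (by norm_num)
        omega
      rcases hz with hz | hz
      · rw [hz] at hZ
        right; left
        have h5 : (4 : F) * T = 2 := by rw [← hDT]; norm_num
        have h6 : (4 : F) = 1 := by rw [← hZ]; norm_num
        rw [h6, one_mul] at h5
        exact h5
      · rw [hz] at hZ
        exfalso
        have : (2 : F) = 0 := by
          have h5 : ((2 : ℕ) : F) = 2 := by norm_num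
          rw [h5] at hZ
          linear_combination (-1 : F) * hZ
        exact h2 this
    · left
      rw [h1] at hDT
      have : (4 : F) * T = 4 * 1 := by rw [← hDT]; norm_num
      exact mul_left_cancel₀ h4 this
    · right; left
      rw [h1] at hDT
      have : (4 : F) * T = 4 * 2 := by rw [← hDT]; norm_num
      exact mul_left_cancel₀ h4 this
    · right; right; left
      rw [h1] at hDT
      have : (4 : F) * T = 4 * 4 := by rw [← hDT]; norm_num
      exact mul_left_cancel₀ h4 this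
    · right; right; right; left
      rw [h1] at hDT
      have : (4 : F) * T = 4 * 8 := by rw [← hDT]; norm_num
      exact mul_left_cancel₀ h4 this
    · right; right; right; right
      have htop : Dsub = ⊤ := by
        apply (Subgroup.card_eq_iff_eq_top Dsub).mp
        rw [h1, hR.card]
      apply hR.comm
      intro g hg
      have : (⟨g, hg⟩ : R) ∈ Dsub := by rw [htop]; exact Subgroup.mem_top _
      have hcom := (hmemD ⟨g, hg⟩).mp this
      have := congrArg Units.val hcom
      rw [Units.val_mul, Units.val_mul] at this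
      exact this

end Cfsg.Agent.Lib.Helper14.P4
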