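import Mathlib
import Cfsg.Agent.Lib.Helper16.PSLDefs
import Cfsg.Agent.Lib.Helper15.Gallagher
import Cfsg.Agent.Lib.Helper79.Basic

/-!
# S4472 hive (PSL, helper16), leaf X1d (helper13): a normal subgroup `Z ≤ Q` in the kernel of an
irreducible constituent `θ` of `ξ_Q` (`ξ` irreducible) lies in the kernel of `ξ`.
-/

set_option autoImplicit false
set_option linter.style.haveILetI false

namespace Cfsg.Agent.Lib.Helper16.PSL

open Cfsg
open scoped ComplexConjugate

universe u

/-- an element of the kernel of a character can be cancelled on the left -/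
theorem x1d_mul_ker {Q : Type u} [Group Q] [Finite Q] {θ : Q → ℂ} (hθ : IsCharacter Q θ)
    (z q : Q) (hz : θ z = θ 1) : θ (z * q) = θ q := by
  obtain ⟨n, ρ, rfl⟩ := hθ
  have h1 : z ∈ MonoidHom.ker ρ := (Cfsg.Agent.Lib.Helper79.rep_mem_ker_iff ρ z).mpr hz
  rw [MonoidHom.mem_ker] at h1
  unfold Representation.character
  rw [map_mul, h1, one_mul]

/-- LEAF X1d. -/
theorem normal_le_ker_of_constituent {L : Type u} [Group L] [Fintype L] (Q : Subgroup L)
    [Fintype Q] {ξ : L → ℂ} (hξ : IsIrrCharacter L ξ) {θ : Q → ℂ} (hθ : IsIrrCharacter Q θ)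
    (hc : classInner (fun q : Q => ξ q) θ ≠ 0) (Z : Subgroup L) [Z.Normal] (hZQ : Z ≤ Q)
    (hZθ : ∀ z : Q, (z : L) ∈ Z → θ z = θ 1) : ∀ z ∈ Z, ξ z = ξ 1 := by
  classical
  haveI : Fintype Z := Fintype.ofFinite Z
  have hθc : IsCharacter Q θ := Cfsg.Agent.Lib.Helper79.isCharacter_of_isIrrCharacter hθ
  rcases Cfsg.Agent.Lib.Helper15.coset_sum_irr Z hξ with h | h
  · intro z hz
    have := h ⟨z, hz⟩ 1
    simpa using this
  · exfalso
    apply hc
    have hsum : ∑ n : Z, ∑ q : Q, ξ ((n : L) * (q : L)) * conj (θ q) = 0 := by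
      rw [Finset.sum_comm]
      apply Finset.sum_eq_zero
      intro q _
      rw [← Finset.sum_mul, h q, zero_mul]
    have hre : ∀ n : Z, ∑ q : Q, ξ ((n : L) * (q : L)) * conj (θ q)
        = ∑ q : Q, ξ (q : L) * conj (θ q) := by
      intro n
      let nQ : Q := ⟨(n : L), hZQ n.2⟩
      refine Fintype.sum_equiv (Equiv.mulLeft nQ) _ _ (fun q => ?_)
      have h1 : θ (nQ * q) = θ q := x1d_mul_ker hθc nQ q (hZθ nQ n.2)
      show ξ ((n : L) * (q : L)) * conj (θ q) = ξ ((nQ * q : Q) : L) * conj (θ (nQ * q))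
      rw [h1]
      rfl
    rw [Finset.sum_congr rfl (fun n _ => hre n), Finset.sum_const, Finset.card_univ,
      nsmul_eq_mul] at hsum
    have hZ0 : ((Fintype.card Z : ℕ) : ℂ) ≠ 0 := by
      exact_mod_cast Fintype.card_ne_zero
    have hS : ∑ q : Q, ξ (q : L) * conj (θ q) = 0 := by
      rcases mul_eq_zero.mp hsum with h0 | h0
      · exact absurd h0 hZ0
      · exact h0
    unfold classInner
    rw [hS, mul_zero]

end Cfsg.Agent.Lib.Helper16.PSL
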