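import Mathlib
import Cfsg.Prelude.Def_ClassicalGeometry

set_option autoImplicit false

namespace Cfsg.Agent.Lib.Helper13

open Matrix

/-- The coordinate subspace spanned by the first `k` basis vectors, as a submodule. -/
def coordSubmodule (F : Type*) [Field F] (n k : ℕ) : Submodule F (Fin n → F) where
  carrier := {v : Fin n → F | ∀ i : Fin n, k ≤ (i : ℕ) → v i = 0}
  add_mem' := by
    intro a b ha hb i hi
    simp [ha i hi, hb i hi]
  zero_mem' := by
    intro i _
    rfl
  smul_mem' := by
    intro c a ha i hi
    simp [ha i hi]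

theorem mem_coordSubmodule {F : Type*} [Field F] (n k : ℕ) (v : Fin n → F) :
    v ∈ coordSubmodule F n k ↔ ∀ i : Fin n, k ≤ (i : ℕ) → v i = 0 := Iff.rfl

/-- A block-triangular matrix maps the coordinate subspace into itself. -/
theorem mulVec_mem_coord {F : Type*} [Field F] (n k : ℕ) (M : Matrix (Fin n) (Fin n) F)
    (hM : ∀ i j : Fin n, k ≤ (i : ℕ) → (j : ℕ) < k → M i j = 0)
    (v : Fin n → F) (hv : ∀ i : Fin n, k ≤ (i : ℕ) → v i = 0) :
    ∀ i : Fin n, k ≤ (i : ℕ) → (M *ᵥ v) i = 0 := by
  intro i hi
  rw [Matrix.mulVec, dotProduct]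
  apply Finset.sum_eq_zero
  intro j _
  by_cases hj : (j : ℕ) < k
  · rw [hM i j hi hj, zero_mul]
  · rw [hv j (by omega), mul_zero]

/-- Membership in the stabiliser of the coordinate subspace: the lower-left block vanishes. -/
theorem mem_stabilizing_coord_iff {F : Type*} [Field F] (n k : ℕ)
    (M : Matrix.GeneralLinearGroup (Fin n) F) :
    M ∈ Cfsg.stabilizing (Cfsg.glToMat (Fin n) F)
        {v : Fin n → F | ∀ i : Fin n, k ≤ (i : ℕ) → v i = 0} ↔
      ∀ i j : Fin n, k ≤ (i : ℕ) → (j : ℕ) < k → (M : Matrix (Fin n) (Fin n) F) i j = 0 := by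
  constructor
  · intro hM i j hi hj
    have h1 := (hM (Pi.single j 1)).mp (by
      intro i' hi'
      have : i' ≠ j := by
        intro h
        rw [h] at hi'
        omega
      simp [this])
    have h2 := h1 i hi
    simp only [Units.coeHom_apply, Matrix.mulVec_single_one, Matrix.col_apply] at h2
    exact h2
  · intro hM v
    change v ∈ {v : Fin n → F | ∀ i : Fin n, k ≤ (i : ℕ) → v i = 0} ↔
      (M : Matrix (Fin n) (Fin n) F) *ᵥ v ∈ {v : Fin n → F | ∀ i : Fin n, k ≤ (i : ℕ) → v i = 0}
    constructor
    · intro hv
      exact mulVec_mem_coord n k _ hM v hv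
    · intro hMv
      -- restriction of `M` to the coordinate submodule is injective hence surjective
      let W := coordSubmodule F n k
      have hmaps : ∀ w ∈ W, Matrix.toLin' (M : Matrix (Fin n) (Fin n) F) w ∈ W := by
        intro w hw
        rw [Matrix.toLin'_apply]
        exact mulVec_mem_coord n k _ hM w hw
      let f : W →ₗ[F] W := (Matrix.toLin' (M : Matrix (Fin n) (Fin n) F)).restrict hmaps
      have hinjM : Function.Injective ((M : Matrix (Fin n) (Fin n) F).mulVec) := by
        intro x y hxy
        have := congrArg (fun z => ((M⁻¹ : Matrix.GeneralLinearGroup (Fin n) F) :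
          Matrix (Fin n) (Fin n) F) *ᵥ z) hxy
        simp only [Matrix.mulVec_mulVec] at this
        rw [← Units.val_mul, inv_mul_cancel] at this
        simpa using this
      have hinj : Function.Injective f := by
        intro x y hxy
        apply Subtype.ext
        apply hinjM
        have := congrArg Subtype.val hxy
        simpa [f, LinearMap.restrict_apply] using this
      have hsurj : Function.Surjective f := LinearMap.injective_iff_surjective.mp hinj
      obtain ⟨w, hw⟩ := hsurj ⟨(M : Matrix (Fin n) (Fin n) F) *ᵥ v, hMv⟩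
      have h1 : (M : Matrix (Fin n) (Fin n) F) *ᵥ (w : Fin n → F)
          = (M : Matrix (Fin n) (Fin n) F) *ᵥ v := by
        have := congrArg Subtype.val hw
        simpa [f, LinearMap.restrict_apply] using this
      have h2 : (w : Fin n → F) = v := hinjM h1
      rw [← h2]
      exact w.2

end Cfsg.Agent.Lib.Helper13
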