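import Mathlib
import Cfsg.Agent.Lib.Helper90.PsuDefs
import Cfsg.Agent.Lib.Helper42.PsuTS

/-! # PSU-C (Psu hive of helper90, S2412): Lemma C, adding one orthonormal coordinate. -/

set_option autoImplicit false

namespace Cfsg.Agent.Lib.Helper90.Psu

open Matrix Cfsg.Agent.Lib.Helper99 Cfsg.Agent.Lib.Helper13

variable {F : Type*} [Field F] [Fintype F] {q n : ℕ}

local notation "hh" => Cfsg.hermForm n F q

/-- truncation to the first `n'` coordinates -/
def c_tr {n' : ℕ} (h : n' ≤ n) (u : Fin n → F) : Fin n' → F := fun i => u (Fin.castLE h i)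

/-- extension by zero -/
def c_ext {n' : ℕ} (x : Fin n' → F) : Fin n → F :=
  fun j => if hj : j.val < n' then x ⟨j.val, hj⟩ else 0

omit [Fintype F] in
theorem c_ext_castLE {n' : ℕ} (h : n' ≤ n) (x : Fin n' → F) (i : Fin n') :
    (c_ext x : Fin n → F) (Fin.castLE h i) = x i := by
  unfold c_ext
  rw [dif_pos (by simp)]
  rfl

omit [Fintype F] in
theorem c_ext_of_ge {n' : ℕ} (x : Fin n' → F) (j : Fin n) (hj : n' ≤ j.val) :
    (c_ext x : Fin n → F) j = 0 := by
  unfold c_ext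
  rw [dif_neg (by omega)]

omit [Fintype F] in
theorem c_ext_of_lt {n' : ℕ} (x : Fin n' → F) (j : Fin n) (hj : j.val < n') :
    (c_ext x : Fin n → F) j = x ⟨j.val, hj⟩ := by
  unfold c_ext
  rw [dif_pos hj]

omit [Fintype F] in
theorem c_tr_ext {n' : ℕ} (h : n' ≤ n) (x : Fin n' → F) : c_tr h (c_ext x : Fin n → F) = x := by
  funext i
  exact c_ext_castLE h x i

omit [Fintype F] in
theorem c_herm_ext_left {n' : ℕ} (h : n' ≤ n) (x : Fin n' → F) (u : Fin n → F) :
    hh (c_ext x) u = Cfsg.hermForm n' F q x (c_tr h u) := by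
  unfold Cfsg.hermForm
  rw [← Finset.sum_subset (Finset.subset_univ (Finset.univ.map (Fin.castLEEmb h))), Finset.sum_map]
  · apply Finset.sum_congr rfl
    intro i _
    rw [Fin.coe_castLEEmb, c_ext_castLE]
    rfl
  · intro j _ hj
    have hjn : n' ≤ j.val := by
      by_contra hlt
      push Not at hlt
      apply hj
      rw [Finset.mem_map]
      exact ⟨⟨j.val, hlt⟩, Finset.mem_univ _, Fin.ext rfl⟩
    rw [c_ext_of_ge x j hjn, zero_mul]

theorem c_herm_ext_right (hF : Fintype.card F = q ^ 2) {n' : ℕ} (h : n' ≤ n) (x : Fin n' → F)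
    (u : Fin n → F) : hh u (c_ext x) = Cfsg.hermForm n' F q (c_tr h u) x := by
  rw [← hermForm_conj hF, c_herm_ext_left h, hermForm_conj hF]

omit [Fintype F] in
theorem c_herm_single_left (j : Fin n) (v : Fin n → F) : hh (Pi.single j 1) v = v j ^ q := by
  classical
  unfold Cfsg.hermForm
  rw [Finset.sum_eq_single j]
  · rw [Pi.single_eq_same, one_mul]
  · intro i _ hij
    rw [Pi.single_eq_of_ne hij, zero_mul]
  · intro hj
    exact absurd (Finset.mem_univ j) hj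

omit [Fintype F] in
/-- the form of a vector supported on the first `n' + 1` coordinates -/
theorem c_herm_split {n' : ℕ} (hlt : n' < n) (u v : Fin n → F) (hu : SuppLt (n' + 1) u) :
    hh u v = Cfsg.hermForm n' F q (c_tr hlt.le u) (c_tr hlt.le v) +
      u ⟨n', hlt⟩ * v ⟨n', hlt⟩ ^ q := by
  classical
  have hdec : u = c_ext (c_tr hlt.le u) + u ⟨n', hlt⟩ • Pi.single (⟨n', hlt⟩ : Fin n) (1 : F) := by
    funext j
    rw [Pi.add_apply, Pi.smul_apply, smul_eq_mul]
    rcases lt_trichotomy j.val n' with hj | hj | hj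
    · rw [c_ext_of_lt _ j hj, Pi.single_eq_of_ne (by intro h; rw [h] at hj; simp at hj), mul_zero,
        add_zero]
      rfl
    · have hje : j = ⟨n', hlt⟩ := Fin.ext hj
      rw [c_ext_of_ge _ j hj.ge, hje, Pi.single_eq_same, mul_one, zero_add]
    · rw [c_ext_of_ge _ j hj.le, Pi.single_eq_of_ne (by intro h; rw [h] at hj; simp at hj), mul_zero,
        add_zero]
      exact hu j hj
  calc hh u v = hh (c_ext (c_tr hlt.le u) + u ⟨n', hlt⟩ • Pi.single (⟨n', hlt⟩ : Fin n) (1 : F)) v :=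
        congrArg (fun z => hh z v) hdec
    _ = _ := by
        rw [hermForm_add_left, hermForm_smul_left, c_herm_ext_left hlt.le, c_herm_single_left]

/-- lifting a product of transvections of the first `n'` coordinates -/
theorem c_lift (hF : Fintype.card F = q ^ 2) {H : Subgroup (GL (Fin n) F)} (n' : ℕ) (hlt : n' < n)
    (h0 : ∀ v : Fin n → F, SuppLt n' v → hh v v = 0 → v ∈ Tset q H)
    (t : GL (Fin n') F) (ht : t ∈ utvGroup n' q F) :
    ∃ T : GL (Fin n) F, T ∈ H ∧ T ∈ Cfsg.GU n F q ∧ ∀ u : Fin n → F,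
      c_tr hlt.le ((T : Matrix (Fin n) (Fin n) F) *ᵥ u) =
        (t : Matrix (Fin n') (Fin n') F) *ᵥ c_tr hlt.le u ∧
      ∀ j : Fin n, n' ≤ j.val → ((T : Matrix (Fin n) (Fin n) F) *ᵥ u) j = u j := by
  unfold utvGroup at ht
  induction ht using Subgroup.closure_induction with
  | mem t ht =>
    obtain ⟨x, c, hx, hc, rfl⟩ := ht
    have hx' : hh (c_ext x) (c_ext x) = 0 := by
      rw [c_herm_ext_left hlt.le, c_tr_ext, hx]
    have hxs : SuppLt n' (c_ext x : Fin n → F) := fun j hj => c_ext_of_ge x j hj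
    refine ⟨utv q (c_ext x) c, (h0 _ hxs hx').2 c hc, utv_mem_GU hF _ hx' c hc, fun u => ⟨?_, ?_⟩⟩
    · rw [utv_mulVec _ hx', utv_mulVec _ hx, c_herm_ext_right hF hlt.le]
      funext i
      simp only [c_tr, Pi.add_apply, Pi.smul_apply, c_ext_castLE]
    · intro j hj
      rw [utv_mulVec _ hx', Pi.add_apply, Pi.smul_apply, c_ext_of_ge x j hj, smul_zero, add_zero]
  | one =>
    refine ⟨1, H.one_mem, Subgroup.one_mem _, fun u => ⟨?_, fun j _ => ?_⟩⟩
    · rw [Units.val_one, one_mulVec, Units.val_one, one_mulVec]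
    · rw [Units.val_one, one_mulVec]
  | mul t1 t2 _ _ ih1 ih2 =>
    obtain ⟨T1, h1H, h1U, h1⟩ := ih1
    obtain ⟨T2, h2H, h2U, h2⟩ := ih2
    refine ⟨T1 * T2, H.mul_mem h1H h2H, Subgroup.mul_mem _ h1U h2U, fun u => ⟨?_, fun j hj => ?_⟩⟩
    · rw [Units.val_mul, ← mulVec_mulVec, (h1 _).1, (h2 _).1, Units.val_mul, mulVec_mulVec]
    · rw [Units.val_mul, ← mulVec_mulVec, (h1 _).2 j hj, (h2 _).2 j hj]
  | inv t _ ih =>
    obtain ⟨T, hTH, hTU, hT⟩ := ih
    refine ⟨T⁻¹, H.inv_mem hTH, Subgroup.inv_mem _ hTU, fun u => ⟨?_, fun j hj => ?_⟩⟩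
    · have h1 := (hT (((T⁻¹ : GL (Fin n) F) : Matrix (Fin n) (Fin n) F) *ᵥ u)).1
      rw [gl_mulVec_inv_mulVec] at h1
      rw [h1, gl_inv_mulVec_mulVec]
    · have h1 := (hT (((T⁻¹ : GL (Fin n) F) : Matrix (Fin n) (Fin n) F) *ᵥ u)).2 j hj
      rw [gl_mulVec_inv_mulVec] at h1
      exact h1.symm

/-- PSU-C. -/
theorem lemmaC (hF : Fintype.card F = q ^ 2) {H : Subgroup (GL (Fin n) F)} (n' : ℕ) (hn' : 4 ≤ n')
    (hlt : n' < n)
    (h0 : ∀ v : Fin n → F, SuppLt n' v → hh v v = 0 → v ∈ Tset q H)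
    (w : Fin n → F) (hw : w ∈ Tset q H) (hws : SuppLt (n' + 1) w) (hwn : w ⟨n', hlt⟩ ≠ 0) :
    ∀ v : Fin n → F, SuppLt (n' + 1) v → hh v v = 0 → v ∈ Tset q H := by
  intro v hvs hvv
  by_cases hρ : v ⟨n', hlt⟩ = 0
  · apply h0 v _ hvv
    intro j hj
    rcases Nat.eq_or_lt_of_le hj with hj' | hj'
    · have : j = ⟨n', hlt⟩ := Fin.ext hj'.symm
      rw [this, hρ]
    · exact hvs j hj'
  set ρ := v ⟨n', hlt⟩ with hρdef
  -- scale `w`
  set w' : Fin n → F := (ρ / w ⟨n', hlt⟩) • w with hw'def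
  have hw' : w' ∈ Tset q H := smul_mem_Tset hF hw _
  have hw'n : w' ⟨n', hlt⟩ = ρ := by
    rw [hw'def, Pi.smul_apply, smul_eq_mul, div_mul_cancel₀ _ hwn]
  have hw's : SuppLt (n' + 1) w' := by
    intro j hj
    rw [hw'def, Pi.smul_apply, hws j hj, smul_zero]
  -- the norms of the truncations
  have hNv : Cfsg.hermForm n' F q (c_tr hlt.le v) (c_tr hlt.le v) = -(ρ * ρ ^ q) := by
    have := c_herm_split (q := q) hlt v v hvs
    rw [hvv] at this
    exact eq_neg_of_add_eq_zero_left this.symm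
  have hNw : Cfsg.hermForm n' F q (c_tr hlt.le w') (c_tr hlt.le w') = -(ρ * ρ ^ q) := by
    have := c_herm_split (q := q) hlt w' w' hw's
    rw [hw'.1, hw'n] at this
    exact eq_neg_of_add_eq_zero_left this.symm
  -- normalise
  obtain ⟨ζ, hζ⟩ := exists_norm_neg_one hF
  have hζ0 : ζ ≠ 0 := by
    rintro rfl
    rw [zero_mul] at hζ
    exact one_ne_zero (neg_eq_zero.mp hζ.symm)
  set γ := ρ * ζ with hγdef
  have hγ : γ ≠ 0 := mul_ne_zero hρ hζ0
  have hγγ : γ * γ ^ q = -(ρ * ρ ^ q) := by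
    rw [hγdef, mul_pow]
    linear_combination (ρ * ρ ^ q) * hζ
  have hγq : γ ^ q ≠ 0 := pow_ne_zero _ hγ
  have hnorm : ∀ y : Fin n' → F, Cfsg.hermForm n' F q y y = -(ρ * ρ ^ q) →
      Cfsg.hermForm n' F q (γ⁻¹ • y) (γ⁻¹ • y) = 1 := by
    intro y hy
    rw [hermForm_smul_left, hermForm_smul_right, hy, ← hγγ, inv_pow]
    field_simp
  obtain ⟨t, ht, hta⟩ := utv_transitive_norm_one hF hn' _ _ (hnorm _ hNw) (hnorm _ hNv)
  rw [mulVec_smul] at hta
  have hta' : (t : Matrix (Fin n') (Fin n') F) *ᵥ c_tr hlt.le w' = c_tr hlt.le v :=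
    smul_right_injective _ (inv_ne_zero hγ) hta
  -- lift
  obtain ⟨T, hTH, hTU, hT⟩ := c_lift hF n' hlt h0 t ht
  have hTw : (T : Matrix (Fin n) (Fin n) F) *ᵥ w' = v := by
    funext j
    rcases lt_trichotomy j.val n' with hj | hj | hj
    · have h1 := congrFun (hT w').1 ⟨j.val, hj⟩
      rw [hta'] at h1
      exact h1
    · have hje : j = ⟨n', hlt⟩ := Fin.ext hj
      rw [(hT w').2 j hj.ge, hje, hw'n]
    · rw [(hT w').2 j hj.le, hw's j hj, hvs j hj]
  rw [← hTw]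
  exact act_mem_Tset hF hTH hTU hw'

end Cfsg.Agent.Lib.Helper90.Psu
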