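import Mathlib
import Cfsg.Agent.Lib.Helper81.Q4Defs
import Cfsg.Agent.Lib.Helper13.Q4B1

/-! # Q4-A3 (helper13, for helper81's S6002 hive): the character count
`2 * tr y * tr y⁻¹ = #{h ∈ R | y⁻¹ h y = h} - #{h ∈ R | y⁻¹ h y = -h}` for `y ∈ N(R)` -/

set_option autoImplicit false
set_option linter.unusedSectionVars false
set_option linter.unusedSimpArgs false

namespace Cfsg.Agent.Lib.Helper81.Q4

open Matrix

variable {F : Type*} [Field F] [Fintype F]

local notation "M4" => Matrix I4 I4 F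

theorem a3_val_inv (g : GL I4 F) : (g.1 : M4) * (g⁻¹).1 = 1 := by
  rw [← Units.val_mul, mul_inv_cancel, Units.val_one]

theorem a3_inv_val (g : GL I4 F) : ((g⁻¹).1 : M4) * g.1 = 1 := by
  rw [← Units.val_mul, inv_mul_cancel, Units.val_one]

theorem a3_trace_one : Matrix.trace (1 : M4) = 4 := by
  rw [Matrix.trace_one]
  simp

/-- the twirl -/
theorem a3_twirl (h2 : (2 : F) ≠ 0) (R : Subgroup (GL I4 F)) (hR : MinusLike R) [Fintype R]
    (A : M4) :
    ∑ h : R, (h.1.1 : M4) * A * (h.1⁻¹).1 = (8 * Matrix.trace A) • (1 : M4) := by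
  set S : M4 := ∑ h : R, (h.1.1 : M4) * A * (h.1⁻¹).1 with hS
  have hconj : ∀ g ∈ R, (g.1 : M4) * S * (g⁻¹).1 = S := by
    intro g hg
    rw [hS, Finset.mul_sum, Finset.sum_mul]
    apply Fintype.sum_equiv (Equiv.mulLeft (⟨g, hg⟩ : R))
    intro h
    simp only [Equiv.coe_mulLeft, Subgroup.coe_mul, Units.val_mul, _root_.mul_inv_rev]
    simp only [mul_assoc]
  obtain ⟨c, hc⟩ := hR.comm S (fun g hg => by
    have h1 := hconj g hg
    calc S * g.1 = (g.1 * S * (g⁻¹).1) * g.1 := by rw [h1]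
      _ = g.1 * S * ((g⁻¹).1 * g.1) := by simp only [mul_assoc]
      _ = g.1 * S := by rw [a3_inv_val, mul_one])
  have htr : Matrix.trace S = 32 * Matrix.trace A := by
    rw [hS, Matrix.trace_sum]
    have : ∀ h : R, Matrix.trace ((h.1.1 : M4) * A * (h.1⁻¹).1) = Matrix.trace A := by
      intro h
      rw [Matrix.trace_mul_cycle, a3_inv_val, one_mul]
    rw [Finset.sum_congr rfl (fun h _ => this h), Finset.sum_const, Finset.card_univ,
      ← Nat.card_eq_fintype_card, hR.card]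
    simp
  have h4 : (4 : F) ≠ 0 := by
    have : (4 : F) = 2 * 2 := by norm_num
    rw [this]; exact mul_ne_zero h2 h2
  have hc' : c = 8 * Matrix.trace A := by
    have h1 : Matrix.trace S = c * 4 := by
      rw [hc, Matrix.trace_smul, a3_trace_one, smul_eq_mul]
    rw [htr] at h1
    have : (4 : F) * (8 * Matrix.trace A) = 4 * c := by linear_combination h1
    exact (mul_left_cancel₀ h4 this).symm
  rw [hc, hc']

/-- the sum of the traces of the commutators -/
theorem a3_sum_tau (h2 : (2 : F) ≠ 0) (R : Subgroup (GL I4 F)) (hR : MinusLike R) [Fintype R]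
    (y : GL I4 F) :
    ∑ h : R, Matrix.trace ((y⁻¹ * h.1 * y * h.1⁻¹ : GL I4 F).1 : M4) =
      8 * (Matrix.trace (y.1 : M4) * Matrix.trace ((y⁻¹).1 : M4)) := by
  have h0 := a3_twirl h2 R hR (y.1 : M4)
  have h1 := congrArg (fun X : M4 => Matrix.trace ((y⁻¹).1 * X)) h0
  simp only [Finset.mul_sum, Matrix.trace_sum] at h1
  rw [Matrix.mul_smul, Matrix.mul_one, Matrix.trace_smul, smul_eq_mul] at h1
  rw [← mul_assoc, ← h1]
  apply Finset.sum_congr rfl
  intro h _
  simp only [Units.val_mul, mul_assoc]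

theorem a3_sum_ind {G : Type*} [Fintype G] (P : G → Prop) [DecidablePred P] (a : F) :
    ∑ h : G, (if P h then a else 0) = a * (Nat.card {h : G // P h} : F) := by
  rw [← Finset.sum_filter, Finset.sum_const, Nat.card_eq_fintype_card, Fintype.card_subtype,
    nsmul_eq_mul, mul_comm]

theorem a3_ne_neg (h2 : (2 : F) ≠ 0) (h : GL I4 F) : (h.1 : M4) ≠ -h.1 := by
  intro hh
  have h1 : (2 : F) • (h.1 : M4) = 0 := by
    rw [two_smul]
    nth_rewrite 1 [hh]
    exact neg_add_cancel _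
  have h3 : (h.1 : M4) = 0 := by
    rcases smul_eq_zero.mp h1 with h4 | h4
    · exact absurd h4 h2
    · exact h4
  have h5 := a3_val_inv h
  rw [h3, zero_mul] at h5
  exact zero_ne_one h5

/-- Q4-A3 (character count). -/
theorem two_mul_tt (h2 : (2 : F) ≠ 0) (R : Subgroup (GL I4 F)) (hR : MinusLike R)
    (y : GL I4 F) (hy : y ∈ Subgroup.normalizer (R : Set (GL I4 F))) :
    (2 : F) * tt y =
      (Nat.card {h : GL I4 F // h ∈ R ∧ y⁻¹ * h * y = h} : F) -
      (Nat.card {h : GL I4 F // h ∈ R ∧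
        ((y⁻¹ * h * y : GL I4 F) : Matrix I4 I4 F) = -(h : Matrix I4 I4 F)} : F) := by
  classical
  have : Finite R := Nat.finite_of_card_ne_zero (by rw [hR.card]; norm_num)
  have : Fintype R := Fintype.ofFinite R
  have h4 : (4 : F) ≠ 0 := by
    have : (4 : F) = 2 * 2 := by norm_num
    rw [this]; exact mul_ne_zero h2 h2
  -- the commutators lie in `R`
  have hk : ∀ h : R, y⁻¹ * h.1 * y * h.1⁻¹ ∈ R := by
    intro h
    have h1 : y⁻¹ * h.1 * y ∈ R := (Subgroup.mem_normalizer_iff''.mp hy h.1).mp h.2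
    exact R.mul_mem h1 (R.inv_mem h.2)
  have hsum := a3_sum_tau h2 R hR y
  have hτ : ∀ h : R, Matrix.trace ((y⁻¹ * h.1 * y * h.1⁻¹ : GL I4 F).1 : M4) =
      (if y⁻¹ * h.1 * y = h.1 then (4 : F) else 0) -
        (if ((y⁻¹ * h.1 * y : GL I4 F).1 : M4) = -(h.1.1 : M4) then (4 : F) else 0) := by
    intro h
    have hprod : ((y⁻¹ * h.1 * y : GL I4 F).1 : M4) =
        ((y⁻¹ * h.1 * y * h.1⁻¹ : GL I4 F).1 : M4) * (h.1.1 : M4) := by
      rw [← Units.val_mul]
      congr 1
      group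
    by_cases hsc : IsScalar (y⁻¹ * h.1 * y * h.1⁻¹)
    · obtain ⟨c, hc⟩ := hsc
      rcases hR.scal _ (hk h) c hc with hc1 | hc1
      · -- the commutator is `1`
        have hone : y⁻¹ * h.1 * y * h.1⁻¹ = 1 := by
          apply Units.ext
          rw [hc, hc1, one_smul, Units.val_one]
        have hcom : y⁻¹ * h.1 * y = h.1 := by
          have h7 : y⁻¹ * h.1 * y = (y⁻¹ * h.1 * y * h.1⁻¹) * h.1 := by group
          rw [h7, hone, one_mul]
        have hneg : ¬ (((y⁻¹ * h.1 * y : GL I4 F).1 : M4) = -(h.1.1 : M4)) := by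
          rw [hcom]
          exact a3_ne_neg h2 h.1
        rw [if_pos hcom, if_neg hneg, hone, Units.val_one, a3_trace_one, sub_zero]
      · -- the commutator is `-1`
        have hneg : ((y⁻¹ * h.1 * y : GL I4 F).1 : M4) = -(h.1.1 : M4) := by
          rw [hprod, hc, hc1, Matrix.smul_mul, Matrix.one_mul, neg_one_smul]
        have hcom : ¬ (y⁻¹ * h.1 * y = h.1) := by
          intro hh
          rw [hh] at hneg
          exact a3_ne_neg h2 h.1 hneg
        rw [if_neg hcom, if_pos hneg, hc, hc1, Matrix.trace_smul, a3_trace_one, smul_eq_mul]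
        ring
    · have hcom : ¬ (y⁻¹ * h.1 * y = h.1) := by
        intro hh
        apply hsc
        refine ⟨1, ?_⟩
        rw [hh, mul_inv_cancel, Units.val_one, one_smul]
      have hneg : ¬ (((y⁻¹ * h.1 * y : GL I4 F).1 : M4) = -(h.1.1 : M4)) := by
        intro hh
        apply hsc
        refine ⟨-1, ?_⟩
        have : ((y⁻¹ * h.1 * y * h.1⁻¹ : GL I4 F).1 : M4) =
            ((y⁻¹ * h.1 * y : GL I4 F).1 : M4) * ((h.1⁻¹).1 : M4) := by
          rw [← Units.val_mul]
        rw [this, hh, neg_mul, a3_val_inv, neg_one_smul]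
      rw [if_neg hcom, if_neg hneg, sub_zero]
      exact trace_eq_zero_of_not_scalar h2 R hR _ (hk h) hsc
  rw [Finset.sum_congr rfl (fun h _ => hτ h), Finset.sum_sub_distrib, a3_sum_ind, a3_sum_ind]
    at hsum
  have e1 : Nat.card {h : R // y⁻¹ * h.1 * y = h.1} =
      Nat.card {h : GL I4 F // h ∈ R ∧ y⁻¹ * h * y = h} :=
    Nat.card_congr (Equiv.subtypeSubtypeEquivSubtypeInter (fun h => h ∈ R)
      (fun h => y⁻¹ * h * y = h))
  have e2 : Nat.card {h : R // ((y⁻¹ * h.1 * y : GL I4 F).1 : M4) = -(h.1.1 : M4)} =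
      Nat.card {h : GL I4 F // h ∈ R ∧
        ((y⁻¹ * h * y : GL I4 F) : Matrix I4 I4 F) = -(h : Matrix I4 I4 F)} :=
    Nat.card_congr (Equiv.subtypeSubtypeEquivSubtypeInter (fun h => h ∈ R)
      (fun h => ((y⁻¹ * h * y : GL I4 F) : Matrix I4 I4 F) = -(h : Matrix I4 I4 F)))
  rw [e1, e2] at hsum
  unfold tt
  apply mul_left_cancel₀ h4
  linear_combination -hsum

end Cfsg.Agent.Lib.Helper81.Q4
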