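import Mathlib
import Cfsg.Agent.Lib.Helper81.Q4Defs
import Cfsg.Agent.Lib.Helper13.Q4B1

/-! # Q4-A5 (helper13, for helper81's S6002 hive): no transvection normalizes a `MinusLike` group -/

set_option autoImplicit false
set_option linter.unusedSectionVars false
set_option linter.unusedSimpArgs false

namespace Cfsg.Agent.Lib.Helper81.Q4

open Matrix

variable {F : Type*} [Field F] [Fintype F]

theorem a5_vmv (u ψ x : I4 → F) : Matrix.vecMulVec u ψ *ᵥ x = (ψ ⬝ᵥ x) • u := by
  ext i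
  simp only [Matrix.mulVec, dotProduct, Matrix.vecMulVec_apply, Pi.smul_apply, smul_eq_mul,
    Finset.sum_mul]
  apply Finset.sum_congr rfl
  intro j _
  ring

/-- two functionals on `F⁴` have a common nonzero kernel vector -/
theorem a5_exists_common (φ φ' : I4 → F) : ∃ w : I4 → F, w ≠ 0 ∧ φ ⬝ᵥ w = 0 ∧ φ' ⬝ᵥ w = 0 := by
  let f : (I4 → F) →ₗ[F] (Fin 2 → F) :=
    { toFun := fun w => ![φ ⬝ᵥ w, φ' ⬝ᵥ w]
      map_add' := by
        intro x y
        ext i
        fin_cases i <;> simp [dotProduct_add]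
      map_smul' := by
        intro c x
        ext i
        fin_cases i <;> simp [dotProduct_smul] }
  have hker : LinearMap.ker f ≠ ⊥ := by
    apply LinearMap.ker_ne_bot_of_finrank_lt
    simp
  obtain ⟨w, hw, hw0⟩ := (Submodule.ne_bot_iff _).mp hker
  refine ⟨w, hw0, ?_, ?_⟩
  · have := congrFun (LinearMap.mem_ker.mp hw) 0
    simpa [f] using this
  · have := congrFun (LinearMap.mem_ker.mp hw) 1
    simpa [f] using this

/-- the core computation: `K = (1 + v φᵀ)(1 - (Hv) φ'ᵀ)` with `φ·v = 0`, `φ'·(Hv) = 0`,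
`K` fixing a nonzero vector, `K² = ±1`, `K` scalar or traceless: then `K = 1`. -/
theorem a5_core (h2 : (2 : F) ≠ 0) (v φ u φ' : I4 → F) (hvφ : φ ⬝ᵥ v = 0) (huφ' : φ' ⬝ᵥ u = 0)
    (K : Matrix I4 I4 F)
    (hK : K = (1 + Matrix.vecMulVec v φ) * (1 - Matrix.vecMulVec u φ'))
    (hsq : K * K = 1 ∨ K * K = -1)
    (htr : (∃ c : F, K = c • 1) ∨ Matrix.trace K = 0) : K = 1 := by
  set a := φ ⬝ᵥ u with ha
  set b := φ' ⬝ᵥ v with hb
  have hKx : ∀ x, K *ᵥ x = x - (φ' ⬝ᵥ x) • u + (φ ⬝ᵥ x - a * (φ' ⬝ᵥ x)) • v := by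
    intro x
    rw [hK, ← Matrix.mulVec_mulVec, Matrix.sub_mulVec, Matrix.one_mulVec, a5_vmv,
      Matrix.add_mulVec, Matrix.one_mulVec, a5_vmv, dotProduct_sub, dotProduct_smul, smul_eq_mul]
    rw [← ha]
    module
  obtain ⟨w, hw0, hw1, hw2⟩ := a5_exists_common φ φ'
  have hKw : K *ᵥ w = w := by
    rw [hKx, hw1, hw2]; simp
  -- `K² = 1`
  have hsq1 : K * K = 1 := by
    rcases hsq with h | h
    · exact h
    · exfalso
      have h1 : (K * K) *ᵥ w = w := by
        rw [← Matrix.mulVec_mulVec, hKw, hKw]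
      rw [h, Matrix.neg_mulVec, Matrix.one_mulVec] at h1
      have h3 : (2 : F) • w = 0 := by
        have : w + w = 0 := by
          nth_rewrite 1 [← h1]; exact neg_add_cancel w
        rw [two_smul]; exact this
      rcases smul_eq_zero.mp h3 with h4 | h4
      · exact h2 h4
      · exact hw0 h4
  rcases htr with ⟨c, hc⟩ | htr0
  · -- scalar
    have h1 : c • w = w := by
      have := hKw
      rw [hc, Matrix.smul_mulVec, Matrix.one_mulVec] at this
      exact this
    have h3 : (c - 1) • w = 0 := by rw [sub_smul, one_smul, h1, sub_self]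
    rcases smul_eq_zero.mp h3 with h4 | h4
    · rw [hc, sub_eq_zero.mp h4, one_smul]
    · exact absurd h4 hw0
  · -- traceless: contradiction
    exfalso
    have htrK : Matrix.trace K = 4 - a * b := by
      rw [hK, Matrix.add_mul, Matrix.mul_sub, Matrix.mul_sub, Matrix.one_mul, Matrix.mul_one,
        Matrix.one_mul, Matrix.vecMulVec_mul_vecMulVec, Matrix.trace_add, Matrix.trace_sub,
        Matrix.trace_sub, Matrix.trace_one, Matrix.trace_vecMulVec, Matrix.trace_vecMulVec,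
        Matrix.trace_vecMulVec, dotProduct_smul, dotProduct_comm u φ', huφ', dotProduct_comm v φ,
        hvφ, dotProduct_comm v φ', ← ha, ← hb]
      simp
      ring
    have hab : a * b = 4 := by
      rw [htrK] at htr0
      linear_combination -htr0
    -- `φ · (K² v) = φ · v = 0`
    have h1 : φ ⬝ᵥ ((K * K) *ᵥ v) = 0 := by
      rw [hsq1, Matrix.one_mulVec, hvφ]
    have hφKv : φ ⬝ᵥ (K *ᵥ v) = -(a * b) := by
      rw [hKx, dotProduct_add, dotProduct_sub, dotProduct_smul, dotProduct_smul, hvφ, ← ha, ← hb]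
      simp
      ring
    have hφ'Kv : φ' ⬝ᵥ (K *ᵥ v) = b * (1 - a * b) := by
      rw [hKx, dotProduct_add, dotProduct_sub, dotProduct_smul, dotProduct_smul, huφ', hvφ, ← hb]
      simp
      ring
    have h3 : φ ⬝ᵥ ((K * K) *ᵥ v) = -(a * b) * (2 - a * b) := by
      rw [← Matrix.mulVec_mulVec, hKx (K *ᵥ v), dotProduct_add, dotProduct_sub, dotProduct_smul,
        dotProduct_smul, hvφ, ← ha, hφKv, hφ'Kv]
      simp
      ring
    rw [h3, hab] at h1
    have h8 : (2 : F) * 2 * 2 = 0 := by linear_combination h1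
    rcases mul_eq_zero.mp h8 with h9 | h9
    · rcases mul_eq_zero.mp h9 with h10 | h10 <;> exact h2 h10
    · exact h2 h9

/-- Q4-A5.  No transvection normalizes `R`. -/
theorem transvection_not_mem (h2 : (2 : F) ≠ 0) (R : Subgroup (GL I4 F)) (hR : MinusLike R)
    (v φ : I4 → F) (hv : v ≠ 0) (hφ : φ ≠ 0) (hvφ : φ ⬝ᵥ v = 0) (y : GL I4 F)
    (hy : (y : Matrix I4 I4 F) = 1 + Matrix.vecMulVec v φ) :
    y ∉ Subgroup.normalizer (R : Set (GL I4 F)) := by
  intro hyN
  set Q : Matrix I4 I4 F := Matrix.vecMulVec v φ with hQ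
  have hQQ : Q * Q = 0 := by
    rw [hQ, Matrix.vecMulVec_mul_vecMulVec, hvφ, zero_smul]
    ext i j; simp [Matrix.vecMulVec_apply]
  have hYi : ((y⁻¹ : GL I4 F) : Matrix I4 I4 F) = 1 - Q := by
    have h1 : (y : Matrix I4 I4 F) * (1 - Q) = 1 := by
      rw [hy, Matrix.add_mul, Matrix.mul_sub, Matrix.mul_sub, hQQ]; simp
    calc ((y⁻¹ : GL I4 F) : Matrix I4 I4 F)
        = ((y⁻¹ : GL I4 F) : Matrix I4 I4 F) * ((y : Matrix I4 I4 F) * (1 - Q)) := by
          rw [h1, mul_one]
      _ = 1 - Q := by rw [← mul_assoc, ← Units.val_mul, inv_mul_cancel, Units.val_one, one_mul]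
  -- every `h ∈ R` commutes with `y`
  have hcomm : ∀ h ∈ R, y * h * y⁻¹ * h⁻¹ = 1 := by
    intro h hh
    have hkR : y * h * y⁻¹ * h⁻¹ ∈ R := by
      have h1 : y * h * y⁻¹ ∈ R := by
        have := (Subgroup.mem_normalizer_iff.mp hyN h).mp hh
        exact this
      exact R.mul_mem h1 (R.inv_mem hh)
    set k := y * h * y⁻¹ * h⁻¹ with hk
    set H : Matrix I4 I4 F := (h : Matrix I4 I4 F) with hH
    set H' : Matrix I4 I4 F := ((h⁻¹ : GL I4 F) : Matrix I4 I4 F) with hH'
    have hHH' : H * H' = 1 := by rw [hH, hH', ← Units.val_mul, mul_inv_cancel, Units.val_one]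
    have hH'H : H' * H = 1 := by rw [hH, hH', ← Units.val_mul, inv_mul_cancel, Units.val_one]
    have hkval : (k : Matrix I4 I4 F) =
        (1 + Matrix.vecMulVec v φ) * (1 - Matrix.vecMulVec (H *ᵥ v) (φ ᵥ* H')) := by
      rw [hk, Units.val_mul, Units.val_mul, Units.val_mul, hy, hYi, ← hH, ← hH', ← hQ]
      rw [mul_assoc (1 + Q), mul_assoc (1 + Q)]
      congr 1
      rw [Matrix.mul_sub, Matrix.sub_mul, Matrix.mul_one, hHH', hQ, Matrix.mul_vecMulVec,
        Matrix.vecMulVec_mul]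
    have hdot : (φ ᵥ* H') ⬝ᵥ (H *ᵥ v) = 0 := by
      rw [← Matrix.dotProduct_mulVec, Matrix.mulVec_mulVec, hH'H, Matrix.one_mulVec, hvφ]
    have hkone : (k : Matrix I4 I4 F) = 1 := by
      apply a5_core h2 v φ (H *ᵥ v) (φ ᵥ* H') hvφ hdot _ hkval (hR.sq k hkR)
      by_cases hsc : IsScalar k
      · exact Or.inl hsc
      · right
        exact trace_eq_zero_of_not_scalar h2 R hR k hkR hsc
    apply Units.ext
    rw [hkone, Units.val_one]
  -- so `y` is scalar
  obtain ⟨c, hc⟩ := hR.comm (y : Matrix I4 I4 F) (by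
    intro h hh
    have h1 := hcomm h hh
    have h3 : y * h = h * y := by
      have : y * h * y⁻¹ * h⁻¹ * (h * y) = h * y := by rw [h1, one_mul]
      rw [← this]; group
    rw [← Units.val_mul, ← Units.val_mul, h3])
  -- then `Q` is scalar and kills `v`
  have hQc : Q = (c - 1) • 1 := by
    have : Q = (y : Matrix I4 I4 F) - 1 := by rw [hy]; simp
    rw [this, hc, sub_smul, one_smul]
  have hQv : Q *ᵥ v = 0 := by rw [hQ, a5_vmv, hvφ, zero_smul]
  have hc1 : c - 1 = 0 := by
    rw [hQc, Matrix.smul_mulVec, Matrix.one_mulVec] at hQv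
    rcases smul_eq_zero.mp hQv with h | h
    · exact h
    · exact absurd h hv
  have hQ0 : Q = 0 := by rw [hQc, hc1, zero_smul]
  obtain ⟨i, hi⟩ : ∃ i, v i ≠ 0 := by
    by_contra hcon; push Not at hcon; exact hv (funext hcon)
  obtain ⟨j, hj⟩ : ∃ j, φ j ≠ 0 := by
    by_contra hcon; push Not at hcon; exact hφ (funext hcon)
  have := congrFun (congrFun hQ0 i) j
  rw [hQ, Matrix.vecMulVec_apply] at this
  exact mul_ne_zero hi hj this

end Cfsg.Agent.Lib.Helper81.Q4
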