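import Mathlib
import Cfsg.Prelude.Def_ClassicalGeometry
import Cfsg.Prelude.Def_GeometricClasses
import Cfsg.Agent.Lib.Helper65.QeDefs
import Cfsg.Agent.Lib.Helper79.TsSplit

/-! # QE-I1 (helper65 Qe hive, S5988): `f² = -1` and `-1` a square ⟹ every invariant nondegenerate
subspace is of plus type (the two eigenspaces of `f` are totally isotropic and complementary). -/

set_option autoImplicit false
set_option linter.unusedSectionVars false

namespace Cfsg.Agent.Lib.Helper65.Qe

open Polynomial Module
open Cfsg.Agent.Lib.Helper2.BG Cfsg.Agent.Lib.Helper99 Cfsg.Agent.Lib.Helper48.Ti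
open Cfsg.Agent.Lib.Helper5.Hy

section abstract

variable {F V : Type*} [Field F] [Fintype F] [AddCommGroup V] [Module F V] [FiniteDimensional F V]
variable {Q : QuadraticForm F V}

section oddchar

variable {B : V →ₗ[F] V →ₗ[F] F}

/-- an eigenspace of an isometry for an eigenvalue `c` with `c² = -1` is totally isotropic -/
theorem i1_ti (h2 : (2 : F) ≠ 0) {f : Module.End F V} (hf : Isom B f) (c : F) (hc : c * c = -1)
    {u v : V} (hu : f u = c • u) (hv : f v = c • v) : B u v = 0 := by
  have h := hf u v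
  rw [hu, hv] at h
  simp only [map_smul, LinearMap.smul_apply, smul_eq_mul] at h
  have h3 : (2 : F) * B u v = 0 := by linear_combination (-1 : F) * h + (B u v) * hc
  rcases mul_eq_zero.1 h3 with h4 | h4
  · exact absurd h4 h2
  · exact h4

/-- **QE-I1** -/
theorem plus_of_sq_neg_one (h2 : (2 : F) ≠ 0) (hs : ∀ u v, B u v = B v u) {f : Module.End F V}
    (hf : Isom B f) (hff : f * f = -1) (ι : F) (hι : ι * ι = -1) {W : Submodule F V}
    (hWi : Inv f W) (hW : Nd B W) : Plus B W := by
  classical
  have hι0 : ι ≠ 0 := by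
    rintro rfl
    rw [mul_zero] at hι
    exact one_ne_zero (neg_eq_zero.1 hι.symm)
  have hι' : (-ι) * (-ι) = -1 := by rw [neg_mul_neg, hι]
  have hfv : ∀ v, f (f v) = -v := by
    intro v
    have h := LinearMap.congr_fun hff v
    simpa using h
  set Ep : Submodule F V := W ⊓ LinearMap.ker (f - ι • (1 : Module.End F V)) with hEpdef
  set Em : Submodule F V := W ⊓ LinearMap.ker (f + ι • (1 : Module.End F V)) with hEmdef
  have hEp : ∀ v, v ∈ Ep ↔ v ∈ W ∧ f v = ι • v := by
    intro v
    rw [hEpdef, Submodule.mem_inf, LinearMap.mem_ker, LinearMap.sub_apply, LinearMap.smul_apply,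
      Module.End.one_apply, sub_eq_zero]
  have hEm : ∀ v, v ∈ Em ↔ v ∈ W ∧ f v = (-ι) • v := by
    intro v
    rw [hEmdef, Submodule.mem_inf, LinearMap.mem_ker, LinearMap.add_apply, LinearMap.smul_apply,
      Module.End.one_apply, neg_smul, add_eq_zero_iff_eq_neg]
  have hTIp : TI B Ep := by
    intro u hu v hv
    exact i1_ti h2 hf ι hι ((hEp u).1 hu).2 ((hEp v).1 hv).2
  have hTIm : TI B Em := by
    intro u hu v hv
    exact i1_ti h2 hf (-ι) hι' ((hEm u).1 hu).2 ((hEm v).1 hv).2
  have hsup : Ep ⊔ Em = W := by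
    apply le_antisymm
    · exact sup_le inf_le_left inf_le_left
    · intro w hw
      have hfw : f w ∈ W := hWi w hw
      have ha : w - ι • f w ∈ Ep := by
        rw [hEp]
        refine ⟨W.sub_mem hw (W.smul_mem _ hfw), ?_⟩
        rw [map_sub, map_smul, hfv, smul_sub, smul_smul, hι]
        simp only [smul_neg, neg_smul, one_smul, sub_neg_eq_add]
        abel
      have hb : w + ι • f w ∈ Em := by
        rw [hEm]
        refine ⟨W.add_mem hw (W.smul_mem _ hfw), ?_⟩
        rw [map_add, map_smul, hfv, smul_add, smul_smul, neg_mul, hι]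
        simp only [smul_neg, neg_smul, one_smul, neg_neg]
        abel
      have hw2 : w = (2 : F)⁻¹ • (w - ι • f w) + (2 : F)⁻¹ • (w + ι • f w) := by
        rw [← smul_add]
        have h5 : w - ι • f w + (w + ι • f w) = (2 : F) • w := by
          rw [two_smul]
          abel
        rw [h5, smul_smul, inv_mul_cancel₀ h2, one_smul]
      rw [hw2]
      exact Submodule.add_mem _ (Submodule.mem_sup_left (Ep.smul_mem _ ha))
        (Submodule.mem_sup_right (Em.smul_mem _ hb))
  have hinf : Ep ⊓ Em = ⊥ := by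
    rw [eq_bot_iff]
    intro v hv
    obtain ⟨hvp, hvm⟩ := Submodule.mem_inf.1 hv
    have h6 : ι • v = (-ι) • v := ((hEp v).1 hvp).2.symm.trans ((hEm v).1 hvm).2
    have h7 : ((2 : F) * ι) • v = 0 := by
      rw [two_mul, add_smul]
      nth_rewrite 2 [h6]
      rw [neg_smul, add_neg_cancel]
    rw [Submodule.mem_bot]
    exact (smul_eq_zero.1 h7).resolve_left (mul_ne_zero h2 hι0)
  have hdim := Submodule.finrank_sup_add_finrank_inf_eq Ep Em
  rw [hsup, hinf, finrank_bot, add_zero] at hdim
  have hrefl : ∀ u v, B u v = 0 → B v u = 0 := fun u v h => by rw [hs]; exact h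
  have hbp : 2 * finrank F Ep ≤ finrank F W :=
    Cfsg.Agent.Lib.Helper79.TsSwap.ti_bound_refl hrefl hW (inf_le_left : Ep ≤ W) hTIp
  have hbm : 2 * finrank F Em ≤ finrank F W :=
    Cfsg.Agent.Lib.Helper79.TsSwap.ti_bound_refl hrefl hW (inf_le_left : Em ≤ W) hTIm
  exact ⟨Ep, inf_le_left, hTIp, by omega⟩

end oddchar

end abstract

end Cfsg.Agent.Lib.Helper65.Qe
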