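import Mathlib
import Cfsg.Agent.Lib.Helper38.RhDefs

/-! # Rh hive (helper38), leaf RH-CNT: counting the non-identity elements of the conjugates of a TI subgroup. -/

set_option autoImplicit false

namespace Cfsg.Agent.Lib.Helper38.Rh

section abstract
variable {G : Type*} [Group G] [Finite G] {N : ℕ}

omit [Finite G] in
theorem cnt_mem_map_conj (T : Subgroup G) (g y : G) :
    y ∈ T.map (MulAut.conj g).toMonoidHom ↔ g⁻¹ * y * g ∈ T := by
  constructor
  · rintro ⟨t, ht, rfl⟩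
    simp only [MulEquiv.coe_toMonoidHom, MulAut.conj_apply]
    have : g⁻¹ * (g * t * g⁻¹) * g = t := by group
    rw [this]; exact ht
  · intro h
    refine ⟨g⁻¹ * y * g, h, ?_⟩
    simp only [MulEquiv.coe_toMonoidHom, MulAut.conj_apply]
    group

omit [Finite G] in
theorem cnt_mem_normalizer_of_map_eq (T : Subgroup G) (g : G)
    (h : T.map (MulAut.conj g).toMonoidHom = T) : g ∈ Subgroup.normalizer (T : Set G) := by
  rw [Subgroup.mem_set_normalizer_iff]
  intro x
  have h1 := cnt_mem_map_conj T g (g * x * g⁻¹)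
  rw [h] at h1
  have e : g⁻¹ * (g * x * g⁻¹) * g = x := by group
  rw [e] at h1
  exact h1.symm

omit [Finite G] in
theorem cnt_card_ne_one [Finite G] (T : Subgroup G) : Nat.card {t : T // t ≠ 1} = Nat.card ↥T - 1 := by
  classical
  have : Fintype T := Fintype.ofFinite T
  rw [Nat.card_eq_fintype_card, Nat.card_eq_fintype_card, Fintype.card_subtype,
    Finset.filter_ne' Finset.univ (1 : T), Finset.card_erase_of_mem (Finset.mem_univ _),
    Finset.card_univ]

/-- a chosen conjugating element for a member of `conjUnion T` -/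
noncomputable def cnt_rep (T : Subgroup G) (y : ↥(conjUnion T)) : G := Classical.choose y.2.2

omit [Finite G] in
theorem cnt_rep_spec (T : Subgroup G) (y : ↥(conjUnion T)) :
    (cnt_rep T y)⁻¹ * (y : G) * cnt_rep T y ∈ T :=
  (cnt_mem_map_conj T _ _).mp (Classical.choose_spec y.2.2)

omit [Finite G] in
theorem cnt_to_mem (T : Subgroup G) (y : ↥(conjUnion T)) (n : ↥(Subgroup.normalizer (T : Set G))) :
    (cnt_rep T y * n)⁻¹ * (y : G) * (cnt_rep T y * n) ∈ T := by
  have h1 := cnt_rep_spec T y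
  have h2 := (Subgroup.mem_set_normalizer_iff''.mp n.2) ((cnt_rep T y)⁻¹ * (y : G) * cnt_rep T y)
  have e : (cnt_rep T y * (n : G))⁻¹ * (y : G) * (cnt_rep T y * n) =
      (n : G)⁻¹ * ((cnt_rep T y)⁻¹ * (y : G) * cnt_rep T y) * n := by group
  rw [e]
  exact h2.mp h1

omit [Finite G] in
theorem cnt_to_ne (T : Subgroup G) (y : ↥(conjUnion T)) (n : ↥(Subgroup.normalizer (T : Set G))) :
    (⟨(cnt_rep T y * n)⁻¹ * (y : G) * (cnt_rep T y * n), cnt_to_mem T y n⟩ : T) ≠ 1 := by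
  intro h
  have h1 : (cnt_rep T y * (n : G))⁻¹ * (y : G) * (cnt_rep T y * n) = 1 := congrArg Subtype.val h
  have h2 : (y : G) = 1 := by
    have : (y : G) = (cnt_rep T y * (n : G)) * ((cnt_rep T y * (n : G))⁻¹ * (y : G) * (cnt_rep T y * n)) *
        (cnt_rep T y * (n : G))⁻¹ := by group
    rw [this, h1]; group
  exact y.2.1 h2

/-- the counting map `(y, n) ↦ (g_y n, (g_y n)⁻¹ y (g_y n))` -/
noncomputable def cnt_fun (T : Subgroup G)
    (p : ↥(conjUnion T) × ↥(Subgroup.normalizer (T : Set G))) : G × {t : T // t ≠ 1} :=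
  (cnt_rep T p.1 * p.2,
    ⟨⟨(cnt_rep T p.1 * p.2)⁻¹ * (p.1 : G) * (cnt_rep T p.1 * p.2), cnt_to_mem T p.1 p.2⟩,
      cnt_to_ne T p.1 p.2⟩)

omit [Finite G] in
theorem cnt_fun_injective (T : Subgroup G) : Function.Injective (cnt_fun T) := by
  rintro ⟨y, n⟩ ⟨y', n'⟩ h
  have h1 : cnt_rep T y * (n : G) = cnt_rep T y' * (n' : G) := congrArg Prod.fst h
  have h2 : (cnt_rep T y * (n : G))⁻¹ * (y : G) * (cnt_rep T y * n) =
      (cnt_rep T y' * (n' : G))⁻¹ * (y' : G) * (cnt_rep T y' * n') :=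
    congrArg (fun p : G × {t : T // t ≠ 1} => ((p.2 : T) : G)) h
  rw [← h1] at h2
  have hy : (y : G) = (y' : G) := by
    have e1 : (y : G) = (cnt_rep T y * (n : G)) *
        ((cnt_rep T y * (n : G))⁻¹ * (y : G) * (cnt_rep T y * n)) * (cnt_rep T y * (n : G))⁻¹ := by
      group
    rw [e1, h2]; group
  have hy' : y = y' := Subtype.ext hy
  subst hy'
  have hn : (n : G) = (n' : G) := mul_left_cancel h1
  have hn' : n = n' := Subtype.ext hn
  rw [hn']

omit [Finite G] in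
theorem cnt_fun_surjective (T : Subgroup G)
    (hTI : ∀ g : G, T.map (MulAut.conj g).toMonoidHom = T ∨ T ⊓ T.map (MulAut.conj g).toMonoidHom = ⊥) :
    Function.Surjective (cnt_fun T) := by
  rintro ⟨g, ⟨t, ht⟩⟩
  have ht1 : (t : G) ≠ 1 := fun h => ht (Subtype.ext h)
  have hyne : g * (t : G) * g⁻¹ ≠ 1 := by
    intro h
    apply ht1
    have : (t : G) = g⁻¹ * (g * (t : G) * g⁻¹) * g := by group
    rw [this, h]; group
  have hymem : g * (t : G) * g⁻¹ ∈ conjUnion T := by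
    refine ⟨hyne, g, ?_⟩
    rw [cnt_mem_map_conj]
    have : g⁻¹ * (g * (t : G) * g⁻¹) * g = (t : G) := by group
    rw [this]; exact t.2
  set y : ↥(conjUnion T) := ⟨g * (t : G) * g⁻¹, hymem⟩ with hy
  have hspec := cnt_rep_spec T y
  have hn : (cnt_rep T y)⁻¹ * g ∈ Subgroup.normalizer (T : Set G) := by
    rcases hTI ((cnt_rep T y)⁻¹ * g) with h | h
    · exact cnt_mem_normalizer_of_map_eq T _ h
    · exfalso
      have hin : (cnt_rep T y)⁻¹ * (y : G) * cnt_rep T y ∈
          T ⊓ T.map (MulAut.conj ((cnt_rep T y)⁻¹ * g)).toMonoidHom := by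
        refine Subgroup.mem_inf.mpr ⟨hspec, ?_⟩
        rw [cnt_mem_map_conj]
        have : ((cnt_rep T y)⁻¹ * g)⁻¹ * ((cnt_rep T y)⁻¹ * (y : G) * cnt_rep T y) *
            ((cnt_rep T y)⁻¹ * g) = (t : G) := by
          show ((cnt_rep T y)⁻¹ * g)⁻¹ * ((cnt_rep T y)⁻¹ * (g * (t : G) * g⁻¹) * cnt_rep T y) *
            ((cnt_rep T y)⁻¹ * g) = (t : G)
          group
        rw [this]; exact t.2
      rw [h, Subgroup.mem_bot] at hin
      apply hyne
      have : g * (t : G) * g⁻¹ = cnt_rep T y * ((cnt_rep T y)⁻¹ * (y : G) * cnt_rep T y) *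
          (cnt_rep T y)⁻¹ := by
        show g * (t : G) * g⁻¹ = cnt_rep T y * ((cnt_rep T y)⁻¹ * (g * (t : G) * g⁻¹) * cnt_rep T y) *
          (cnt_rep T y)⁻¹
        group
      rw [this, hin]; group
  refine ⟨(y, ⟨(cnt_rep T y)⁻¹ * g, hn⟩), ?_⟩
  unfold cnt_fun
  have e1 : cnt_rep T y * ((cnt_rep T y)⁻¹ * g) = g := by group
  refine Prod.ext ?_ ?_
  · exact e1
  · apply Subtype.ext
    apply Subtype.ext
    show (cnt_rep T y * ((cnt_rep T y)⁻¹ * g))⁻¹ * (g * (t : G) * g⁻¹) *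
      (cnt_rep T y * ((cnt_rep T y)⁻¹ * g)) = (t : G)
    rw [e1]; group

/-- RH-CNT (Mathlib only, general).  Counting the non-identity elements of the conjugates of a TI subgroup:
`|⋃_g (gTg⁻¹ ∖ 1)| · |N(T)| = |G| (|T| - 1)`. -/
theorem card_conjUnion (T : Subgroup G)
    (hTI : ∀ g : G, T.map (MulAut.conj g).toMonoidHom = T ∨ T ⊓ T.map (MulAut.conj g).toMonoidHom = ⊥) :
    Nat.card ↥(conjUnion T) * Nat.card ↥(Subgroup.normalizer (T : Set G)) = Nat.card G * (Nat.card ↥T - 1) := by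
  rw [← cnt_card_ne_one T, ← Nat.card_prod, ← Nat.card_prod]
  exact Nat.card_eq_of_bijective (cnt_fun T) ⟨cnt_fun_injective T, cnt_fun_surjective T hTI⟩

end abstract

end Cfsg.Agent.Lib.Helper38.Rh
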