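import Cfsg.Agent.Lib.Helper4.RuDefs

/-! RU-CJ (by helper13) for helper4's S1628 "Ru" hive: `ruRj (Bv k) ∈ Lspan` for the 56 basis vectors
(certificate `certJ`, checked by `decide +kernel`).  Self-contained: a private twin `cj_comb_mem` of RU-ALG's `comb_mem`. -/

set_option autoImplicit false
set_option maxRecDepth 100000

namespace Cfsg.Agent.Lib.Helper4.Ru

open Cfsg.Spor

theorem cj_sm_eq_zsmul (c : ℤ) (v : RuVec) : sm c v = c • v := by
  funext p
  apply Zsqrtd.ext
  · simp [sm]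
  · simp [sm]

theorem cj_sumTo_mem (S : AddSubgroup RuVec) (n : ℕ) (f : ℕ → RuVec) (h : ∀ k < n, f k ∈ S) :
    sumTo n f ∈ S := by
  induction n with
  | zero => exact S.zero_mem
  | succ m ih =>
    show sumTo m f + f m ∈ S
    exact S.add_mem (ih fun k hk => h k (Nat.lt_succ_of_lt hk)) (h m (Nat.lt_succ_self m))

theorem cj_comb_mem (C : ℕ) : comb C ∈ Lspan := by
  unfold comb
  apply cj_sumTo_mem
  intro k hk
  rw [cj_sm_eq_zsmul]
  exact Lspan.zsmul_mem (AddSubgroup.subset_closure ⟨k, hk, rfl⟩) _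

theorem cj_cert : ∀ k ∈ List.range 56, ruRj (Bv k) = comb (certJ.getD k 0) := by decide +kernel

/-- RU-CJ -/
theorem ruRj_mem : ∀ k < 56, ruRj (Bv k) ∈ Lspan := by
  intro k hk
  rw [cj_cert k (List.mem_range.2 hk)]
  exact cj_comb_mem _

end Cfsg.Agent.Lib.Helper4.Ru
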