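import Cfsg.Agent.Lib.Helper65.SF.Defs
import Cfsg.Agent.Lib.Helper97.RUBR

/-! # SF-BR (helper13, for helper65's S2459 hive): matrix form of the peel, general `(0,0)` entry -/

set_option autoImplicit false
set_option linter.unusedSectionVars false
set_option linter.unusedSimpArgs false

namespace Cfsg.Agent.Lib.Helper65.SF

open Matrix Module
open Cfsg.Agent.Lib.Helper65.RU (comp dualOf dualOf_apply br_exists_basis br_vanish)

variable {K : Type*} [Field K]

/-- (SF-BR) matrix form of the peel. -/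
theorem exists_conj_schurG {m : ℕ} (g : Matrix (Fin (m + 2)) (Fin (m + 2)) K) (δ : K) (hδ : δ ≠ 0)
    (a φ : Fin (m + 2) → K) (h1 : φ ⬝ᵥ a = 1) (h2 : φ ⬝ᵥ (g *ᵥ a) = δ)
    (h3 : ¬ ∃ c : K, ∀ v, φ ⬝ᵥ v = 0 →
      comp (Matrix.toLin' (δ⁻¹ • g)) a (dualOf φ) v = c • v) :
    ∃ P₁ : GL (Fin (m + 2)) K,
      ((P₁⁻¹ : GL (Fin (m + 2)) K).val * g * P₁.val) 0 0 = δ ∧
      ¬ ∃ c : K, schurG ((P₁⁻¹ : GL (Fin (m + 2)) K).val * g * P₁.val) = c • 1 := by
  classical
  obtain ⟨B, hB0, hBφ⟩ := br_exists_basis a φ h1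
  set e : Basis (Fin (m + 2)) K (Fin (m + 2) → K) := Pi.basisFun K (Fin (m + 2)) with he
  set gl : (Fin (m + 2) → K) →ₗ[K] (Fin (m + 2) → K) := Matrix.toLin' g with hgl
  set gl' : (Fin (m + 2) → K) →ₗ[K] (Fin (m + 2) → K) := Matrix.toLin' (δ⁻¹ • g) with hgl'
  have hgg : ∀ v, gl' v = δ⁻¹ • gl v := by
    intro v
    rw [hgl', hgl, Matrix.toLin'_apply, Matrix.toLin'_apply, Matrix.smul_mulVec]
  let P₁ : GL (Fin (m + 2)) K :=
    ⟨e.toMatrix B, B.toMatrix e, Basis.toMatrix_mul_toMatrix_flip _ _, Basis.toMatrix_mul_toMatrix_flip _ _⟩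
  have hPval : P₁.val = e.toMatrix B := rfl
  have hPinv : (P₁⁻¹ : GL (Fin (m + 2)) K).val = B.toMatrix e := rfl
  have hM : (P₁⁻¹ : GL (Fin (m + 2)) K).val * g * P₁.val = LinearMap.toMatrix B B gl := by
    rw [hPval, hPinv]
    have h1 := basis_toMatrix_mul_linearMap_toMatrix_mul_basis_toMatrix B e B e gl
    have h2 : LinearMap.toMatrix e e gl = g := by
      rw [he, LinearMap.toMatrix_eq_toMatrix', hgl, LinearMap.toMatrix'_toLin']
    rw [h2] at h1
    exact h1
  set M := (P₁⁻¹ : GL (Fin (m + 2)) K).val * g * P₁.val with hMdef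
  have hMent : ∀ i j, M i j = B.repr (gl (B j)) i := by
    intro i j
    rw [hM, LinearMap.toMatrix_apply]
  have hφga : φ ⬝ᵥ gl a = δ := by
    rw [hgl, Matrix.toLin'_apply]; exact h2
  have hφga' : φ ⬝ᵥ gl' a = 1 := by
    rw [hgg, dotProduct_smul, hφga, smul_eq_mul, inv_mul_cancel₀ hδ]
  -- the compression as a linear map
  let CL : (Fin (m + 2) → K) →ₗ[K] (Fin (m + 2) → K) :=
    gl' - ((dualOf φ).comp gl').smulRight (gl' a)
  have hCL : ∀ v, CL v = comp gl' a (dualOf φ) v := by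
    intro v
    simp only [CL, RU.comp, LinearMap.sub_apply, LinearMap.smulRight_apply, LinearMap.comp_apply]
  have hCLφ : ∀ v, φ ⬝ᵥ CL v = 0 := by
    intro v
    rw [hCL, RU.comp, dotProduct_sub, dotProduct_smul, hφga', dualOf_apply, smul_eq_mul, mul_one, sub_self]
  have hbφ : ∀ j : Fin (m + 1), φ ⬝ᵥ B j.succ = 0 := by
    intro j
    rw [← hBφ, Basis.repr_self, Finsupp.single_eq_of_ne (Fin.succ_ne_zero j).symm]
  have hM00 : M 0 0 = δ := by
    rw [hMent, hB0, hBφ, hφga]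
  have hS : ∀ i j, B.repr (CL (B j.succ)) i.succ = δ⁻¹ * schurG M i j := by
    intro i j
    rw [schurG, hM00, hMent, hMent, hMent, hB0, hBφ, hCL, RU.comp, hgg, hgg, map_sub, map_smul, map_smul,
      map_smul, map_smul, Finsupp.sub_apply, Finsupp.smul_apply, Finsupp.smul_apply,
      Finsupp.smul_apply, dualOf_apply]
    simp only [smul_eq_mul]
    ring
  refine ⟨P₁, hM00, ?_⟩
  rintro ⟨c, hc⟩
  apply h3
  refine ⟨δ⁻¹ * c, ?_⟩
  intro v hv
  rw [← hCL]
  let D : (Fin (m + 2) → K) →ₗ[K] (Fin (m + 2) → K) := CL - (δ⁻¹ * c) • LinearMap.id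
  have hz : ∀ j : Fin (m + 1), D (B j.succ) = 0 := by
    intro j
    apply B.ext_elem
    intro k
    simp only [D]
    rw [map_zero, Finsupp.zero_apply, LinearMap.sub_apply, LinearMap.smul_apply, LinearMap.id_apply,
      map_sub, map_smul, Finsupp.sub_apply, Finsupp.smul_apply, Basis.repr_self, smul_eq_mul]
    refine Fin.cases ?_ (fun i => ?_) k
    · rw [hBφ, hCLφ, Finsupp.single_eq_of_ne (Fin.succ_ne_zero j).symm, mul_zero, sub_zero]
    · rw [hS, hc, Matrix.smul_apply, Matrix.one_apply, Finsupp.single_apply, smul_eq_mul]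
      by_cases hij : i = j
      · subst hij; simp
      · rw [if_neg hij, if_neg (fun hh => hij (Fin.succ_injective _ hh).symm)]
        simp
  have := br_vanish B D hz v (by rw [hBφ]; exact hv)
  simp only [D] at this
  rw [LinearMap.sub_apply, LinearMap.smul_apply, LinearMap.id_apply, sub_eq_zero] at this
  exact this

end Cfsg.Agent.Lib.Helper65.SF
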