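import Cfsg.Agent.Lib.Helper65.SF.Defs
import Cfsg.Agent.Lib.Helper97.RUL3

/-! # SF-ST (helper13, for helper65's S2459 hive): the induction step of Sourour's LU factorization -/

set_option autoImplicit false
set_option linter.unusedSectionVars false
set_option linter.unusedSimpArgs false

namespace Cfsg.Agent.Lib.Helper65.SF

open Matrix Module
open Cfsg.Agent.Lib.Helper65.RU (l3_blk l3_blk_mul l3_blk_one l3_eq_blk col0 row0
  l3_blk_zero_zero l3_blk_zero_succ l3_blk_succ_zero l3_blk_succ_succ)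

variable {K : Type*} [Field K]

theorem st_lower {n : ℕ} (b : K) (c : Fin n → K) (L : Matrix (Fin n) (Fin n) K)
    (β : Fin (n + 1) → K) (hb : b = β 0) (hL : IsLowerDiag L (fun i => β i.succ)) :
    IsLowerDiag (l3_blk b 0 c L) β := by
  obtain ⟨h1, h2⟩ := hL
  refine ⟨?_, ?_⟩
  · intro i j
    refine Fin.cases ?_ (fun i' => ?_) i <;> refine Fin.cases ?_ (fun j' => ?_) j
    · intro h; exact absurd h (lt_irrefl _)
    · intro _; simp
    · intro h; exact absurd h (Fin.not_lt_zero _)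
    · intro h
      rw [l3_blk_succ_succ]
      exact h1 i' j' (Fin.succ_lt_succ_iff.mp h)
  · intro i
    refine Fin.cases ?_ (fun i' => ?_) i
    · simp [hb]
    · rw [l3_blk_succ_succ]; exact h2 i'

theorem st_upper {n : ℕ} (b : K) (r : Fin n → K) (U : Matrix (Fin n) (Fin n) K)
    (γ : Fin (n + 1) → K) (hb : b = γ 0) (hU : IsUpperDiag U (fun i => γ i.succ)) :
    IsUpperDiag (l3_blk b r 0 U) γ := by
  obtain ⟨h1, h2⟩ := hU
  refine ⟨?_, ?_⟩
  · intro i j
    refine Fin.cases ?_ (fun i' => ?_) i <;> refine Fin.cases ?_ (fun j' => ?_) j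
    · intro h; exact absurd h (lt_irrefl _)
    · intro h; exact absurd h (Fin.not_lt_zero _)
    · intro _; simp
    · intro h
      rw [l3_blk_succ_succ]
      exact h1 i' j' (Fin.succ_lt_succ_iff.mp h)
  · intro i
    refine Fin.cases ?_ (fun i' => ?_) i
    · simp [hb]
    · rw [l3_blk_succ_succ]; exact h2 i'

/-- (SF-ST) the induction step. -/
theorem step_LU {m : ℕ} (A : Matrix (Fin (m + 2)) (Fin (m + 2)) K) (β γ : Fin (m + 2) → K)
    (hβ0 : β 0 ≠ 0) (hγ0 : γ 0 ≠ 0) (h00 : A 0 0 = β 0 * γ 0)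
    (hS : HasLU (schurG A) (fun i => β i.succ) (fun i => γ i.succ)) :
    HasLU A β γ := by
  obtain ⟨P', L', U', hL', hU', hLU⟩ := hS
  have hz0 : vecMulVec (0 : Fin (m + 1) → K) (0 : Fin (m + 1) → K) = 0 := by
    ext i j; simp [Matrix.vecMulVec_apply]
  have hPP : l3_blk (1 : K) 0 0 P'.val * l3_blk (1 : K) 0 0 (P'⁻¹ : GL (Fin (m + 1)) K).val = 1 := by
    rw [l3_blk_mul]
    simp only [mul_one, dotProduct_zero, add_zero, smul_zero, zero_vecMul, mulVec_zero,
      Units.mul_inv, l3_blk_one]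
    rw [hz0, zero_add, l3_blk_one]
  have hPP' : l3_blk (1 : K) 0 0 (P'⁻¹ : GL (Fin (m + 1)) K).val * l3_blk (1 : K) 0 0 P'.val = 1 := by
    rw [l3_blk_mul]
    simp only [mul_one, dotProduct_zero, add_zero, smul_zero, zero_vecMul, mulVec_zero,
      Units.inv_mul]
    rw [hz0, zero_add, l3_blk_one]
  let P : GL (Fin (m + 2)) K :=
    ⟨l3_blk 1 0 0 P'.val, l3_blk 1 0 0 (P'⁻¹ : GL (Fin (m + 1)) K).val, hPP, hPP'⟩
  have hPval : P.val = l3_blk 1 0 0 P'.val := rfl
  have hPinv : (P⁻¹ : GL (Fin (m + 2)) K).val = l3_blk 1 0 0 (P'⁻¹ : GL (Fin (m + 1)) K).val := rfl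
  refine ⟨P, l3_blk (β 0) 0 ((γ 0)⁻¹ • ((P'⁻¹ : GL (Fin (m + 1)) K).val *ᵥ col0 A)) L',
    l3_blk (γ 0) ((β 0)⁻¹ • (row0 A ᵥ* P'.val)) 0 U', st_lower _ _ _ _ rfl hL',
    st_upper _ _ _ _ rfl hU', ?_⟩
  rw [hPval, hPinv]
  conv_lhs => rw [l3_eq_blk A, h00]
  rw [l3_blk_mul, l3_blk_mul, l3_blk_mul]
  have hD : A.submatrix Fin.succ Fin.succ =
      schurG A + ((γ 0)⁻¹ * (β 0)⁻¹) • vecMulVec (col0 A) (row0 A) := by
    ext i j
    simp only [schurG, col0, row0, Matrix.add_apply, Matrix.smul_apply, Matrix.vecMulVec_apply,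
      Matrix.submatrix_apply, smul_eq_mul, h00]
    rw [mul_inv]
    ring
  have hz : vecMulVec (0 : Fin (m + 1) → K) (row0 A) = 0 := by
    ext i j; simp [Matrix.vecMulVec_apply]
  have hz2 : ∀ w : Fin (m + 1) → K, vecMulVec w (0 : Fin (m + 1) → K) = 0 := by
    intro w; ext i j; simp [Matrix.vecMulVec_apply]
  congr 1
  · simp
  · simp [smul_smul, hβ0]
  · simp [smul_smul, hγ0]
  · simp only [hz, hz2, zero_add, mul_one, one_smul, smul_zero, zero_dotProduct, dotProduct_zero,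
      add_zero, zero_vecMul, mulVec_zero, one_mul]
    rw [hD, ← hLU, Matrix.mul_add, Matrix.add_mul, Matrix.mul_smul, Matrix.smul_mul,
      Matrix.mul_vecMulVec, Matrix.vecMulVec_mul]
    refine (add_comm _ _).trans ?_
    congr 1
    ext i j
    simp only [Matrix.smul_apply, Matrix.vecMulVec_apply, Pi.smul_apply, smul_eq_mul]
    ring

end Cfsg.Agent.Lib.Helper65.SF
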