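import Cfsg.Agent.Lib.Helper13.CFQ

set_option autoImplicit false
set_option linter.unusedSimpArgs false
set_option linter.unusedVariables false
set_option linter.unusedSectionVars false

/-! # Symplectic C3 maximality: basic set-up -/

namespace Cfsg.Agent.Lib.Helper13.SP

open Module
open Cfsg.Agent.Lib.Helper13.CF

variable {F K V : Type*} [Field F] [Field K] [Algebra F K] [AddCommGroup V] [Module F V]
  [Module K V] [IsScalarTower F K V]

/-- the data: a nonzero `F`-linear functional on `K` and a nondegenerate alternating `K`-form -/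
structure SpD (tr : K →ₗ[F] F) (B : V →ₗ[K] V →ₗ[K] K) : Prop where
  htr : tr ≠ 0
  alt : ∀ v, B v v = 0
  nd : ∀ u, (∀ v, B u v = 0) → u = 0

variable {tr : K →ₗ[F] F} {B : V →ₗ[K] V →ₗ[K] K}

theorem SpD.skew (D : SpD tr B) (u v : V) : B u v = - B v u := by
  have h := D.alt (u + v)
  simp only [map_add, LinearMap.add_apply, D.alt, zero_add, add_zero] at h
  exact eq_neg_of_add_eq_zero_right h

omit [AddCommGroup V] [Module F V] [Module K V] [IsScalarTower F K V] in
theorem tr_smulF (tr : K →ₗ[F] F) (c : F) (x : K) : tr (c • x) = c * tr x := by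
  rw [map_smul, smul_eq_mul]

theorem SpD.exists_tr_ne (D : SpD tr B) : ∃ y, tr y ≠ 0 := by
  by_contra hcon
  push Not at hcon
  exact D.htr (LinearMap.ext hcon)

theorem SpD.tr_zero (D : SpD tr B) {x : K} (h : ∀ k, tr (k * x) = 0) : x = 0 := by
  by_contra hx
  obtain ⟨y, hy⟩ := D.exists_tr_ne
  apply hy
  have := h (y / x)
  rwa [div_mul_cancel₀ _ hx] at this

theorem SpD.exists_tr_one (D : SpD tr B) {x : K} (hx : x ≠ 0) : ∃ s, tr (s * x) = 1 := by
  obtain ⟨y, hy⟩ := D.exists_tr_ne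
  refine ⟨((tr y)⁻¹ • y) / x, ?_⟩
  rw [div_mul_cancel₀ _ hx, tr_smulF, inv_mul_cancel₀ hy]

/-- nondegeneracy of the `F`-form -/
theorem SpD.f_nd (D : SpD tr B) {u : V} (h : ∀ v, tr (B u v) = 0) : u = 0 := by
  apply D.nd
  intro v
  apply D.tr_zero
  intro k
  have := h (k • v)
  rwa [map_smul, smul_eq_mul] at this

/-- `g` preserves the `F`-form -/
def IsSp (tr : K →ₗ[F] F) (B : V →ₗ[K] V →ₗ[K] K) (g : Module.End F V) : Prop :=
  ∀ u v, tr (B (g u) (g v)) = tr (B u v)

theorem IsSp.one : IsSp tr B (1 : Module.End F V) := fun u v => rfl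

theorem IsSp.mul {g h : Module.End F V} (hg : IsSp tr B g) (hh : IsSp tr B h) :
    IsSp tr B (g * h) := fun u v => by
  rw [Module.End.mul_apply, Module.End.mul_apply, hg, hh]

theorem IsSp.symm {g : V ≃ₗ[F] V} (hg : IsSp tr B (g : V →ₗ[F] V)) :
    IsSp tr B ((g.symm : V ≃ₗ[F] V) : V →ₗ[F] V) := fun u v => by
  have := hg (g.symm u) (g.symm v)
  simp only [LinearEquiv.coe_coe, LinearEquiv.apply_symm_apply] at this
  exact this.symm

theorem IsSp.symm_left {g : V ≃ₗ[F] V} (hg : IsSp tr B (g : V →ₗ[F] V)) (u v : V) :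
    tr (B (g.symm u) v) = tr (B u (g v)) := by
  have := hg (g.symm u) v
  simp only [LinearEquiv.coe_coe, LinearEquiv.apply_symm_apply] at this
  exact this.symm

/-- the hypothesis that `X` contains all semilinear isometries -/
def HXsp (tr : K →ₗ[F] F) (B : V →ₗ[K] V →ₗ[K] K) (X : Subgroup (V ≃ₗ[F] V)) : Prop :=
  ∀ g : V ≃ₗ[F] V, IsSp tr B (g : V →ₗ[F] V) → NormE K (g : V →ₗ[F] V) → g ∈ X

theorem isX_of_klinear_sp {X : Subgroup (V ≃ₗ[F] V)} (hX : HXsp tr B X) (e : V ≃ₗ[K] V)
    (he : ∀ u v, B (e u) (e v) = B u v) :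
    IsX X ((e : V →ₗ[K] V).restrictScalars F) := by
  refine ⟨e.restrictScalars F, hX _ ?_ ?_, rfl⟩
  · intro u v
    change tr (B (e u) (e v)) = tr (B u v)
    rw [he]
  · intro k
    exact ⟨k, fun v => by simp⟩

/-- the logarithm of a `K`-transvection of the symplectic `K`-space -/
def Nlog (B : V →ₗ[K] V →ₗ[K] K) (a : V) (l : K) : Module.End F V := ku F (l • B.flip a) a

theorem Nlog_apply (a : V) (l : K) (v : V) : Nlog (F := F) B a l v = (l * B v a) • a := by
  simp [Nlog]

theorem Nlog_sq (D : SpD tr B) (a : V) (l : K) :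
    Nlog (F := F) B a l * Nlog (F := F) B a l = 0 := by
  apply ku_sq
  simp [D.alt]

theorem isX_Nlog {X : Subgroup (V ≃ₗ[F] V)} (D : SpD tr B) (hX : HXsp tr B X) (a : V) (l : K) :
    IsX X (1 + Nlog (F := F) B a l) := by
  have h0 : (l • B.flip a) a = 0 := by simp [D.alt]
  have := isX_of_klinear_sp hX (LinearEquiv.transvection h0) (by
    intro u v
    simp only [LinearEquiv.transvection.apply, LinearMap.smul_apply, LinearMap.flip_apply,
      smul_eq_mul, map_add, map_smul, LinearMap.add_apply, D.alt, mul_zero, add_zero]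
    rw [D.skew a v]
    ring)
  rw [LinearEquiv.transvection.coe_toLinearMap] at this
  unfold Nlog
  rw [one_add_ku]
  exact this

/-- the diagonal element `a ↦ μ a`, `b ↦ μ⁻¹ b` of a hyperbolic pair -/
def hmuK (B : V →ₗ[K] V →ₗ[K] K) (a b : V) (μ : K) : V →ₗ[K] V :=
  LinearMap.id + ((μ - 1) • B.flip b).smulRight a + ((μ⁻¹ - 1) • B a).smulRight b

theorem hmuK_apply (a b : V) (μ : K) (v : V) :
    hmuK B a b μ v = v + ((μ - 1) * B v b) • a + ((μ⁻¹ - 1) * B a v) • b := by
  simp [hmuK]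

theorem hmuK_isom (D : SpD tr B) {a b : V} (hab : B a b = 1) {μ : K} (hμ : μ ≠ 0) (u v : V) :
    B (hmuK B a b μ u) (hmuK B a b μ v) = B u v := by
  have hba : B b a = -1 := by rw [D.skew, hab]
  simp only [hmuK_apply, map_add, map_smul, LinearMap.add_apply, LinearMap.smul_apply, smul_eq_mul,
    D.alt, hab, hba, mul_zero, add_zero, zero_add, mul_one]
  rw [D.skew a u, D.skew b v, D.skew a v]
  field_simp
  ring

theorem hmuK_mul (D : SpD tr B) {a b : V} (hab : B a b = 1) {μ : K} (hμ : μ ≠ 0) (v : V) :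
    hmuK B a b μ (hmuK B a b μ⁻¹ v) = v := by
  have hba : B b a = -1 := by rw [D.skew, hab]
  have c1 : (μ⁻¹ - 1) + (μ - 1) * μ⁻¹ = 0 := by field_simp; ring
  have c2 : (μ - 1) + (μ⁻¹ - 1) * μ = 0 := by field_simp; ring
  have h1 : B (hmuK B a b μ⁻¹ v) b = μ⁻¹ * B v b := by
    simp only [hmuK_apply, map_add, map_smul, LinearMap.add_apply, LinearMap.smul_apply,
      smul_eq_mul, D.alt, hab, hba, mul_zero, add_zero, zero_add, mul_one, inv_inv]
    ring
  have h2 : B a (hmuK B a b μ⁻¹ v) = μ * B a v := by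
    simp only [hmuK_apply, map_add, map_smul, LinearMap.add_apply, LinearMap.smul_apply,
      smul_eq_mul, D.alt, hab, hba, mul_zero, add_zero, zero_add, mul_one, inv_inv]
    ring
  rw [hmuK_apply, h1, h2, hmuK_apply, inv_inv]
  have : v + ((μ⁻¹ - 1) * B v b) • a + ((μ - 1) * B a v) • b + ((μ - 1) * (μ⁻¹ * B v b)) • a
      + ((μ⁻¹ - 1) * (μ * B a v)) • b
      = v + (((μ⁻¹ - 1) + (μ - 1) * μ⁻¹) * B v b) • a + (((μ - 1) + (μ⁻¹ - 1) * μ) * B a v) • b := by
    module
  rw [this, c1, c2]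
  simp

omit [AddCommGroup V] [Module F V] [Module K V] [IsScalarTower F K V] in
theorem tr_zero_of_ne {tr : K →ₗ[F] F} (htr : tr ≠ 0) {x : K} (h : ∀ k, tr (k * x) = 0) :
    x = 0 := by
  by_contra hx
  have hex : ∃ y, tr y ≠ 0 := by
    by_contra hcon
    push Not at hcon
    exact htr (LinearMap.ext hcon)
  obtain ⟨y, hy⟩ := hex
  apply hy
  have := h (y / x)
  rwa [div_mul_cancel₀ _ hx] at this

theorem SpD.tr_ext (D : SpD tr B) {x y : K} (h : ∀ k, tr (k * x) = tr (k * y)) : x = y := by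
  rw [← sub_eq_zero]
  apply D.tr_zero
  intro k
  rw [mul_sub, map_sub, h, sub_self]

omit [Field F] [Algebra F K] [Module F V] [IsScalarTower F K V] in
theorem B_smulK_right (B : V →ₗ[K] V →ₗ[K] K) (s : K) (u v : V) : B u (s • v) = s * B u v := by
  rw [map_smul, smul_eq_mul]

omit [Field F] [Algebra F K] [Module F V] [IsScalarTower F K V] in
theorem B_smulK_left (B : V →ₗ[K] V →ₗ[K] K) (s : K) (u v : V) : B (s • u) v = s * B u v := by
  rw [map_smul, LinearMap.smul_apply, smul_eq_mul]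

theorem B_smulF_left (B : V →ₗ[K] V →ₗ[K] K) (c : F) (u v : V) : B (c • u) v = c • B u v := by
  rw [← algebraMap_smul K c u, map_smul, LinearMap.smul_apply, algebraMap_smul]

theorem B_smulF_right (B : V →ₗ[K] V →ₗ[K] K) (c : F) (u v : V) : B u (c • v) = c • B u v := by
  rw [← algebraMap_smul K c v, map_smul, algebraMap_smul]

theorem IsSp.symm_right {g : V ≃ₗ[F] V} (hg : IsSp tr B (g : V →ₗ[F] V)) (u v : V) :
    tr (B u (g.symm v)) = tr (B (g u) v) := by
  have := hg u (g.symm v)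
  simp only [LinearEquiv.coe_coe, LinearEquiv.apply_symm_apply] at this
  exact this.symm

/-- the `F`-linear functional `v ↦ f(v, a)` -/
def fD (tr : K →ₗ[F] F) (B : V →ₗ[K] V →ₗ[K] K) (a : V) : Module.Dual F V :=
  tr ∘ₗ (B.flip a).restrictScalars F

@[simp] theorem fD_apply (a v : V) : fD tr B a v = tr (B v a) := rfl

/-- the logarithm of the symplectic `F`-transvection along `a` -/
def TV (tr : K →ₗ[F] F) (B : V →ₗ[K] V →ₗ[K] K) (a : V) : Module.End F V := r1 (fD tr B a) a

@[simp] theorem TV_apply (a v : V) : TV tr B a v = tr (B v a) • a := rfl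

/-- every `K`-linear functional is represented by the form -/
theorem SpD.exists_repr [Module.Finite K V] (D : SpD tr B) (φ : V →ₗ[K] K) :
    ∃ a, ∀ v, φ v = B v a := by
  have hinj : Function.Injective B.flip := by
    rw [injective_iff_map_eq_zero]
    intro a ha
    apply D.nd
    intro v
    rw [D.skew]
    have := LinearMap.congr_fun ha v
    simp only [LinearMap.flip_apply, LinearMap.zero_apply] at this
    rw [this, neg_zero]
  have hsurj : Function.Surjective B.flip :=
    (LinearMap.injective_iff_surjective_of_finrank_eq_finrank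
      (Subspace.dual_finrank_eq (K := K) (V := V)).symm).mp hinj
  obtain ⟨a, ha⟩ := hsurj φ
  exact ⟨a, fun v => by rw [← ha]; rfl⟩

/-- Riesz representation on `K` -/
theorem SpD.riesz [Module.Finite F K] (D : SpD tr B) (χ : K →ₗ[F] F) :
    ∃ γ : K, ∀ y, χ y = tr (γ * y) := by
  obtain ⟨μ, hμ⟩ := exists_klin_of_dual (V := K) tr D.htr χ
  refine ⟨μ 1, fun y => ?_⟩
  rw [hμ]
  change tr (μ y) = _
  have h1 : μ y = μ 1 * y := by
    have := μ.map_smul y 1
    rw [smul_eq_mul, mul_one] at this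
    rw [this, smul_eq_mul, mul_comm]
  rw [h1]

/-- the double perpendicular of an `F`-subspace of `K` for the trace form -/
theorem SpD.dperp [Module.Finite F K] (D : SpD tr B) (A : Submodule F K) (z : K)
    (h : ∀ γ : K, (∀ y ∈ A, tr (γ * y) = 0) → tr (γ * z) = 0) : z ∈ A := by
  by_contra hz
  obtain ⟨χ, hχz, hχ⟩ := Submodule.exists_le_ker_of_notMem hz
  obtain ⟨γ, hγ⟩ := D.riesz χ
  apply hχz
  rw [hγ]
  apply h
  intro y hy
  rw [← hγ]
  exact hχ hy

end Cfsg.Agent.Lib.Helper13.SP
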