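import Cfsg.Agent.Lib.Helper13.SPA

set_option autoImplicit false
set_option linter.unusedSimpArgs false
set_option linter.unusedVariables false
set_option linter.unusedSectionVars false

/-! # Symplectic C3 maximality: the optimisation -/

namespace Cfsg.Agent.Lib.Helper13.SP

open Module
open Cfsg.Agent.Lib.Helper13.CF

variable {F K V : Type*} [Field F] [Field K] [Algebra F K] [AddCommGroup V] [Module F V]
  [Module K V] [IsScalarTower F K V] [Module.Finite K V] [Module.Finite F K]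

variable {tr : K →ₗ[F] F} {B : V →ₗ[K] V →ₗ[K] K} {X : Subgroup (V ≃ₗ[F] V)}

/-- the map `k ↦ B (g (k a₀)) a₁` -/
def PhiS (B : V →ₗ[K] V →ₗ[K] K) (g : V ≃ₗ[F] V) (a₀ a₁ : V) : K →ₗ[F] K where
  toFun k := B (g (k • a₀)) a₁
  map_add' k k' := by rw [add_smul, map_add, map_add, LinearMap.add_apply]
  map_smul' c k := by
    simp only [RingHom.id_apply]
    rw [smul_assoc c k a₀, LinearEquiv.map_smul g c (k • a₀), B_smulF_left]

omit [Module.Finite K V] [Module.Finite F K] in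
@[simp] theorem PhiS_apply (g : V ≃ₗ[F] V) (a₀ a₁ : V) (k : K) :
    PhiS B g a₀ a₁ k = B (g (k • a₀)) a₁ := rfl

/-- candidates for the maximisation -/
def IsCandS (B : V →ₗ[K] V →ₗ[K] K) (X : Subgroup (V ≃ₗ[F] V)) (g : V ≃ₗ[F] V)
    (a₀ a₁ : V) : Prop :=
  g ∈ X ∧ a₀ ≠ 0 ∧ a₁ ≠ 0 ∧ ∃ k : K, B (g (k • a₀)) a₁ ≠ 0

/-- the size of the intersection -/
noncomputable def scoreS (B : V →ₗ[K] V →ₗ[K] K) (g : V ≃ₗ[F] V) (a₀ a₁ : V) : ℕ :=
  (Tset K g a₀ ∩ {z | B z a₁ = 0}).ncard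

theorem opt_of_max [Finite V] (D : SpD tr B) (hX : HXsp tr B X)
    (hXsp : ∀ g ∈ X, IsSp tr B ((g : V ≃ₗ[F] V) : V →ₗ[F] V))
    {g : V ≃ₗ[F] V} {a₀ a₁ : V} (hc : IsCandS B X g a₀ a₁)
    (hmax : ∀ g' a₀' a₁', IsCandS B X g' a₀' a₁' → scoreS B g' a₀' a₁' ≤ scoreS B g a₀ a₁)
    (l : K) (hne : ∃ k k' : K, tr (l * B (g (k • a₀)) a₁ * B (g (k' • a₀)) a₁) ≠ 0)
    (k : K) (hk : ∀ k' : K, tr (l * B (g (k • a₀)) a₁ * B (g (k' • a₀)) a₁) = 0) :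
    B (g (k • a₀)) a₁ = 0 := by
  classical
  obtain ⟨hgX, ha₀, ha₁, -⟩ := hc
  obtain ⟨gk, hgkX, hgk⟩ := isX_Nlog D hX a₁ l
  have hgk_apply : ∀ z, gk z = z + (l * B z a₁) • a₁ := by
    intro z
    have := LinearMap.congr_fun hgk z
    simpa [Nlog_apply] using this
  have hgsp := hXsp g hgX
  have hg' : ∀ v, g ((g⁻¹ * gk * g) v) = gk (g v) := by
    intro v
    change g (g.symm (gk (g v))) = gk (g v)
    rw [LinearEquiv.apply_symm_apply]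
  -- key identity
  have KI : ∀ k k' : K, tr (k' * B ((g⁻¹ * gk * g) (k • a₀)) a₀) =
      - tr (l * B (g (k • a₀)) a₁ * B (g (k' • a₀)) a₁) := by
    intro k k'
    have e1 : k' * B ((g⁻¹ * gk * g) (k • a₀)) a₀ = B ((g⁻¹ * gk * g) (k • a₀)) (k' • a₀) := by
      rw [B_smulK_right]
    have e0 := hgsp ((g⁻¹ * gk * g) (k • a₀)) (k' • a₀)
    simp only [LinearEquiv.coe_coe] at e0
    rw [e1, ← e0, hg', hgk_apply, map_add, LinearMap.add_apply, map_add]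
    have e3 : tr (B (g (k • a₀)) (g (k' • a₀))) = 0 := by
      have := hgsp (k • a₀) (k' • a₀)
      simp only [LinearEquiv.coe_coe] at this
      rw [this, B_smulK_left, B_smulK_right, D.alt, mul_zero, mul_zero, map_zero]
    rw [e3, zero_add, B_smulK_left, D.skew a₁ (g (k' • a₀)), mul_neg, map_neg]
  have hc' : IsCandS B X (g⁻¹ * gk * g) a₀ a₀ := by
    refine ⟨X.mul_mem (X.mul_mem (X.inv_mem hgX) hgkX) hgX, ha₀, ha₀, ?_⟩
    obtain ⟨k₁, k₂, h12⟩ := hne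
    refine ⟨k₁, fun h0 => h12 ?_⟩
    have := KI k₁ k₂
    rw [h0, mul_zero, map_zero] at this
    exact neg_eq_zero.mp this.symm
  have hle := hmax _ _ _ hc'
  let P : Set V := {z | z ∈ Tset K g a₀ ∧ ∀ k' : K, tr (l * B z a₁ * B (g (k' • a₀)) a₁) = 0}
  have hPle : P.ncard ≤ scoreS B (g⁻¹ * gk * g) a₀ a₀ := by
    refine Set.ncard_le_ncard_of_injOn (fun z => g⁻¹ (gk z)) ?_ ?_ (Set.toFinite _)
    · rintro z ⟨⟨k', rfl⟩, hz2⟩
      refine ⟨⟨k', rfl⟩, ?_⟩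
      change B ((g⁻¹ * gk * g) (k' • a₀)) a₀ = 0
      apply D.tr_zero
      intro k''
      rw [KI, hz2, neg_zero]
    · intro z _ z' _ hzz'
      exact gk.injective ((g⁻¹).injective hzz')
  have hDP : Tset K g a₀ ∩ {z | B z a₁ = 0} ⊆ P := by
    rintro z ⟨hzT, hz0⟩
    refine ⟨hzT, fun k' => ?_⟩
    have hz0' : B z a₁ = 0 := hz0
    rw [hz0', mul_zero, zero_mul, map_zero]
  have hPD : Tset K g a₀ ∩ {z | B z a₁ = 0} = P :=
    Set.eq_of_subset_of_ncard_le hDP (hPle.trans hle) (Set.toFinite _)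
  have hmem : g (k • a₀) ∈ P := ⟨⟨k, rfl⟩, hk⟩
  rw [← hPD] at hmem
  exact hmem.2

theorem exists_config [Finite V] [Finite K] (D : SpD tr B) (hX : HXsp tr B X)
    (hXsp : ∀ g ∈ X, IsSp tr B ((g : V ≃ₗ[F] V) : V →ₗ[F] V)) (hr : (finrank F K).Prime)
    (hm : 2 ≤ finrank K V)
    (x : V ≃ₗ[F] V) (hx : x ∈ X) (hn : ¬ NormE K (x : V →ₗ[F] V)) :
    ∃ (g : V ≃ₗ[F] V) (a₀ a₁ : V) (k₀ : K), g ∈ X ∧ a₀ ≠ 0 ∧ B (g (k₀ • a₀)) a₁ ≠ 0 ∧
      (∀ k : K, ∃ c : F, B (g (k • a₀)) a₁ = c • B (g (k₀ • a₀)) a₁) ∧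
      ∃ k₁ : K, k₁ ≠ 0 ∧ B (g (k₁ • a₀)) a₁ = 0 := by
  classical
  obtain ⟨a, t, hbad⟩ := exists_bad_line hm (x : V →ₗ[F] V) x.bijective hn
  have hbad' : ∀ t' : K, x (t • a) ≠ t' • x a := hbad
  have ha : a ≠ 0 := by
    rintro rfl
    exact hbad' 0 (by simp)
  have hxa : x a ≠ 0 := fun h => ha (x.injective (by rw [h, map_zero]))
  obtain ⟨μa, μb, -, -, hμb1, hμb2⟩ := exists_dual_pair' (K := K) hxa hbad'
  obtain ⟨a₁, ha₁⟩ := D.exists_repr μb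
  have h1 : B (x a) a₁ = 0 := by rw [← ha₁, hμb1]
  have h2 : B (x (t • a)) a₁ = 1 := by rw [← ha₁, hμb2]
  have ha₁0 : a₁ ≠ 0 := by
    rintro rfl
    simp at h2
  have hinit : IsCandS B X x a a₁ := ⟨hx, ha, ha₁0, t, by rw [h2]; exact one_ne_zero⟩
  -- the maximiser
  let C := {p : (V ≃ₗ[F] V) × V × V // IsCandS B X p.1 p.2.1 p.2.2}
  have : Finite (V ≃ₗ[F] V) := DFunLike.finite _
  have : Nonempty C := ⟨⟨(x, a, a₁), hinit⟩⟩
  obtain ⟨⟨⟨g, a₀, b₁⟩, hc⟩, hmaxC⟩ :=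
    Finite.exists_max (fun p : C => scoreS B p.1.1 p.1.2.1 p.1.2.2)
  have hmax : ∀ g' a₀' a₁', IsCandS B X g' a₀' a₁' → scoreS B g' a₀' a₁' ≤ scoreS B g a₀ b₁ :=
    fun g' a₀' a₁' h' => hmaxC ⟨(g', a₀', a₁'), h'⟩
  change IsCandS B X g a₀ b₁ at hc
  obtain ⟨hgX, ha₀, hb₁, k₀, hk₀⟩ := id hc
  have h2s : 2 ≤ scoreS B g a₀ b₁ := by
    refine le_trans ?_ (hmax _ _ _ hinit)
    have hsub : ({0, x a} : Set V) ⊆ Tset K x a ∩ {z | B z a₁ = 0} := by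
      intro z hz
      rcases hz with rfl | rfl
      · exact ⟨Tset_zero, by simp⟩
      · exact ⟨⟨1, by simp⟩, h1⟩
    have := Set.ncard_le_ncard hsub (Set.toFinite _)
    rw [Set.ncard_pair (Ne.symm hxa)] at this
    exact this
  -- a kernel element
  have hker : ∃ k₁ : K, k₁ ≠ 0 ∧ B (g (k₁ • a₀)) b₁ = 0 := by
    by_contra hcon
    push Not at hcon
    have hsub : Tset K g a₀ ∩ {z | B z b₁ = 0} ⊆ ({0} : Set V) := by
      rintro z ⟨⟨k, rfl⟩, hz⟩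
      by_cases hk0 : k = 0
      · rw [hk0, zero_smul, map_zero]; rfl
      · exact absurd hz (hcon k hk0)
    have := Set.ncard_le_ncard hsub (Set.toFinite _)
    rw [Set.ncard_singleton] at this
    unfold scoreS at h2s
    omega
  have hopt := fun l hne k hk => opt_of_max D hX hXsp hc hmax l hne k hk
  set α := B (g (k₀ • a₀)) b₁ with hα
  have hΦ : ∀ k : K, PhiS B g a₀ b₁ k = B (g (k • a₀)) b₁ := fun k => rfl
  -- the range of `Φ`
  let D' : Set K := Set.range (PhiS B g a₀ b₁)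
  have hD'add : ∀ x y, x ∈ D' → y ∈ D' → x + y ∈ D' := by
    rintro _ _ ⟨k, rfl⟩ ⟨k', rfl⟩
    exact ⟨k + k', map_add _ _ _⟩
  have hD'zero : (0 : K) ∈ D' := ⟨0, map_zero _⟩
  have hD'sm : ∀ (f : F) x, x ∈ D' → f • x ∈ D' := by
    rintro f _ ⟨k, rfl⟩
    exact ⟨f • k, map_smul _ _ _⟩
  have hD'ne : ∃ d ∈ D', d ≠ 0 := ⟨α, ⟨k₀, rfl⟩, hk₀⟩
  have hD'nt : ∃ s, s ∉ D' := by
    by_contra hcon
    push Not at hcon
    have hsurj : Function.Surjective (PhiS B g a₀ b₁) := fun s => hcon s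
    have hinj : Function.Injective (PhiS B g a₀ b₁) :=
      LinearMap.injective_iff_surjective.mpr hsurj
    obtain ⟨k₁, hk₁0, hk₁⟩ := hker
    apply hk₁0
    apply hinj
    rw [map_zero]
    exact hk₁
  have hzeroform : ∀ γ : K, (∀ k' : K, tr (γ * B (g (k' • a₀)) b₁) = 0) →
      ∀ k k' : K, tr (γ / α * B (g (k • a₀)) b₁ * B (g (k' • a₀)) b₁) = 0 := by
    intro γ hγ
    by_contra hcon
    push Not at hcon
    obtain ⟨k, k', hkk'⟩ := hcon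
    have := hopt (γ / α) ⟨k, k', hkk'⟩ k₀ (by
      intro k''
      rw [← hα, div_mul_cancel₀ _ hk₀]
      exact hγ k'')
    exact hk₀ this
  have hratio : ∀ k : K, ∀ d ∈ D', (B (g (k • a₀)) b₁ / α) * d ∈ D' := by
    intro k d hd
    obtain ⟨k'', rfl⟩ := hd
    have hmem : (B (g (k • a₀)) b₁ / α) * PhiS B g a₀ b₁ k'' ∈ LinearMap.range (PhiS B g a₀ b₁) := by
      apply D.dperp
      intro γ hγ
      have hγ' : ∀ k' : K, tr (γ * B (g (k' • a₀)) b₁) = 0 := fun k' => hγ _ ⟨k', rfl⟩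
      have := hzeroform γ hγ' k k''
      have e : γ * (B (g (k • a₀)) b₁ / α * PhiS B g a₀ b₁ k'') =
          γ / α * B (g (k • a₀)) b₁ * B (g (k'' • a₀)) b₁ := by
        rw [hΦ]; ring
      rw [e]
      exact this
    obtain ⟨y, hy⟩ := hmem
    exact ⟨y, hy⟩
  refine ⟨g, a₀, b₁, k₀, hgX, ha₀, hk₀, ?_, hker⟩
  intro k
  obtain ⟨f, hf⟩ := stab_mem_bot hr D' hD'add hD'zero hD'sm hD'ne hD'nt _ (hratio k)
  refine ⟨f, ?_⟩
  rw [Algebra.smul_def, ← hf, div_mul_cancel₀ _ hk₀]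

end Cfsg.Agent.Lib.Helper13.SP
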