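import Cfsg.Agent.Lib.Helper13.SPB

set_option autoImplicit false
set_option linter.unusedSimpArgs false
set_option linter.unusedVariables false
set_option linter.unusedSectionVars false

/-! # Symplectic C3 maximality: from the configuration to a transvection -/

namespace Cfsg.Agent.Lib.Helper13.SP

open Module
open Cfsg.Agent.Lib.Helper13.CF

variable {F K V : Type*} [Field F] [Field K] [Algebra F K] [AddCommGroup V] [Module F V]
  [Module K V] [IsScalarTower F K V] [Module.Finite K V] [Module.Finite F K]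

variable {tr : K →ₗ[F] F} {B : V →ₗ[K] V →ₗ[K] K} {X : Subgroup (V ≃ₗ[F] V)}

/-- the configuration produced by the optimisation -/
structure Cfg (B : V →ₗ[K] V →ₗ[K] K) (X : Subgroup (V ≃ₗ[F] V)) (g : V ≃ₗ[F] V) (a₀ a₁ : V)
    (k₀ α : K) : Prop where
  gX : g ∈ X
  ha₀ : a₀ ≠ 0
  hk₀ : B (g (k₀ • a₀)) a₁ = α
  hα : α ≠ 0
  hA : ∀ k : K, ∃ c : F, B (g (k • a₀)) a₁ = c • α

variable {g : V ≃ₗ[F] V} {a₀ a₁ : V} {k₀ α : K}

omit [Module.Finite K V] [Module.Finite F K] in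
theorem Cfg.ha₁ (h : Cfg B X g a₀ a₁ k₀ α) : a₁ ≠ 0 := by
  rintro rfl
  exact h.hα (by rw [← h.hk₀, map_zero])

omit [Module.Finite K V] [Module.Finite F K] in
theorem Cfg.exists_nu (D : SpD tr B) (hX : HXsp tr B X)
    (hXsp : ∀ g ∈ X, IsSp tr B ((g : V ≃ₗ[F] V) : V →ₗ[F] V))
    (h : Cfg B X g a₀ a₁ k₀ α) (kκ : K) :
    ∃ ν : Module.End F V, IsX X (1 + ν) ∧ ν * ν = 0 ∧
      (∀ s : K, ν (s • a₁) = tr (s * α) • g (kκ • a₀)) ∧
      (∀ u v, tr (B (ν u) v) = - tr (B u (ν v))) := by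
  have hgsp := hXsp g h.gX
  obtain ⟨sl, hsl⟩ := D.exists_tr_one h.hα
  have hb : ∀ (v : V) (k' : K), tr (k' * B (g.symm v) a₀) = tr (B v (g (k' • a₀))) := by
    intro v k'
    rw [← B_smulK_right B k' (g.symm v) a₀, hgsp.symm_left]
  have hbs : ∀ (s k' : K), tr (k' * B (g.symm (s • a₁)) a₀) =
      - tr (s * B (g (k' • a₀)) a₁) := by
    intro s k'
    rw [hb, B_smulK_left, D.skew a₁, mul_neg, map_neg]
  obtain ⟨β, hβ⟩ : ∃ β : K, β = B (g.symm (sl • a₁)) a₀ := ⟨_, rfl⟩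
  have hβ0 : β ≠ 0 := by
    intro h0
    have := hbs sl k₀
    rw [← hβ, h0, mul_zero, map_zero, h.hk₀, hsl] at this
    exact one_ne_zero (neg_eq_zero.mp this.symm)
  have hbsl : ∀ s : K, B (g.symm (s • a₁)) a₀ = tr (s * α) • β := by
    intro s
    apply D.tr_ext
    intro k'
    obtain ⟨c, hc⟩ := h.hA k'
    have L : tr (k' * B (g.symm (s • a₁)) a₀) = -(c * tr (s * α)) := by
      rw [hbs, hc, mul_smul_comm, tr_smulF]
    have R : tr (k' * (tr (s * α) • β)) = tr (s * α) * (-(c * 1)) := by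
      rw [mul_smul_comm, tr_smulF, hβ, hbs, hc, mul_smul_comm, tr_smulF, hsl]
    rw [L, R]
    ring
  obtain ⟨μ, hμ⟩ : ∃ μ : K, μ * β = kκ := ⟨kκ / β, div_mul_cancel₀ _ hβ0⟩
  have e : ∀ w, (((g : V →ₗ[F] V) * Nlog B a₀ μ * (g.symm : V →ₗ[F] V) : Module.End F V)) w =
      g (Nlog (F := F) B a₀ μ (g.symm w)) := fun w => rfl
  refine ⟨(g : V →ₗ[F] V) * Nlog B a₀ μ * (g.symm : V →ₗ[F] V), ?_, ?_, ?_, ?_⟩
  · exact (isX_coe h.gX).conj (coe_mul_symm g) (isX_Nlog D hX a₀ μ)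
  · ext v
    rw [Module.End.mul_apply, e, e, LinearEquiv.symm_apply_apply]
    have := LinearMap.congr_fun (Nlog_sq (F := F) D a₀ μ) (g.symm v)
    rw [Module.End.mul_apply] at this
    rw [this]
    simp
  · intro s
    rw [e, Nlog_apply, hbsl, mul_smul_comm, hμ, smul_assoc, LinearEquiv.map_smul]
  · intro u v
    rw [e, e]
    have hN : ∀ p q : V, B (Nlog (F := F) B a₀ μ p) q = - B p (Nlog (F := F) B a₀ μ q) := by
      intro p q
      rw [Nlog_apply, Nlog_apply, B_smulK_left, B_smulK_right, D.skew a₀ q]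
      ring
    rw [← hgsp.symm_right, hN, map_neg, hgsp.symm_left]

/-- the Siegel-type logarithm -/
def Rm (tr : K →ₗ[F] F) (B : V →ₗ[K] V →ₗ[K] K) (a₁ : V) (α : K) (κ : V) (ρ : K) :
    Module.End F V :=
  r1 (fD tr B (ρ • a₁)) κ + r1 (fD tr B κ) (ρ • a₁) + tr (ρ * α) • r1 (fD tr B κ) κ

omit [Module.Finite K V] [Module.Finite F K] in
@[simp] theorem Rm_apply (a₁ : V) (α : K) (κ : V) (ρ : K) (v : V) :
    Rm tr B a₁ α κ ρ v = tr (B v (ρ • a₁)) • κ + tr (B v κ) • (ρ • a₁)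
      + tr (ρ * α) • (tr (B v κ) • κ) := rfl

omit [Module.Finite K V] [Module.Finite F K] in
theorem Cfg.isX_Rm (D : SpD tr B) (hX : HXsp tr B X)
    (hXsp : ∀ g ∈ X, IsSp tr B ((g : V ≃ₗ[F] V) : V →ₗ[F] V))
    (h : Cfg B X g a₀ a₁ k₀ α) (kκ : K) (hκ : B (g (kκ • a₀)) a₁ = 0) (ρ : K) :
    IsX X (1 + Rm tr B a₁ α (g (kκ • a₀)) ρ) := by
  obtain ⟨ν, hνX, hνsq, hν3, hνskew⟩ := h.exists_nu D hX hXsp kκ
  obtain ⟨κ, hκdef⟩ : ∃ κ : V, κ = g (kκ • a₀) := ⟨_, rfl⟩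
  rw [← hκdef] at hκ hν3 ⊢
  have hα0 := h.hα
  have hν4 : ∀ v, B (ν v) a₁ = tr (B κ v) • α := by
    intro v
    apply D.tr_ext
    intro s
    rw [← B_smulK_right B s (ν v) a₁, hνskew, hν3, B_smulF_right, tr_smulF, mul_smul_comm,
      tr_smulF, D.skew v κ, map_neg]
    ring
  obtain ⟨N, hNdef⟩ : ∃ N : Module.End F V, N = Nlog B a₁ (ρ / α) := ⟨_, rfl⟩
  have hNX : IsX X (1 + N) := by rw [hNdef]; exact isX_Nlog D hX a₁ (ρ / α)
  have hNsq : N * N = 0 := by rw [hNdef]; exact Nlog_sq D a₁ (ρ / α)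
  have hNapp : ∀ v, N v = ((ρ / α) * B v a₁) • a₁ := fun v => by rw [hNdef, Nlog_apply]
  have hNκ : N κ = 0 := by rw [hNapp, hκ, mul_zero, zero_smul]
  have hνN : ∀ v, ν (N v) = tr (ρ * B v a₁) • κ := by
    intro v
    have e : (ρ / α * B v a₁) * α = ρ * B v a₁ := by
      rw [mul_right_comm, div_mul_cancel₀ _ hα0]
    rw [hNapp, hν3, e]
  have hNν : ∀ v, N (ν v) = tr (B κ v) • (ρ • a₁) := by
    intro v
    rw [hNapp, hν4, mul_smul_comm, div_mul_cancel₀ _ hα0, smul_assoc]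
  have hνNν : ∀ v, ν (N (ν v)) = tr (B κ v) • (tr (ρ * α) • κ) := by
    intro v
    rw [hNν, LinearMap.map_smul, hν3]
  have hNνN : N * ν * N = 0 := by
    ext v
    rw [Module.End.mul_apply, Module.End.mul_apply, hνN, LinearMap.map_smul, hNκ, smul_zero]
    rfl
  have key : (1 + ν) * (1 + N) * (1 - ν) * (1 - N) = 1 + (ν * N - N * ν - ν * N * ν) := by
    have e : (1 + ν) * (1 + N) * (1 - ν) * (1 - N) = 1 + (ν * N - N * ν - ν * N * ν)
        + (-(ν * ν) + (ν * ν) * N - N * N + N * ν * N - ν * (N * N) + ν * (N * ν * N)) := by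
      noncomm_ring
    rw [e, hνsq, hNsq, hNνN]
    simp
  have hcomm : IsX X (1 + (ν * N - N * ν - ν * N * ν)) := by
    rw [← key]
    exact ((hνX.mul hNX).mul (hνX.unip_inv hνsq)).mul (hNX.unip_inv hNsq)
  have hR : ν * N - N * ν - ν * N * ν = Rm tr B a₁ α κ ρ := by
    ext v
    have e1 : tr (B v κ) = - tr (B κ v) := by rw [D.skew v κ, map_neg]
    simp only [LinearMap.sub_apply, Module.End.mul_apply, Rm_apply]
    rw [hνNν, hNν, hνN, B_smulK_right, e1]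
    module
  rw [← hR]
  exact hcomm

omit [Module.Finite K V] [Module.Finite F K] in
theorem exists_hmuE (D : SpD tr B) {a b : V} (hab : B a b = 1) {μ : K} (hμ : μ ≠ 0) :
    ∃ e : V ≃ₗ[K] V, (∀ v, e v = hmuK B a b μ v) ∧ (∀ v, e.symm v = hmuK B a b μ⁻¹ v) := by
  refine ⟨LinearEquiv.ofLinearMap (hmuK B a b μ) (hmuK B a b μ⁻¹) ?_ ?_, fun v => rfl, fun v => rfl⟩
  · ext v
    exact hmuK_mul D hab hμ v
  · ext v
    have := hmuK_mul D hab (inv_ne_zero hμ) v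
    rw [inv_inv] at this
    exact this

omit [Module.Finite K V] [Module.Finite F K] in
theorem Cfg.tv_of_h (D : SpD tr B) (hX : HXsp tr B X)
    (hXsp : ∀ g ∈ X, IsSp tr B ((g : V ≃ₗ[F] V) : V →ₗ[F] V))
    (h : Cfg B X g a₀ a₁ k₀ α) {b₁ : V} (hab : B a₁ b₁ = 1) {μ : K} (hμ0 : μ ≠ 0) (hμ1 : μ ≠ 1)
    (kκ kκ' : K) (hκ : B (g (kκ • a₀)) a₁ = 0) (hκ' : B (g (kκ' • a₀)) a₁ = 0)
    (hh : hmuK B a₁ b₁ μ (g (kκ • a₀)) = g (kκ' • a₀)) (c : F) :
    IsX X (1 + c • TV tr B (g (kκ' • a₀))) := by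
  obtain ⟨s', hs'⟩ := D.exists_tr_one (x := (1 - μ) * α)
    (mul_ne_zero (sub_ne_zero.mpr (Ne.symm hμ1)) h.hα)
  obtain ⟨ρ, hc⟩ : ∃ ρ : K, tr (ρ * α) - tr (μ * ρ * α) = c := by
    refine ⟨c • s', ?_⟩
    rw [← map_sub]
    have : c • s' * α - μ * (c • s') * α = c • (s' * ((1 - μ) * α)) := by
      rw [Algebra.smul_def, Algebra.smul_def]
      ring
    rw [this, tr_smulF, hs', mul_one]
  have hR := h.isX_Rm D hX hXsp kκ hκ ρ
  have hR' := h.isX_Rm D hX hXsp kκ' hκ' (μ * ρ)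
  obtain ⟨κ, hκdef⟩ : ∃ κ : V, κ = g (kκ • a₀) := ⟨_, rfl⟩
  obtain ⟨κ', hκ'def⟩ : ∃ κ' : V, κ' = g (kκ' • a₀) := ⟨_, rfl⟩
  rw [← hκdef] at hκ hh hR
  rw [← hκ'def] at hκ' hh hR' ⊢
  obtain ⟨he, he1, he2⟩ := exists_hmuE D hab hμ0
  obtain ⟨E, hEdef⟩ : ∃ E : Module.End F V, E = (he : V →ₗ[K] V).restrictScalars F := ⟨_, rfl⟩
  obtain ⟨E', hE'def⟩ : ∃ E' : Module.End F V, E' = (he.symm : V →ₗ[K] V).restrictScalars F :=
    ⟨_, rfl⟩
  have hEX : IsX X E := by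
    rw [hEdef]
    exact isX_of_klinear_sp hX he (by
      intro u v
      rw [he1, he1]
      exact hmuK_isom D hab hμ0 u v)
  have hEE' : E * E' = 1 := by
    rw [hEdef, hE'def]
    ext v
    simp
  have hEapp : ∀ v, E v = hmuK B a₁ b₁ μ v := fun v => by rw [hEdef]; exact he1 v
  have hE'app : ∀ u v, B (E' u) v = B u (E v) := by
    intro u v
    have := hmuK_isom D hab hμ0 (he.symm u) v
    rw [← he1, ← he1, LinearEquiv.apply_symm_apply] at this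
    rw [hEdef, hE'def]
    exact this.symm
  have hEa₁ : ∀ ρ : K, E (ρ • a₁) = (μ * ρ) • a₁ := by
    intro ρ
    rw [hEapp, hmuK_apply, B_smulK_left, hab, B_smulK_right, D.alt]
    module
  have hEκ : E κ = κ' := by rw [hEapp, hh]
  have hconj : IsX X (1 + E * Rm tr B a₁ α κ ρ * E') := hEX.conj hEE' hR
  have hfD : ∀ a, fD tr B a ∘ₗ E' = fD tr B (E a) := by
    intro a
    ext v
    simp only [LinearMap.comp_apply, fD_apply]
    rw [hE'app]
  have hid : E * Rm tr B a₁ α κ ρ * E' = Rm tr B a₁ α κ' (μ * ρ) + c • TV tr B κ' := by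
    have hRm' : Rm tr B a₁ α κ' (μ * ρ) = r1 (fD tr B ((μ * ρ) • a₁)) κ'
        + r1 (fD tr B κ') ((μ * ρ) • a₁) + tr (μ * ρ * α) • r1 (fD tr B κ') κ' := rfl
    have hTV : TV tr B κ' = r1 (fD tr B κ') κ' := rfl
    have hRm : Rm tr B a₁ α κ ρ = r1 (fD tr B (ρ • a₁)) κ
        + r1 (fD tr B κ) (ρ • a₁) + tr (ρ * α) • r1 (fD tr B κ) κ := rfl
    rw [hRm', hTV, hRm]
    simp only [mul_add, add_mul, mul_smul_comm, smul_mul_assoc, r1_conj, hfD, hEa₁, hEκ]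
    rw [← hc, sub_smul]
    abel
  rw [hid] at hconj
  have hRT : Rm tr B a₁ α κ' (μ * ρ) * (c • TV tr B κ') = 0 := by
    ext v
    simp [Rm_apply, hκ', D.alt]
  obtain ⟨Q, hQX, hQ1, hQ2⟩ := hR'.exists_inv
  have hfin : 1 + c • TV tr B κ' =
      Q * (1 + (Rm tr B a₁ α κ' (μ * ρ) + c • TV tr B κ')) := by
    have e : 1 + (Rm tr B a₁ α κ' (μ * ρ) + c • TV tr B κ') =
        (1 + Rm tr B a₁ α κ' (μ * ρ)) * (1 + c • TV tr B κ') := by
      rw [add_mul, one_mul, mul_add, mul_one, hRT, add_zero]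
      abel
    rw [e, ← mul_assoc, hQ2, one_mul]
  rw [hfin]
  exact hQX.mul hconj

theorem Cfg.caseA (D : SpD tr B) (hX : HXsp tr B X)
    (hXsp : ∀ g ∈ X, IsSp tr B ((g : V ≃ₗ[F] V) : V →ₗ[F] V)) (hr2 : 2 ≤ finrank F K)
    (h : Cfg B X g a₀ a₁ k₀ α) (kκ : K) (hκ : B (g (kκ • a₀)) a₁ = 0)
    (hnot : ∀ s : K, g (kκ • a₀) ≠ s • a₁) (c : F) :
    IsX X (1 + c • TV tr B (g (kκ • a₀))) := by
  have ha₁ := h.ha₁
  have hκ0 : g (kκ • a₀) ≠ 0 := fun h0 => hnot 0 (by rw [h0, zero_smul])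
  have hind : ∀ t : K, a₁ ≠ t • g (kκ • a₀) := by
    intro t ht
    by_cases ht0 : t = 0
    · rw [ht0, zero_smul] at ht
      exact ha₁ ht
    · apply hnot t⁻¹
      have : t⁻¹ • a₁ = t⁻¹ • (t • g (kκ • a₀)) := congrArg (fun z => t⁻¹ • z) ht
      rw [this, smul_smul, inv_mul_cancel₀ ht0, one_smul]
  obtain ⟨μa, μb, -, -, h1, h2⟩ := exists_dual_pair' (K := K) hκ0 hind
  obtain ⟨b₁, hb₁⟩ := D.exists_repr μb
  have hab : B a₁ b₁ = 1 := by rw [← hb₁, h2]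
  have hκb : B (g (kκ • a₀)) b₁ = 0 := by rw [← hb₁, h1]
  obtain ⟨w, hw⟩ := exists_not_mem_line (K := F) (V := K) hr2 (1 : K)
  have hw0 : w ≠ 0 := by
    have := hw 0
    simpa using this
  have hw1 : w ≠ 1 := by
    have := hw 1
    simpa using this
  have hh : hmuK B a₁ b₁ w (g (kκ • a₀)) = g (kκ • a₀) := by
    rw [hmuK_apply, hκb, D.skew a₁ (g (kκ • a₀)), hκ]
    simp
  exact h.tv_of_h D hX hXsp hab hw0 hw1 kκ kκ hκ hκ hh c

theorem tv_of_cfg (D : SpD tr B) (hX : HXsp tr B X)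
    (hXsp : ∀ g ∈ X, IsSp tr B ((g : V ≃ₗ[F] V) : V →ₗ[F] V)) (hr : (finrank F K).Prime)
    (hsmall : Nat.card F = 2 → finrank F K = 2 → 3 ≤ finrank K V)
    (h : Cfg B X g a₀ a₁ k₀ α) (k₁ : K) (hk₁0 : k₁ ≠ 0) (hk₁ : B (g (k₁ • a₀)) a₁ = 0) :
    ∃ κ : V, κ ≠ 0 ∧ ∀ c : F, IsX X (1 + c • TV tr B κ) := by
  have ha₁ := h.ha₁
  have hginj : ∀ k : K, g (k • a₀) = 0 → k = 0 := by
    intro k h0
    have := g.injective (h0.trans (map_zero g).symm)
    rcases smul_eq_zero.mp this with h4 | h4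
    · exact h4
    · exact absurd h4 h.ha₀
  have hginj2 : ∀ k k' : K, g (k • a₀) = g (k' • a₀) → k = k' := by
    intro k k' h0
    have := g.injective h0
    have h3 : (k - k') • a₀ = 0 := by rw [sub_smul, this, sub_self]
    rcases smul_eq_zero.mp h3 with h4 | h4
    · exact sub_eq_zero.mp h4
    · exact absurd h4 h.ha₀
  have hκ₁0 : g (k₁ • a₀) ≠ 0 := fun h0 => hk₁0 (hginj k₁ h0)
  by_cases hA : ∃ k : K, B (g (k • a₀)) a₁ = 0 ∧ ∀ s : K, g (k • a₀) ≠ s • a₁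
  · obtain ⟨k, hk, hnot⟩ := hA
    exact ⟨g (k • a₀), fun h0 => hnot 0 (by rw [h0, zero_smul]),
      fun c => h.caseA D hX hXsp hr.two_le k hk hnot c⟩
  push Not at hA
  obtain ⟨s₁, hs₁⟩ := hA k₁ hk₁
  have hs₁0 : s₁ ≠ 0 := by
    rintro rfl
    rw [zero_smul] at hs₁
    exact hκ₁0 hs₁
  by_cases hB : ∃ k₂ : K, B (g (k₂ • a₀)) a₁ = 0 ∧ g (k₂ • a₀) ≠ 0 ∧ g (k₂ • a₀) ≠ g (k₁ • a₀)
  · obtain ⟨k₂, hk₂, hk₂0, hk₂1⟩ := hB
    obtain ⟨s₂, hs₂⟩ := hA k₂ hk₂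
    have hs₂0 : s₂ ≠ 0 := by
      rintro rfl
      rw [zero_smul] at hs₂
      exact hk₂0 hs₂
    have hμ0 : s₂ / s₁ ≠ 0 := div_ne_zero hs₂0 hs₁0
    have hμ1 : s₂ / s₁ ≠ 1 := by
      intro h1
      rw [div_eq_one_iff_eq hs₁0] at h1
      apply hk₂1
      rw [hs₂, hs₁, h1]
    obtain ⟨b₁, hab⟩ : ∃ b₁, B a₁ b₁ = 1 := by
      have : ∃ v, B a₁ v ≠ 0 := by
        by_contra hcon
        push Not at hcon
        exact ha₁ (D.nd a₁ hcon)
      obtain ⟨v, hv⟩ := this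
      exact ⟨(B a₁ v)⁻¹ • v, by rw [B_smulK_right, inv_mul_cancel₀ hv]⟩
    have hh : hmuK B a₁ b₁ (s₂ / s₁) (g (k₁ • a₀)) = g (k₂ • a₀) := by
      rw [hs₁, hs₂, hmuK_apply, B_smulK_left, hab, B_smulK_right, D.alt]
      have e : (s₂ / s₁ - 1) * (s₁ * 1) = s₂ - s₁ := by
        field_simp
      rw [e, mul_zero, mul_zero, zero_smul, add_zero, sub_smul]
      abel
    exact ⟨g (k₂ • a₀), hk₂0, fun c => h.tv_of_h D hX hXsp hab hμ0 hμ1 k₁ k₂ hk₁ hk₂ hh c⟩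
  push Not at hB
  -- the small case
  have hF01 : ∀ c : F, c = 0 ∨ c = 1 := by
    intro c
    by_contra hcon
    push Not at hcon
    have hck : B (g ((c • k₁) • a₀)) a₁ = 0 := by
      rw [smul_assoc, LinearEquiv.map_smul, B_smulF_left, hk₁, smul_zero]
    have hne : g ((c • k₁) • a₀) ≠ 0 := by
      intro h0
      exact smul_ne_zero hcon.1 hk₁0 (hginj _ h0)
    have h2 := hginj2 _ _ (hB (c • k₁) hck hne)
    have h5 : (c - 1) • k₁ = 0 := by rw [sub_smul, one_smul, h2, sub_self]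
    rcases smul_eq_zero.mp h5 with h6 | h6
    · exact hcon.2 (sub_eq_zero.mp h6)
    · exact hk₁0 h6
  have hcardF : Nat.card F = 2 := by
    rw [Nat.card_eq_two_iff]
    refine ⟨0, 1, zero_ne_one, ?_⟩
    ext c
    simp only [Set.mem_insert_iff, Set.mem_singleton_iff, Set.mem_univ, iff_true]
    exact hF01 c
  have hrank : finrank F K = 2 := by
    have h1 := LinearMap.finrank_range_add_finrank_ker (PhiS B g a₀ a₁)
    have h2 : finrank F (LinearMap.range (PhiS B g a₀ a₁)) ≤ 1 := by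
      have hle : LinearMap.range (PhiS B g a₀ a₁) ≤ Submodule.span F {α} := by
        rintro _ ⟨k, rfl⟩
        obtain ⟨c, hc⟩ := h.hA k
        rw [PhiS_apply, hc]
        exact Submodule.smul_mem _ _ (Submodule.mem_span_singleton_self α)
      exact (Submodule.finrank_mono hle).trans (by rw [finrank_span_singleton h.hα])
    have h3 : finrank F (LinearMap.ker (PhiS B g a₀ a₁)) ≤ 1 := by
      have hle : LinearMap.ker (PhiS B g a₀ a₁) ≤ Submodule.span F {k₁} := by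
        intro k hk
        rw [LinearMap.mem_ker, PhiS_apply] at hk
        by_cases hk0 : g (k • a₀) = 0
        · rw [hginj k hk0]
          exact Submodule.zero_mem _
        · rw [hginj2 _ _ (hB k hk hk0)]
          exact Submodule.mem_span_singleton_self k₁
      exact (Submodule.finrank_mono hle).trans (by rw [finrank_span_singleton hk₁0])
    have := hr.two_le
    omega
  have h3 := hsmall hcardF hrank
  -- a vector orthogonal to `a₁` and `t₀`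
  obtain ⟨y, hy0, hy1, hy2⟩ : ∃ y : V, y ≠ 0 ∧ B a₁ y = 0 ∧ B (g (k₀ • a₀)) y = 0 := by
    let Ψ : V →ₗ[K] K × K := (B a₁).prod (B (g (k₀ • a₀)))
    have h1 := LinearMap.finrank_range_add_finrank_ker Ψ
    have h2 : finrank K (LinearMap.range Ψ) ≤ 2 := by
      have := Submodule.finrank_le (LinearMap.range Ψ)
      rwa [Module.finrank_prod, Module.finrank_self] at this
    have h4 : 0 < finrank K (LinearMap.ker Ψ) := by omega
    obtain ⟨⟨y, hyker⟩, hy0⟩ := Module.finrank_pos_iff_exists_ne_zero.mp h4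
    have hy0' : y ≠ 0 := fun h0 => hy0 (Subtype.ext h0)
    rw [LinearMap.mem_ker, LinearMap.prod_apply, Prod.mk_eq_zero] at hyker
    exact ⟨y, hy0', hyker.1, hyker.2⟩
  -- `B z y = 0` on `T`
  have hTy : ∀ k : K, B (g (k • a₀)) y = 0 := by
    intro k
    obtain ⟨c, hc⟩ := h.hA k
    have e : g (k • a₀) = g ((k - c • k₀) • a₀) + c • g (k₀ • a₀) := by
      rw [sub_smul, map_sub, smul_assoc, LinearEquiv.map_smul]
      abel
    have hk' : B (g ((k - c • k₀) • a₀)) a₁ = 0 := by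
      have e' : g ((k - c • k₀) • a₀) = g (k • a₀) - c • g (k₀ • a₀) := by
        rw [e]; abel
      rw [e', map_sub, LinearMap.sub_apply, B_smulF_left, hc, h.hk₀, sub_self]
    have hz : B (g ((k - c • k₀) • a₀)) y = 0 := by
      by_cases hz0 : g ((k - c • k₀) • a₀) = 0
      · rw [hz0, map_zero, LinearMap.zero_apply]
      · rw [hB _ hk' hz0, hs₁, B_smulK_left, hy1, mul_zero]
    rw [e, map_add, LinearMap.add_apply, hz, B_smulF_left, hy2, smul_zero, add_zero]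
  have hcfg' : Cfg B X g a₀ (a₁ + y) k₀ α := by
    refine ⟨h.gX, h.ha₀, ?_, h.hα, ?_⟩
    · rw [map_add, h.hk₀, hTy, add_zero]
    · intro k
      obtain ⟨c, hc⟩ := h.hA k
      exact ⟨c, by rw [map_add, hc, hTy, add_zero]⟩
  have hκ' : B (g (k₁ • a₀)) (a₁ + y) = 0 := by rw [map_add, hk₁, hTy, add_zero]
  have hnot : ∀ s : K, g (k₁ • a₀) ≠ s • (a₁ + y) := by
    intro s hs
    have e1 : B (g (k₀ • a₀)) (g (k₁ • a₀)) = s₁ * α := by
      rw [hs₁, B_smulK_right, h.hk₀]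
    have e2 : B (g (k₀ • a₀)) (g (k₁ • a₀)) = s * α := by
      rw [hs, B_smulK_right, map_add, h.hk₀, hy2, add_zero]
    have hss : s₁ = s := mul_right_cancel₀ h.hα (e1.symm.trans e2)
    rw [hs₁, ← hss, smul_add] at hs
    have : s₁ • y = 0 := by
      have := congrArg (fun z => z - s₁ • a₁) hs
      simpa using this.symm
    rcases smul_eq_zero.mp this with h4 | h4
    · exact hs₁0 h4
    · exact hy0 h4
  exact ⟨g (k₁ • a₀), hκ₁0, fun c => hcfg'.caseA D hX hXsp hr.two_le k₁ hκ' hnot c⟩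

end Cfsg.Agent.Lib.Helper13.SP
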