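import Cfsg.Agent.Lib.Helper13.SPC

set_option autoImplicit false
set_option linter.unusedSimpArgs false
set_option linter.unusedVariables false
set_option linter.unusedSectionVars false

/-! # Symplectic C3 maximality: all transvections, and the abstract theorem -/

namespace Cfsg.Agent.Lib.Helper13.SP

open Module
open Cfsg.Agent.Lib.Helper13.CF

variable {F K V : Type*} [Field F] [Field K] [Algebra F K] [AddCommGroup V] [Module F V]
  [Module K V] [IsScalarTower F K V]

variable {tr : K →ₗ[F] F} {B : V →ₗ[K] V →ₗ[K] K} {X : Subgroup (V ≃ₗ[F] V)}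

theorem TV_conj {E E' : Module.End F V} (hEE' : E * E' = 1) (hE : IsSp tr B E) (a : V) :
    E * TV tr B a * E' = TV tr B (E a) := by
  unfold TV
  rw [r1_conj]
  congr 1
  ext v
  simp only [LinearMap.comp_apply, fD_apply]
  have := hE (E' v) a
  have h2 : E (E' v) = v := by
    have := LinearMap.congr_fun hEE' v
    simpa using this
  rw [h2] at this
  exact this.symm

theorem tv_transfer (D : SpD tr B) (hX : HXsp tr B X)
    (hXsp : ∀ g ∈ X, IsSp tr B ((g : V ≃ₗ[F] V) : V →ₗ[F] V)) {u v : V} (huv : B v u ≠ 0)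
    (hv : ∀ c : F, IsX X (1 + c • TV tr B v)) (c : F) : IsX X (1 + c • TV tr B u) := by
  obtain ⟨N, hNdef⟩ : ∃ N : Module.End F V, N = Nlog B (u - v) (B v u)⁻¹ := ⟨_, rfl⟩
  have hN : IsX X (1 + N) := by rw [hNdef]; exact isX_Nlog D hX _ _
  have hNsq : N * N = 0 := by rw [hNdef]; exact Nlog_sq D _ _
  have hinv : (1 + N) * (1 - N) = 1 := by
    have : (1 + N) * (1 - N) = 1 - N * N := by noncomm_ring
    rw [this, hNsq, sub_zero]
  have hsp : IsSp tr B (1 + N) := by
    obtain ⟨e, heX, he⟩ := hN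
    rw [← he]
    exact hXsp e heX
  have hEv : (1 + N) v = u := by
    rw [LinearMap.add_apply, Module.End.one_apply, hNdef, Nlog_apply, map_sub, D.alt, sub_zero,
      inv_mul_cancel₀ huv, one_smul]
    abel
  have := hN.conj hinv (hv c)
  rw [mul_smul_comm, smul_mul_assoc, TV_conj hinv hsp, hEv] at this
  exact this

theorem all_tv (D : SpD tr B) (hX : HXsp tr B X)
    (hXsp : ∀ g ∈ X, IsSp tr B ((g : V ≃ₗ[F] V) : V →ₗ[F] V)) {κ : V} (hκ0 : κ ≠ 0)
    (hκ : ∀ c : F, IsX X (1 + c • TV tr B κ)) (u : V) (c : F) : IsX X (1 + c • TV tr B u) := by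
  by_cases hu : u = 0
  · subst hu
    have : TV tr B (0 : V) = 0 := by
      ext v
      simp
    rw [this, smul_zero, add_zero]
    exact IsX.one
  by_cases h1 : B κ u ≠ 0
  · exact tv_transfer D hX hXsp h1 hκ c
  push Not at h1
  have hex : ∀ w : V, w ≠ 0 → ∃ z, B w z ≠ 0 := by
    intro w hw
    by_contra hcon
    push Not at hcon
    exact hw (D.nd w hcon)
  obtain ⟨z₁, hz₁⟩ := hex κ hκ0
  obtain ⟨z₂, hz₂⟩ := hex u hu
  obtain ⟨z, hzκ, hzu⟩ : ∃ z, B κ z ≠ 0 ∧ B u z ≠ 0 := by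
    by_cases h2 : B u z₁ ≠ 0
    · exact ⟨z₁, hz₁, h2⟩
    push Not at h2
    by_cases h3 : B κ z₂ ≠ 0
    · exact ⟨z₂, h3, hz₂⟩
    push Not at h3
    refine ⟨z₁ + z₂, ?_, ?_⟩
    · rw [map_add, h3, add_zero]; exact hz₁
    · rw [map_add, h2, zero_add]; exact hz₂
  have hz : ∀ c : F, IsX X (1 + c • TV tr B z) := fun c => tv_transfer D hX hXsp hzκ hκ c
  have hzu' : B z u ≠ 0 := by
    rw [D.skew]
    exact neg_ne_zero.mpr hzu
  exact tv_transfer D hX hXsp hzu' hz c

/-- the abstract theorem: an overgroup of the semilinear isometries, inside the `F`-symplectic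
group, containing a non-semilinear element contains all symplectic `F`-transvections -/
theorem sp_core [Module.Finite K V] [Module.Finite F K] [Finite V] [Finite K] (D : SpD tr B)
    (hX : HXsp tr B X)
    (hXsp : ∀ g ∈ X, IsSp tr B ((g : V ≃ₗ[F] V) : V →ₗ[F] V)) (hr : (finrank F K).Prime)
    (hm : 2 ≤ finrank K V)
    (hsmall : Nat.card F = 2 → finrank F K = 2 → 3 ≤ finrank K V)
    (x : V ≃ₗ[F] V) (hx : x ∈ X) (hn : ¬ NormE K (x : V →ₗ[F] V)) (u : V) (c : F) :
    IsX X (1 + c • TV tr B u) := by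
  obtain ⟨g, a₀, a₁, k₀, hgX, ha₀, hα, hA, k₁, hk₁0, hk₁⟩ :=
    exists_config D hX hXsp hr hm x hx hn
  have hcfg : Cfg B X g a₀ a₁ k₀ (B (g (k₀ • a₀)) a₁) := ⟨hgX, ha₀, rfl, hα, hA⟩
  obtain ⟨κ, hκ0, hκ⟩ := tv_of_cfg D hX hXsp hr hsmall hcfg k₁ hk₁0 hk₁
  exact all_tv D hX hXsp hκ0 hκ u c

/-- constructing the `K`-form from an `F`-form for which `K` is self-adjoint -/
theorem exists_B [Module.Finite K V] [Module.Finite F K] (tr : K →ₗ[F] F) (htr : tr ≠ 0)
    (f : V →ₗ[F] V →ₗ[F] F)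
    (hsa : ∀ (k : K) (u v : V), f (k • u) v = f u (k • v))
    (halt : ∀ (k : K) (v : V), f (k • v) v = 0)
    (hnd : ∀ u, (∀ v, f u v = 0) → u = 0) :
    ∃ B : V →ₗ[K] V →ₗ[K] K, SpD tr B ∧ ∀ u v, tr (B u v) = f u v := by
  have hex : ∀ u : V, ∃ μ : V →ₗ[K] K, f u = tr ∘ₗ μ.restrictScalars F :=
    fun u => exists_klin_of_dual tr htr (f u)
  choose μ hμ using hex
  have hμ' : ∀ u v, tr (μ u v) = f u v := by
    intro u v
    rw [hμ u]
    rfl
  have huniq : ∀ φ ψ : V →ₗ[K] K, (∀ v, tr (φ v) = tr (ψ v)) → φ = ψ := by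
    intro φ ψ h
    ext v
    rw [← sub_eq_zero]
    apply tr_zero_of_ne htr
    intro k
    rw [mul_sub, map_sub, ← smul_eq_mul, ← smul_eq_mul, ← map_smul, ← map_smul, h, sub_self]
  have hμadd : ∀ u u', μ (u + u') = μ u + μ u' := by
    intro u u'
    apply huniq
    intro w
    rw [LinearMap.add_apply, map_add, hμ', hμ', hμ', map_add, LinearMap.add_apply]
  have hμsmul : ∀ (k : K) u, μ (k • u) = k • μ u := by
    intro k u
    apply huniq
    intro w
    rw [LinearMap.smul_apply, hμ', hsa, ← hμ', map_smul]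
  let B : V →ₗ[K] V →ₗ[K] K := LinearMap.mk₂ K (fun u v => μ u v)
    (by
      intro u u' v
      rw [hμadd, LinearMap.add_apply])
    (by
      intro k u v
      rw [hμsmul, LinearMap.smul_apply])
    (by
      intro u v v'
      rw [map_add])
    (by
      intro k u v
      rw [map_smul])
  have hB : ∀ u v, B u v = μ u v := fun u v => rfl
  refine ⟨B, ⟨htr, ?_, ?_⟩, fun u v => by rw [hB, hμ']⟩
  · intro v
    apply tr_zero_of_ne htr
    intro k
    rw [hB]
    have : k * μ v v = μ (k • v) v := by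
      rw [hμsmul, LinearMap.smul_apply, smul_eq_mul]
    rw [this, hμ', halt]
  · intro u hu
    apply hnd
    intro v
    rw [← hμ', ← hB, hu, map_zero]

end Cfsg.Agent.Lib.Helper13.SP
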