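import Cfsg.Agent.Lib.Helper13.SPD
import Cfsg.Agent.Lib.Helper99.SpMax
import Cfsg.Prelude.Def_GeometricClasses

set_option autoImplicit false
set_option linter.unusedSimpArgs false
set_option linter.unusedVariables false
set_option linter.unusedSectionVars false
set_option linter.style.haveILetI false

/-! # Symplectic C3 maximality: the bridge to matrices -/

namespace Cfsg.Agent.Lib.Helper13.SP

open Module Matrix
open Cfsg.Agent.Lib.Helper13.CF

section general

variable {F : Type*} [Field F] {I : Type} [Fintype I] [DecidableEq I] {K' : Type*} [Field K']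
  [Algebra F K'] (ι : K' →ₐ[F] Matrix I I F)

/-- the vector space structure over `K'` on `F^I` given by an embedding of `K'` into the matrix
algebra -/
@[reducible] def modOfI : Module K' (I → F) :=
  Module.compHom (I → F)
    (((Matrix.toLinAlgEquiv' : Matrix I I F ≃ₐ[F] _).toAlgHom.comp ι).toRingHom)

theorem modOfI_smul (k : K') (v : I → F) :
    (letI := modOfI ι; k • v) = (ι k) *ᵥ v := rfl

theorem modOfI_tower : letI := modOfI ι; IsScalarTower F K' (I → F) := by
  letI := modOfI ι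
  refine ⟨fun f k v => ?_⟩
  rw [modOfI_smul, modOfI_smul, map_smul, Matrix.smul_mulVec]

/-- the isomorphism between `GL_I(F)` and the linear automorphisms of `F^I` -/
def ΘI : GL I F ≃* ((I → F) ≃ₗ[F] (I → F)) :=
  Matrix.GeneralLinearGroup.toLin.trans
    (LinearMap.GeneralLinearGroup.generalLinearEquiv F (I → F))

theorem ΘI_apply (g : GL I F) (v : I → F) : ΘI g v = g.1 *ᵥ v := rfl

theorem ΘI_coe (g : GL I F) :
    ((ΘI g : (I → F) ≃ₗ[F] (I → F)) : (I → F) →ₗ[F] (I → F)) =
      Matrix.toLin' g.1 := by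
  ext v : 1
  rfl

/-- matrix form of semilinearity -/
def SemiMI (g : GL I F) : Prop := ∀ k : K', ∃ k' : K', g.1 * ι k = ι k' * g.1

theorem normE_iffI (g : GL I F) :
    (letI := modOfI ι; NormE K' ((ΘI g : (I → F) ≃ₗ[F] (I → F)) :
      (I → F) →ₗ[F] (I → F))) ↔ SemiMI ι g := by
  letI := modOfI ι
  constructor
  · intro h k
    obtain ⟨k', hk'⟩ := h k
    refine ⟨k', ?_⟩
    apply Matrix.toLin'.injective
    apply LinearMap.ext
    intro v
    have := hk' v
    rw [ΘI_coe, Matrix.toLin'_apply, Matrix.toLin'_apply, modOfI_smul, modOfI_smul,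
      Matrix.mulVec_mulVec, Matrix.mulVec_mulVec] at this
    rw [Matrix.toLin'_apply, Matrix.toLin'_apply]
    exact this
  · intro h k
    obtain ⟨k', hk'⟩ := h k
    refine ⟨k', fun v => ?_⟩
    rw [ΘI_coe, Matrix.toLin'_apply, Matrix.toLin'_apply, modOfI_smul, modOfI_smul,
      Matrix.mulVec_mulVec, Matrix.mulVec_mulVec, hk']

theorem mem_normalizer_iffI [Finite K'] (hι : Function.Injective ι) (g : GL I F) :
    g ∈ Cfsg.Geo.subalgebraNormalizer ι.range ↔ SemiMI ι g := by
  have hginv : g.1 * (g⁻¹ : GL I F).1 = 1 := by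
    rw [← Units.val_mul, mul_inv_cancel, Units.val_one]
  have hginv' : (g⁻¹ : GL I F).1 * g.1 = 1 := by
    rw [← Units.val_mul, inv_mul_cancel, Units.val_one]
  constructor
  · intro h k
    have h1 := (h (ι k)).mp ⟨k, rfl⟩
    obtain ⟨k', hk'⟩ := h1
    refine ⟨k', ?_⟩
    have hk'' : ι k' = g.1 * ι k * (g⁻¹ : GL I F).1 := hk'
    rw [hk'', mul_assoc, hginv', mul_one]
  · intro h M
    have hconj : ∀ k : K', ∃ k' : K', g.1 * ι k * (g⁻¹ : GL I F).1 = ι k' := by
      intro k
      obtain ⟨k', hk'⟩ := h k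
      exact ⟨k', by rw [hk', mul_assoc, hginv, mul_one]⟩
    choose c hc using hconj
    have hcinj : Function.Injective c := by
      intro k₁ k₂ h12
      apply hι
      have h1 := hc k₁
      have h2 := hc k₂
      rw [h12] at h1
      have h3 : g.1 * ι k₁ * (g⁻¹ : GL I F).1 = g.1 * ι k₂ * (g⁻¹ : GL I F).1 :=
        h1.trans h2.symm
      have h4 := congrArg (fun X => (g⁻¹ : GL I F).1 * X * g.1) h3
      simp only [mul_assoc, hginv', mul_one] at h4
      simp only [← mul_assoc, hginv', one_mul] at h4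
      exact h4
    have hcsurj : Function.Surjective c := Finite.injective_iff_surjective.mp hcinj
    constructor
    · rintro ⟨k, rfl⟩
      exact ⟨c k, (hc k).symm⟩
    · rintro ⟨k', hk'⟩
      obtain ⟨k, rfl⟩ := hcsurj k'
      refine ⟨k, ?_⟩
      have hk'' : ι (c k) = g.1 * M * (g⁻¹ : GL I F).1 := hk'
      rw [← hc k] at hk''
      have h4 := congrArg (fun X => (g⁻¹ : GL I F).1 * X * g.1) hk''
      simp only [mul_assoc, hginv', mul_one] at h4
      simp only [← mul_assoc, hginv', one_mul] at h4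
      exact h4

end general

section main

variable {F : Type*} [Field F] [Fintype F] (m : ℕ) {K' : Type*} [Field K'] [Algebra F K']
  [Finite K'] (ι : K' →ₐ[F] Matrix (Fin m ⊕ Fin m) (Fin m ⊕ Fin m) F)
  (hι : Function.Injective ι)

include hι

/-- the maximality theorem for an embedded field, symplectic case -/
theorem sp_main_embedded (hm : 7 ≤ m) (hr : (finrank F K').Prime)
    (hsa : ∀ (k : K') (u v : Fin m ⊕ Fin m → F),
      Cfsg.sympForm m F (ι k *ᵥ u) v = Cfsg.sympForm m F u (ι k *ᵥ v))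
    (halt : ∀ (k : K') (v : Fin m ⊕ Fin m → F), Cfsg.sympForm m F (ι k *ᵥ v) v = 0) :
    Cfsg.Geo.IsMaximalIn (Cfsg.spGL m F)
      (Cfsg.Geo.subalgebraNormalizer ι.range ⊓ Cfsg.spGL m F) := by
  classical
  letI := modOfI ι
  haveI := modOfI_tower ι
  haveI : Module.Finite F K' := Module.finite_of_finrank_pos hr.pos
  haveI : Module.Finite K' (Fin m ⊕ Fin m → F) := Module.Finite.of_finite
  have hmul := Module.finrank_mul_finrank F K' (Fin m ⊕ Fin m → F)
  have hdim : finrank F (Fin m ⊕ Fin m → F) = 2 * m := by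
    rw [Module.finrank_pi, Fintype.card_sum, Fintype.card_fin]
    ring
  rw [hdim] at hmul
  have hd2 : 2 ≤ finrank K' (Fin m ⊕ Fin m → F) := by
    by_contra hcon
    push Not at hcon
    have : finrank K' (Fin m ⊕ Fin m → F) = 0 ∨ finrank K' (Fin m ⊕ Fin m → F) = 1 := by omega
    rcases this with h0 | h0
    · rw [h0, mul_zero] at hmul
      omega
    · rw [h0, mul_one] at hmul
      have h2 : 2 ∣ finrank F K' := ⟨m, hmul⟩
      have h3 := (Nat.prime_dvd_prime_iff_eq Nat.prime_two hr).mp h2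
      omega
  have hsmall : Nat.card F = 2 → finrank F K' = 2 → 3 ≤ finrank K' (Fin m ⊕ Fin m → F) := by
    intro _ hr2
    rw [hr2] at hmul
    omega
  -- the trace-like functional
  obtain ⟨tr, htr1⟩ := exists_coord (F := F) (b := (1 : K')) one_ne_zero
  have htr : tr ≠ 0 := by
    rintro rfl
    simp at htr1
  -- the `K'`-form
  obtain ⟨B, D, hB⟩ := exists_B (K := K') tr htr (Cfsg.Agent.Lib.Helper99.sympB (F := F) m)
    (by
      intro k u v
      rw [Cfsg.Agent.Lib.Helper99.sympB_apply, Cfsg.Agent.Lib.Helper99.sympB_apply]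
      exact hsa k u v)
    (by
      intro k v
      rw [Cfsg.Agent.Lib.Helper99.sympB_apply]
      exact halt k v)
    (fun u hu => (Cfsg.Agent.Lib.Helper99.sympB_nondegenerate (F := F) m).1 u hu)
  have hBf : ∀ u v : Fin m ⊕ Fin m → F, tr (B u v) = Cfsg.sympForm m F u v := by
    intro u v
    rw [hB, Cfsg.Agent.Lib.Helper99.sympB_apply]
  have hNormE : ∀ g : GL (Fin m ⊕ Fin m) F, g ∈ Cfsg.Geo.subalgebraNormalizer ι.range ↔
      NormE K' ((ΘI g : (Fin m ⊕ Fin m → F) ≃ₗ[F] (Fin m ⊕ Fin m → F)) :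
        (Fin m ⊕ Fin m → F) →ₗ[F] (Fin m ⊕ Fin m → F)) := by
    intro g
    rw [mem_normalizer_iffI ι hι, ← normE_iffI]
  have hSp : ∀ g : GL (Fin m ⊕ Fin m) F, g ∈ Cfsg.spGL m F ↔
      IsSp tr B ((ΘI g : (Fin m ⊕ Fin m → F) ≃ₗ[F] (Fin m ⊕ Fin m → F)) :
        (Fin m ⊕ Fin m → F) →ₗ[F] (Fin m ⊕ Fin m → F)) := by
    intro g
    rw [Cfsg.Agent.Lib.Helper99.mem_spGL_iff]
    constructor
    · intro h u v
      change tr (B (g.1 *ᵥ u) (g.1 *ᵥ v)) = tr (B u v)
      rw [hBf, hBf]
      exact h u v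
    · intro h u v
      have := h u v
      change tr (B (g.1 *ᵥ u) (g.1 *ᵥ v)) = tr (B u v) at this
      rw [hBf, hBf] at this
      exact this
  -- the key containment
  have hkey : ∀ M : Subgroup (GL (Fin m ⊕ Fin m) F),
      Cfsg.Geo.subalgebraNormalizer ι.range ⊓ Cfsg.spGL m F ≤ M → M ≤ Cfsg.spGL m F →
      ¬ M ≤ Cfsg.Geo.subalgebraNormalizer ι.range → M = Cfsg.spGL m F := by
    intro M h1 hM h2
    obtain ⟨x, hxM, hxN⟩ := SetLike.not_le_iff_exists.mp h2
    set X : Subgroup ((Fin m ⊕ Fin m → F) ≃ₗ[F] (Fin m ⊕ Fin m → F)) :=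
      M.comap ΘI.symm.toMonoidHom with hXdef
    have hXmem : ∀ f, f ∈ X ↔ ΘI.symm f ∈ M := fun f => Iff.rfl
    have hHX : HXsp tr B X := by
      intro f hf hN
      rw [hXmem]
      apply h1
      rw [Subgroup.mem_inf]
      refine ⟨?_, ?_⟩
      · rw [hNormE, MulEquiv.apply_symm_apply]
        exact hN
      · rw [hSp, MulEquiv.apply_symm_apply]
        exact hf
    have hXsp : ∀ g ∈ X, IsSp tr B ((g : (Fin m ⊕ Fin m → F) ≃ₗ[F] (Fin m ⊕ Fin m → F)) :
        (Fin m ⊕ Fin m → F) →ₗ[F] (Fin m ⊕ Fin m → F)) := by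
      intro g hg
      have := (hSp _).mp (hM ((hXmem g).mp hg))
      rwa [MulEquiv.apply_symm_apply] at this
    have hx : ΘI x ∈ X := by
      rw [hXmem, MulEquiv.symm_apply_apply]
      exact hxM
    have hxn : ¬ NormE K' ((ΘI x : (Fin m ⊕ Fin m → F) ≃ₗ[F] (Fin m ⊕ Fin m → F)) :
        (Fin m ⊕ Fin m → F) →ₗ[F] (Fin m ⊕ Fin m → F)) := by
      intro hN
      exact hxN ((hNormE x).mpr hN)
    apply Cfsg.Agent.Lib.Helper99.eq_spGL_of_stv_mem m M hM
    intro u c
    obtain ⟨e, heX, he⟩ := sp_core D hHX hXsp hr hd2 hsmall (ΘI x) hx hxn u c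
    have hmem := (hXmem e).mp heX
    have heq : ΘI.symm e = Cfsg.Agent.Lib.Helper99.stv m u c := by
      apply ΘI.injective
      rw [MulEquiv.apply_symm_apply]
      apply LinearEquiv.ext
      intro v
      have h3 : e v = (1 + c • TV tr B u) v := by
        rw [← he]
        rfl
      rw [h3, ΘI_apply, Cfsg.Agent.Lib.Helper99.stv_mulVec, LinearMap.add_apply,
        Module.End.one_apply, LinearMap.smul_apply, TV_apply, hBf, smul_smul]
    rw [← heq]
    exact hmem
  -- an element outside the normaliser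
  have hex : ∃ t : GL (Fin m ⊕ Fin m) F, t ∈ Cfsg.spGL m F ∧
      t ∉ Cfsg.Geo.subalgebraNormalizer ι.range := by
    obtain ⟨u, hu⟩ := exists_ne_zero_of_two_le (K := K') hd2
    refine ⟨Cfsg.Agent.Lib.Helper99.stv m u 1, Cfsg.Agent.Lib.Helper99.stv_mem_spGL m u 1, ?_⟩
    rw [hNormE]
    have hφ : fD tr B u ≠ 0 := by
      intro h0
      apply hu
      apply D.f_nd
      intro v
      have := LinearMap.congr_fun h0 v
      rw [fD_apply, LinearMap.zero_apply] at this
      rw [D.skew, map_neg, this, neg_zero]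
    have hcoe : ((ΘI (Cfsg.Agent.Lib.Helper99.stv m u 1) :
        (Fin m ⊕ Fin m → F) ≃ₗ[F] (Fin m ⊕ Fin m → F)) :
        (Fin m ⊕ Fin m → F) →ₗ[F] (Fin m ⊕ Fin m → F)) = 1 + r1 (fD tr B u) u := by
      apply LinearMap.ext
      intro v
      change (Cfsg.Agent.Lib.Helper99.stv m u 1).1 *ᵥ v = _
      rw [Cfsg.Agent.Lib.Helper99.stv_mulVec, LinearMap.add_apply, Module.End.one_apply,
        r1_apply, fD_apply, hBf, one_mul]
    rw [hcoe]
    exact not_normE_transvection hr.two_le hd2 hφ hu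
  obtain ⟨t, htS, htN⟩ := hex
  refine ⟨lt_of_le_of_ne inf_le_right ?_, ?_⟩
  · intro heq
    apply htN
    have : t ∈ Cfsg.Geo.subalgebraNormalizer ι.range ⊓ Cfsg.spGL m F := by
      rw [heq]
      exact htS
    exact (Subgroup.mem_inf.mp this).1
  · intro M hM1 hM2
    by_cases hMN : M ≤ Cfsg.Geo.subalgebraNormalizer ι.range
    · left
      exact le_antisymm (le_inf hMN hM2) hM1
    · right
      exact hkey M hM1 hM2 hMN

end main

end Cfsg.Agent.Lib.Helper13.SP
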