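import Mathlib
import Cfsg.Agent.Lib.Helper13.UnitaryLift
import Cfsg.Agent.Lib.Helper13.UnitaryConfig

set_option autoImplicit false

namespace Cfsg.Agent.Lib.Helper13

open Matrix Cfsg.Agent.Lib.Helper99

section su3inv1

variable {F : Type*} [Field F] [Fintype F] {q n : ℕ}

local notation "hh" => Cfsg.hermForm n F q

omit [Fintype F] in
/-- in characteristic not two, the only involution of `SL_2` is `-1` -/
theorem sq_eq_one_two (h2 : (2 : F) ≠ 0) (A : Matrix (Fin 2) (Fin 2) F) (hA : A * A = 1)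
    (hdet : A.det = 1) : A = 1 ∨ A = -1 := by
  have e00 := congrFun (congrFun hA 0) 0
  have e01 := congrFun (congrFun hA 0) 1
  have e10 := congrFun (congrFun hA 1) 0
  have e11 := congrFun (congrFun hA 1) 1
  simp only [Matrix.mul_apply, Fin.sum_univ_two, Matrix.one_apply_eq, Matrix.one_apply_ne,
    ne_eq, zero_ne_one, one_ne_zero, not_false_eq_true, Fin.isValue] at e00 e01 e10 e11
  rw [Matrix.det_fin_two] at hdet
  by_cases hs : A 0 0 + A 1 1 = 0
  · exfalso
    have hd : A 1 1 = -A 0 0 := by linear_combination hs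
    rw [hd] at hdet
    apply h2
    linear_combination (-1 : F) * e00 - hdet
  · have hb : A 0 1 = 0 := by
      have : A 0 1 * (A 0 0 + A 1 1) = 0 := by linear_combination e01
      rcases mul_eq_zero.1 this with h | h
      · exact h
      · exact absurd h hs
    have hc : A 1 0 = 0 := by
      have : A 1 0 * (A 0 0 + A 1 1) = 0 := by linear_combination e10
      rcases mul_eq_zero.1 this with h | h
      · exact h
      · exact absurd h hs
    rw [hb, hc] at e00 e11 hdet
    have ha : A 0 0 = 1 ∨ A 0 0 = -1 := by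
      have : (A 0 0 - 1) * (A 0 0 + 1) = 0 := by linear_combination e00
      rcases mul_eq_zero.1 this with h | h
      · exact Or.inl (by linear_combination h)
      · exact Or.inr (by linear_combination h)
    rcases ha with ha | ha
    · left
      have hd : A 1 1 = 1 := by rw [ha] at hdet; linear_combination hdet
      ext i j
      fin_cases i <;> fin_cases j <;> simp [ha, hb, hc, hd]
    · right
      have hd : A 1 1 = -1 := by rw [ha] at hdet; linear_combination (-1 : F) * hdet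
      ext i j
      fin_cases i <;> fin_cases j <;> simp [ha, hb, hc, hd]

/-- polarisation: if all `x + c y` are isotropic then `h(x, y) = 0`, odd characteristic -/
theorem herm_polarize (hF : Fintype.card F = q ^ 2) (h2 : (2 : F) ≠ 0) (x y : Fin n → F)
    (h : ∀ c : F, hh (x + c • y) (x + c • y) = 0) : hh x y = 0 := by
  obtain ⟨τ, hτ0, hτ⟩ := exists_trace_zero hF
  have hτq : τ ^ q = -τ := eq_neg_of_add_eq_zero_right hτ
  have hx : hh x x = 0 := by simpa using h 0
  have hyx : hh y x = (hh x y) ^ q := (hermForm_conj hF n x y).symm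
  have hy : hh y y = 0 := by
    have h1 := h 1
    have hm := h (-1)
    simp only [hermForm_add_left, hermForm_add_right hF, hermForm_smul_left, hermForm_smul_right,
      hx, one_pow, one_mul, zero_add, frob_neg hF] at h1 hm
    have : (2 : F) * hh y y = 0 := by linear_combination h1 + hm
    rcases mul_eq_zero.1 this with h | h
    · exact absurd h h2
    · exact h
  have h1 := h 1
  have ht := h τ
  simp only [hermForm_add_left, hermForm_add_right hF, hermForm_smul_left, hermForm_smul_right,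
    hx, hy, hyx, hτq, one_pow, one_mul, zero_add, mul_zero, add_zero] at h1 ht
  have h3 : τ * (2 * hh x y) = 0 := by linear_combination τ * h1 - ht
  rcases mul_eq_zero.1 h3 with h | h
  · exact absurd h hτ0
  · rcases mul_eq_zero.1 h with h | h
    · exact absurd h h2
    · exact h

/-- the norm is onto the non-zero elements of the fixed field -/
theorem exists_norm_eq (hF : Fintype.card F = q ^ 2) (r : F) (hr0 : r ≠ 0) (hr : r ^ q = r) :
    ∃ c : F, c * c ^ q = r := by
  obtain ⟨a, ha⟩ := exists_mul_conj_eq (frobU hF) (frobU_ne_id hF) (frobU_frobU hF) r hr0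
    (by rw [frobU_apply, hr])
  exact ⟨a, by rw [← frobU_apply hF]; exact ha⟩

/-- a unitary involution other than `-1` fixes a vector of norm one, odd characteristic -/
theorem exists_fixed_unit (hF : Fintype.card F = q ^ 2) (h2 : (2 : F) ≠ 0) (g : GL (Fin n) F)
    (hg : g ∈ Cfsg.GU n F q) (hg2 : g * g = 1)
    (hneg : ∃ v, (g : Matrix (Fin n) (Fin n) F) *ᵥ v ≠ -v) :
    ∃ a : Fin n → F, hh a a = 1 ∧ (g : Matrix (Fin n) (Fin n) F) *ᵥ a = a := by
  have hq2 := q_ge_two hF
  have hTT : ∀ v, (g : Matrix (Fin n) (Fin n) F) *ᵥ ((g : Matrix (Fin n) (Fin n) F) *ᵥ v) = v := by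
    intro v
    rw [mulVec_mulVec, ← Units.val_mul, hg2, Units.val_one, one_mulVec]
  have hsa : ∀ u v, hh ((g : Matrix (Fin n) (Fin n) F) *ᵥ u) v
      = hh u ((g : Matrix (Fin n) (Fin n) F) *ᵥ v) := by
    intro u v
    rw [← GU_preserves hg ((g : Matrix (Fin n) (Fin n) F) *ᵥ u) v, hTT]
  by_contra hcon
  push Not at hcon
  have hiso : ∀ v, hh (v + (g : Matrix (Fin n) (Fin n) F) *ᵥ v)
      (v + (g : Matrix (Fin n) (Fin n) F) *ᵥ v) = 0 := by
    intro v
    by_contra hne
    have hfix : (g : Matrix (Fin n) (Fin n) F) *ᵥ (v + (g : Matrix (Fin n) (Fin n) F) *ᵥ v)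
        = v + (g : Matrix (Fin n) (Fin n) F) *ᵥ v := by
      rw [mulVec_add, hTT, add_comm]
    have hr : ((hh (v + (g : Matrix (Fin n) (Fin n) F) *ᵥ v)
        (v + (g : Matrix (Fin n) (Fin n) F) *ᵥ v))⁻¹) ^ q
        = (hh (v + (g : Matrix (Fin n) (Fin n) F) *ᵥ v)
          (v + (g : Matrix (Fin n) (Fin n) F) *ᵥ v))⁻¹ := by
      rw [inv_pow, hermForm_self_pow hF]
    obtain ⟨c, hc⟩ := exists_norm_eq hF _ (inv_ne_zero hne) hr
    apply hcon (c • (v + (g : Matrix (Fin n) (Fin n) F) *ᵥ v))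
    · rw [hermForm_smul_left, hermForm_smul_right, ← mul_assoc, hc, inv_mul_cancel₀ hne]
    · rw [mulVec_smul, hfix]
  have hiso2 : ∀ v w, hh (v + (g : Matrix (Fin n) (Fin n) F) *ᵥ v)
      (w + (g : Matrix (Fin n) (Fin n) F) *ᵥ w) = 0 := by
    intro v w
    apply herm_polarize hF h2
    intro c
    have : v + (g : Matrix (Fin n) (Fin n) F) *ᵥ v + c • (w + (g : Matrix (Fin n) (Fin n) F) *ᵥ w)
        = (v + c • w) + (g : Matrix (Fin n) (Fin n) F) *ᵥ (v + c • w) := by
      rw [mulVec_add, mulVec_smul]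
      module
    rw [this]
    exact hiso _
  have hzero : ∀ v, v + (g : Matrix (Fin n) (Fin n) F) *ᵥ v = 0 := by
    intro v
    apply hermForm_nd_left hF
    intro y
    have h1 := hiso2 v y
    have h3 : hh (v + (g : Matrix (Fin n) (Fin n) F) *ᵥ v)
        (y - (g : Matrix (Fin n) (Fin n) F) *ᵥ y) = 0 := by
      rw [hermForm_add_left, hermForm_sub_right hF, hermForm_sub_right hF, hsa v,
        GU_preserves hg]
      ring
    have h4 : hh (v + (g : Matrix (Fin n) (Fin n) F) *ᵥ v) ((2 : F) • y) = 0 := by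
      have : (2 : F) • y = (y + (g : Matrix (Fin n) (Fin n) F) *ᵥ y)
          + (y - (g : Matrix (Fin n) (Fin n) F) *ᵥ y) := by module
      rw [this, hermForm_add_right hF, h1, h3, add_zero]
    rw [hermForm_smul_right] at h4
    rcases mul_eq_zero.1 h4 with h | h
    · exact absurd h (pow_ne_zero _ h2)
    · exact h
  obtain ⟨v, hv⟩ := hneg
  apply hv
  exact eq_neg_of_add_eq_zero_right (hzero v)

omit [Fintype F] in
theorem liftGL_injective : Function.Injective (liftGL F n) := by
  intro a b hab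
  apply Units.ext
  have h1 := congrArg (fun g : GL (Fin (n + 1)) F => Helper5.udownMat (Units.val g)) hab
  simp only [liftGL_val, Helper5.udownMat_uliftMat] at h1
  exact h1

end su3inv1

section su3inv2

variable {F : Type*} [Field F] [Fintype F] {q : ℕ}

local notation "h3" => Cfsg.hermForm 3 F q

/-- an involution of `SU_3` fixing a vector `a` of norm one is `x ↦ -x + 2 h(x,a) a` -/
theorem involution_eq_refl (hF : Fintype.card F = q ^ 2) (h2 : (2 : F) ≠ 0) (g : GL (Fin 3) F)
    (hg : g ∈ suGL (F := F) 3 q) (hg2 : g * g = 1) (hg1 : g ≠ 1) (a : Fin 3 → F)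
    (haa : h3 a a = 1) (hga : (g : Matrix (Fin 3) (Fin 3) F) *ᵥ a = a) (v : Fin 3 → F) :
    (g : Matrix (Fin 3) (Fin 3) F) *ᵥ v = -v + (2 * h3 v a) • a := by
  have hq2 := q_ge_two hF
  have hE : h3 (Pi.single 0 1) (Pi.single 0 1) = 1 := by
    rw [hermForm_single_single 3 q (by omega), if_pos rfl]
  obtain ⟨A, hA, hAE⟩ := Helper5.exists_isHermIso_mulVec_eq hF hE haa
  obtain ⟨gA, hgA⟩ : ∃ gA : GL (Fin 3) F, gA = (Helper5.mkGU hF A hA).1 := ⟨_, rfl⟩
  have hgAGU : gA ∈ Cfsg.GU 3 F q := by rw [hgA]; exact (Helper5.mkGU hF A hA).2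
  have hgAE : (gA : Matrix (Fin 3) (Fin 3) F) *ᵥ Pi.single 0 1 = a := by
    rw [hgA, Helper5.mkGU_val]; exact hAE
  have hg1mem : gA⁻¹ * g * gA ∈ suGL (F := F) 3 q := by
    have hGU : gA⁻¹ * g * gA ∈ Cfsg.GU 3 F q :=
      Subgroup.mul_mem _ (Subgroup.mul_mem _ (Subgroup.inv_mem _ hgAGU) hg.1) hgAGU
    have hSL : gA⁻¹ * g * gA ∈ Cfsg.Geo.specialLinear (Fin 3) F := by
      have hd : (g : Matrix (Fin 3) (Fin 3) F).det = 1 := (mem_specialLinear_iff g).1 hg.2
      rw [mem_specialLinear_iff]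
      have h3' : ((gA⁻¹ : GL (Fin 3) F) : Matrix (Fin 3) (Fin 3) F).det
          * (gA : Matrix (Fin 3) (Fin 3) F).det = 1 := by
        rw [← det_mul, ← Units.val_mul, inv_mul_cancel, Units.val_one, det_one]
      rw [Units.val_mul, Units.val_mul, det_mul, det_mul, hd]
      linear_combination h3'
    exact ⟨hGU, hSL⟩
  have hfix : ((gA⁻¹ * g * gA : GL (Fin 3) F) : Matrix (Fin 3) (Fin 3) F) *ᵥ Pi.single 0 1
      = Pi.single 0 1 := by
    rw [Units.val_mul, Units.val_mul, ← mulVec_mulVec, ← mulVec_mulVec, hgAE, hga, ← hgAE,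
      gl_inv_mulVec_mulVec]
  obtain ⟨g', hg', hlift⟩ := exists_lift_of_fix hF _ hg1mem hfix
  have hg'2 : g' * g' = 1 := by
    apply liftGL_injective
    rw [map_mul, hlift, map_one]
    calc gA⁻¹ * g * gA * (gA⁻¹ * g * gA) = gA⁻¹ * (g * g) * gA := by group
      _ = 1 := by rw [hg2]; group
  have hg'det : (g' : Matrix (Fin 2) (Fin 2) F).det = 1 := (mem_specialLinear_iff g').1 hg'.2
  have hg'val : (g' : Matrix (Fin 2) (Fin 2) F) * (g' : Matrix (Fin 2) (Fin 2) F) = 1 := by
    rw [← Units.val_mul, hg'2, Units.val_one]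
  rcases sq_eq_one_two h2 _ hg'val hg'det with h | h
  · exfalso
    apply hg1
    have h1 : g' = 1 := Units.ext h
    rw [h1, map_one] at hlift
    have : g = gA * (gA⁻¹ * g * gA) * gA⁻¹ := by group
    rw [this, ← hlift]
    group
  · have hmv : ∀ w : Fin 3 → F, ((gA⁻¹ * g * gA : GL (Fin 3) F) : Matrix (Fin 3) (Fin 3) F) *ᵥ w
        = -w + (2 * w 0) • Pi.single 0 1 := by
      intro w
      rw [← hlift, liftGL_val, Helper5.uliftMat_mulVec, h, neg_mulVec, one_mulVec]
      funext i
      refine Fin.cases ?_ (fun j => ?_) i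
      · simp
        ring
      · simp [Fin.tail, Fin.succ_ne_zero]
    have hgv : (g : Matrix (Fin 3) (Fin 3) F) *ᵥ v = (gA : Matrix (Fin 3) (Fin 3) F) *ᵥ
        (((gA⁻¹ * g * gA : GL (Fin 3) F) : Matrix (Fin 3) (Fin 3) F) *ᵥ
          (((gA⁻¹ : GL (Fin 3) F) : Matrix (Fin 3) (Fin 3) F) *ᵥ v)) := by
      rw [mulVec_mulVec, mulVec_mulVec, ← Units.val_mul, ← Units.val_mul]
      congr 2
      group
    rw [hgv, hmv, mulVec_add, mulVec_neg, mulVec_smul, gl_mulVec_inv_mulVec, hgAE]
    have : (((gA⁻¹ : GL (Fin 3) F) : Matrix (Fin 3) (Fin 3) F) *ᵥ v) 0 = h3 v a := by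
      rw [← hermForm_single_right hF (((gA⁻¹ : GL (Fin 3) F) : Matrix (Fin 3) (Fin 3) F) *ᵥ v)
        (0 : Fin 3), GU_preserves_inv hgAGU, hgAE]
    rw [this]

end su3inv2

end Cfsg.Agent.Lib.Helper13
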