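import Mathlib
import Cfsg.Agent.Lib.Helper13.UParab1

set_option autoImplicit false

namespace Cfsg.Agent.Lib.Helper13

open Matrix Cfsg.Agent.Lib.Helper99

section uparab2

variable {F : Type*} [Field F] [Fintype F] {q n k : ℕ}

local notation "hh" => Cfsg.hermForm n F q

/-- the chain of pointwise stabilisers from an isotropic frame to a hyperbolic frame -/
theorem card_fixSet_chain (hF : Fintype.card F = q ^ 2) (e f : Fin k → (Fin n → F))
    (hee : ∀ i j, hh (e i) (e j) = 0) (hff : ∀ i j, hh (f i) (f j) = 0)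
    (hef : ∀ i j, hh (e i) (f j) = if i = j then 1 else 0) :
    Nat.card (fixSet n q F (Set.range e)) * q ^ (3 * k ^ 2)
      = q ^ (2 * n * k) * Nat.card (fixSet n q F (Set.range e ∪ Set.range f)) := by
  classical
  have hq2 := q_ge_two hF
  have hfe : ∀ i j, hh (f i) (e j) = if i = j then 1 else 0 := by
    intro i j
    rw [← hermForm_conj hF n (e j) (f i), hef]
    by_cases h : i = j
    · rw [if_pos h, if_pos h.symm, one_pow]
    · rw [if_neg h, if_neg (fun h' => h h'.symm), zero_pow (by omega)]
  -- total versions of the frame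
  let f' : ℕ → (Fin n → F) := fun i => if h : i < k then f ⟨i, h⟩ else 0
  let e' : ℕ → (Fin n → F) := fun i => if h : i < k then e ⟨i, h⟩ else 0
  have hf' : ∀ i : Fin k, f' i = f i := fun i => by simp [f', i.2]
  have he' : ∀ i : Fin k, e' i = e i := fun i => by simp [e', i.2]
  let S : ℕ → Set (Fin n → F) := fun j => Set.range e ∪ {v | ∃ i, i < j ∧ v = f' i}
  have hS0 : S 0 = Set.range e := by
    ext v
    simp [S]
  have hSk : S k = Set.range e ∪ Set.range f := by
    ext v
    simp only [S, Set.mem_union, Set.mem_ofPred_eq, Set.mem_range]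
    constructor
    · rintro (h | ⟨i, hi, rfl⟩)
      · exact Or.inl h
      · exact Or.inr ⟨⟨i, hi⟩, (hf' ⟨i, hi⟩).symm⟩
    · rintro (h | ⟨i, rfl⟩)
      · exact Or.inl h
      · exact Or.inr ⟨i, i.2, (hf' i).symm⟩
  have hSsucc : ∀ j, insert (f' j) (S j) = S (j + 1) := by
    intro j
    ext v
    simp only [S, Set.mem_insert_iff, Set.mem_union, Set.mem_ofPred_eq]
    constructor
    · rintro (rfl | h | ⟨i, hi, rfl⟩)
      · exact Or.inr ⟨j, Nat.lt_succ_self j, rfl⟩
      · exact Or.inl h
      · exact Or.inr ⟨i, Nat.lt_succ_of_lt hi, rfl⟩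
    · rintro (h | ⟨i, hi, rfl⟩)
      · exact Or.inr (Or.inl h)
      · rcases Nat.lt_succ_iff_lt_or_eq.1 hi with h | rfl
        · exact Or.inr (Or.inr ⟨i, h, rfl⟩)
        · exact Or.inl rfl
  have hstep : ∀ j, j < k → Nat.card (fixSet n q F (S j)) * q ^ (2 * (k + j) + 1)
      = q ^ (2 * n) * Nat.card (fixSet n q F (S (j + 1))) := by
    intro j hj
    let a : Fin k ⊕ Fin j → (Fin n → F) := Sum.elim e (fun i => f' i)
    let b : Fin k ⊕ Fin j → (Fin n → F) := Sum.elim f (fun i => e' i)
    have hlt : ∀ i : Fin j, (i : ℕ) < k := fun i => lt_trans i.2 hj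
    have hfi : ∀ i : Fin j, f' i = f ⟨i, hlt i⟩ := fun i => by simp [f', hlt i]
    have hei : ∀ i : Fin j, e' i = e ⟨i, hlt i⟩ := fun i => by simp [e', hlt i]
    have hab : ∀ l i, hh (b l) (a i) = if l = i then 1 else 0 := by
      intro l i
      rcases l with l | l <;> rcases i with i | i
      · simp only [a, b, Sum.elim_inl, hfe, Sum.inl.injEq]
      · simp only [a, b, Sum.elim_inl, Sum.elim_inr, hfi, hff, reduceCtorEq, if_false]
      · simp only [a, b, Sum.elim_inl, Sum.elim_inr, hei, hee, reduceCtorEq, if_false]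
      · simp only [a, b, Sum.elim_inr, hei, hfi, hef, Sum.inr.injEq, Fin.ext_iff]
    have hrange : Set.range a = S j := by
      simp only [a, S, Set.Sum.elim_range]
      congr 1
      ext v
      simp only [Set.mem_range, Set.mem_ofPred_eq]
      constructor
      · rintro ⟨i, rfl⟩
        exact ⟨i, i.2, rfl⟩
      · rintro ⟨i, hi, rfl⟩
        exact ⟨⟨i, hi⟩, rfl⟩
    have h1 := card_fixSet_insert hF a b hab (f' j) (by simp only [f', hj, dif_pos, hff])
      (Sum.inl ⟨j, hj⟩) (by
        intro i
        rcases i with i | i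
        · simp only [a, Sum.elim_inl, hee]
        · simp only [a, Sum.elim_inl, Sum.elim_inr, hfi, hef]
          rw [if_neg]
          intro h
          have := congrArg Fin.val h
          simp only at this
          omega) (by
        simp only [a, Sum.elim_inl, f', hj, dif_pos, hfe, if_true])
    rw [hrange, hSsucc, Fintype.card_sum, Fintype.card_fin, Fintype.card_fin] at h1
    exact h1
  have hchain : ∀ j, j ≤ k → Nat.card (fixSet n q F (Set.range e)) * q ^ (2 * k * j + j ^ 2)
      = q ^ (2 * n * j) * Nat.card (fixSet n q F (S j)) := by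
    intro j
    induction j with
    | zero =>
      intro _
      rw [hS0]
      simp
    | succ j ih =>
      intro hj
      have h1 := ih (by omega)
      have h2 := hstep j (by omega)
      have e1 : 2 * k * (j + 1) + (j + 1) ^ 2 = (2 * k * j + j ^ 2) + (2 * (k + j) + 1) := by ring
      have e2 : 2 * n * (j + 1) = 2 * n * j + 2 * n := by ring
      rw [e1, e2]
      calc Nat.card (fixSet n q F (Set.range e)) * q ^ ((2 * k * j + j ^ 2) + (2 * (k + j) + 1))
          = (Nat.card (fixSet n q F (Set.range e)) * q ^ (2 * k * j + j ^ 2))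
            * q ^ (2 * (k + j) + 1) := by ring
        _ = q ^ (2 * n * j) * (Nat.card (fixSet n q F (S j)) * q ^ (2 * (k + j) + 1)) := by
            rw [h1]; ring
        _ = q ^ (2 * n * j + 2 * n) * Nat.card (fixSet n q F (S (j + 1))) := by
            rw [h2]; ring
  have := hchain k le_rfl
  rw [hSk] at this
  rw [← this]
  congr 2
  ring

end uparab2

end Cfsg.Agent.Lib.Helper13
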