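import Mathlib
import Cfsg.Agent.Lib.Helper13.UParab2

set_option autoImplicit false

namespace Cfsg.Agent.Lib.Helper13

open Matrix Cfsg.Agent.Lib.Helper99

section uparab3

variable {F : Type*} [Field F] [Fintype F] {q n : ℕ}

local notation "hh" => Cfsg.hermForm n F q

/-- a hyperbolic pair supported on two given coordinates, with the same fixers as the two
coordinate vectors -/
theorem exists_hyp_pair_std (hF : Fintype.card F = q ^ 2) (i j : Fin n) (hij : i ≠ j) :
    ∃ e f : Fin n → F, hh e e = 0 ∧ hh f f = 0 ∧ hh e f = 1 ∧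
      (∀ k, k ≠ i → k ≠ j → e k = 0 ∧ f k = 0) ∧
      (∀ A : Matrix (Fin n) (Fin n) F, (A *ᵥ e = e ∧ A *ᵥ f = f) ↔
        (A *ᵥ Pi.single i 1 = Pi.single i 1 ∧ A *ᵥ Pi.single j 1 = Pi.single j 1)) := by
  classical
  have hq2 := q_ge_two hF
  have hq0 : q ≠ 0 := by omega
  obtain ⟨ζ, hζ⟩ := exists_norm_neg_one hF
  obtain ⟨ε, hε, hε1⟩ := exists_normOne_ne_one hF
  have hεq : ε * ε ^ q = 1 := by rw [← pow_succ']; exact hε
  have hεq1 : 1 - ε ^ q ≠ 0 := by
    intro h
    have h1 : ε ^ q = 1 := (sub_eq_zero.1 h).symm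
    rw [h1, mul_one] at hεq
    exact hε1 hεq
  have hEs : ∀ a : Fin n, hh (Pi.single a 1) (Pi.single a 1) = 1 := fun a => by
    rw [hermForm_single_single n q hq0 a a, if_pos rfl]
  have hEn : ∀ a b : Fin n, a ≠ b → hh (Pi.single a 1) (Pi.single b 1) = 0 := fun a b hab => by
    rw [hermForm_single_single n q hq0 a b, if_neg hab]
  obtain ⟨μ, hμ⟩ : ∃ μ : F, μ ^ q = (1 - ε ^ q)⁻¹ := ⟨((1 - ε ^ q)⁻¹) ^ q, pow_q_pow_q hF _⟩
  have hμ0 : μ ≠ 0 := by
    rintro rfl
    rw [zero_pow hq0] at hμ
    exact inv_ne_zero hεq1 hμ.symm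
  have hζ0 : ζ ≠ 0 := by
    rintro rfl
    rw [zero_mul] at hζ
    exact one_ne_zero (neg_eq_zero.1 hζ.symm)
  have hε1' : ε - 1 ≠ 0 := sub_ne_zero.2 hε1
  have hji : j ≠ i := fun h => hij h.symm
  refine ⟨Pi.single i 1 + ζ • Pi.single j 1, μ • (Pi.single i 1 + (ζ * ε) • Pi.single j 1),
    ?_, ?_, ?_, ?_, ?_⟩
  · simp only [hermForm_add_left, hermForm_add_right hF, hermForm_smul_left, hermForm_smul_right,
      hEs, hEn _ _ hij, hEn _ _ hji]
    linear_combination hζ
  · simp only [hermForm_add_left, hermForm_add_right hF, hermForm_smul_left, hermForm_smul_right,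
      hEs, hEn _ _ hij, hEn _ _ hji, mul_pow]
    linear_combination (μ * μ ^ q) * hζ + (μ * μ ^ q * (ζ * ζ ^ q)) * hεq
  · simp only [hermForm_add_left, hermForm_add_right hF, hermForm_smul_left, hermForm_smul_right,
      hEs, hEn _ _ hij, hEn _ _ hji, mul_pow, hμ]
    field_simp
    linear_combination (ε ^ q) * hζ
  · intro k hki hkj
    simp [hki, hkj]
  · intro A
    constructor
    · rintro ⟨hAe, hAf⟩
      have hEj : (Pi.single j 1 : Fin n → F) = (ζ * (ε - 1))⁻¹ •
          (μ⁻¹ • (μ • (Pi.single i 1 + (ζ * ε) • Pi.single j 1))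
            - (Pi.single i 1 + ζ • Pi.single j 1)) := by
        rw [smul_smul, inv_mul_cancel₀ hμ0, one_smul]
        have : (Pi.single i 1 + (ζ * ε) • Pi.single j 1 - (Pi.single i 1 + ζ • Pi.single j 1) : Fin n → F)
            = (ζ * (ε - 1)) • Pi.single j 1 := by module
        rw [this, smul_smul, inv_mul_cancel₀ (mul_ne_zero hζ0 hε1'), one_smul]
      have hAj : A *ᵥ Pi.single j 1 = Pi.single j 1 := by
        conv_lhs => rw [hEj]
        rw [mulVec_smul, mulVec_sub, mulVec_smul, hAf, hAe, ← hEj]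
      refine ⟨?_, hAj⟩
      have hEi : (Pi.single i 1 : Fin n → F) = (Pi.single i 1 + ζ • Pi.single j 1) - ζ • Pi.single j 1 := by
        abel
      conv_lhs => rw [hEi]
      rw [mulVec_sub, mulVec_smul, hAe, hAj]
      abel
    · rintro ⟨hAi, hAj⟩
      constructor
      · rw [mulVec_add, mulVec_smul, hAi, hAj]
      · rw [mulVec_smul, mulVec_add, mulVec_smul, hAi, hAj]

/-- the standard hyperbolic frame on the first `2k` coordinates -/
theorem exists_std_frame (hF : Fintype.card F = q ^ 2) (k : ℕ) (hk : 2 * k ≤ n) :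
    ∃ e f : Fin k → (Fin n → F), (∀ i j, hh (e i) (e j) = 0) ∧ (∀ i j, hh (f i) (f j) = 0) ∧
      (∀ i j, hh (e i) (f j) = if i = j then 1 else 0) ∧
      (∀ A : Matrix (Fin n) (Fin n) F, ((∀ i, A *ᵥ e i = e i) ∧ (∀ i, A *ᵥ f i = f i)) ↔
        ∀ j : Fin n, (j : ℕ) < 2 * k → A *ᵥ Pi.single j 1 = Pi.single j 1) := by
  classical
  have hq2 := q_ge_two hF
  have hq0 : q ≠ 0 := by omega
  let i0 : Fin k → Fin n := fun i => ⟨2 * (i : ℕ), by have := i.2; omega⟩
  let i1 : Fin k → Fin n := fun i => ⟨2 * (i : ℕ) + 1, by have := i.2; omega⟩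
  have hne : ∀ i, i0 i ≠ i1 i := by
    intro i h
    have := congrArg Fin.val h
    simp only [i0, i1] at this
    omega
  choose e f h1 h2 h3 h4 h5 using fun i : Fin k => exists_hyp_pair_std hF (i0 i) (i1 i) (hne i)
  have hdisj : ∀ (x y : Fin k → (Fin n → F)), (∀ i c, c ≠ i0 i → c ≠ i1 i → x i c = 0) →
      (∀ i c, c ≠ i0 i → c ≠ i1 i → y i c = 0) → ∀ i j, i ≠ j → hh (x i) (y j) = 0 := by
    intro x y hx hy i j hij
    apply hermForm_eq_zero_of_disjoint _ _ _ hq0
    intro c
    by_cases hc : c ≠ i0 i ∧ c ≠ i1 i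
    · exact Or.inl (hx i c hc.1 hc.2)
    · right
      apply hy j c
      · rintro rfl
        apply hc
        constructor
        · intro h
          have := congrArg Fin.val h
          simp only [i0] at this
          apply hij
          apply Fin.ext
          omega
        · intro h
          have := congrArg Fin.val h
          simp only [i0, i1] at this
          omega
      · rintro rfl
        apply hc
        constructor
        · intro h
          have := congrArg Fin.val h
          simp only [i0, i1] at this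
          omega
        · intro h
          have := congrArg Fin.val h
          simp only [i1] at this
          apply hij
          apply Fin.ext
          omega
  have hxe : ∀ i c, c ≠ i0 i → c ≠ i1 i → e i c = 0 := fun i c hc0 hc1 => (h4 i c hc0 hc1).1
  have hxf : ∀ i c, c ≠ i0 i → c ≠ i1 i → f i c = 0 := fun i c hc0 hc1 => (h4 i c hc0 hc1).2
  refine ⟨e, f, ?_, ?_, ?_, ?_⟩
  · intro i j
    by_cases hij : i = j
    · rw [hij]; exact h1 j
    · exact hdisj e e hxe hxe i j hij
  · intro i j
    by_cases hij : i = j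
    · rw [hij]; exact h2 j
    · exact hdisj f f hxf hxf i j hij
  · intro i j
    by_cases hij : i = j
    · rw [if_pos hij, hij]; exact h3 j
    · rw [if_neg hij]; exact hdisj e f hxe hxf i j hij
  · intro A
    constructor
    · rintro ⟨hAe, hAf⟩ j hj
      have hi : (j : ℕ) / 2 < k := by omega
      have := (h5 ⟨(j : ℕ) / 2, hi⟩ A).1 ⟨hAe _, hAf _⟩
      rcases Nat.even_or_odd' (j : ℕ) with ⟨m, hm | hm⟩
      · have : i0 ⟨(j : ℕ) / 2, hi⟩ = j := by
          apply Fin.ext
          simp only [i0]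
          omega
        rw [← this]
        exact ((h5 ⟨(j : ℕ) / 2, hi⟩ A).1 ⟨hAe _, hAf _⟩).1
      · have : i1 ⟨(j : ℕ) / 2, hi⟩ = j := by
          apply Fin.ext
          simp only [i1]
          omega
        rw [← this]
        exact ((h5 ⟨(j : ℕ) / 2, hi⟩ A).1 ⟨hAe _, hAf _⟩).2
    · intro hA
      have key : ∀ i, A *ᵥ e i = e i ∧ A *ᵥ f i = f i := by
        intro i
        apply (h5 i A).2
        constructor
        · apply hA
          simp only [i0]
          have := i.2
          omega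
        · apply hA
          simp only [i1]
          have := i.2
          omega
      exact ⟨fun i => (key i).1, fun i => (key i).2⟩

/-- pointwise stabiliser in `GU` of the first `j` coordinate vectors -/
def fixCoords (n q : ℕ) (F : Type*) [Field F] (j : ℕ) : Subgroup ↥(Cfsg.GU n F q) :=
  fixSet n q F {v | ∃ i : Fin n, (i : ℕ) < j ∧ v = Pi.single i 1}

omit [Fintype F] in
theorem mem_fixCoords (j : ℕ) (g : ↥(Cfsg.GU n F q)) :
    g ∈ fixCoords n q F j ↔ ∀ i : Fin n, (i : ℕ) < j → g • (Pi.single i 1 : Fin n → F) = Pi.single i 1 := by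
  unfold fixCoords
  rw [mem_fixSet]
  constructor
  · intro h i hi
    exact h _ ⟨i, hi, rfl⟩
  · rintro h _ ⟨i, hi, rfl⟩
    exact h i hi

omit [Fintype F] in
theorem cons_zero_single (i : Fin n) :
    (Fin.cons 0 (Pi.single i 1) : Fin (n + 1) → F) = Pi.single i.succ 1 := by
  funext k
  refine Fin.cases ?_ (fun k' => ?_) k
  · rw [Fin.cons_zero, Pi.single_apply, if_neg (Fin.succ_ne_zero i).symm]
  · rw [Fin.cons_succ, Pi.single_apply, Pi.single_apply]
    simp only [Fin.succ_inj]

theorem card_fixCoords_succ (hF : Fintype.card F = q ^ 2) (N j : ℕ) :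
    Nat.card (fixCoords (N + 1) q F (j + 1)) = Nat.card (fixCoords N q F j) := by
  have h0 : ∀ g : ↥(Cfsg.GU (N + 1) F q), g ∈ fixCoords (N + 1) q F (j + 1) →
      Units.val g.1 *ᵥ (Pi.single 0 1 : Fin (N + 1) → F) = Pi.single 0 1 := by
    intro g hg
    exact (mem_fixCoords _ g).1 hg 0 (by simp)
  apply Nat.card_congr
  refine
    { toFun := fun g => ⟨Helper5.stabGUEquiv hF N ⟨g.1, h0 g.1 g.2⟩, ?_⟩
      invFun := fun g => ⟨((Helper5.stabGUEquiv hF N).symm g.1).1, ?_⟩
      left_inv := ?_
      right_inv := ?_ }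
  · rw [mem_fixCoords]
    intro i hi
    have h1 := (mem_fixCoords _ g.1).1 g.2 i.succ (by simp; omega)
    rw [Helper5.GU_smul_def] at h1 ⊢
    change Helper5.udownMat (Units.val g.1.1) *ᵥ _ = _
    rw [Helper5.udownMat_mulVec, cons_zero_single, h1, ← cons_zero_single, Fin.tail_cons]
  · rw [mem_fixCoords]
    intro i hi
    rw [Helper5.GU_smul_def]
    change Helper5.uliftMat (Units.val g.1.1) *ᵥ _ = _
    refine Fin.cases ?_ (fun i' hi' => ?_) i hi
    · intro _
      exact Helper5.uliftMat_e0 _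
    · have h1 := (mem_fixCoords _ g.1).1 g.2 i' (by simp at hi'; omega)
      rw [Helper5.GU_smul_def] at h1
      rw [Helper5.uliftMat_mulVec, ← cons_zero_single, Fin.tail_cons, h1, Fin.cons_zero]
  · intro g
    apply Subtype.ext
    change ((Helper5.stabGUEquiv hF N).symm (Helper5.stabGUEquiv hF N ⟨g.1, h0 g.1 g.2⟩)).1 = g.1
    rw [Equiv.symm_apply_apply]
  · intro g
    apply Subtype.ext
    change Helper5.stabGUEquiv hF N ⟨((Helper5.stabGUEquiv hF N).symm g.1).1, _⟩ = g.1
    have : (⟨((Helper5.stabGUEquiv hF N).symm g.1).1, h0 _ (by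
        rw [mem_fixCoords]
        intro i hi
        rw [Helper5.GU_smul_def]
        change Helper5.uliftMat (Units.val g.1.1) *ᵥ _ = _
        refine Fin.cases ?_ (fun i' hi' => ?_) i hi
        · intro _
          exact Helper5.uliftMat_e0 _
        · have h1 := (mem_fixCoords _ g.1).1 g.2 i' (by simp at hi'; omega)
          rw [Helper5.GU_smul_def] at h1
          rw [Helper5.uliftMat_mulVec, ← cons_zero_single, Fin.tail_cons, h1, Fin.cons_zero])⟩ :
        {g : Cfsg.GU (N + 1) F q // Units.val g.1 *ᵥ Pi.single 0 1 = Pi.single 0 1})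
        = (Helper5.stabGUEquiv hF N).symm g.1 := Subtype.ext rfl
    rw [this, Equiv.apply_symm_apply]

theorem card_fixCoords (hF : Fintype.card F = q ^ 2) (m j : ℕ) :
    Nat.card (fixCoords (m + j) q F j) = Nat.card (Cfsg.GU m F q) := by
  induction j with
  | zero =>
    have : fixCoords (m + 0) q F 0 = ⊤ := by
      ext g
      rw [mem_fixCoords]
      simp
    rw [this, Subgroup.card_top]
    rfl
  | succ j ih =>
    rw [← ih]
    exact card_fixCoords_succ hF (m + j) j

omit [Fintype F] in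
/-- conjugate pointwise stabilisers have the same order -/
theorem card_fixSet_image (Q : ↥(Cfsg.GU n F q)) (S : Set (Fin n → F)) :
    Nat.card (fixSet n q F ((fun v => Q • v) '' S)) = Nat.card (fixSet n q F S) := by
  apply Nat.card_congr
  refine
    { toFun := fun g => ⟨Q⁻¹ * g.1 * Q, ?_⟩
      invFun := fun g => ⟨Q * g.1 * Q⁻¹, ?_⟩
      left_inv := ?_
      right_inv := ?_ }
  · intro v hv
    rw [mul_smul, mul_smul, g.2 (Q • v) ⟨v, hv, rfl⟩, inv_smul_smul]
  · rintro _ ⟨v, hv, rfl⟩
    rw [mul_smul, mul_smul, inv_smul_smul, g.2 v hv]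
  · intro g
    apply Subtype.ext
    simp only
    group
  · intro g
    apply Subtype.ext
    simp only
    group

/-- the order of the pointwise stabiliser in `GU` of an isotropic frame -/
theorem card_fixSet_isotropic_frame (hF : Fintype.card F = q ^ 2) (k m : ℕ)
    (s : Fin k → (Fin (m + 2 * k) → F)) (hs : LinearIndependent F s)
    (hss : ∀ i j, Cfsg.hermForm (m + 2 * k) F q (s i) (s j) = 0) :
    Nat.card (fixSet (m + 2 * k) q F (Set.range s)) * q ^ (3 * k ^ 2)
      = q ^ (2 * (m + 2 * k) * k) * Nat.card (Cfsg.GU m F q) := by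
  classical
  have hq2 := q_ge_two hF
  obtain ⟨e, f, hee, hff, hef, hfix⟩ := exists_std_frame (n := m + 2 * k) hF k (by omega)
  have hfe : ∀ i j, Cfsg.hermForm (m + 2 * k) F q (f i) (e j) = if i = j then 1 else 0 := by
    intro i j
    rw [← hermForm_conj hF (m + 2 * k) (e j) (f i), hef]
    by_cases h : i = j
    · rw [if_pos h, if_pos h.symm, one_pow]
    · rw [if_neg h, if_neg (fun h' => h h'.symm), zero_pow (by omega)]
  have heli : LinearIndependent F e := linearIndependent_of_dual hF e f hfe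
  obtain ⟨Q, hQ⟩ := exists_GU_map hF e s heli hs (by intro i j; rw [hss, hee])
  have hrange : Set.range s = (fun v => Q • v) '' Set.range e := by
    rw [← Set.range_comp]
    congr 1
    funext i
    exact (hQ i).symm
  rw [hrange, card_fixSet_image, card_fixSet_chain hF e f hee hff hef]
  have hsub : fixSet (m + 2 * k) q F (Set.range e ∪ Set.range f)
      = fixCoords (m + 2 * k) q F (2 * k) := by
    ext g
    rw [mem_fixSet, mem_fixCoords]
    constructor
    · intro h
      apply (hfix (Units.val g.1)).1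
      exact ⟨fun i => h _ (Or.inl ⟨i, rfl⟩), fun i => h _ (Or.inr ⟨i, rfl⟩)⟩
    · intro h
      obtain ⟨h1, h2⟩ := (hfix (Units.val g.1)).2 h
      rintro v (⟨i, rfl⟩ | ⟨i, rfl⟩)
      · exact h1 i
      · exact h2 i
  rw [hsub, card_fixCoords hF m (2 * k)]

end uparab3

end Cfsg.Agent.Lib.Helper13
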