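import Mathlib
import Cfsg.Agent.Lib.Helper13.SU3Inv1
import Cfsg.Agent.Lib.Helper13.UParab3

set_option autoImplicit false

namespace Cfsg.Agent.Lib.Helper13

open Matrix Cfsg.Agent.Lib.Helper99

section suhom

variable {F : Type*} [Field F] {n q : ℕ}

/-- the embedding of `SU` into `GL` -/
def suHom (n q : ℕ) (F : Type*) [Field F] : ↥(Cfsg.SU n F q) →* GL (Fin n) F :=
  (Matrix.SpecialLinearGroup.toGL).comp (Cfsg.SU n F q).subtype

theorem suHom_val (A : ↥(Cfsg.SU n F q)) :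
    ((suHom n q F A : GL (Fin n) F) : Matrix (Fin n) (Fin n) F)
      = ((A : Matrix.SpecialLinearGroup (Fin n) F) : Matrix (Fin n) (Fin n) F) := rfl

theorem suHom_injective : Function.Injective (suHom n q F) := by
  intro A B hAB
  apply Subtype.ext
  apply Matrix.SpecialLinearGroup.toGL_injective
  exact hAB

theorem suHom_mem (A : ↥(Cfsg.SU n F q)) : suHom n q F A ∈ suGL (F := F) n q := by
  have hGU : suHom n q F A ∈ Cfsg.GU n F q := by
    rw [Cfsg.Agent.Lib.Helper13.mem_GU_iff]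
    intro u v
    rw [suHom_val]
    exact A.2 u v
  have hSL : suHom n q F A ∈ Cfsg.Geo.specialLinear (Fin n) F := by
    rw [mem_specialLinear_iff, suHom_val]
    exact (A : Matrix.SpecialLinearGroup (Fin n) F).2
  exact ⟨hGU, hSL⟩

theorem exists_suHom_eq (g : GL (Fin n) F) (hg : g ∈ suGL (F := F) n q) :
    ∃ A : ↥(Cfsg.SU n F q), suHom n q F A = g := by
  have hdet : (g : Matrix (Fin n) (Fin n) F).det = 1 := (mem_specialLinear_iff g).1 hg.2
  refine ⟨⟨⟨(g : Matrix (Fin n) (Fin n) F), hdet⟩, ?_⟩, ?_⟩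
  · exact (Cfsg.Agent.Lib.Helper13.mem_GU_iff n q g).1 hg.1
  · apply Units.ext
    rfl

end suhom

section qdil

variable {F : Type*} [Field F] [Fintype F] {q n : ℕ}

local notation "hh" => Cfsg.hermForm n F q

/-- the quasi-reflection `x ↦ x + (μ - 1) h(x,a) a`, scaling `a` by `μ` -/
noncomputable def qdil (q : ℕ) (a : Fin n → F) (μ : F) : GL (Fin n) F :=
  rk1GL a (fun j => (μ - 1) * (a j) ^ q)

theorem qdil_aux (a : Fin n → F) (haa : hh a a = 1) (μ : F) (hμ : μ ≠ 0) :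
    1 + (fun j => (μ - 1) * (a j) ^ q) ⬝ᵥ a ≠ 0 := by
  rw [utv_dot, haa, mul_one, add_sub_cancel]
  exact hμ

theorem qdil_mulVec (a : Fin n → F) (haa : hh a a = 1) (μ : F) (hμ : μ ≠ 0) (x : Fin n → F) :
    ((qdil q a μ : GL (Fin n) F) : Matrix (Fin n) (Fin n) F) *ᵥ x = x + ((μ - 1) * hh x a) • a := by
  unfold qdil
  rw [coe_rk1GL _ _ (qdil_aux a haa μ hμ), rk1_mulVec, utv_dot]

theorem qdil_det (a : Fin n → F) (haa : hh a a = 1) (μ : F) (hμ : μ ≠ 0) :
    ((qdil q a μ : GL (Fin n) F) : Matrix (Fin n) (Fin n) F).det = μ := by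
  unfold qdil
  rw [coe_rk1GL _ _ (qdil_aux a haa μ hμ), det_rk1, utv_dot, haa, mul_one, add_sub_cancel]

theorem qdil_self (a : Fin n → F) (haa : hh a a = 1) (μ : F) (hμ : μ ≠ 0) :
    ((qdil q a μ : GL (Fin n) F) : Matrix (Fin n) (Fin n) F) *ᵥ a = μ • a := by
  rw [qdil_mulVec a haa μ hμ, haa, mul_one]
  module

theorem qdil_mem_GU (hF : Fintype.card F = q ^ 2) (a : Fin n → F) (haa : hh a a = 1) (μ : F)
    (hμ : μ * μ ^ q = 1) : qdil q a μ ∈ Cfsg.GU n F q := by
  have hμ0 : μ ≠ 0 := by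
    rintro rfl
    rw [zero_mul] at hμ
    exact zero_ne_one hμ
  rw [Cfsg.Agent.Lib.Helper13.mem_GU_iff]
  intro x y
  rw [qdil_mulVec a haa μ hμ0, qdil_mulVec a haa μ hμ0]
  simp only [hermForm_add_left, hermForm_add_right hF, hermForm_smul_left, hermForm_smul_right,
    haa, mul_pow, frob_sub hF, one_pow]
  have e1 : (hh y a) ^ q = hh a y := hermForm_conj hF n y a
  rw [e1]
  linear_combination (hh x a * hh a y) * hμ

theorem qdil_mul (a : Fin n → F) (haa : hh a a = 1) (μ ν : F) (hμ : μ ≠ 0) (hν : ν ≠ 0) :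
    qdil q a μ * qdil q a ν = qdil q a (μ * ν) := by
  apply Units.ext
  rw [Matrix.ext_iff_mulVec]
  intro x
  rw [Units.val_mul, ← mulVec_mulVec, qdil_mulVec a haa ν hν, qdil_mulVec a haa μ hμ,
    qdil_mulVec a haa (μ * ν) (mul_ne_zero hμ hν)]
  simp only [hermForm_add_left, hermForm_smul_left, haa]
  module

theorem qdil_one (a : Fin n → F) (haa : hh a a = 1) : qdil q a 1 = 1 := by
  apply Units.ext
  rw [Matrix.ext_iff_mulVec]
  intro x
  rw [qdil_mulVec a haa 1 one_ne_zero, Units.val_one, one_mulVec, sub_self, zero_mul, zero_smul,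
    add_zero]

end qdil

end Cfsg.Agent.Lib.Helper13
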