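import Mathlib
import Cfsg.Agent.Lib.Helper13.SU3Inv3
import Cfsg.Agent.Lib.Helper5.HermCount

set_option autoImplicit false

namespace Cfsg.Agent.Lib.Helper13

open Matrix Cfsg.Agent.Lib.Helper99

section su3graph1

variable {F : Type*} [Field F] [Fintype F] {q : ℕ}

local notation "h3" => Cfsg.hermForm 3 F q

/-- `x` is the reflection `v ↦ -v + 2 h(v,a) a` -/
def IsReflOf (x : ↥(Cfsg.SU 3 F q)) (a : Fin 3 → F) : Prop :=
  ∀ v : Fin 3 → F, ((suHom 3 q F x : GL (Fin 3) F) : Matrix (Fin 3) (Fin 3) F) *ᵥ v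
    = -v + (2 * h3 v a) • a

theorem neg_one_mem_GU (hF : Fintype.card F = q ^ 2) : (-1 : GL (Fin 3) F) ∈ Cfsg.GU 3 F q := by
  rw [Cfsg.Agent.Lib.Helper13.mem_GU_iff]
  intro u v
  rw [Units.val_neg, Units.val_one, neg_mulVec, neg_mulVec, one_mulVec, one_mulVec,
    hermForm_neg_left, hermForm_neg_right hF, neg_neg]

theorem exists_isReflOf (hF : Fintype.card F = q ^ 2) (hq : Odd q) (a : Fin 3 → F)
    (haa : h3 a a = 1) : ∃ x : ↥(Cfsg.SU 3 F q), IsReflOf x a := by
  have hμ : (-1 : F) * (-1 : F) ^ q = 1 := by rw [hq.neg_one_pow]; ring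
  have hμ0 : (-1 : F) ≠ 0 := neg_ne_zero.2 one_ne_zero
  have hmem : (-1 : GL (Fin 3) F) * qdil q a (-1) ∈ suGL (F := F) 3 q := by
    have hGU : (-1 : GL (Fin 3) F) * qdil q a (-1) ∈ Cfsg.GU 3 F q :=
      Subgroup.mul_mem _ (neg_one_mem_GU hF) (qdil_mem_GU hF a haa _ hμ)
    have hSL : (-1 : GL (Fin 3) F) * qdil q a (-1) ∈ Cfsg.Geo.specialLinear (Fin 3) F := by
      rw [mem_specialLinear_iff, Units.val_mul, det_mul, qdil_det a haa _ hμ0, Units.val_neg,
        Units.val_one, det_neg, det_one, Fintype.card_fin]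
      ring
    exact ⟨hGU, hSL⟩
  obtain ⟨x, hx⟩ := exists_suHom_eq _ hmem
  refine ⟨x, fun v => ?_⟩
  rw [hx, Units.val_mul, ← mulVec_mulVec, qdil_mulVec a haa _ hμ0, Units.val_neg, Units.val_one,
    neg_mulVec, one_mulVec]
  module

theorem isReflOf_inj (x y : ↥(Cfsg.SU 3 F q)) (a : Fin 3 → F) (hx : IsReflOf x a)
    (hy : IsReflOf y a) : x = y := by
  apply suHom_injective
  apply Units.ext
  rw [Matrix.ext_iff_mulVec]
  intro v
  rw [hx v, hy v]

theorem isReflOf_sq (x : ↥(Cfsg.SU 3 F q)) (a : Fin 3 → F) (haa : h3 a a = 1)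
    (hx : IsReflOf x a) : x * x = 1 := by
  apply suHom_injective
  apply Units.ext
  rw [Matrix.ext_iff_mulVec]
  intro v
  rw [map_mul, Units.val_mul, ← mulVec_mulVec, hx v, hx, map_one, Units.val_one, one_mulVec,
    hermForm_add_left, hermForm_neg_left, hermForm_smul_left, haa]
  module

theorem isReflOf_smul (x : ↥(Cfsg.SU 3 F q)) (a : Fin 3 → F) (l : F) (hl : l * l ^ q = 1)
    (hx : IsReflOf x a) : IsReflOf x (l • a) := by
  intro v
  rw [hx v, hermForm_smul_right, smul_smul]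
  congr 2
  linear_combination (-(2 * h3 v a)) * hl

theorem isReflOf_vec (h2 : (2 : F) ≠ 0) (x : ↥(Cfsg.SU 3 F q)) (a b : Fin 3 → F)
    (hbb : h3 b b = 1) (hxa : IsReflOf x a) (hxb : IsReflOf x b) : b = (h3 b a) • a := by
  have h1 := hxa b
  rw [hxb b, hbb, mul_one] at h1
  have h4 : (2 : F) • b = (2 : F) • ((h3 b a) • a) := by
    linear_combination (norm := module) h1
  exact smul_right_injective _ h2 h4

/-- a unit vector orthogonal to a given unit vector -/
theorem exists_unit_perp_unit (hF : Fintype.card F = q ^ 2) (a : Fin 3 → F) (haa : h3 a a = 1) :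
    ∃ d : Fin 3 → F, h3 d d = 1 ∧ h3 d a = 0 := by
  have hq2 := q_ge_two hF
  have hE : h3 (Pi.single 0 1) (Pi.single 0 1) = 1 := by
    rw [hermForm_single_single 3 q (by omega), if_pos rfl]
  obtain ⟨A, hA, hAE⟩ := Helper5.exists_isHermIso_mulVec_eq hF hE haa
  refine ⟨A *ᵥ Pi.single 1 1, ?_, ?_⟩
  · rw [hA, hermForm_single_single 3 q (by omega), if_pos rfl]
  · rw [← hAE, hA, hermForm_single_single 3 q (by omega), if_neg (by decide)]

/-- completing an orthonormal pair to an orthonormal basis -/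
theorem exists_orthonormal_third (hF : Fintype.card F = q ^ 2) (a b : Fin 3 → F)
    (haa : h3 a a = 1) (hbb : h3 b b = 1) (hab : h3 a b = 0) :
    ∃ d : Fin 3 → F, h3 d d = 1 ∧ h3 a d = 0 ∧ h3 b d = 0 := by
  classical
  have hq2 := q_ge_two hF
  have hq0 : q ≠ 0 := by omega
  have hba : h3 b a = 0 := hermForm_eq_zero_comm hF hab
  have hgram1 : ∀ l i : Fin 2, h3 ((![Pi.single 0 1, Pi.single 1 1] : Fin 2 → (Fin 3 → F)) l)
      ((![Pi.single 0 1, Pi.single 1 1] : Fin 2 → (Fin 3 → F)) i) = if l = i then 1 else 0 := by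
    intro l i
    fin_cases l <;> fin_cases i <;> simp [hermForm_single_single 3 q hq0]
  have hgram2 : ∀ l i : Fin 2, h3 ((![a, b] : Fin 2 → (Fin 3 → F)) l)
      ((![a, b] : Fin 2 → (Fin 3 → F)) i) = if l = i then 1 else 0 := by
    intro l i
    fin_cases l <;> fin_cases i <;> simp [haa, hbb, hab, hba]
  obtain ⟨g, hg⟩ := exists_GU_map hF (![Pi.single 0 1, Pi.single 1 1] : Fin 2 → (Fin 3 → F))
    ![a, b] (linearIndependent_of_dual hF _ _ hgram1) (linearIndependent_of_dual hF _ _ hgram2) (by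
      intro i j
      rw [hgram1, hgram2])
  have hg0 : g • (Pi.single 0 1 : Fin 3 → F) = a := by simpa using hg 0
  have hg1 : g • (Pi.single 1 1 : Fin 3 → F) = b := by simpa using hg 1
  refine ⟨g • (Pi.single 2 1 : Fin 3 → F), ?_, ?_, ?_⟩
  · rw [GU_smul_preserves, hermForm_single_single 3 q hq0, if_pos rfl]
  · rw [← hg0, GU_smul_preserves, hermForm_single_single 3 q hq0, if_neg (by decide)]
  · rw [← hg1, GU_smul_preserves, hermForm_single_single 3 q hq0, if_neg (by decide)]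

theorem isReflOf_ne_one (hF : Fintype.card F = q ^ 2) (h2 : (2 : F) ≠ 0)
    (x : ↥(Cfsg.SU 3 F q)) (a : Fin 3 → F) (haa : h3 a a = 1) (hx : IsReflOf x a) : x ≠ 1 := by
  rintro rfl
  obtain ⟨d, hdd, hda⟩ := exists_unit_perp_unit hF a haa
  have h1 := hx d
  rw [map_one, Units.val_one, one_mulVec, hda, mul_zero, zero_smul, add_zero] at h1
  have hd0 : d ≠ 0 := by
    rintro rfl
    rw [hermForm_zero_left] at hdd
    exact zero_ne_one hdd
  have h4 : (2 : F) • d = (2 : F) • (0 : Fin 3 → F) := by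
    linear_combination (norm := module) h1
  exact hd0 (smul_right_injective _ h2 h4)

theorem commute_of_orth (hF : Fintype.card F = q ^ 2) (x y : ↥(Cfsg.SU 3 F q)) (a b : Fin 3 → F)
    (hx : IsReflOf x a) (hy : IsReflOf y b) (hab : h3 a b = 0) : Commute x y := by
  have hba : h3 b a = 0 := hermForm_eq_zero_comm hF hab
  apply suHom_injective
  apply Units.ext
  rw [Matrix.ext_iff_mulVec]
  intro v
  rw [map_mul, map_mul, Units.val_mul, Units.val_mul, ← mulVec_mulVec, ← mulVec_mulVec, hy v, hx,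
    hx v, hy]
  simp only [hermForm_add_left, hermForm_neg_left, hermForm_smul_left, hab, hba]
  module

end su3graph1

end Cfsg.Agent.Lib.Helper13
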