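import Mathlib
import Cfsg.Agent.Lib.Helper13.SU3Graph1

set_option autoImplicit false

namespace Cfsg.Agent.Lib.Helper13

open Matrix Cfsg.Agent.Lib.Helper99

/-- a map all of whose fibres have `k` elements -/
theorem card_eq_mul_of_fibers {A B : Type*} [Finite A] [Finite B] (f : A → B) (k : ℕ)
    (hk : ∀ y, Nat.card {a // f a = y} = k) : Nat.card A = k * Nat.card B := by
  haveI := Fintype.ofFinite B
  rw [← Nat.card_congr (Equiv.sigmaFiberEquiv f), Nat.card_sigma]
  simp only [hk, Finset.sum_const, Finset.card_univ, smul_eq_mul, Nat.card_eq_fintype_card]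
  ring

section su3graph2

variable {F : Type*} [Field F] [Fintype F] {q : ℕ}

local notation "h3" => Cfsg.hermForm 3 F q

theorem card_norm_one_scalars (hF : Fintype.card F = q ^ 2) :
    Nat.card {l : F // l * l ^ q = 1} = q + 1 := by
  classical
  rw [Nat.card_eq_fintype_card, Fintype.card_subtype]
  exact Helper5.card_hnorm_fiber hF one_ne_zero (one_pow q)

theorem card_isReflOf_fiber (hF : Fintype.card F = q ^ 2) (h2 : (2 : F) ≠ 0)
    (x : ↥(Cfsg.SU 3 F q)) (hx1 : x ≠ 1) (hx2 : x * x = 1) :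
    Nat.card {b : Fin 3 → F // h3 b b = 1 ∧ IsReflOf x b} = q + 1 := by
  obtain ⟨b₀, hb₀, hxb₀⟩ := involution_structure hF h2 x hx1 hx2
  rw [← card_norm_one_scalars hF]
  apply Nat.card_congr
  symm
  refine Equiv.ofBijective (fun l => ⟨l.1 • b₀, ?_, isReflOf_smul x b₀ l.1 l.2 hxb₀⟩) ⟨?_, ?_⟩
  · rw [hermForm_smul_left, hermForm_smul_right, hb₀]
    linear_combination l.2
  · intro l m hlm
    have h1 := congrArg (fun z : {b : Fin 3 → F // h3 b b = 1 ∧ IsReflOf x b} => h3 z.1 b₀) hlm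
    simp only [hermForm_smul_left, hb₀, mul_one] at h1
    exact Subtype.ext h1
  · rintro ⟨b, hbb, hxb⟩
    have h1 := isReflOf_vec h2 x b₀ b hbb hxb₀ hxb
    obtain ⟨c, hc⟩ : ∃ c : F, c = h3 b b₀ := ⟨_, rfl⟩
    rw [← hc] at h1
    refine ⟨⟨c, ?_⟩, Subtype.ext h1.symm⟩
    have h4 := hbb
    rw [h1, hermForm_smul_left, hermForm_smul_right, hb₀] at h4
    linear_combination h4

/-- unit vectors versus involutions: the map `b ↦ refl b` is `(q+1)`-to-one -/
theorem card_unit_fiber (hF : Fintype.card F = q ^ 2) (hq : Odd q)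
    (P : ↥(Cfsg.SU 3 F q) → Prop) :
    Nat.card {b : Fin 3 → F // h3 b b = 1 ∧ ∀ x : ↥(Cfsg.SU 3 F q), IsReflOf x b → P x}
      = (q + 1) * Nat.card {x : ↥(Cfsg.SU 3 F q) // x ≠ 1 ∧ x * x = 1 ∧ P x} := by
  classical
  have h2 : (2 : F) ≠ 0 := two_ne_zero_of_odd_card hq hF
  have hex : ∀ b : {b : Fin 3 → F // h3 b b = 1 ∧ ∀ x : ↥(Cfsg.SU 3 F q), IsReflOf x b → P x},
      ∃ x : ↥(Cfsg.SU 3 F q), IsReflOf x b.1 := fun b => exists_isReflOf hF hq b.1 b.2.1
  apply card_eq_mul_of_fibers (fun b => (⟨Classical.choose (hex b),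
      isReflOf_ne_one hF h2 _ b.1 b.2.1 (Classical.choose_spec (hex b)),
      isReflOf_sq _ b.1 b.2.1 (Classical.choose_spec (hex b)),
      b.2.2 _ (Classical.choose_spec (hex b))⟩ :
        {x : ↥(Cfsg.SU 3 F q) // x ≠ 1 ∧ x * x = 1 ∧ P x}))
  intro y
  rw [← card_isReflOf_fiber hF h2 y.1 y.2.1 y.2.2.1]
  apply Nat.card_congr
  exact
    { toFun := fun a => ⟨a.1.1, a.1.2.1, by
        have h1 := Classical.choose_spec (hex a.1)
        have h4 := congrArg Subtype.val a.2
        simp only at h4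
        rw [h4] at h1
        exact h1⟩
      invFun := fun b => ⟨⟨b.1, b.2.1, fun x hx => by
          rw [isReflOf_inj x y.1 b.1 hx b.2.2]
          exact y.2.2.2⟩, by
        apply Subtype.ext
        exact isReflOf_inj _ _ b.1 (Classical.choose_spec (hex _)) b.2.2⟩
      left_inv := fun a => rfl
      right_inv := fun b => rfl }

end su3graph2

end Cfsg.Agent.Lib.Helper13
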