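import Mathlib
import Cfsg.Agent.Lib.Helper13.SU3Graph2

set_option autoImplicit false

namespace Cfsg.Agent.Lib.Helper13

open Matrix Cfsg.Agent.Lib.Helper99

section su3graph3

variable {F : Type*} [Field F] [Fintype F] {q : ℕ}

local notation "h3" => Cfsg.hermForm 3 F q

theorem norm_ne_zero_of_norm_one (l : F) (hl : l * l ^ q = 1) : l ≠ 0 := by
  rintro rfl
  rw [zero_mul] at hl
  exact zero_ne_one hl

theorem eq_zero_of_norm_zero (l : F) (hl : l * l ^ q = 0) : l = 0 := by
  rcases mul_eq_zero.1 hl with h | h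
  · exact h
  · exact eq_zero_of_pow_eq_zero h

/-- the norm of the component orthogonal to the unit vector `a` -/
theorem norm_perp_part (hF : Fintype.card F = q ^ 2) (a b : Fin 3 → F) (haa : h3 a a = 1) :
    h3 (b - h3 b a • a) (b - h3 b a • a) = h3 b b - h3 b a * (h3 b a) ^ q := by
  simp only [hermForm_sub_left, hermForm_sub_right hF, hermForm_smul_left, hermForm_smul_right,
    haa, hermForm_conj hF 3 b a]
  rw [← hermForm_conj hF 3 b a]
  ring

theorem perp_part_orth (a b : Fin 3 → F) (haa : h3 a a = 1) :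
    h3 (b - h3 b a • a) a = 0 := by
  rw [hermForm_sub_left, hermForm_smul_left, haa, mul_one, sub_self]

theorem refl_eq_iff (h2 : (2 : F) ≠ 0) (t x : ↥(Cfsg.SU 3 F q)) (a b : Fin 3 → F)
    (haa : h3 a a = 1) (hbb : h3 b b = 1) (hta : IsReflOf t a) (hxb : IsReflOf x b) :
    x = t ↔ b = h3 b a • a := by
  constructor
  · rintro rfl
    exact isReflOf_vec h2 x a b hbb hta hxb
  · intro hb
    obtain ⟨c, hc⟩ : ∃ c : F, c = h3 b a := ⟨_, rfl⟩
    rw [← hc] at hb
    have hcN : c * c ^ q = 1 := by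
      have h4 := hbb
      rw [hb, hermForm_smul_left, hermForm_smul_right, haa] at h4
      linear_combination h4
    have h5 := isReflOf_smul t a c hcN hta
    rw [← hb] at h5
    exact isReflOf_inj x t b hxb h5

theorem commute_refl_vec_iff (hF : Fintype.card F = q ^ 2) (h2 : (2 : F) ≠ 0)
    (t x : ↥(Cfsg.SU 3 F q)) (a b : Fin 3 → F)
    (haa : h3 a a = 1) (hbb : h3 b b = 1) (hta : IsReflOf t a) (hxb : IsReflOf x b) :
    Commute t x ↔ (b = h3 b a • a ∨ h3 b a = 0) := by
  constructor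
  · intro hc
    by_cases hxt : x = t
    · exact Or.inl ((refl_eq_iff h2 t x a b haa hbb hta hxb).1 hxt)
    · exact Or.inr (hermForm_eq_zero_comm hF (orth_of_commute hF h2 t x a b haa hbb hta hxb hxt hc))
  · rintro (h | h)
    · rw [(refl_eq_iff h2 t x a b haa hbb hta hxb).2 h]
    · exact commute_of_orth hF t x a b hta hxb (hermForm_eq_zero_comm hF h)

/-- type 1: distinct commuting involutions correspond to orthogonal centres -/
theorem type1_iff (hF : Fintype.card F = q ^ 2) (hq : Odd q)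
    (t : ↥(Cfsg.SU 3 F q)) (a b : Fin 3 → F)
    (haa : h3 a a = 1) (hbb : h3 b b = 1) (hta : IsReflOf t a) :
    (∀ x : ↥(Cfsg.SU 3 F q), IsReflOf x b → (x ≠ t ∧ Commute t x)) ↔ h3 b a = 0 := by
  have h2 : (2 : F) ≠ 0 := two_ne_zero_of_odd_card hq hF
  constructor
  · intro h
    obtain ⟨x, hxb⟩ := exists_isReflOf hF hq b hbb
    obtain ⟨h4, h5⟩ := h x hxb
    rw [Ne, refl_eq_iff h2 t x a b haa hbb hta hxb] at h4
    rw [commute_refl_vec_iff hF h2 t x a b haa hbb hta hxb] at h5
    rcases h5 with h5 | h5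
    · exact absurd h5 h4
    · exact h5
  · intro h x hxb
    constructor
    · rw [Ne, refl_eq_iff h2 t x a b haa hbb hta hxb, h, zero_smul]
      rintro rfl
      rw [hermForm_zero_left] at hbb
      exact zero_ne_one hbb
    · rw [commute_refl_vec_iff hF h2 t x a b haa hbb hta hxb]
      exact Or.inr h

/-- a unit vector orthogonal to both `a` and `b` exists iff the part of `b` orthogonal to `a`
is anisotropic -/
theorem exists_common_perp_iff (hF : Fintype.card F = q ^ 2) (a b : Fin 3 → F)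
    (haa : h3 a a = 1) (hw : b - h3 b a • a ≠ 0) :
    (∃ d : Fin 3 → F, h3 d d = 1 ∧ h3 a d = 0 ∧ h3 b d = 0)
      ↔ h3 (b - h3 b a • a) (b - h3 b a • a) ≠ 0 := by
  obtain ⟨w, hwdef⟩ : ∃ w : Fin 3 → F, w = b - h3 b a • a := ⟨_, rfl⟩
  have hwa : h3 w a = 0 := by rw [hwdef]; exact perp_part_orth a b haa
  have haw : h3 a w = 0 := hermForm_eq_zero_comm hF hwa
  have hbw : b = h3 b a • a + w := by rw [hwdef]; module
  rw [← hwdef] at hw ⊢
  constructor
  · rintro ⟨d, hdd, had, hbd⟩ hww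
    obtain ⟨e, hee, hae, hde⟩ := exists_orthonormal_third hF a d haa hdd had
    have hwd : h3 w d = 0 := by
      rw [hwdef, hermForm_sub_left, hermForm_smul_left, hbd, had, mul_zero, sub_zero]
    have h1 := decomp3_orth hF a d e haa hdd hee had hae hde w
    rw [hwa, hwd, zero_smul, zero_smul, zero_add, zero_add] at h1
    have h4 := hww
    rw [h1, hermForm_smul_left, hermForm_smul_right, hee, mul_one] at h4
    have h5 := eq_zero_of_norm_zero _ h4
    rw [h5, zero_smul] at h1
    exact hw h1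
  · intro hww
    obtain ⟨r, hr⟩ : ∃ r : F, r = h3 w w := ⟨_, rfl⟩
    rw [← hr] at hww
    have hrq : r ^ q = r := by rw [hr]; exact hermForm_self_pow hF w
    obtain ⟨c, hc⟩ := exists_norm_eq hF r⁻¹ (inv_ne_zero hww) (by rw [inv_pow, hrq])
    have hc0 : c ≠ 0 := by
      rintro rfl
      rw [zero_mul] at hc
      exact inv_ne_zero hww hc.symm
    have h1 : h3 (c • w) (c • w) = 1 := by
      rw [hermForm_smul_left, hermForm_smul_right, ← hr, ← mul_assoc, hc, inv_mul_cancel₀ hww]
    have h4 : h3 a (c • w) = 0 := by rw [hermForm_smul_right, haw, mul_zero]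
    obtain ⟨d, hdd, had, hwd⟩ := exists_orthonormal_third hF a (c • w) haa h1 h4
    refine ⟨d, hdd, had, ?_⟩
    rw [hermForm_smul_left] at hwd
    have hwd' : h3 w d = 0 := by
      rcases mul_eq_zero.1 hwd with h | h
      · exact absurd h hc0
      · exact h
    rw [hbw, hermForm_add_left, hermForm_smul_left, had, hwd', mul_zero, add_zero]

/-- a path of length two through an involution, in terms of centres -/
theorem exists_path_iff (hF : Fintype.card F = q ^ 2) (hq : Odd q)
    (t x : ↥(Cfsg.SU 3 F q)) (a b : Fin 3 → F)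
    (haa : h3 a a = 1) (hbb : h3 b b = 1) (hta : IsReflOf t a) (hxb : IsReflOf x b)
    (hnc : ¬ Commute t x) :
    (∃ y : ↥(Cfsg.SU 3 F q), y ≠ 1 ∧ y * y = 1 ∧ Commute t y ∧ Commute y x)
      ↔ ∃ d : Fin 3 → F, h3 d d = 1 ∧ h3 a d = 0 ∧ h3 b d = 0 := by
  have h2 : (2 : F) ≠ 0 := two_ne_zero_of_odd_card hq hF
  constructor
  · rintro ⟨y, hy1, hy2, hty, hyx⟩
    obtain ⟨d, hdd, hyd⟩ := involution_structure hF h2 y hy1 hy2
    have hyt : y ≠ t := by
      rintro rfl
      exact hnc hyx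
    have hyx' : y ≠ x := by
      rintro rfl
      exact hnc hty
    refine ⟨d, hdd, orth_of_commute hF h2 t y a d haa hdd hta hyd hyt hty,
      orth_of_commute hF h2 x y b d hbb hdd hxb hyd hyx' hyx.symm⟩
  · rintro ⟨d, hdd, had, hbd⟩
    obtain ⟨y, hyd⟩ := exists_isReflOf hF hq d hdd
    exact ⟨y, isReflOf_ne_one hF h2 y d hdd hyd, isReflOf_sq y d hdd hyd,
      commute_of_orth hF t y a d hta hyd had,
      commute_of_orth hF y x d b hyd hxb (hermForm_eq_zero_comm hF hbd)⟩

/-- type 3: involutions at distance three -/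
theorem type3_iff (hF : Fintype.card F = q ^ 2) (hq : Odd q)
    (t : ↥(Cfsg.SU 3 F q)) (a b : Fin 3 → F)
    (haa : h3 a a = 1) (hbb : h3 b b = 1) (hta : IsReflOf t a) :
    (∀ x : ↥(Cfsg.SU 3 F q), IsReflOf x b → (¬ Commute t x ∧
        ∀ y : ↥(Cfsg.SU 3 F q), y ≠ 1 → y * y = 1 → ¬ (Commute t y ∧ Commute y x)))
      ↔ (b - h3 b a • a ≠ 0 ∧ h3 (b - h3 b a • a) (b - h3 b a • a) = 0) := by
  have h2 : (2 : F) ≠ 0 := two_ne_zero_of_odd_card hq hF
  constructor
  · intro h
    obtain ⟨x, hxb⟩ := exists_isReflOf hF hq b hbb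
    obtain ⟨h4, h5⟩ := h x hxb
    have h6 := h4
    rw [commute_refl_vec_iff hF h2 t x a b haa hbb hta hxb] at h6
    push Not at h6
    have hw : b - h3 b a • a ≠ 0 := sub_ne_zero.2 h6.1
    refine ⟨hw, ?_⟩
    by_contra hww
    obtain ⟨y, hy1, hy2, hty, hyx⟩ := (exists_path_iff hF hq t x a b haa hbb hta hxb h4).2
      ((exists_common_perp_iff hF a b haa hw).2 hww)
    exact h5 y hy1 hy2 ⟨hty, hyx⟩
  · rintro ⟨hw, hww⟩ x hxb
    have hnc : ¬ Commute t x := by
      rw [commute_refl_vec_iff hF h2 t x a b haa hbb hta hxb]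
      push Not
      refine ⟨sub_ne_zero.1 hw, ?_⟩
      rw [norm_perp_part hF a b haa, hbb] at hww
      intro h0
      rw [h0, zero_mul, sub_zero] at hww
      exact one_ne_zero hww
    refine ⟨hnc, fun y hy1 hy2 hyy => ?_⟩
    have h7 := (exists_path_iff hF hq t x a b haa hbb hta hxb hnc).1 ⟨y, hy1, hy2, hyy.1, hyy.2⟩
    exact (exists_common_perp_iff hF a b haa hw).1 h7 hww

end su3graph3

end Cfsg.Agent.Lib.Helper13
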