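import Mathlib
import Cfsg.Agent.Lib.Helper13.UParab3
import Cfsg.Agent.Lib.Helper13.Borel
import Cfsg.Agent.Lib.Helper5.SUCard
import Cfsg.Agent.Lib.Helper99.UnitaryTI2

set_option autoImplicit false

namespace Cfsg.Agent.Lib.Helper13

open Matrix Module Cfsg.Agent.Lib.Helper99

section uparab4

variable {F : Type*} [Field F] [Fintype F] {q n : ℕ}

local notation "hh" => Cfsg.hermForm n F q

/-- setwise stabiliser of a subspace in `GU` -/
def stabGU (n q : ℕ) {F : Type*} [Field F] (W : Submodule F (Fin n → F)) :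
    Subgroup ↥(Cfsg.GU n F q) where
  carrier := {g | ∀ v, v ∈ W ↔ g • v ∈ W}
  mul_mem' := by
    intro a b ha hb v
    rw [mul_smul]
    exact (hb v).trans (ha _)
  one_mem' := by
    intro v
    rw [one_smul]
  inv_mem' := by
    intro a ha v
    have := ha (a⁻¹ • v)
    rw [smul_inv_smul] at this
    exact this.symm

omit [Fintype F] in
theorem mem_stabGU (W : Submodule F (Fin n → F)) (g : ↥(Cfsg.GU n F q)) :
    g ∈ stabGU n q W ↔ ∀ v, v ∈ W ↔ g • v ∈ W := Iff.rfl

omit [Fintype F] in
theorem GU_mulVec_injective (g : ↥(Cfsg.GU n F q)) :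
    Function.Injective (Units.val g.1).mulVec := by
  intro a b hab
  have := congrArg (fun z => ((g.1⁻¹ : GL (Fin n) F) : Matrix (Fin n) (Fin n) F) *ᵥ z) hab
  simpa [gl_inv_mulVec_mulVec] using this

omit [Fintype F] in
theorem mem_stabGU_of_maps (W : Submodule F (Fin n → F)) (g : ↥(Cfsg.GU n F q))
    (h : ∀ w ∈ W, g • w ∈ W) : g ∈ stabGU n q W := by
  intro v
  exact mem_iff_mulVec_mem_of_mapsTo W (Units.val g.1) (GU_mulVec_injective g) h v

omit [Fintype F] in
theorem GU_smul_add (g : ↥(Cfsg.GU n F q)) (x y : Fin n → F) : g • (x + y) = g • x + g • y :=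
  Matrix.mulVec_add _ _ _

omit [Fintype F] in
theorem GU_smul_smul (g : ↥(Cfsg.GU n F q)) (c : F) (x : Fin n → F) : g • (c • x) = c • (g • x) :=
  Matrix.mulVec_smul _ _ _

omit [Fintype F] in
theorem GU_smul_zero (g : ↥(Cfsg.GU n F q)) : g • (0 : Fin n → F) = 0 :=
  Matrix.mulVec_zero _

omit [Fintype F] in
theorem GU_maps_span (g : ↥(Cfsg.GU n F q)) (W : Submodule F (Fin n → F)) {k : ℕ}
    (s : Fin k → (Fin n → F)) (hs : ∀ i, g • s i ∈ W) (v : Fin n → F)
    (hv : v ∈ Submodule.span F (Set.range s)) : g • v ∈ W := by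
  induction hv using Submodule.span_induction with
  | mem x hx => obtain ⟨i, rfl⟩ := hx; exact hs i
  | zero => rw [GU_smul_zero]; exact W.zero_mem
  | add x y _ _ hx hy => rw [GU_smul_add]; exact W.add_mem hx hy
  | smul a x _ hx => rw [GU_smul_smul]; exact W.smul_mem a hx

/-- the stabiliser in `GU` of a totally isotropic subspace: orbit of a basis -/
theorem card_stabGU (hF : Fintype.card F = q ^ 2) (W : Submodule F (Fin n → F)) (k : ℕ)
    (hWk : Module.finrank F W = k) (hW : ∀ u ∈ W, ∀ v ∈ W, hh u v = 0) :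
    ∃ s₀ : Fin k → (Fin n → F), LinearIndependent F s₀ ∧ (∀ i j, hh (s₀ i) (s₀ j) = 0) ∧
      Nat.card (stabGU n q W) = (∏ i : Fin k, ((q ^ 2) ^ k - (q ^ 2) ^ (i : ℕ)))
        * Nat.card (fixSet n q F (Set.range s₀)) := by
  classical
  let b : Basis (Fin k) F W := Module.finBasisOfFinrankEq F W hWk
  let s₀ : Fin k → (Fin n → F) := fun i => ((b i : W) : Fin n → F)
  have hs₀W : ∀ i, s₀ i ∈ W := fun i => (b i).2
  have hs₀li : LinearIndependent F s₀ := b.linearIndependent.map' W.subtype (Submodule.ker_subtype W)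
  have hs₀span : Submodule.span F (Set.range s₀) = W := by
    have h1 : Set.range s₀ = W.subtype '' Set.range b := by
      rw [← Set.range_comp]; rfl
    rw [h1, ← Submodule.map_span, b.span_eq, Submodule.map_subtype_top]
  refine ⟨s₀, hs₀li, fun i j => hW _ (hs₀W i) _ (hs₀W j), ?_⟩
  have hmemH : ∀ g : ↥(Cfsg.GU n F q), (∀ i, g • s₀ i ∈ W) → g ∈ stabGU n q W := by
    intro g hg
    apply mem_stabGU_of_maps
    intro w hw
    rw [← hs₀span] at hw
    exact GU_maps_span g W s₀ hg w hw
  rw [card_subgroup_eq_orbit_mul_stab (stabGU n q W) s₀]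
  have horbit : Nat.card {y : Fin k → (Fin n → F) // ∃ h ∈ stabGU n q W, h • s₀ = y}
      = ∏ i : Fin k, ((q ^ 2) ^ k - (q ^ 2) ^ (i : ℕ)) := by
    have h1 := card_linearIndependent (K := F) (V := W) (k := k) (le_of_eq hWk.symm)
    rw [hWk, hF] at h1
    rw [← h1]
    symm
    let φ : {s : Fin k → W // LinearIndependent F s} → {y : Fin k → (Fin n → F) //
      ∃ h ∈ stabGU n q W, h • s₀ = y} :=
      fun s => ⟨fun i => ((s.1 i : W) : Fin n → F), by
        have hsli : LinearIndependent F (fun i => ((s.1 i : W) : Fin n → F)) :=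
          s.2.map' W.subtype (Submodule.ker_subtype W)
        obtain ⟨Q', hQ'⟩ := exists_GU_map hF s₀ (fun i => ((s.1 i : W) : Fin n → F))
          hs₀li hsli (by
            intro i j
            rw [hW _ (hs₀W i) _ (hs₀W j), hW _ (s.1 i).2 _ (s.1 j).2])
        refine ⟨Q', hmemH Q' ?_, ?_⟩
        · intro i
          rw [hQ' i]
          exact (s.1 i).2
        · funext i
          exact hQ' i⟩
    apply Nat.card_congr (Equiv.ofBijective φ ⟨?_, ?_⟩)
    · intro s t hst
      apply Subtype.ext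
      funext i
      apply Subtype.ext
      exact congrFun (congrArg Subtype.val hst) i
    · rintro ⟨y, h, hmem, hy⟩
      have hyW : ∀ i, y i ∈ W := by
        intro i
        rw [← hy]
        exact (hmem (s₀ i)).1 (hs₀W i)
      have hyli : LinearIndependent F y := by
        have h2 := hs₀li.map' (Matrix.toLin' (Units.val h.1))
          (LinearMap.ker_eq_bot.2 (by
            intro a b hab
            rw [Matrix.toLin'_apply, Matrix.toLin'_apply] at hab
            exact GU_mulVec_injective h hab))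
        have e3 : (h • s₀) = ⇑(Matrix.toLin' (Units.val h.1)) ∘ s₀ := by
          funext i
          simp only [Function.comp_apply, Matrix.toLin'_apply]
          rfl
        rw [← hy, e3]
        exact h2
      refine ⟨⟨fun i => ⟨y i, hyW i⟩, ?_⟩, ?_⟩
      · apply LinearIndependent.of_comp W.subtype
        exact hyli
      · apply Subtype.ext
        rfl
  have hstab : Nat.card {h : ↥(Cfsg.GU n F q) // h ∈ stabGU n q W ∧ h • s₀ = s₀}
      = Nat.card (fixSet n q F (Set.range s₀)) := by
    apply Nat.card_congr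
    refine Equiv.subtypeEquivRight (fun h => ⟨?_, ?_⟩)
    · rintro ⟨_, h2⟩ _ ⟨i, rfl⟩
      exact congrFun h2 i
    · intro h1
      have hfix : ∀ i, h • s₀ i = s₀ i := fun i => h1 _ ⟨i, rfl⟩
      refine ⟨hmemH h ?_, ?_⟩
      · intro i
        rw [hfix i]
        exact hs₀W i
      · funext i
        exact hfix i
  exact congrArg₂ (· * ·) horbit hstab

/-- an isotropic partner of a non-zero isotropic vector -/
theorem exists_isotropic_partner (hF : Fintype.card F = q ^ 2) (hn : 2 ≤ n) (w : Fin n → F)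
    (hw0 : w ≠ 0) (hww : hh w w = 0) : ∃ u : Fin n → F, hh u u = 0 ∧ hh w u = 1 := by
  obtain ⟨e, f, hee, hff, hef, -⟩ := exists_hyp_pair_coords hF (⟨0, by omega⟩ : Fin n)
    ⟨1, by omega⟩ (by simp [Fin.ext_iff])
  have he0 : e ≠ 0 := by
    rintro rfl
    rw [hermForm_zero_left] at hef
    exact zero_ne_one hef
  obtain ⟨g, hg1, hg2⟩ := exists_isometry_map hF e w he0 hw0 (by rw [hww, hee])
  refine ⟨g f, by rw [hg1, hff], ?_⟩
  rw [← hg2, hg1, hef]

/-- the stabiliser in `GU` of a totally isotropic subspace contains elements of every possible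
determinant -/
theorem exists_stabGU_det (hF : Fintype.card F = q ^ 2) (k : ℕ) (hn : 1 ≤ n) (hk : 2 * k ≤ n)
    (W : Submodule F (Fin n → F)) (hWk : Module.finrank F W = k)
    (hW : ∀ u ∈ W, ∀ v ∈ W, hh u v = 0) (δ : Fˣ) (hδ : δ ^ (q + 1) = 1) :
    ∃ d : ↥(Cfsg.GU n F q), d ∈ stabGU n q W ∧ Helper5.detGU n F q d = δ := by
  by_cases hbot : W = ⊥
  · obtain ⟨m, rfl⟩ : ∃ m, n = m + 1 := ⟨n - 1, by omega⟩
    have h1 : δ ∈ (Helper5.detGU (m + 1) F q).range := by
      rw [Helper5.range_detGU hF, MonoidHom.mem_ker, powMonoidHom_apply]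
      exact hδ
    obtain ⟨g, hg⟩ := h1
    refine ⟨g, ?_, hg⟩
    apply mem_stabGU_of_maps
    intro w hw
    rw [hbot, Submodule.mem_bot] at hw
    rw [hw, GU_smul_zero]
    exact W.zero_mem
  · obtain ⟨w, hwW, hw0⟩ := Submodule.exists_mem_ne_zero_of_ne_bot hbot
    have hk1 : 1 ≤ k := by
      rw [← hWk]
      by_contra h
      have h0 : Module.finrank F W = 0 := by omega
      exact hbot (Submodule.finrank_eq_zero.1 h0)
    obtain ⟨u, huu, hwu⟩ := exists_isotropic_partner hF (by omega) w hw0 (hW w hwW w hwW)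
    have hu' : u ∉ hperp q W := by
      intro h
      have := (mem_hperp' hF W u).1 h w hwW
      rw [hwu] at this
      exact one_ne_zero this
    have hδ' : ((δ⁻¹ : Fˣ) : F) ^ (q + 1) = 1 := by
      rw [← Units.val_pow_eq_pow_val, inv_pow, hδ, inv_one, Units.val_one]
    obtain ⟨d, β, -, hdGU, hddet, hdW, -⟩ := exists_det_correction hF W hW u huu hu' _ hδ'
    refine ⟨⟨d, hdGU⟩, ?_, ?_⟩
    · apply mem_stabGU_of_maps
      intro x hx
      exact hdW x hx
    · apply Units.ext
      rw [Helper5.detGU_val]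
      change (d : Matrix (Fin n) (Fin n) F).det = _
      rw [hddet]
      simp

/-- the stabiliser in `SU` has index `q + 1` in the stabiliser in `GU` -/
theorem card_stab_SU (hF : Fintype.card F = q ^ 2) (k : ℕ) (hn : 1 ≤ n) (hk : 2 * k ≤ n)
    (W : Submodule F (Fin n → F)) (hWk : Module.finrank F W = k)
    (hW : ∀ u ∈ W, ∀ v ∈ W, hh u v = 0) :
    (q + 1) * Nat.card ↥((Cfsg.stabilizing (Cfsg.slToMat n F)
      (W : Set (Fin n → F))).subgroupOf (Cfsg.SU n F q)) = Nat.card (stabGU n q W) := by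
  let φ : ↥(stabGU n q W) →* Fˣ := (Helper5.detGU n F q).comp (stabGU n q W).subtype
  have h1 := Subgroup.card_eq_card_quotient_mul_card_subgroup φ.ker
  have hrange : φ.range = (powMonoidHom (q + 1) : Fˣ →* Fˣ).ker := by
    ext z
    constructor
    · rintro ⟨g, rfl⟩
      obtain ⟨m, rfl⟩ : ∃ m, n = m + 1 := ⟨n - 1, by omega⟩
      rw [← Helper5.range_detGU hF]
      exact ⟨g.1, rfl⟩
    · intro hz
      rw [MonoidHom.mem_ker, powMonoidHom_apply] at hz
      obtain ⟨d, hd, hdet⟩ := exists_stabGU_det hF k hn hk W hWk hW z hz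
      exact ⟨⟨d, hd⟩, hdet⟩
  have h2 : Nat.card (↥(stabGU n q W) ⧸ φ.ker) = q + 1 := by
    rw [Nat.card_congr (QuotientGroup.quotientKerEquivRange φ).toEquiv, hrange,
      Helper5.card_ker_pow_succ hF]
  have h3 : Nat.card φ.ker = Nat.card ↥((Cfsg.stabilizing (Cfsg.slToMat n F)
      (W : Set (Fin n → F))).subgroupOf (Cfsg.SU n F q)) := by
    apply Nat.card_congr
    refine
      { toFun := fun x => ⟨⟨⟨Units.val x.1.1.1, by
            have := congrArg Units.val (MonoidHom.mem_ker.1 x.2)
            exact this⟩, x.1.1.2⟩, x.1.2⟩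
        invFun := fun A => ⟨⟨⟨Matrix.SpecialLinearGroup.toGL A.1.1, A.1.2⟩, A.2⟩, by
            rw [MonoidHom.mem_ker]
            apply Units.ext
            exact A.1.1.2⟩
        left_inv := fun x => by
          apply Subtype.ext
          apply Subtype.ext
          apply Subtype.ext
          apply Units.ext
          rfl
        right_inv := fun A => by
          apply Subtype.ext
          apply Subtype.ext
          apply Subtype.ext
          rfl }
  rw [h1, h2, h3]

end uparab4

end Cfsg.Agent.Lib.Helper13
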