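import Mathlib
import Cfsg.Agent.Lib.Helper13.SU3Graph3
import Cfsg.Agent.Lib.Helper13.UParab4

set_option autoImplicit false

namespace Cfsg.Agent.Lib.Helper13

open Matrix Cfsg.Agent.Lib.Helper99

section su3graph4

variable {F : Type*} [Field F] [Fintype F] {q : ℕ}

local notation "h3" => Cfsg.hermForm 3 F q
local notation "h2'" => Cfsg.hermForm 2 F q

omit [Fintype F] in
theorem hermForm_cons_cons (n : ℕ) (x y : F) (u v : Fin n → F) :
    Cfsg.hermForm (n + 1) F q (Fin.cons x u) (Fin.cons y v)
      = x * y ^ q + Cfsg.hermForm n F q u v := by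
  unfold Cfsg.hermForm
  rw [Fin.sum_univ_succ]
  simp only [Fin.cons_zero, Fin.cons_succ]

omit [Fintype F] in
theorem sub_smul_single_eq (b : Fin 3 → F) :
    b - (b 0) • (Pi.single 0 1 : Fin 3 → F) = Fin.cons 0 (Fin.tail b) := by
  funext i
  refine Fin.cases ?_ (fun j => ?_) i
  · simp
  · simp [Fin.tail]

omit [Fintype F] in
theorem cons_zero_eq_zero_iff (u : Fin 2 → F) : (Fin.cons 0 u : Fin 3 → F) = 0 ↔ u = 0 := by
  constructor
  · intro h
    funext j
    have := congrFun h j.succ
    simpa using this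
  · rintro rfl
    funext i
    refine Fin.cases ?_ (fun j => ?_) i
    · simp
    · simp

/-- an element of `GU_3` carrying the first basis vector to a unit vector -/
theorem exists_GU_single_eq (hF : Fintype.card F = q ^ 2) (a : Fin 3 → F) (haa : h3 a a = 1) :
    ∃ g : ↥(Cfsg.GU 3 F q), g • (Pi.single 0 1 : Fin 3 → F) = a := by
  have hq2 := q_ge_two hF
  have hE : h3 (Pi.single 0 1) (Pi.single 0 1) = 1 := by
    rw [hermForm_single_single 3 q (by omega), if_pos rfl]
  obtain ⟨A, hA, hAE⟩ := Helper5.exists_isHermIso_mulVec_eq hF hE haa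
  exact ⟨Helper5.mkGU hF A hA, hAE⟩

omit [Fintype F] in
theorem GU_smul_sub (g : ↥(Cfsg.GU 3 F q)) (x y : Fin 3 → F) : g • (x - y) = g • x - g • y :=
  Matrix.mulVec_sub _ _ _

omit [Fintype F] in
theorem GU_smul_eq_zero_iff (g : ↥(Cfsg.GU 3 F q)) (x : Fin 3 → F) : g • x = 0 ↔ x = 0 := by
  constructor
  · intro h
    have h1 : g • x = g • (0 : Fin 3 → F) := by rw [h, GU_smul_zero]
    exact MulAction.injective g h1
  · rintro rfl
    exact GU_smul_zero g

/-- unit vectors orthogonal to a unit vector -/
theorem card_unit_perp (hF : Fintype.card F = q ^ 2) (a : Fin 3 → F) (haa : h3 a a = 1) :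
    Nat.card {b : Fin 3 → F // h3 b b = 1 ∧ h3 b a = 0} = q * (q ^ 2 - 1) := by
  obtain ⟨g, hga⟩ := exists_GU_single_eq hF a haa
  have e1 : {b : Fin 3 → F // h3 b b = 1 ∧ h3 b (Pi.single 0 1) = 0}
      ≃ {b : Fin 3 → F // h3 b b = 1 ∧ h3 b a = 0} :=
    Equiv.subtypeEquiv (MulAction.toPerm g) (fun b => by
      rw [MulAction.toPerm_apply, ← hga, GU_smul_preserves, GU_smul_preserves])
  have e2 : {u : Fin 2 → F // h2' u u = 1}
      ≃ {b : Fin 3 → F // h3 b b = 1 ∧ h3 b (Pi.single 0 1) = 0} :=
    { toFun := fun u => ⟨Fin.cons 0 u.1, by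
        rw [hermForm_cons_cons, zero_mul, zero_add]
        exact u.2, by
        rw [hermForm_single_right hF, Fin.cons_zero]⟩
      invFun := fun b => ⟨Fin.tail b.1, by
        have h1 := b.2.1
        have h4 := b.2.2
        rw [hermForm_single_right hF] at h4
        rw [← Fin.cons_self_tail b.1, hermForm_cons_cons, h4, zero_mul, zero_add] at h1
        exact h1⟩
      left_inv := fun u => by
        apply Subtype.ext
        simp only [Fin.tail_cons]
      right_inv := fun b => by
        apply Subtype.ext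
        have h4 := b.2.2
        rw [hermForm_single_right hF] at h4
        have h5 := Fin.cons_self_tail b.1
        rw [h4] at h5
        exact h5 }
  rw [← Nat.card_congr e1, ← Nat.card_congr e2, Helper5.card_hermForm_eq_one hF 2]
  simp

/-- non-zero isotropic vectors of the unitary plane -/
theorem card_isotropic_plane (hF : Fintype.card F = q ^ 2) :
    Nat.card {u : Fin 2 → F // h2' u u = 0 ∧ u ≠ 0} = (q + 1) * (q ^ 2 - 1) := by
  classical
  have h1 := Helper5.card_hermForm_eq_zero hF 2
  rw [Nat.card_eq_fintype_card, Fintype.card_subtype] at h1 ⊢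
  have h4 : (Finset.univ.filter (fun u : Fin 2 → F => h2' u u = 0 ∧ u ≠ 0))
      = (Finset.univ.filter (fun u : Fin 2 → F => h2' u u = 0)).erase 0 := by
    ext u
    simp only [Finset.mem_filter, Finset.mem_univ, true_and, Finset.mem_erase]
    tauto
  rw [h4, Finset.card_erase_of_mem (by
    simp only [Finset.mem_filter, Finset.mem_univ, true_and]
    exact hermForm_zero_left 0), h1]
  simp
  ring

/-- unit vectors whose part orthogonal to `a` is non-zero and isotropic -/
theorem card_unit_isotropic_part (hF : Fintype.card F = q ^ 2) (a : Fin 3 → F)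
    (haa : h3 a a = 1) :
    Nat.card {b : Fin 3 → F // h3 b b = 1 ∧ (b - h3 b a • a ≠ 0 ∧
        h3 (b - h3 b a • a) (b - h3 b a • a) = 0)} = (q + 1) * ((q + 1) * (q ^ 2 - 1)) := by
  obtain ⟨g, hga⟩ := exists_GU_single_eq hF a haa
  have e1 : {b : Fin 3 → F // h3 b b = 1 ∧ (b - h3 b (Pi.single 0 1) • (Pi.single 0 1) ≠ 0 ∧
        h3 (b - h3 b (Pi.single 0 1) • (Pi.single 0 1))
          (b - h3 b (Pi.single 0 1) • (Pi.single 0 1)) = 0)}
      ≃ {b : Fin 3 → F // h3 b b = 1 ∧ (b - h3 b a • a ≠ 0 ∧
        h3 (b - h3 b a • a) (b - h3 b a • a) = 0)} :=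
    Equiv.subtypeEquiv (MulAction.toPerm g) (fun b => by
      have h1 : g • b - h3 (g • b) a • a
          = g • (b - h3 b (Pi.single 0 1) • (Pi.single 0 1 : Fin 3 → F)) := by
        rw [GU_smul_sub, GU_smul_smul, hga]
        conv_lhs => rw [← hga, GU_smul_preserves, hga]
      rw [MulAction.toPerm_apply, h1, GU_smul_preserves, GU_smul_preserves, Ne, Ne,
        GU_smul_eq_zero_iff])
  have e2 : {l : F // l * l ^ q = 1} × {u : Fin 2 → F // h2' u u = 0 ∧ u ≠ 0}
      ≃ {b : Fin 3 → F // h3 b b = 1 ∧ (b - h3 b (Pi.single 0 1) • (Pi.single 0 1) ≠ 0 ∧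
        h3 (b - h3 b (Pi.single 0 1) • (Pi.single 0 1))
          (b - h3 b (Pi.single 0 1) • (Pi.single 0 1)) = 0)} :=
    { toFun := fun p => ⟨Fin.cons p.1.1 p.2.1, by
        rw [hermForm_cons_cons, p.2.2.1, add_zero]
        exact p.1.2, by
        rw [hermForm_single_right hF, sub_smul_single_eq, Fin.tail_cons, Ne,
          cons_zero_eq_zero_iff]
        exact p.2.2.2, by
        rw [hermForm_single_right hF, sub_smul_single_eq, Fin.tail_cons, hermForm_cons_cons,
          zero_mul, zero_add]
        exact p.2.2.1⟩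
      invFun := fun b => (⟨b.1 0, by
        have h1 := b.2.1
        have h4 := b.2.2.2
        rw [hermForm_single_right hF, sub_smul_single_eq, hermForm_cons_cons, zero_mul,
          zero_add] at h4
        rw [← Fin.cons_self_tail b.1, hermForm_cons_cons, h4, add_zero] at h1
        exact h1⟩, ⟨Fin.tail b.1, by
        have h4 := b.2.2.2
        rw [hermForm_single_right hF, sub_smul_single_eq, hermForm_cons_cons, zero_mul,
          zero_add] at h4
        exact h4, by
        have h4 := b.2.2.1
        rw [hermForm_single_right hF, sub_smul_single_eq, Ne, cons_zero_eq_zero_iff] at h4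
        exact h4⟩)
      left_inv := fun p => by
        apply Prod.ext
        · apply Subtype.ext
          simp only [Fin.cons_zero]
        · apply Subtype.ext
          simp only [Fin.tail_cons]
      right_inv := fun b => by
        apply Subtype.ext
        simp only
        rw [Fin.cons_self_tail] }
  rw [← Nat.card_congr e1, ← Nat.card_congr e2, Nat.card_prod, card_norm_one_scalars hF,
    card_isotropic_plane hF]

end su3graph4

end Cfsg.Agent.Lib.Helper13
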