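import Mathlib
import Cfsg.Agent.Lib.Helper13.SU3Graph4

set_option autoImplicit false

namespace Cfsg.Agent.Lib.Helper13

open Matrix Cfsg.Agent.Lib.Helper99

section su3graph5

variable {F : Type*} [Field F] [Fintype F] {q : ℕ}

local notation "h3" => Cfsg.hermForm 3 F q

/-- rescaling an anisotropic vector to norm one -/
theorem exists_smul_unit (hF : Fintype.card F = q ^ 2) (v : Fin 3 → F) (hv : h3 v v ≠ 0) :
    ∃ c : F, c ≠ 0 ∧ h3 (c • v) (c • v) = 1 := by
  obtain ⟨r, hr⟩ : ∃ r : F, r = h3 v v := ⟨_, rfl⟩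
  rw [← hr] at hv
  have hrq : r ^ q = r := by rw [hr]; exact hermForm_self_pow hF v
  obtain ⟨c, hc⟩ := exists_norm_eq hF r⁻¹ (inv_ne_zero hv) (by rw [inv_pow, hrq])
  have hc0 : c ≠ 0 := by
    rintro rfl
    rw [zero_mul] at hc
    exact inv_ne_zero hv hc.symm
  refine ⟨c, hc0, ?_⟩
  rw [hermForm_smul_left, hermForm_smul_right, ← hr, ← mul_assoc, hc, inv_mul_cancel₀ hv]

/-- the path of length three between unit vectors `a` and `b` when the part of `b` orthogonal
to `a` is isotropic -/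
theorem exists_path3 (hF : Fintype.card F = q ^ 2) (hq : Odd q) (a b : Fin 3 → F)
    (haa : h3 a a = 1) (hbb : h3 b b = 1) (hw : b - h3 b a • a ≠ 0)
    (hww : h3 (b - h3 b a • a) (b - h3 b a • a) = 0) :
    ∃ d e : Fin 3 → F, h3 d d = 1 ∧ h3 e e = 1 ∧ h3 a d = 0 ∧ h3 d e = 0 ∧ h3 e b = 0 := by
  have h2 : (2 : F) ≠ 0 := two_ne_zero_of_odd_card hq hF
  obtain ⟨α, hα⟩ : ∃ α : F, α = h3 b a := ⟨_, rfl⟩
  obtain ⟨w, hwdef⟩ : ∃ w : Fin 3 → F, w = b - h3 b a • a := ⟨_, rfl⟩
  have hαN : α * α ^ q = 1 := by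
    have h1 := norm_perp_part hF a b haa
    rw [hww, hbb, ← hα] at h1
    linear_combination h1
  have hwa : h3 w a = 0 := by rw [hwdef]; exact perp_part_orth a b haa
  have haw : h3 a w = 0 := hermForm_eq_zero_comm hF hwa
  have hbw : b = α • a + w := by rw [hwdef, hα]; module
  rw [← hwdef] at hw hww
  -- a vector of `a^⊥` pairing to one with `w`
  obtain ⟨u, -, hwu⟩ := exists_isotropic_partner hF (by norm_num) w hw hww
  obtain ⟨u', hu'def⟩ : ∃ u' : Fin 3 → F, u' = u - h3 u a • a := ⟨_, rfl⟩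
  have hu'a : h3 u' a = 0 := by rw [hu'def]; exact perp_part_orth a u haa
  have hau' : h3 a u' = 0 := hermForm_eq_zero_comm hF hu'a
  have hwu' : h3 w u' = 1 := by
    rw [hu'def, hermForm_sub_right hF, hermForm_smul_right, hwu, hwa, mul_zero, sub_zero]
  have hu'w : h3 u' w = 1 := by rw [← hermForm_conj hF 3 w u', hwu', one_pow]
  -- adjust the norm to `-1`
  have hrq : (-1 - h3 u' u') ^ q = -1 - h3 u' u' := by
    rw [frob_sub hF, hermForm_self_pow hF, hq.neg_one_pow]
  obtain ⟨c, hc⟩ := exists_trace_eq' hF (-1 - h3 u' u') hrq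
  obtain ⟨d, hddef⟩ : ∃ d : Fin 3 → F, d = u' + c • w := ⟨_, rfl⟩
  have hdd : h3 d d = -1 := by
    rw [hddef]
    simp only [hermForm_add_left, hermForm_add_right hF, hermForm_smul_left, hermForm_smul_right,
      hww, hwu', hu'w]
    linear_combination hc
  have hda : h3 d a = 0 := by
    rw [hddef, hermForm_add_left, hermForm_smul_left, hu'a, hwa, mul_zero, add_zero]
  have had : h3 a d = 0 := hermForm_eq_zero_comm hF hda
  have hdw : h3 d w = 1 := by
    rw [hddef, hermForm_add_left, hermForm_smul_left, hu'w, hww, mul_zero, add_zero]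
  have hwd : h3 w d = 1 := by rw [← hermForm_conj hF 3 d w, hdw, one_pow]
  obtain ⟨e, hedef⟩ : ∃ e : Fin 3 → F, e = α • a - w - d := ⟨_, rfl⟩
  have hee : h3 e e = 2 := by
    rw [hedef]
    simp only [hermForm_sub_left, hermForm_sub_right hF, hermForm_smul_left, hermForm_smul_right,
      haa, haw, hwa, had, hda, hww, hwd, hdw, hdd]
    linear_combination hαN
  have hed : h3 e d = 0 := by
    rw [hedef]
    simp only [hermForm_sub_left, hermForm_smul_left, had, hwd, hdd]
    ring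
  have heb : h3 e b = 0 := by
    rw [hedef, hbw]
    simp only [hermForm_sub_left, hermForm_add_right hF, hermForm_smul_left, hermForm_smul_right,
      haa, haw, hwa, hda, hww, hdw]
    linear_combination hαN
  have hde : h3 d e = 0 := hermForm_eq_zero_comm hF hed
  obtain ⟨c₁, hc₁0, hc₁⟩ := exists_smul_unit hF d (by rw [hdd]; exact neg_ne_zero.2 one_ne_zero)
  obtain ⟨c₂, hc₂0, hc₂⟩ := exists_smul_unit hF e (by rw [hee]; exact h2)
  refine ⟨c₁ • d, c₂ • e, hc₁, hc₂, ?_, ?_, ?_⟩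
  · rw [hermForm_smul_right, had, mul_zero]
  · rw [hermForm_smul_left, hermForm_smul_right, hde, mul_zero, mul_zero]
  · rw [hermForm_smul_left, heb, mul_zero]

end su3graph5

end Cfsg.Agent.Lib.Helper13
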