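import Cfsg.Agent.Lib.Helper70.SpUDefs
import Cfsg.Agent.Lib.Helper41.SpBNBasic

/-! # S2316 hive (SpU, helper70), leaf SPU-TRI (helper13): `B` = the upper triangular symplectic
matrices for the order `pos` -/

set_option autoImplicit false
set_option linter.unusedSectionVars false
set_option linter.unusedVariables false

namespace Cfsg.Agent.Lib.Helper70.SpU

open Matrix Cfsg Cfsg.Agent.Lib.Helper13 Cfsg.Agent.Lib.Helper41.SpBN

universe u

variable {F : Type u} [Field F] {m : ℕ}

/-- elements of `B` are upper triangular for `pos` -/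
theorem tri_upper {g : SpG F m} (hg : g ∈ Bsp F m) :
    ∀ a b : Idx m, pos b < pos a → g.1 a b = 0 := by
  obtain ⟨h1, h2⟩ := (mem_Bsp_iff g).mp hg
  have h3 := B_lower hg
  rintro (i | i) (j | j) hab
  · simp only [pos_inl] at hab
    exact h1 i j hab
  · simp only [pos_inl, pos_inr] at hab
    exfalso
    have := i.2; have := j.2; omega
  · exact h2 i j
  · simp only [pos_inr] at hab
    apply h3 i j
    have := i.2; have := j.2; omega

/-- SPU-TRI. -/
theorem Bsp_eq_Pl [Finite F] : Bsp F m = Pl F (pos : Idx m → ℕ) := by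
  ext g
  rw [mem_Pl]
  constructor
  · intro hg
    exact tri_upper hg
  · intro hP
    rw [mem_Bsp_iff]
    refine ⟨fun i j hij => hP _ _ (by simpa using hij), fun i j => hP _ _ ?_⟩
    simp only [pos_inl, pos_inr]
    have := i.2; have := j.2; omega

end Cfsg.Agent.Lib.Helper70.SpU
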