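import Cfsg.Agent.Lib.Helper70.SpUDefs
import Cfsg.Agent.Lib.Helper41.SpBNBasic
import Cfsg.Agent.Lib.Helper34.SpBN_Aux
import Cfsg.Agent.Lib.Helper13.SpUTRI

/-! # S2316 hive (SpU, helper70), leaf SPU-INT (helper13): `U ∩ n B n⁻¹ ≤ V_J` when the permutation
of `n⁻¹` reverses the blocks of `J` -/

set_option autoImplicit false
set_option linter.unusedSectionVars false
set_option linter.unusedVariables false

namespace Cfsg.Agent.Lib.Helper70.SpU

open Matrix Cfsg Cfsg.Agent.Lib.Helper13 Cfsg.Agent.Lib.Helper41.SpBN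

universe u

variable {F : Type u} [Field F] {m : ℕ}

/-- SPU-INT. -/
theorem inter_le_Vl [Finite F] (J : Set (SpG F m)) {n : SpG F m} {π : Equiv.Perm (Idx m)} {d : Idx m → F}
    (hn : IsMono n.1 π d)
    (hrev : ∀ a b : Idx m, lev J a = lev J b → pos a < pos b → pos (π.symm b) < pos (π.symm a)) :
    ∀ g ∈ Usp F m, n⁻¹ * g * n ∈ Bsp F m → g ∈ Vl F (lev J) := by
  intro g hgU hgB
  rw [mem_Vl]
  intro a b hab
  by_cases hpos : pos b ≤ pos a
  · exact (mem_Vl.mp hgU) a b hpos
  · push Not at hpos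
    have hlev : lev J a = lev J b := le_antisymm (lev_mono J hpos.le) hab
    have hne : a ≠ b := by
      rintro rfl
      exact lt_irrefl _ hpos
    rw [Matrix.one_apply_ne hne]
    have hrv := hrev a b hlev hpos
    -- the entry of the conjugate
    have hd : ∀ s, d s ≠ 0 := fun s => hn.ne_zero n.2 s
    have hn' := isMono_inv n hn
    have hconj := facs_conj_apply n⁻¹ g hn' (π.symm a) (π.symm b)
    rw [inv_inv] at hconj
    have hzero := tri_upper hgB (π.symm a) (π.symm b) hrv
    rw [hzero] at hconj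
    simp only [Equiv.symm_symm, Equiv.apply_symm_apply] at hconj
    have h1 : (d (π.symm a))⁻¹ ≠ 0 := inv_ne_zero (hd _)
    have h2 : ((d (π.symm b))⁻¹)⁻¹ ≠ 0 := inv_ne_zero (inv_ne_zero (hd _))
    rcases mul_eq_zero.mp hconj.symm with h3 | h3
    · rcases mul_eq_zero.mp h3 with h4 | h4
      · exact absurd h4 h1
      · exact h4
    · exact absurd h3 h2

end Cfsg.Agent.Lib.Helper70.SpU
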