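import Mathlib

set_option autoImplicit false

namespace Cfsg.Agent.Lib.Helper13

open Matrix

/-- upper elementary matrix of `SL₂` -/
def slX {K : Type*} [Field K] (t : K) : SpecialLinearGroup (Fin 2) K :=
  ⟨!![1, t; 0, 1], by simp [det_fin_two]⟩

/-- lower elementary matrix of `SL₂` -/
def slY {K : Type*} [Field K] (t : K) : SpecialLinearGroup (Fin 2) K :=
  ⟨!![1, 0; t, 1], by simp [det_fin_two]⟩

/-- a group with two families of elements satisfying the rank one Steinberg relations, mapping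
to `SL₂` -/
structure St2Data (K : Type*) [Field K] (G : Type*) [Group G] where
  x : K → G
  y : K → G
  x_add : ∀ t u, x t * x u = x (t + u)
  y_add : ∀ t u, y t * y u = y (t + u)
  conj_x : ∀ t u, t ≠ 0 →
    (x t * y (-t⁻¹) * x t) * x u * (x t * y (-t⁻¹) * x t)⁻¹ = y (-(t⁻¹ ^ 2 * u))
  gen : Subgroup.closure (Set.range x ∪ Set.range y) = ⊤
  π : G →* SpecialLinearGroup (Fin 2) K
  π_x : ∀ t, π (x t) = slX t
  π_y : ∀ t, π (y t) = slY t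

namespace St2Data

variable {K : Type*} [Field K] {G : Type*} [Group G] (D : St2Data K G)

theorem x_zero : D.x 0 = 1 := by
  have h := D.x_add 0 0
  rw [add_zero] at h
  exact mul_left_cancel (a := D.x 0) (by rw [h, mul_one])

theorem y_zero : D.y 0 = 1 := by
  have h := D.y_add 0 0
  rw [add_zero] at h
  exact mul_left_cancel (a := D.y 0) (by rw [h, mul_one])

theorem x_neg (t : K) : D.x (-t) = (D.x t)⁻¹ := by
  rw [eq_inv_iff_mul_eq_one, D.x_add, neg_add_cancel, D.x_zero]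

theorem y_neg (t : K) : D.y (-t) = (D.y t)⁻¹ := by
  rw [eq_inv_iff_mul_eq_one, D.y_add, neg_add_cancel, D.y_zero]

/-- the monomial element `w(t)` -/
def w (t : K) : G := D.x t * D.y (-t⁻¹) * D.x t

theorem w_def (t : K) : D.w t = D.x t * D.y (-t⁻¹) * D.x t := rfl

theorem w_inv (t : K) : (D.w t)⁻¹ = D.w (-t) := by
  rw [w_def, w_def, _root_.mul_inv_rev, _root_.mul_inv_rev, ← D.x_neg, ← D.y_neg, neg_neg, inv_neg, neg_neg,
    mul_assoc]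

theorem w_neg_mul (t : K) : D.w (-t) * D.w t = 1 := by
  rw [← D.w_inv, inv_mul_cancel]

theorem w_mul_neg (t : K) : D.w t * D.w (-t) = 1 := by
  rw [← D.w_inv, mul_inv_cancel]

theorem w_conj_x {t : K} (ht : t ≠ 0) (u : K) :
    D.w t * D.x u * (D.w t)⁻¹ = D.y (-(t⁻¹ ^ 2 * u)) := D.conj_x t u ht

theorem w_conj_y {t : K} (ht : t ≠ 0) (v : K) :
    D.w t * D.y v * (D.w t)⁻¹ = D.x (-(t ^ 2 * v)) := by
  have h1 := D.w_conj_x (neg_ne_zero.2 ht) (-(t ^ 2 * v))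
  have e1 : -((-t)⁻¹ ^ 2 * -(t ^ 2 * v)) = v := by
    field_simp
  rw [e1, ← D.w_inv, inv_inv] at h1
  rw [← h1]
  group

theorem w_eq_wy {t : K} (ht : t ≠ 0) : D.w t = D.y (-t⁻¹) * D.x t * D.y (-t⁻¹) := by
  have e1 : -(t⁻¹ ^ 2 * t) = -t⁻¹ := by field_simp
  have e2 : -(t ^ 2 * -t⁻¹) = t := by field_simp
  calc D.w t = D.w t * (D.x t * D.y (-t⁻¹) * D.x t) * (D.w t)⁻¹ := by
        rw [← D.w_def]; group
    _ = (D.w t * D.x t * (D.w t)⁻¹) * (D.w t * D.y (-t⁻¹) * (D.w t)⁻¹)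
          * (D.w t * D.x t * (D.w t)⁻¹) := by group
    _ = D.y (-t⁻¹) * D.x t * D.y (-t⁻¹) := by
        rw [D.w_conj_x ht, D.w_conj_y ht, e1, e2]

theorem w_conj_w {t u : K} (ht : t ≠ 0) (hu : u ≠ 0) :
    D.w t * D.w u * (D.w t)⁻¹ = D.w (t ^ 2 * u⁻¹) := by
  have hs : t ^ 2 * u⁻¹ ≠ 0 := mul_ne_zero (pow_ne_zero 2 ht) (inv_ne_zero hu)
  have e1 : -(t⁻¹ ^ 2 * u) = -(t ^ 2 * u⁻¹)⁻¹ := by field_simp
  have e2 : -(t ^ 2 * -u⁻¹) = t ^ 2 * u⁻¹ := by ring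
  calc D.w t * D.w u * (D.w t)⁻¹
      = (D.w t * D.x u * (D.w t)⁻¹) * (D.w t * D.y (-u⁻¹) * (D.w t)⁻¹)
          * (D.w t * D.x u * (D.w t)⁻¹) := by rw [D.w_def u]; group
    _ = D.w (t ^ 2 * u⁻¹) := by
        rw [D.w_conj_x ht, D.w_conj_y ht, e1, e2, ← D.w_eq_wy hs]

/-- the diagonal element `h(t)` -/
def h (t : K) : G := D.w t * D.w (-1)

theorem h_def (t : K) : D.h t = D.w t * D.w (-1) := rfl

theorem h_one : D.h 1 = 1 := by rw [h_def, D.w_mul_neg]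

theorem h_conj_x {t : K} (ht : t ≠ 0) (u : K) :
    D.h t * D.x u * (D.h t)⁻¹ = D.x (t ^ 2 * u) := by
  have h1 : (-1 : K) ≠ 0 := neg_ne_zero.2 one_ne_zero
  have e1 : -((-1 : K)⁻¹ ^ 2 * u) = -u := by
    rw [inv_neg, inv_one]; ring
  have e2 : -(t ^ 2 * -u) = t ^ 2 * u := by ring
  calc D.h t * D.x u * (D.h t)⁻¹
      = D.w t * (D.w (-1) * D.x u * (D.w (-1))⁻¹) * (D.w t)⁻¹ := by rw [h_def]; group
    _ = D.x (t ^ 2 * u) := by rw [D.w_conj_x h1, e1, D.w_conj_y ht, e2]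

theorem h_conj_y {t : K} (ht : t ≠ 0) (u : K) :
    D.h t * D.y u * (D.h t)⁻¹ = D.y (t⁻¹ ^ 2 * u) := by
  have h1 : (-1 : K) ≠ 0 := neg_ne_zero.2 one_ne_zero
  have e1 : -((-1 : K) ^ 2 * u) = -u := by ring
  have e2 : -(t⁻¹ ^ 2 * -u) = t⁻¹ ^ 2 * u := by ring
  calc D.h t * D.y u * (D.h t)⁻¹
      = D.w t * (D.w (-1) * D.y u * (D.w (-1))⁻¹) * (D.w t)⁻¹ := by rw [h_def]; group
    _ = D.y (t⁻¹ ^ 2 * u) := by rw [D.w_conj_y h1, e1, D.w_conj_x ht, e2]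

theorem w_one_conj_h {t : K} (ht : t ≠ 0) :
    D.w 1 * D.h t * (D.w 1)⁻¹ = D.h t⁻¹ := by
  have h1 : (-1 : K) ≠ 0 := neg_ne_zero.2 one_ne_zero
  have e1 : (1 : K) ^ 2 * t⁻¹ = t⁻¹ := by ring
  have e2 : (1 : K) ^ 2 * (-1 : K)⁻¹ = -1 := by rw [inv_neg, inv_one]; ring
  calc D.w 1 * D.h t * (D.w 1)⁻¹
      = (D.w 1 * D.w t * (D.w 1)⁻¹) * (D.w 1 * D.w (-1) * (D.w 1)⁻¹) := by rw [h_def]; group
    _ = D.h t⁻¹ := by
        rw [D.w_conj_w one_ne_zero ht, D.w_conj_w one_ne_zero h1, e1, e2, ← h_def]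

theorem h_conj_w {t u : K} (ht : t ≠ 0) (hu : u ≠ 0) :
    D.h t * D.w u * (D.h t)⁻¹ = D.w (t ^ 2 * u) := by
  have h1 : (-1 : K) ≠ 0 := neg_ne_zero.2 one_ne_zero
  have e1 : (-1 : K) ^ 2 * u⁻¹ = u⁻¹ := by ring
  have e2 : t ^ 2 * (u⁻¹)⁻¹ = t ^ 2 * u := by rw [inv_inv]
  calc D.h t * D.w u * (D.h t)⁻¹
      = D.w t * (D.w (-1) * D.w u * (D.w (-1))⁻¹) * (D.w t)⁻¹ := by rw [h_def]; group
    _ = D.w (t ^ 2 * u) := by
        rw [D.w_conj_w h1 hu, e1, D.w_conj_w ht (inv_ne_zero hu), e2]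

theorem h_conj_h {t u : K} (ht : t ≠ 0) (hu : u ≠ 0) :
    D.h t * D.h u * (D.h t)⁻¹ = D.h (t ^ 2 * u) * (D.h (t ^ 2))⁻¹ := by
  have h1 : (-1 : K) ≠ 0 := neg_ne_zero.2 one_ne_zero
  have e1 : t ^ 2 * (-1 : K) = -(t ^ 2) := by ring
  calc D.h t * D.h u * (D.h t)⁻¹
      = (D.h t * D.w u * (D.h t)⁻¹) * (D.h t * D.w (-1) * (D.h t)⁻¹) := by
        rw [D.h_def u]; group
    _ = D.w (t ^ 2 * u) * D.w (-(t ^ 2)) := by
        rw [D.h_conj_w ht hu, D.h_conj_w ht h1, e1]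
    _ = D.h (t ^ 2 * u) * (D.h (t ^ 2))⁻¹ := by
        rw [D.h_def (t ^ 2 * u), D.h_def (t ^ 2), _root_.mul_inv_rev, D.w_inv (t ^ 2)]
        group

theorem w_eq_h_mul (s : K) : D.w s = D.h s * D.w 1 := by
  rw [h_def, mul_assoc, D.w_neg_mul, mul_one]

theorem y_eq_xwx (u : K) :
    D.y (-u) = D.x (-u⁻¹) * D.w u⁻¹ * D.x (-u⁻¹) := by
  rw [w_def, inv_inv, D.x_neg]
  group

end St2Data

end Cfsg.Agent.Lib.Helper13
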