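import Mathlib
import Cfsg.Agent.Lib.Helper13.St2A

set_option autoImplicit false

namespace Cfsg.Agent.Lib.Helper13



theorem slX_val {K : Type*} [Field K] (t : K) :
    ((slX t : Matrix.SpecialLinearGroup (Fin 2) K) : Matrix (Fin 2) (Fin 2) K) = !![1, t; 0, 1] := rfl

theorem slY_val {K : Type*} [Field K] (t : K) :
    ((slY t : Matrix.SpecialLinearGroup (Fin 2) K) : Matrix (Fin 2) (Fin 2) K) = !![1, 0; t, 1] := rfl

namespace St2Data

variable {K : Type*} [Field K] {G : Type*} [Group G] (D : St2Data K G)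

theorem pi_w {t : K} (ht : t ≠ 0) :
    ((D.π (D.w t) : Matrix.SpecialLinearGroup (Fin 2) K) : Matrix (Fin 2) (Fin 2) K)
      = !![0, t; -t⁻¹, 0] := by
  rw [w_def, map_mul, map_mul, D.π_x, D.π_y, Matrix.SpecialLinearGroup.coe_mul,
    Matrix.SpecialLinearGroup.coe_mul, slX_val, slY_val]
  ext i j
  fin_cases i <;> fin_cases j <;> simp [Matrix.mul_apply, Fin.sum_univ_two, ht]

theorem pi_h {t : K} (ht : t ≠ 0) :
    ((D.π (D.h t) : Matrix.SpecialLinearGroup (Fin 2) K) : Matrix (Fin 2) (Fin 2) K)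
      = !![t, 0; 0, t⁻¹] := by
  rw [h_def, map_mul, Matrix.SpecialLinearGroup.coe_mul, D.pi_w ht,
    D.pi_w (neg_ne_zero.2 (one_ne_zero (α := K)))]
  ext i j
  fin_cases i <;> fin_cases j <;> simp [Matrix.mul_apply, Fin.sum_univ_two]

/-- the subgroup generated by the `h(t)` -/
def Hgp : Subgroup G := Subgroup.closure {g | ∃ t : K, t ≠ 0 ∧ g = D.h t}

theorem h_mem {t : K} (ht : t ≠ 0) : D.h t ∈ D.Hgp := Subgroup.subset_closure ⟨t, ht, rfl⟩

/-- behaving like the diagonal matrix `diag(d, d⁻¹)` -/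
def IsTor (g : G) : Prop :=
  ∃ d : K, d ≠ 0 ∧
    ((D.π g : Matrix.SpecialLinearGroup (Fin 2) K) : Matrix (Fin 2) (Fin 2) K) = !![d, 0; 0, d⁻¹] ∧
    (∀ u, g * D.x u * g⁻¹ = D.x (d ^ 2 * u)) ∧ (∀ u, g * D.y u * g⁻¹ = D.y (d⁻¹ ^ 2 * u))

theorem isTor_one : D.IsTor 1 := by
  refine ⟨1, one_ne_zero, ?_, fun u => ?_, fun u => ?_⟩
  · rw [map_one, Matrix.SpecialLinearGroup.coe_one, inv_one]
    ext i j
    fin_cases i <;> fin_cases j <;> simp
  · simp
  · simp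

theorem isTor_mul {a b : G} (ha : D.IsTor a) (hb : D.IsTor b) : D.IsTor (a * b) := by
  obtain ⟨d, hd, hπa, hax, hay⟩ := ha
  obtain ⟨e, he, hπb, hbx, hby⟩ := hb
  refine ⟨d * e, mul_ne_zero hd he, ?_, fun u => ?_, fun u => ?_⟩
  · rw [map_mul, Matrix.SpecialLinearGroup.coe_mul, hπa, hπb]
    ext i j
    fin_cases i <;> fin_cases j <;> simp [Matrix.mul_apply, Fin.sum_univ_two, mul_comm]
  · calc a * b * D.x u * (a * b)⁻¹ = a * (b * D.x u * b⁻¹) * a⁻¹ := by group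
      _ = D.x ((d * e) ^ 2 * u) := by
          rw [hbx, hax]
          congr 1
          ring
  · calc a * b * D.y u * (a * b)⁻¹ = a * (b * D.y u * b⁻¹) * a⁻¹ := by group
      _ = D.y ((d * e)⁻¹ ^ 2 * u) := by
          rw [hby, hay]
          congr 1
          rw [_root_.mul_inv_rev]
          ring

theorem isTor_inv {a : G} (ha : D.IsTor a) : D.IsTor a⁻¹ := by
  obtain ⟨d, hd, hπa, hax, hay⟩ := ha
  refine ⟨d⁻¹, inv_ne_zero hd, ?_, fun u => ?_, fun u => ?_⟩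
  · rw [map_inv, Matrix.SpecialLinearGroup.coe_inv, hπa, inv_inv, Matrix.adjugate_fin_two_of]
    simp
  · have h1 := hax (d⁻¹ ^ 2 * u)
    have e1 : d ^ 2 * (d⁻¹ ^ 2 * u) = u := by field_simp
    rw [e1] at h1
    rw [← h1]
    group
  · have h1 := hay (d ^ 2 * u)
    have e1 : d⁻¹ ^ 2 * (d ^ 2 * u) = u := by field_simp
    rw [e1] at h1
    rw [inv_inv, ← h1]
    group

theorem isTor_h {t : K} (ht : t ≠ 0) : D.IsTor (D.h t) :=
  ⟨t, ht, D.pi_h ht, D.h_conj_x ht, D.h_conj_y ht⟩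

theorem isTor_of_mem {k : G} (hk : k ∈ D.Hgp) : D.IsTor k := by
  induction hk using Subgroup.closure_induction with
  | mem g hg =>
    obtain ⟨t, ht, rfl⟩ := hg
    exact D.isTor_h ht
  | one => exact D.isTor_one
  | mul a b _ _ ha hb => exact D.isTor_mul ha hb
  | inv a _ ha => exact D.isTor_inv ha

theorem w_one_conj_mem {k : G} (hk : k ∈ D.Hgp) : D.w 1 * k * (D.w 1)⁻¹ ∈ D.Hgp := by
  induction hk using Subgroup.closure_induction with
  | mem g hg =>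
    obtain ⟨t, ht, rfl⟩ := hg
    rw [D.w_one_conj_h ht]
    exact D.h_mem (inv_ne_zero ht)
  | one =>
    have : D.w 1 * 1 * (D.w 1)⁻¹ = 1 := by group
    rw [this]
    exact Subgroup.one_mem _
  | mul a b _ _ ha hb =>
    have : D.w 1 * (a * b) * (D.w 1)⁻¹ = (D.w 1 * a * (D.w 1)⁻¹) * (D.w 1 * b * (D.w 1)⁻¹) := by
      group
    rw [this]
    exact Subgroup.mul_mem _ ha hb
  | inv a _ ha =>
    have : D.w 1 * a⁻¹ * (D.w 1)⁻¹ = (D.w 1 * a * (D.w 1)⁻¹)⁻¹ := by group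
    rw [this]
    exact Subgroup.inv_mem _ ha

theorem w_one_sq_mem : D.w 1 * D.w 1 ∈ D.Hgp := by
  have h1 : D.w 1 * D.w 1 = (D.h (-1))⁻¹ := by
    rw [h_def, _root_.mul_inv_rev, D.w_inv, neg_neg]
  rw [h1]
  exact Subgroup.inv_mem _ (D.h_mem (neg_ne_zero.2 one_ne_zero))

/-- the small Bruhat cell -/
def Big1 (g : G) : Prop := ∃ t : K, ∃ k ∈ D.Hgp, g = D.x t * k

/-- the union of the two Bruhat cells -/
def Big (g : G) : Prop :=
  D.Big1 g ∨ ∃ t u : K, ∃ k ∈ D.Hgp, g = D.x t * k * D.w 1 * D.x u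

theorem big1_mul_x {g : G} (hg : D.Big1 g) (v : K) : D.Big1 (g * D.x v) := by
  obtain ⟨t, k, hk, rfl⟩ := hg
  obtain ⟨d, hd, -, hkx, -⟩ := D.isTor_of_mem hk
  refine ⟨t + d ^ 2 * v, k, hk, ?_⟩
  rw [← D.x_add, ← hkx]
  group

theorem big1_mul_H {g k' : G} (hg : D.Big1 g) (hk' : k' ∈ D.Hgp) : D.Big1 (g * k') := by
  obtain ⟨t, k, hk, rfl⟩ := hg
  exact ⟨t, k * k', Subgroup.mul_mem _ hk hk', by group⟩

theorem big_of_big1_mul_w {g : G} (hg : D.Big1 g) : D.Big (g * D.w 1) := by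
  obtain ⟨t, k, hk, rfl⟩ := hg
  exact Or.inr ⟨t, 0, k, hk, by rw [D.x_zero, mul_one]⟩

theorem big_mul_x {g : G} (hg : D.Big g) (v : K) : D.Big (g * D.x v) := by
  rcases hg with hg | ⟨t, u, k, hk, rfl⟩
  · exact Or.inl (D.big1_mul_x hg v)
  · exact Or.inr ⟨t, u + v, k, hk, by rw [← D.x_add]; group⟩

theorem big_mul_H {g k' : G} (hg : D.Big g) (hk' : k' ∈ D.Hgp) : D.Big (g * k') := by
  rcases hg with hg | ⟨t, u, k, hk, rfl⟩
  · exact Or.inl (D.big1_mul_H hg hk')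
  · obtain ⟨d, hd, -, hkx, -⟩ := D.isTor_of_mem hk'
    refine Or.inr ⟨t, d⁻¹ ^ 2 * u, k * (D.w 1 * k' * (D.w 1)⁻¹),
      Subgroup.mul_mem _ hk (D.w_one_conj_mem hk'), ?_⟩
    have h1 := hkx (d⁻¹ ^ 2 * u)
    have e1 : d ^ 2 * (d⁻¹ ^ 2 * u) = u := by field_simp
    rw [e1] at h1
    rw [← h1]
    group

theorem big_mul_w {g : G} (hg : D.Big g) : D.Big (g * D.w 1) := by
  rcases hg with hg | ⟨t, u, k, hk, rfl⟩
  · exact D.big_of_big1_mul_w hg
  · by_cases hu : u = 0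
    · subst hu
      refine Or.inl ⟨t, k * (D.w 1 * D.w 1), Subgroup.mul_mem _ hk D.w_one_sq_mem, ?_⟩
      rw [D.x_zero]
      group
    · have b1 : D.Big1 (D.x t * k) := ⟨t, k, hk, rfl⟩
      have b2 := D.big1_mul_x b1 (-u⁻¹)
      have b3 := D.big1_mul_H b2 (D.h_mem (inv_ne_zero hu))
      have b4 := D.big_of_big1_mul_w b3
      have b5 := D.big_mul_x b4 (-u⁻¹)
      have b6 := D.big_mul_H b5 D.w_one_sq_mem
      have e : D.x t * k * D.w 1 * D.x u * D.w 1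
          = D.x t * k * D.x (-u⁻¹) * D.h u⁻¹ * D.w 1 * D.x (-u⁻¹) * (D.w 1 * D.w 1) := by
        have h1 : D.w 1 * D.x u * (D.w 1)⁻¹ = D.y (-u) := by
          rw [D.w_conj_x one_ne_zero]
          congr 1
          rw [inv_one]; ring
        have h2 : D.y (-u) = D.x (-u⁻¹) * (D.h u⁻¹ * D.w 1) * D.x (-u⁻¹) := by
          rw [← D.w_eq_h_mul]
          exact D.y_eq_xwx u
        calc D.x t * k * D.w 1 * D.x u * D.w 1
            = D.x t * k * (D.w 1 * D.x u * (D.w 1)⁻¹) * (D.w 1 * D.w 1) := by group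
          _ = D.x t * k * D.x (-u⁻¹) * D.h u⁻¹ * D.w 1 * D.x (-u⁻¹) * (D.w 1 * D.w 1) := by
              rw [h1, h2]; group
      rw [e]
      exact b6

theorem big_mul_w_inv {g : G} (hg : D.Big g) : D.Big (g * (D.w 1)⁻¹) := by
  have h1 : g * (D.w 1)⁻¹ = g * D.w 1 * (D.w 1 * D.w 1)⁻¹ := by group
  rw [h1]
  exact D.big_mul_H (D.big_mul_w hg) (Subgroup.inv_mem _ D.w_one_sq_mem)

theorem big_mul_y {g : G} (hg : D.Big g) (v : K) : D.Big (g * D.y v) := by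
  have h1 : D.y v = D.w 1 * D.x (-v) * (D.w 1)⁻¹ := by
    rw [D.w_conj_x one_ne_zero]
    congr 1
    rw [inv_one]; ring
  have h2 : g * D.y v = g * D.w 1 * D.x (-v) * (D.w 1)⁻¹ := by rw [h1]; group
  rw [h2]
  exact D.big_mul_w_inv (D.big_mul_x (D.big_mul_w hg) (-v))

theorem big_one : D.Big 1 := Or.inl ⟨0, 1, Subgroup.one_mem _, by rw [D.x_zero, mul_one]⟩

/-- the Bruhat decomposition -/
theorem big_all (g : G) : D.Big g := by
  have hg : g ∈ Subgroup.closure (Set.range D.x ∪ Set.range D.y) := by rw [D.gen]; trivial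
  induction hg using Subgroup.closure_induction_right with
  | one => exact D.big_one
  | mul_right a _ b hb ha =>
    rcases hb with ⟨v, rfl⟩ | ⟨v, rfl⟩
    · exact D.big_mul_x ha v
    · exact D.big_mul_y ha v
  | mul_inv_cancel a _ b hb ha =>
    rcases hb with ⟨v, rfl⟩ | ⟨v, rfl⟩
    · rw [← D.x_neg]; exact D.big_mul_x ha (-v)
    · rw [← D.y_neg]; exact D.big_mul_y ha (-v)

end St2Data

end Cfsg.Agent.Lib.Helper13
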