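import Mathlib
import Cfsg.Agent.Lib.Helper13.St2B

set_option autoImplicit false

namespace Cfsg.Agent.Lib.Helper13

namespace St2Data

variable {K : Type*} [Field K] {G : Type*} [Group G] (D : St2Data K G)

theorem pi_w_one :
    ((D.π (D.w 1) : Matrix.SpecialLinearGroup (Fin 2) K) : Matrix (Fin 2) (Fin 2) K)
      = !![0, 1; -1, 0] := by
  have h1 := D.pi_w (one_ne_zero (α := K))
  rw [inv_one] at h1
  exact h1

theorem pi_cell2 {k : G} (hk : k ∈ D.Hgp) (t u : K) :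
    ((D.π (D.x t * k * D.w 1 * D.x u) : Matrix.SpecialLinearGroup (Fin 2) K) :
      Matrix (Fin 2) (Fin 2) K) 1 0 ≠ 0 := by
  obtain ⟨d, hd, hπ, -, -⟩ := D.isTor_of_mem hk
  rw [map_mul, map_mul, map_mul, Matrix.SpecialLinearGroup.coe_mul,
    Matrix.SpecialLinearGroup.coe_mul, Matrix.SpecialLinearGroup.coe_mul, D.π_x, D.π_x, slX_val,
    slX_val, hπ, D.pi_w_one]
  simp [Matrix.mul_apply, Fin.sum_univ_two, hd]

theorem mem_H_of_ker {g : G} (hg : D.π g = 1) : g ∈ D.Hgp := by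
  rcases D.big_all g with ⟨t, k, hk, rfl⟩ | ⟨t, u, k, hk, rfl⟩
  · obtain ⟨d, hd, hπ, -, -⟩ := D.isTor_of_mem hk
    have h1 : ((D.π (D.x t * k) : Matrix.SpecialLinearGroup (Fin 2) K) :
        Matrix (Fin 2) (Fin 2) K) 0 1 = 0 := by
      rw [hg]; simp
    rw [map_mul, Matrix.SpecialLinearGroup.coe_mul, D.π_x, slX_val, hπ] at h1
    simp [Matrix.mul_apply, Fin.sum_univ_two, hd] at h1
    rw [h1, D.x_zero, one_mul]
    exact hk
  · exfalso
    apply D.pi_cell2 hk t u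
    rw [hg]
    simp

theorem central_of_ker {g : G} (hg : D.π g = 1) (a : G) : a * g = g * a := by
  have hk := D.mem_H_of_ker hg
  obtain ⟨d, hd, hπ, hx, hy⟩ := D.isTor_of_mem hk
  have hd1 : d = 1 := by
    have h1 := congrFun (congrFun hπ 0) 0
    rw [hg] at h1
    simpa using h1.symm
  have hcx : ∀ u, D.x u * g = g * D.x u := by
    intro u
    have h1 := hx u
    rw [hd1, one_pow, one_mul] at h1
    calc D.x u * g = (g * D.x u * g⁻¹) * g := by rw [h1]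
      _ = g * D.x u := by group
  have hcy : ∀ u, D.y u * g = g * D.y u := by
    intro u
    have h1 := hy u
    rw [hd1, inv_one, one_pow, one_mul] at h1
    calc D.y u * g = (g * D.y u * g⁻¹) * g := by rw [h1]
      _ = g * D.y u := by group
  have ha : a ∈ Subgroup.closure (Set.range D.x ∪ Set.range D.y) := by rw [D.gen]; trivial
  have hle : Subgroup.closure (Set.range D.x ∪ Set.range D.y) ≤ Subgroup.centralizer {g} := by
    rw [Subgroup.closure_le]
    rintro b (⟨u, rfl⟩ | ⟨u, rfl⟩)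
    · rw [SetLike.mem_coe, Subgroup.mem_centralizer_iff]
      intro c hc
      rw [Set.mem_singleton_iff] at hc
      rw [hc]
      exact (hcx u).symm
    · rw [SetLike.mem_coe, Subgroup.mem_centralizer_iff]
      intro c hc
      rw [Set.mem_singleton_iff] at hc
      rw [hc]
      exact (hcy u).symm
  have h1 := hle ha
  rw [Subgroup.mem_centralizer_iff] at h1
  exact (h1 g rfl).symm

theorem pi_apply_ne_zero (k : ↥D.Hgp) :
    ((D.π k.1 : Matrix.SpecialLinearGroup (Fin 2) K) : Matrix (Fin 2) (Fin 2) K) 0 0 ≠ 0 := by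
  obtain ⟨d, hd, hπ, -, -⟩ := D.isTor_of_mem k.2
  rw [hπ]
  simpa using hd

/-- the torus character on `H` -/
noncomputable def torHom : ↥D.Hgp →* Kˣ where
  toFun k := Units.mk0 _ (D.pi_apply_ne_zero k)
  map_one' := by
    apply Units.ext
    simp
  map_mul' a b := by
    apply Units.ext
    obtain ⟨d, hd, hπa, -, -⟩ := D.isTor_of_mem a.2
    obtain ⟨e, he, hπb, -, -⟩ := D.isTor_of_mem b.2
    rw [Units.val_mul, Units.val_mk0, Units.val_mk0, Units.val_mk0, Subgroup.coe_mul, map_mul,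
      Matrix.SpecialLinearGroup.coe_mul, hπa, hπb]
    simp [Matrix.mul_apply, Fin.sum_univ_two]

theorem torHom_ker_le : D.torHom.ker ≤ Subgroup.center ↥D.Hgp := by
  intro k hk
  rw [MonoidHom.mem_ker] at hk
  obtain ⟨d, hd, hπ, -, -⟩ := D.isTor_of_mem k.2
  have h1 : ((D.π k.1 : Matrix.SpecialLinearGroup (Fin 2) K) : Matrix (Fin 2) (Fin 2) K) 0 0
      = 1 := by
    have := congrArg Units.val hk
    simpa [torHom] using this
  have hd1 : d = 1 := by
    rw [hπ] at h1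
    simpa using h1
  have hπ1 : D.π k.1 = 1 := by
    apply Subtype.ext
    rw [hπ, hd1, inv_one]
    ext i j
    fin_cases i <;> fin_cases j <;> simp
  rw [Subgroup.mem_center_iff]
  intro a
  apply Subtype.ext
  rw [Subgroup.coe_mul, Subgroup.coe_mul]
  exact D.central_of_ker hπ1 a.1

theorem H_comm [Finite K] {a b : G} (ha : a ∈ D.Hgp) (hb : b ∈ D.Hgp) : a * b = b * a := by
  have h1 := (MonoidHom.isMulCommutative_of_isCyclic_of_ker_le_center D.torHom
    D.torHom_ker_le).is_comm.comm ⟨a, ha⟩ ⟨b, hb⟩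
  exact congrArg Subtype.val h1

theorem h_sq_mul [Finite K] {t u : K} (ht : t ≠ 0) (hu : u ≠ 0) :
    D.h (t ^ 2 * u) = D.h (t ^ 2) * D.h u := by
  have h1 := D.h_conj_h ht hu
  have h2 : D.h t * D.h u * (D.h t)⁻¹ = D.h u := by
    rw [D.H_comm (D.h_mem ht) (D.h_mem hu)]
    group
  rw [h2] at h1
  have h3 : D.h (t ^ 2 * u) = D.h u * D.h (t ^ 2) := by
    rw [h1]; group
  rw [h3]
  exact D.H_comm (D.h_mem hu) (D.h_mem (pow_ne_zero 2 ht))

/-- the Steinberg relation -/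
theorem steinberg_rel {v : K} (hv0 : v ≠ 0) (hv1 : v ≠ 1) :
    D.h (-(v / (1 - v))) * D.h (1 - v) = D.h (-v) := by
  obtain ⟨u, hu⟩ : ∃ u : K, u = 1 - v := ⟨_, rfl⟩
  have hu0 : u ≠ 0 := by rw [hu]; exact sub_ne_zero.2 (Ne.symm hv1)
  rw [← hu]
  have f1 : D.y (-u) = D.x (-u⁻¹) * D.w u⁻¹ * D.x (-u⁻¹) := D.y_eq_xwx u
  have f2 : D.y (-v) = D.x (-v⁻¹) * D.w v⁻¹ * D.x (-v⁻¹) := D.y_eq_xwx v
  have f3 : D.y (-1) = D.x (-1) * D.w 1 * D.x (-1) := by
    have := D.y_eq_xwx (1 : K)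
    rw [inv_one] at this
    exact this
  have f4 : D.y (-u) * D.y (-v) = D.y (-1) := by
    rw [D.y_add]
    congr 1
    rw [hu]; ring
  have f5 : D.w u⁻¹ * (D.x (-u⁻¹) * D.x (-v⁻¹))
      = (D.x (v / u) * D.w (-(v / u)) * D.x (v / u)) * D.w u⁻¹ := by
    have h1 := D.w_conj_x (inv_ne_zero hu0) (-u⁻¹ + -v⁻¹)
    have e1 : -((u⁻¹)⁻¹ ^ 2 * (-u⁻¹ + -v⁻¹)) = -(-(u / v)) := by
      rw [hu]
      have : (1 : K) - v ≠ 0 := by rw [← hu]; exact hu0
      field_simp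
      ring
    rw [e1, D.y_eq_xwx] at h1
    have e2 : -(-(u / v))⁻¹ = v / u := by
      rw [inv_neg, neg_neg, inv_div]
    have e3 : (-(u / v))⁻¹ = -(v / u) := by
      rw [inv_neg, inv_div]
    rw [e2, e3] at h1
    rw [D.x_add, ← h1]
    group
  have f6 : D.x (-u⁻¹) * D.x (v / u) = D.x (-1) := by
    rw [D.x_add]
    congr 1
    rw [hu]
    have : (1 : K) - v ≠ 0 := by rw [← hu]; exact hu0
    field_simp
    ring
  have f7 : D.x (v / u) * (D.w u⁻¹ * D.w v⁻¹) = (D.w u⁻¹ * D.w v⁻¹) * D.x (u / v) := by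
    have h1 := D.w_conj_x (inv_ne_zero hv0) (u / v)
    have h2 := D.w_conj_y (inv_ne_zero hu0) (-((v⁻¹)⁻¹ ^ 2 * (u / v)))
    have e1 : -(u⁻¹ ^ 2 * -((v⁻¹)⁻¹ ^ 2 * (u / v))) = v / u := by
      field_simp
    rw [e1, ← h1] at h2
    rw [← h2]
    group
  have f8 : D.x (u / v) * D.x (-v⁻¹) = D.x (-1) := by
    rw [D.x_add]
    congr 1
    rw [hu]
    field_simp
    ring
  -- the relation among the `w`
  have key : D.w 1 = D.w (-(v / u)) * D.w u⁻¹ * D.w v⁻¹ := by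
    have h1 : D.x (-1) * D.w 1 * D.x (-1)
        = D.x (-1) * (D.w (-(v / u)) * D.w u⁻¹ * D.w v⁻¹) * D.x (-1) := by
      calc D.x (-1) * D.w 1 * D.x (-1) = D.y (-u) * D.y (-v) := by rw [f4, f3]
        _ = D.x (-u⁻¹) * (D.w u⁻¹ * (D.x (-u⁻¹) * D.x (-v⁻¹))) * D.w v⁻¹ * D.x (-v⁻¹) := by
            rw [f1, f2]; group
        _ = (D.x (-u⁻¹) * D.x (v / u)) * D.w (-(v / u)) * (D.x (v / u) * (D.w u⁻¹ * D.w v⁻¹))
              * D.x (-v⁻¹) := by
            rw [f5]; group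
        _ = D.x (-1) * D.w (-(v / u)) * (D.w u⁻¹ * D.w v⁻¹) * (D.x (u / v) * D.x (-v⁻¹)) := by
            rw [f6, f7]; group
        _ = D.x (-1) * (D.w (-(v / u)) * D.w u⁻¹ * D.w v⁻¹) * D.x (-1) := by
            rw [f8]; group
    exact mul_left_cancel (mul_right_cancel h1)
  -- translate into the `h`
  have g1 : D.w (-(v / u)) * D.w u⁻¹ = D.w 1 * D.w (-v⁻¹) := by
    rw [key, ← D.w_inv v⁻¹]
    group
  have g2 : D.w 1 * D.h u⁻¹ = D.h u * D.w 1 := by
    have := D.w_one_conj_h (inv_ne_zero hu0)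
    rw [inv_inv] at this
    rw [← this]
    group
  have g3 : D.w 1 * D.h (-v⁻¹) = D.h (-v) * D.w 1 := by
    have := D.w_one_conj_h (neg_ne_zero.2 (inv_ne_zero hv0))
    rw [inv_neg, inv_inv] at this
    rw [← this]
    group
  rw [D.w_eq_h_mul (-(v / u)), D.w_eq_h_mul u⁻¹, D.w_eq_h_mul (-v⁻¹)] at g1
  have g4 : D.h (-(v / u)) * D.h u * (D.w 1 * D.w 1) = D.h (-v) * (D.w 1 * D.w 1) := by
    calc D.h (-(v / u)) * D.h u * (D.w 1 * D.w 1)
        = D.h (-(v / u)) * (D.h u * D.w 1) * D.w 1 := by group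
      _ = D.h (-(v / u)) * D.w 1 * (D.h u⁻¹ * D.w 1) := by rw [← g2]; group
      _ = D.w 1 * (D.h (-v⁻¹) * D.w 1) := g1
      _ = (D.w 1 * D.h (-v⁻¹)) * D.w 1 := by group
      _ = D.h (-v) * (D.w 1 * D.w 1) := by rw [g3]; group
  exact mul_right_cancel g4

end St2Data

end Cfsg.Agent.Lib.Helper13
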