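import Mathlib
import Cfsg.Agent.Lib.Helper13.St2C

set_option autoImplicit false

namespace Cfsg.Agent.Lib.Helper13

open Polynomial in
/-- in a finite field of odd characteristic there is a non-square `τ` with `τ - 1` a non-zero
square -/
theorem exists_nonsquare_succ_sq {K : Type*} [Field K] [Finite K] (hK : ringChar K ≠ 2) :
    ∃ τ r : K, ¬ IsSquare τ ∧ r ≠ 0 ∧ τ - 1 = r ^ 2 := by
  classical
  have := Fintype.ofFinite K
  obtain ⟨n, hn⟩ := FiniteField.exists_nonsquare hK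
  obtain ⟨a, b, hab⟩ := FiniteField.exists_root_sum_quadratic (R := K) (f := X ^ 2)
    (g := X ^ 2 - C n) (degree_X_pow 2) (degree_X_pow_sub_C (by norm_num) n)
    (FiniteField.odd_card_of_char_ne_two hK)
  simp only [eval_pow, eval_X, eval_sub, eval_C] at hab
  have hn' : n = a ^ 2 + b ^ 2 := by linear_combination (-1 : K) * hab
  have hb0 : b ≠ 0 := by
    rintro rfl
    apply hn
    exact ⟨a, by rw [hn']; ring⟩
  have ha0 : a ≠ 0 := by
    rintro rfl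
    apply hn
    exact ⟨b, by rw [hn']; ring⟩
  refine ⟨n / b ^ 2, a / b, ?_, div_ne_zero ha0 hb0, ?_⟩
  · rintro ⟨s, hs⟩
    apply hn
    refine ⟨s * b, ?_⟩
    have : n = n / b ^ 2 * b ^ 2 := by field_simp
    rw [this, hs]
    ring
  · rw [hn']
    field_simp
    ring

theorem isSquare_mul_of_not_isSquare {K : Type*} [Field K] [Finite K] (hK : ringChar K ≠ 2)
    {a b : K} (ha0 : a ≠ 0) (hb0 : b ≠ 0) (ha : ¬ IsSquare a) (hb : ¬ IsSquare b) :
    IsSquare (a * b) := by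
  classical
  have := Fintype.ofFinite K
  rw [FiniteField.isSquare_iff hK (mul_ne_zero ha0 hb0), mul_pow]
  rw [FiniteField.isSquare_iff hK ha0] at ha
  rw [FiniteField.isSquare_iff hK hb0] at hb
  rcases FiniteField.pow_dichotomy hK ha0 with h1 | h1
  · exact absurd h1 ha
  rcases FiniteField.pow_dichotomy hK hb0 with h2 | h2
  · exact absurd h2 hb
  rw [h1, h2]
  ring

namespace St2Data

variable {K : Type*} [Field K] [Finite K] {G : Type*} [Group G] (D : St2Data K G)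

theorem h_mul_of_isSquare {a b : K} (ha0 : a ≠ 0) (hb0 : b ≠ 0) (ha : IsSquare a) :
    D.h (a * b) = D.h a * D.h b := by
  obtain ⟨r, rfl⟩ := ha
  have hr0 : r ≠ 0 := by
    rintro rfl
    exact ha0 (by ring)
  have e : r * r = r ^ 2 := by ring
  rw [e]
  exact D.h_sq_mul hr0 hb0

theorem h_mul_h_eq {τ r : K} (hτ0 : τ ≠ 0) (hr0 : r ≠ 0) (hτ : τ - 1 = r ^ 2) :
    D.h τ * D.h τ = D.h (τ ^ 2) := by
  have hτ1 : (1 : K) - τ ≠ 0 := by
    intro h
    apply pow_ne_zero 2 hr0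
    rw [← hτ]
    linear_combination (-1 : K) * h
  have hv1 : (1 : K) - τ ≠ 1 := by
    intro h
    apply hτ0
    linear_combination (-1 : K) * h
  have h1 := D.steinberg_rel hτ1 hv1
  have e1 : -((1 - τ) / (1 - (1 - τ))) = r ^ 2 * τ⁻¹ := by
    rw [← hτ]
    field_simp
    ring
  have e2 : (1 : K) - (1 - τ) = τ := by ring
  have e3 : -(1 - τ) = r ^ 2 := by rw [← hτ]; ring
  rw [e1, e2, e3, D.h_sq_mul hr0 (inv_ne_zero hτ0)] at h1
  -- h1 : h (r^2) * h τ⁻¹ * h τ = h (r^2)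
  have h2 : D.h τ⁻¹ * D.h τ = 1 := by
    have : D.h (r ^ 2) * (D.h τ⁻¹ * D.h τ) = D.h (r ^ 2) * 1 := by
      rw [mul_one, ← mul_assoc, h1]
    exact mul_left_cancel this
  have e4 : τ⁻¹ = τ⁻¹ ^ 2 * τ := by field_simp
  have h3 : D.h τ⁻¹ = D.h (τ⁻¹ ^ 2) * D.h τ := by
    conv_lhs => rw [e4]
    exact D.h_sq_mul (inv_ne_zero hτ0) hτ0
  have h4 : D.h (τ⁻¹ ^ 2) * D.h (τ ^ 2) = 1 := by
    rw [← D.h_sq_mul (inv_ne_zero hτ0) (pow_ne_zero 2 hτ0)]
    have e5 : τ⁻¹ ^ 2 * τ ^ 2 = 1 := by field_simp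
    rw [e5, D.h_one]
  rw [h3] at h2
  -- h2 : h (τ⁻¹^2) * h τ * h τ = 1
  have h5 : D.h (τ⁻¹ ^ 2) * (D.h τ * D.h τ) = D.h (τ⁻¹ ^ 2) * D.h (τ ^ 2) := by
    rw [h4, ← mul_assoc, h2]
  exact mul_left_cancel h5

/-- `h` is multiplicative -/
theorem h_mul {a b : K} (ha0 : a ≠ 0) (hb0 : b ≠ 0) : D.h (a * b) = D.h a * D.h b := by
  by_cases ha : IsSquare a
  · exact D.h_mul_of_isSquare ha0 hb0 ha
  by_cases hb : IsSquare b
  · rw [mul_comm, D.h_mul_of_isSquare hb0 ha0 hb]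
    exact D.H_comm (D.h_mem hb0) (D.h_mem ha0)
  have hK : ringChar K ≠ 2 := by
    intro h
    exact ha (FiniteField.isSquare_of_char_two h a)
  obtain ⟨τ, r, hτ, hr0, hτr⟩ := exists_nonsquare_succ_sq hK
  have hτ0 : τ ≠ 0 := by
    rintro rfl
    exact hτ ⟨0, by ring⟩
  have hA := D.h_mul_h_eq hτ0 hr0 hτr
  -- write `a = s^2 τ`, `b = p^2 τ`
  have hrep : ∀ c : K, c ≠ 0 → ¬ IsSquare c → ∃ s : K, s ≠ 0 ∧ c = s ^ 2 * τ := by
    intro c hc0 hc
    obtain ⟨m, hm⟩ := isSquare_mul_of_not_isSquare hK hc0 hτ0 hc hτ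
    have hm0 : m ≠ 0 := by
      rintro rfl
      exact mul_ne_zero hc0 hτ0 (by rw [hm]; ring)
    refine ⟨m / τ, div_ne_zero hm0 hτ0, ?_⟩
    have : c = c * τ / τ := by field_simp
    rw [this, hm]
    field_simp
  obtain ⟨s, hs0, rfl⟩ := hrep a ha0 ha
  obtain ⟨p, hp0, rfl⟩ := hrep b hb0 hb
  have e1 : s ^ 2 * τ * (p ^ 2 * τ) = (s * p) ^ 2 * τ ^ 2 := by ring
  have e2 : (s * p) ^ 2 = s ^ 2 * p ^ 2 := by ring
  rw [e1, D.h_sq_mul (mul_ne_zero hs0 hp0) (pow_ne_zero 2 hτ0), e2,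
    D.h_sq_mul hs0 (pow_ne_zero 2 hp0), D.h_sq_mul hs0 hτ0, D.h_sq_mul hp0 hτ0, ← hA]
  have c1 := D.H_comm (D.h_mem hτ0) (D.h_mem (pow_ne_zero 2 hp0))
  calc D.h (s ^ 2) * D.h (p ^ 2) * (D.h τ * D.h τ)
      = D.h (s ^ 2) * (D.h (p ^ 2) * D.h τ) * D.h τ := by group
    _ = D.h (s ^ 2) * (D.h τ * D.h (p ^ 2)) * D.h τ := by rw [c1]
    _ = D.h (s ^ 2) * D.h τ * (D.h (p ^ 2) * D.h τ) := by group

theorem exists_eq_h_of_mem {k : G} (hk : k ∈ D.Hgp) : ∃ t : K, t ≠ 0 ∧ k = D.h t := by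
  induction hk using Subgroup.closure_induction with
  | mem g hg => exact hg
  | one => exact ⟨1, one_ne_zero, D.h_one.symm⟩
  | mul a b _ _ ha hb =>
    obtain ⟨t, ht, rfl⟩ := ha
    obtain ⟨u, hu, rfl⟩ := hb
    exact ⟨t * u, mul_ne_zero ht hu, (D.h_mul ht hu).symm⟩
  | inv a _ ha =>
    obtain ⟨t, ht, rfl⟩ := ha
    refine ⟨t⁻¹, inv_ne_zero ht, ?_⟩
    rw [inv_eq_iff_mul_eq_one, ← D.h_mul ht (inv_ne_zero ht), mul_inv_cancel₀ ht, D.h_one]

theorem pi_injective : Function.Injective D.π := by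
  rw [injective_iff_map_eq_one]
  intro g hg
  obtain ⟨t, ht, rfl⟩ := D.exists_eq_h_of_mem (D.mem_H_of_ker hg)
  have h1 := D.pi_h ht
  rw [hg] at h1
  have h2 := congrFun (congrFun h1 0) 0
  have ht1 : t = 1 := by simpa using h2.symm
  rw [ht1, D.h_one]

theorem pi_surjective : Function.Surjective D.π := by
  have hX : ∀ t, slX t ∈ D.π.range := fun t => ⟨D.x t, D.π_x t⟩
  have hY : ∀ t, slY t ∈ D.π.range := fun t => ⟨D.y t, D.π_y t⟩
  have key : ∀ A : Matrix.SpecialLinearGroup (Fin 2) K,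
      (A : Matrix (Fin 2) (Fin 2) K) 1 0 ≠ 0 → A ∈ D.π.range := by
    intro A hc
    have hdet : (A : Matrix (Fin 2) (Fin 2) K) 0 0 * (A : Matrix (Fin 2) (Fin 2) K) 1 1
        - (A : Matrix (Fin 2) (Fin 2) K) 0 1 * (A : Matrix (Fin 2) (Fin 2) K) 1 0 = 1 := by
      rw [← Matrix.det_fin_two]
      exact A.2
    obtain ⟨a, ha⟩ : ∃ a : K, a = (A : Matrix (Fin 2) (Fin 2) K) 0 0 := ⟨_, rfl⟩
    obtain ⟨b, hb⟩ : ∃ b : K, b = (A : Matrix (Fin 2) (Fin 2) K) 0 1 := ⟨_, rfl⟩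
    obtain ⟨c, hc'⟩ : ∃ c : K, c = (A : Matrix (Fin 2) (Fin 2) K) 1 0 := ⟨_, rfl⟩
    obtain ⟨d, hd⟩ : ∃ d : K, d = (A : Matrix (Fin 2) (Fin 2) K) 1 1 := ⟨_, rfl⟩
    rw [← ha, ← hb, ← hc', ← hd] at hdet
    rw [← hc'] at hc
    have hA : A = slX ((a - 1) / c) * slY c * slX ((d - 1) / c) := by
      apply Subtype.ext
      rw [Matrix.SpecialLinearGroup.coe_mul, Matrix.SpecialLinearGroup.coe_mul, slX_val, slY_val,
        slX_val]
      ext i j
      fin_cases i <;> fin_cases j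
      · simp [Matrix.mul_apply, Fin.sum_univ_two, ← ha]
        field_simp
        ring
      · simp [Matrix.mul_apply, Fin.sum_univ_two, ← hb]
        field_simp
        linear_combination (-1 : K) * hdet
      · simp [Matrix.mul_apply, Fin.sum_univ_two, ← hc']
      · simp [Matrix.mul_apply, Fin.sum_univ_two, ← hd]
        field_simp
        ring
    rw [hA]
    exact Subgroup.mul_mem _ (Subgroup.mul_mem _ (hX _) (hY _)) (hX _)
  intro A
  rw [← MonoidHom.mem_range]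
  by_cases hc : (A : Matrix (Fin 2) (Fin 2) K) 1 0 = 0
  · have hdet : (A : Matrix (Fin 2) (Fin 2) K) 0 0 * (A : Matrix (Fin 2) (Fin 2) K) 1 1
        - (A : Matrix (Fin 2) (Fin 2) K) 0 1 * (A : Matrix (Fin 2) (Fin 2) K) 1 0 = 1 := by
      rw [← Matrix.det_fin_two]
      exact A.2
    have ha0 : (A : Matrix (Fin 2) (Fin 2) K) 0 0 ≠ 0 := by
      intro h
      rw [h, hc] at hdet
      simp at hdet
    have h1 : slY 1 * A ∈ D.π.range := by
      apply key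
      rw [Matrix.SpecialLinearGroup.coe_mul, slY_val]
      simp [Matrix.mul_apply, Fin.sum_univ_two, hc, ha0]
    have h2 : A = (slY 1)⁻¹ * (slY 1 * A) := by group
    rw [h2]
    exact Subgroup.mul_mem _ (Subgroup.inv_mem _ (hY 1)) h1
  · exact key A hc

end St2Data

end Cfsg.Agent.Lib.Helper13
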