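import Cfsg.Agent.Lib.Helper41.StnDefs

/-! Stn-WINV (by helper13) for helper41's S2401 "Stn" hive: `w_ij(t)⁻¹ = w_ij(-t)`.
Self-contained (imports `StnDefs` only): the few consequences of the relators (R1), (R2) needed here and in
`Stn_WDISJ` / `Stn_HONE` are proved under `winv_` names (twins of STN-BASIC `xx_add`, `xx_zero`, `xx_inv`, `xx_comm`). -/

set_option autoImplicit false

namespace Cfsg.Agent.Lib.Helper41.Stn

open Matrix

variable {K : Type*} [Field K] {n : ℕ}

/-- relator (R1) -/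
theorem winv_rel1 (a : Idx n) (t u : K) :
    (PresentedGroup.of (a, t) : St K n) * PresentedGroup.of (a, u) = PresentedGroup.of (a, t + u) := by
  have h : (FreeGroup.of (a, t) * FreeGroup.of (a, u) * (FreeGroup.of (a, t + u))⁻¹ :
      FreeGroup (Idx n × K)) ∈ rels K n := Or.inl (Or.inl ⟨a, t, u, rfl⟩)
  have h1 := PresentedGroup.one_of_mem h
  rw [map_mul, map_mul, map_inv] at h1
  exact mul_inv_eq_one.1 h1

/-- relator (R2) -/
theorem winv_rel2 (a b : Idx n) (h1 : a.1.1 ≠ b.1.2) (h2 : a.1.2 ≠ b.1.1) (t u : K) :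
    (PresentedGroup.of (a, t) : St K n) * PresentedGroup.of (b, u) =
      PresentedGroup.of (b, u) * PresentedGroup.of (a, t) := by
  have h : (FreeGroup.of (a, t) * FreeGroup.of (b, u) * (FreeGroup.of (a, t))⁻¹ * (FreeGroup.of (b, u))⁻¹ :
      FreeGroup (Idx n × K)) ∈ rels K n := Or.inl (Or.inr ⟨a, b, t, u, h1, h2, rfl⟩)
  have h3 := PresentedGroup.one_of_mem h
  rw [map_mul, map_mul, map_mul, map_inv, map_inv] at h3
  have h4 := mul_inv_eq_one.1 h3
  exact mul_inv_eq_iff_eq_mul.1 h4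

theorem winv_xx_add (i j : Fin n) (t u : K) : xx i j t * xx i j u = xx i j (t + u) := by
  unfold xx
  split_ifs with h
  · exact winv_rel1 _ t u
  · exact mul_one 1

theorem winv_xx_zero (i j : Fin n) : xx i j (0 : K) = 1 := by
  have h := winv_xx_add i j (0 : K) 0
  rw [add_zero] at h
  exact mul_eq_left.1 h

theorem winv_xx_inv (i j : Fin n) (t : K) : (xx i j t)⁻¹ = xx i j (-t) := by
  apply inv_eq_of_mul_eq_one_right
  rw [winv_xx_add, add_neg_cancel, winv_xx_zero]

/-- (R2) for the total generators -/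
theorem winv_xx_comm {i j k l : Fin n} (hil : i ≠ l) (hjk : j ≠ k) (t u : K) :
    xx i j t * xx k l u = xx k l u * xx i j t := by
  unfold xx
  split_ifs with h1 h2 h2
  · exact winv_rel2 _ _ hil hjk t u
  · rw [mul_one, one_mul]
  · rw [mul_one, one_mul]
  · rfl

theorem ww_inv (i j : Fin n) (t : K) : (ww i j t)⁻¹ = ww i j (-t) := by
  unfold ww
  rw [_root_.mul_inv_rev, _root_.mul_inv_rev, winv_xx_inv, winv_xx_inv, neg_neg, inv_neg, neg_neg, mul_assoc]

end Cfsg.Agent.Lib.Helper41.Stn
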