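import Cfsg.Agent.Lib.Helper41.StnDefs
import Cfsg.Agent.Lib.Helper13.Stn_WINV

/-! Stn-HONE (by helper13) for helper41's S2401 "Stn" hive: `h_ij(1) = 1` and `w_ij(t) = h_ij(t) w_ij(1)`. -/

set_option autoImplicit false

namespace Cfsg.Agent.Lib.Helper41.Stn

open Matrix

variable {K : Type*} [Field K] {n : ℕ}

theorem hh_one (i j : Fin n) : hh i j (1 : K) = 1 := by
  unfold hh
  rw [← ww_inv, mul_inv_cancel]

theorem ww_eq_hh_mul (i j : Fin n) (t : K) : ww i j t = hh i j t * ww i j 1 := by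
  unfold hh
  rw [← ww_inv, mul_assoc, inv_mul_cancel, mul_one]

end Cfsg.Agent.Lib.Helper41.Stn
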