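import Cfsg.Agent.Lib.Helper41.StnDefs
import Cfsg.Agent.Lib.Helper13.Stn_WINV

/-! Stn-WDISJ (by helper13) for helper41's S2401 "Stn" hive: `w_ij(t)` centralises `x_kl(u)` when
`{k,l} ∩ {i,j} = ∅` (only (R2)). -/

set_option autoImplicit false

namespace Cfsg.Agent.Lib.Helper41.Stn

open Matrix

variable {K : Type*} [Field K] {n : ℕ}

/-- STN-W-DISJ: `{k,l} ∩ {i,j} = ∅` (only (R2)). -/
theorem ww_conj_xx_disj {i j k l : Fin n} (hki : k ≠ i) (hkj : k ≠ j) (hli : l ≠ i) (hlj : l ≠ j)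
    (t u : K) : ww i j t * xx k l u * (ww i j t)⁻¹ = xx k l u := by
  have h1 : ∀ s : K, xx i j s * xx k l u = xx k l u * xx i j s :=
    fun s => winv_xx_comm (Ne.symm hli) (Ne.symm hkj) s u
  have h2 : ∀ s : K, xx j i s * xx k l u = xx k l u * xx j i s :=
    fun s => winv_xx_comm (Ne.symm hlj) (Ne.symm hki) s u
  have h3 : ww i j t * xx k l u = xx k l u * ww i j t := by
    unfold ww
    rw [mul_assoc, h1, ← mul_assoc, mul_assoc (xx i j t), h2, ← mul_assoc, h1]
    simp only [mul_assoc]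
  rw [h3, mul_assoc, mul_inv_cancel, mul_one]

end Cfsg.Agent.Lib.Helper41.Stn
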