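import Mathlib
import Cfsg.Agent.Lib.Helper20.SuBNDefs

/-! # S2546 hive (helper20), leaf SuBN-R2 (helper13): the representative of the reflection `rr i` has
determinant one -/

set_option autoImplicit false
set_option linter.unusedSectionVars false
set_option linter.unusedVariables false

namespace Cfsg.Agent.Lib.Helper20.SuBN

open Matrix Subgroup Cfsg.Agent.Lib.Helper20.PslF Cfsg.Agent.Lib.Helper20.SuF

variable {n : ℕ} {K : Type*} [Field K] [Fintype K] (F : SuF.Inv K)

/-- the determinant of a monomial matrix -/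
theorem r2_det_monM (π : Equiv.Perm (Fin n)) (d : Fin n → K) :
    (monM π d).det = Equiv.Perm.sign π • ∏ j, d j := by
  rw [Matrix.det_apply]
  rw [Finset.sum_eq_single π]
  · congr 1
    apply Finset.prod_congr rfl
    intro j _
    rw [monM_apply, if_pos rfl]
  · intro σ _ hσ
    obtain ⟨j, hj⟩ : ∃ j, σ j ≠ π j := by
      by_contra hcon
      push Not at hcon
      exact hσ (Equiv.ext hcon)
    rw [Finset.prod_eq_zero (Finset.mem_univ j) (by rw [monM_apply, if_neg hj]), smul_zero]
  · intro h
    exact absurd (Finset.mem_univ π) h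

theorem r2_fa_val (i : Fin (n / 2)) : ((fa i : Fin n) : ℕ) = i := rfl

theorem r2_fb_val (i : Fin (n / 2)) (h : (i : ℕ) + 1 < n / 2) : ((fb i : Fin n) : ℕ) = i + 1 := by
  unfold fb
  rw [dif_pos h]

theorem r2_fa_ne_rev (i : Fin (n / 2)) : (fa i : Fin n) ≠ Fin.rev (fa i) := by
  intro h
  have h1 := congrArg Fin.val h
  rw [Fin.val_rev, r2_fa_val] at h1
  have := i.2
  omega

theorem r2_skw_mul (F : SuF.Inv K) : skw F * (F.sg (skw F))⁻¹ = -1 := by
  have h1 : F.sg (skw F) = -skw F := eq_neg_of_add_eq_zero_right (skw_add F)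
  rw [h1, inv_neg, mul_neg, mul_inv_cancel₀ (skw_ne F)]

/-- SuBN-R2 -/
theorem det_srM (i : Fin (n / 2)) : (monM (rr i) (sd F i)).det = 1 := by
  rw [r2_det_monM]
  by_cases h : (i : ℕ) + 1 < n / 2
  · have hab : (fa i : Fin n) ≠ fb i := by
      intro h1
      have := congrArg Fin.val h1
      rw [r2_fa_val, r2_fb_val i h] at this
      omega
    have hab' : Fin.rev (fb i : Fin n) ≠ Fin.rev (fa i) := by
      intro h1
      exact hab (Fin.rev_injective h1).symm
    have hs : Equiv.Perm.sign (rr i : Equiv.Perm (Fin n)) = 1 := by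
      unfold rr
      rw [if_pos h, Equiv.Perm.sign_mul, Equiv.Perm.sign_swap hab, Equiv.Perm.sign_swap hab']
      simp
    have hd : ∀ j : Fin n, sd F i j = 1 := by
      intro j
      unfold sd
      rw [if_pos h]
    rw [hs, one_smul, Finset.prod_congr rfl (fun j _ => hd j), Finset.prod_const_one]
  · have hs : Equiv.Perm.sign (rr i : Equiv.Perm (Fin n)) = -1 := by
      unfold rr
      rw [if_neg h, Equiv.Perm.sign_swap (r2_fa_ne_rev i)]
    have hprod : ∏ j, sd F i j = sd F i (fa i) * sd F i (Fin.rev (fa i)) := by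
      apply Fintype.prod_eq_mul _ _ (r2_fa_ne_rev i)
      intro x hx
      unfold sd
      rw [if_neg h, if_neg hx.1, if_neg hx.2]
    have h1 : sd F i (fa i) = skw F := by
      unfold sd
      rw [if_neg h, if_pos rfl]
    have h3 : sd F i (Fin.rev (fa i)) = (F.sg (skw F))⁻¹ := by
      unfold sd
      rw [if_neg h, if_neg (r2_fa_ne_rev i).symm, if_pos rfl]
    rw [hs, hprod, h1, h3, r2_skw_mul, Units.neg_smul, one_smul, neg_neg]

end Cfsg.Agent.Lib.Helper20.SuBN
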