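import Mathlib
import Cfsg.Agent.Lib.Helper20.SuBNDefs
import Cfsg.Agent.Lib.Helper13.SuBNR2

/-! # S2546 hive (helper20), leaf SuBN-R3 (helper13): the representative `sr F i` of the reflection
`rr i` is unitary -/

set_option autoImplicit false
set_option linter.unusedSectionVars false
set_option linter.unusedVariables false

namespace Cfsg.Agent.Lib.Helper20.SuBN

open Matrix Subgroup Cfsg.Agent.Lib.Helper20.PslF Cfsg.Agent.Lib.Helper20.SuF

variable {n : ℕ} {K : Type*} [Field K] [Fintype K] (F : SuF.Inv K)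

theorem r3_mt_sr (i : Fin (n / 2)) : mt (sr F i) = monM (rr i) (sd F i) := by
  unfold sr
  rw [dif_pos (det_srM F i)]
  rfl

theorem r3_rev_rev (x : Fin n) :
    (Fin.revPerm : Equiv.Perm (Fin n)) ((Fin.revPerm : Equiv.Perm (Fin n)) x) = x := by
  rw [Fin.revPerm_apply, Fin.revPerm_apply, Fin.rev_rev]

/-- `rr i` is centralised by `rev` -/
theorem r3_rr_conj (i : Fin (n / 2)) :
    (Fin.revPerm : Equiv.Perm (Fin n)) * rr i * (Fin.revPerm : Equiv.Perm (Fin n))⁻¹ = rr i := by
  by_cases h : (i : ℕ) + 1 < n / 2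
  · have hrr : (rr i : Equiv.Perm (Fin n)) =
        Equiv.swap (fa i) (fb i) * Equiv.swap (Fin.rev (fb i)) (Fin.rev (fa i)) := by
      unfold rr
      rw [if_pos h]
    have hav : ((fa i : Fin n) : ℕ) = i := rfl
    have hbv : ((fb i : Fin n) : ℕ) = i + 1 := r2_fb_val i h
    have hi := i.2
    have hnd : [Fin.rev (fb i : Fin n), Fin.rev (fa i), fa i, fb i].Nodup := by
      simp only [List.nodup_cons, List.mem_cons, List.not_mem_nil,
        List.nodup_nil, not_or, and_true, not_false_eq_true]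
      refine ⟨⟨?_, ?_, ?_⟩, ⟨?_, ?_⟩, ?_⟩
      all_goals
        intro h1
        have h3 := congrArg Fin.val h1
        simp only [Fin.val_rev, hav, hbv] at h3
        omega
    have hcomm := (Equiv.Perm.disjoint_swap_swap hnd).commute
    rw [hrr]
    calc (Fin.revPerm : Equiv.Perm (Fin n)) *
          (Equiv.swap (fa i) (fb i) * Equiv.swap (Fin.rev (fb i)) (Fin.rev (fa i))) *
          (Fin.revPerm : Equiv.Perm (Fin n))⁻¹
        = ((Fin.revPerm : Equiv.Perm (Fin n)) * Equiv.swap (fa i) (fb i) *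
            (Fin.revPerm : Equiv.Perm (Fin n))⁻¹) *
          ((Fin.revPerm : Equiv.Perm (Fin n)) * Equiv.swap (Fin.rev (fb i)) (Fin.rev (fa i)) *
            (Fin.revPerm : Equiv.Perm (Fin n))⁻¹) := by group
      _ = Equiv.swap (Fin.rev (fa i)) (Fin.rev (fb i)) * Equiv.swap (fb i) (fa i) := by
          rw [← Equiv.swap_apply_apply, ← Equiv.swap_apply_apply, Fin.revPerm_apply,
            Fin.revPerm_apply, Fin.revPerm_apply, Fin.revPerm_apply, Fin.rev_rev, Fin.rev_rev]
      _ = Equiv.swap (Fin.rev (fb i)) (Fin.rev (fa i)) * Equiv.swap (fa i) (fb i) := by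
          rw [Equiv.swap_comm (Fin.rev (fa i)), Equiv.swap_comm (fb i)]
      _ = _ := hcomm.eq
  · have hrr : (rr i : Equiv.Perm (Fin n)) = Equiv.swap (fa i) (Fin.rev (fa i)) := by
      unfold rr
      rw [if_neg h]
    rw [hrr, ← Equiv.swap_apply_apply, Fin.revPerm_apply, Fin.revPerm_apply, Fin.rev_rev,
      Equiv.swap_comm]

theorem r3_rr_rev (i : Fin (n / 2)) (x : Fin n) : rr i (Fin.rev x) = Fin.rev (rr i x) := by
  have h := r3_rr_conj (n := n) i
  have h2 := congrArg (fun π : Equiv.Perm (Fin n) => π (Fin.rev x)) h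
  simp only [Equiv.Perm.mul_apply] at h2
  have h3 : (Fin.revPerm : Equiv.Perm (Fin n))⁻¹ (Fin.rev x) = x := by
    rw [Equiv.Perm.inv_eq_iff_eq, Fin.revPerm_apply]
  rw [h3, Fin.revPerm_apply] at h2
  exact h2.symm

/-- the coefficients of `sr F i` are unitary -/
theorem r3_sd_mul (i : Fin (n / 2)) (a : Fin n) :
    F.sg (sd F i (Fin.rev a)) * sd F i a = 1 := by
  by_cases h : (i : ℕ) + 1 < n / 2
  · unfold sd
    rw [if_pos h, if_pos h, map_one, one_mul]
  · have hne := r2_fa_ne_rev (n := n) i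
    have hs0 : F.sg (skw F) ≠ 0 := fun h0 => skw_ne F (F.sg_eq_zero h0)
    by_cases h1 : a = fa i
    · subst h1
      unfold sd
      rw [if_neg h, if_neg h, if_neg hne.symm, if_pos rfl, if_pos rfl, map_inv₀, F.invol,
        inv_mul_cancel₀ (skw_ne F)]
    · by_cases h3 : a = Fin.rev (fa i)
      · subst h3
        unfold sd
        rw [if_neg h, if_neg h, Fin.rev_rev, if_pos rfl, if_neg hne.symm, if_pos rfl,
          mul_inv_cancel₀ hs0]
      · have h5 : Fin.rev a ≠ fa i := by
          intro h6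
          apply h3
          rw [← h6, Fin.rev_rev]
        have h7 : Fin.rev a ≠ Fin.rev (fa i) := fun h6 => h1 (Fin.rev_injective h6)
        unfold sd
        rw [if_neg h, if_neg h, if_neg h5, if_neg h7, if_neg h1, if_neg h3, map_one, one_mul]

/-- SuBN-R3 -/
theorem sr_mem_SUJ (i : Fin (n / 2)) : sr F i ∈ SUJ F := by
  rw [mem_SUJ, r3_mt_sr]
  ext a b
  rw [Matrix.mul_apply, Finset.sum_eq_single (rr i b)]
  · rw [adj_apply, monM_apply, monM_apply, if_pos rfl, r3_rr_rev]
    by_cases hab : a = b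
    · subst hab
      rw [if_pos rfl, Matrix.one_apply_eq]
      exact r3_sd_mul F i a
    · have : ¬ (Fin.rev (rr i b) = Fin.rev (rr i a)) := by
        intro h1
        exact hab ((rr i).injective (Fin.rev_injective h1)).symm
      rw [if_neg this, map_zero, zero_mul, Matrix.one_apply_ne hab]
  · intro k _ hk
    rw [monM_apply (rr i) (sd F i) k b, if_neg hk, mul_zero]
  · intro h
    exact absurd (Finset.mem_univ _) h

end Cfsg.Agent.Lib.Helper20.SuBN
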