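import Mathlib
import Cfsg.Agent.Lib.Helper20.SuBNDefs
import Cfsg.Agent.Lib.Helper13.SuBNR2

/-! # S2546 hive (helper20), leaf SuBN-S0 (helper13): a unitary monomial matrix of determinant one with
the order reversing permutation -/

set_option autoImplicit false
set_option linter.unusedSectionVars false
set_option linter.unusedVariables false

namespace Cfsg.Agent.Lib.Helper20.SuBN

open Matrix Subgroup Cfsg.Agent.Lib.Helper20.PslF Cfsg.Agent.Lib.Helper20.SuF

variable {n : ℕ} {K : Type*} [Field K] [Fintype K] (F : SuF.Inv K)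

/-- a monomial matrix whose permutation commutes with `rev` and whose coefficients are unitary is
unitary -/
theorem s0_monM_unitary (π : Equiv.Perm (Fin n)) (d : Fin n → K)
    (hπ : ∀ x, π (Fin.rev x) = Fin.rev (π x))
    (hd : ∀ a, F.sg (d (Fin.rev a)) * d a = 1) :
    adj F (monM π d) * monM π d = 1 := by
  ext a b
  rw [Matrix.mul_apply, Finset.sum_eq_single (π b)]
  · rw [adj_apply, monM_apply, monM_apply, if_pos rfl, hπ]
    by_cases hab : a = b
    · subst hab
      rw [if_pos rfl, Matrix.one_apply_eq]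
      exact hd a
    · have : ¬ (Fin.rev (π b) = Fin.rev (π a)) := by
        intro h1
        exact hab (π.injective (Fin.rev_injective h1)).symm
      rw [if_neg this, map_zero, zero_mul, Matrix.one_apply_ne hab]
  · intro k _ hk
    rw [monM_apply π d k b, if_neg hk, mul_zero]
  · intro h
    exact absurd (Finset.mem_univ _) h

/-- coefficients `skw` at `a0`, `(σ skw)⁻¹` at `rev a0`, `1` elsewhere -/
noncomputable def s0_d (a0 : Fin n) (j : Fin n) : K :=
  if j = a0 then skw F else if j = Fin.rev a0 then (F.sg (skw F))⁻¹ else 1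

theorem s0_d_mul (a0 : Fin n) (hne : a0 ≠ Fin.rev a0) (a : Fin n) :
    F.sg (s0_d F a0 (Fin.rev a)) * s0_d F a0 a = 1 := by
  have hs0 : F.sg (skw F) ≠ 0 := fun h0 => skw_ne F (F.sg_eq_zero h0)
  by_cases h1 : a = a0
  · subst h1
    unfold s0_d
    rw [if_neg hne.symm, if_pos rfl, if_pos rfl, map_inv₀, F.invol, inv_mul_cancel₀ (skw_ne F)]
  · by_cases h3 : a = Fin.rev a0
    · subst h3
      unfold s0_d
      rw [Fin.rev_rev, if_pos rfl, if_neg hne.symm, if_pos rfl, mul_inv_cancel₀ hs0]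
    · have h5 : Fin.rev a ≠ a0 := by
        intro h6
        apply h3
        rw [← h6, Fin.rev_rev]
      have h7 : Fin.rev a ≠ Fin.rev a0 := fun h6 => h1 (Fin.rev_injective h6)
      unfold s0_d
      rw [if_neg h5, if_neg h7, if_neg h1, if_neg h3, map_one, one_mul]

theorem s0_d_prod (a0 : Fin n) (hne : a0 ≠ Fin.rev a0) : ∏ j, s0_d F a0 j = -1 := by
  have hprod : ∏ j, s0_d F a0 j = s0_d F a0 a0 * s0_d F a0 (Fin.rev a0) := by
    apply Fintype.prod_eq_mul _ _ hne
    intro x hx
    unfold s0_d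
    rw [if_neg hx.1, if_neg hx.2]
  have h1 : s0_d F a0 a0 = skw F := by
    unfold s0_d
    rw [if_pos rfl]
  have h3 : s0_d F a0 (Fin.rev a0) = (F.sg (skw F))⁻¹ := by
    unfold s0_d
    rw [if_neg hne.symm, if_pos rfl]
  rw [hprod, h1, h3, r2_skw_mul]

/-- SuBN-S0 -/
theorem exists_w0 (hn : 2 ≤ n) :
    ∃ w : SLn n K, w ∈ SUJ F ∧ IsMon w (Fin.revPerm : Equiv.Perm (Fin n)) := by
  have hρ : ∀ x : Fin n, (Fin.revPerm : Equiv.Perm (Fin n)) (Fin.rev x)
      = Fin.rev ((Fin.revPerm : Equiv.Perm (Fin n)) x) := by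
    intro x
    rw [Fin.revPerm_apply, Fin.revPerm_apply]
  rcases Int.units_eq_one_or (Equiv.Perm.sign (Fin.revPerm : Equiv.Perm (Fin n))) with hs | hs
  · -- sign `+1`: all coefficients `1`
    have hdet : (monM (Fin.revPerm : Equiv.Perm (Fin n)) (fun _ => (1 : K))).det = 1 := by
      rw [r2_det_monM, hs, one_smul, Finset.prod_const_one]
    refine ⟨mkSL _ hdet, ?_, ?_⟩
    · rw [mem_SUJ, mt_mkSL]
      apply s0_monM_unitary F _ _ hρ
      intro a
      rw [map_one, one_mul]
    · intro i j hij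
      rw [mt_mkSL, monM_apply, if_neg hij]
  · -- sign `-1`
    set a0 : Fin n := ⟨0, by omega⟩ with ha0
    have hne : a0 ≠ Fin.rev a0 := by
      intro h
      have h1 := congrArg Fin.val h
      rw [Fin.val_rev, ha0] at h1
      simp only at h1
      omega
    have hdet : (monM (Fin.revPerm : Equiv.Perm (Fin n)) (s0_d F a0)).det = 1 := by
      rw [r2_det_monM, hs, s0_d_prod F a0 hne, Units.neg_smul, one_smul, neg_neg]
    refine ⟨mkSL _ hdet, ?_, ?_⟩
    · rw [mem_SUJ, mt_mkSL]
      exact s0_monM_unitary F _ _ hρ (s0_d_mul F a0 hne)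
    · intro i j hij
      rw [mt_mkSL, monM_apply, if_neg hij]

end Cfsg.Agent.Lib.Helper20.SuBN
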