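import Mathlib
import Cfsg.Agent.Lib.Helper20.SuClosedDefs

set_option autoImplicit false
set_option linter.style.haveILetI false
set_option linter.unusedSimpArgs false
set_option linter.unusedSectionVars false
set_option linter.unusedVariables false

/-!
# SU-G1: the vectors `κ e_1` lie in `WT`
-/

namespace Cfsg.Agent.Lib.Helper20.SuF

open Matrix Subgroup Cfsg.Agent.Lib.Helper20.PslF

variable {n : ℕ} {K : Type*} [Field K] [Fintype K] {F : Inv K} {T : Subgroup (SLn n K)}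
  (hn : 4 ≤ n)

theorem g1_hf_eb_zero (F : Inv K) {a b : Fin n} (h : (a : ℕ) + (b : ℕ) + 1 ≠ n) :
    hf F (eb a : Fin n → K) (eb b) = 0 := by
  rw [hf_eb_eb, if_neg]
  intro e
  apply h
  have := congrArg Fin.val e
  rw [Fin.val_rev] at this
  have hb := b.2
  omega

theorem g1_hf_eb_one (F : Inv K) {a b : Fin n} (h : (a : ℕ) + (b : ℕ) + 1 = n) :
    hf F (eb a : Fin n → K) (eb b) = 1 := by
  rw [hf_eb_eb, if_pos]
  apply Fin.ext
  rw [Fin.val_rev]
  omega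

/-- SU-G1 -/
theorem WT_y1 (h : SC F T) {c0 : K} (hc0 : c0 ≠ 0) (hT : SgT F (eb (y0 hn)) 0 c0 ∈ T) (κ : K) :
    WT F hn T (κ • (eb (y1 hn) : Fin n → K)) := by
  have v0 := y0_val hn
  have v1 := y1_val hn
  have r0 := rev_y0_val hn
  have r1 := rev_y1_val hn
  -- the values of the form
  have h00 : hf F (eb (y0 hn) : Fin n → K) (eb (y0 hn)) = 0 := hf_y0 F hn
  have h01 : hf F (eb (y0 hn) : Fin n → K) (eb (y1 hn)) = 0 :=
    g1_hf_eb_zero F (by rw [v0, v1]; omega)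
  have h10 : hf F (eb (y1 hn) : Fin n → K) (eb (y0 hn)) = 0 :=
    g1_hf_eb_zero F (by rw [v0, v1]; omega)
  have h11 : hf F (eb (y1 hn) : Fin n → K) (eb (y1 hn)) = 0 :=
    g1_hf_eb_zero F (by rw [v1]; omega)
  have hf0f0 : hf F (eb (Fin.rev (y0 hn)) : Fin n → K) (eb (Fin.rev (y0 hn))) = 0 :=
    g1_hf_eb_zero F (by rw [r0]; omega)
  have h1f0 : hf F (eb (y1 hn) : Fin n → K) (eb (Fin.rev (y0 hn))) = 0 :=
    g1_hf_eb_zero F (by rw [v1, r0]; omega)
  have h0f0 : hf F (eb (y0 hn) : Fin n → K) (eb (Fin.rev (y0 hn))) = 1 :=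
    g1_hf_eb_one F (by rw [v0, r0]; omega)
  have hf1e0 : hf F (eb (Fin.rev (y1 hn)) : Fin n → K) (eb (y0 hn)) = 0 :=
    g1_hf_eb_zero F (by rw [v0, r1]; omega)
  have hf1e1 : hf F (eb (Fin.rev (y1 hn)) : Fin n → K) (eb (y1 hn)) = 1 :=
    g1_hf_eb_one F (by rw [v1, r1]; omega)
  have hf1f1 : hf F (eb (Fin.rev (y1 hn)) : Fin n → K) (eb (Fin.rev (y1 hn))) = 0 :=
    g1_hf_eb_zero F (by rw [r1]; omega)
  -- the element `g`
  have hgS : SgT F (eb (Fin.rev (y0 hn))) (eb (y1 hn)) 0 ∈ SUJ F :=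
    SgT_mem_SUJ F hf0f0 h1f0 (by rw [map_zero, h11]; ring)
  have hg_e0 : mt (SgT F (eb (Fin.rev (y0 hn))) (eb (y1 hn)) 0) *ᵥ (eb (y0 hn) : Fin n → K) =
      eb (y0 hn) + eb (y1 hn) := by
    rw [SgT_mulVec F 0 hf0f0 h1f0, h0f0, h01]
    simp
  -- `b'`
  have hb'eq : SgT F (eb (Fin.rev (y0 hn))) (eb (y1 hn)) 0 * SgT F (eb (y0 hn)) 0 c0 *
      (SgT F (eb (Fin.rev (y0 hn))) (eb (y1 hn)) 0)⁻¹ =
      SgT F ((eb (y0 hn) : Fin n → K) + eb (y1 hn)) 0 c0 := by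
    rw [conj_SgT F hgS, hg_e0, Matrix.mulVec_zero]
  have huu : hf F ((eb (y0 hn) : Fin n → K) + eb (y1 hn)) (eb (y0 hn) + eb (y1 hn)) = 0 := by
    rw [hf_add_left, hf_add_right, hf_add_right, h00, h01, h10, h11]
    ring
  have h0u : hf F (0 : Fin n → K) (eb (y0 hn) + eb (y1 hn)) = 0 := hf_zero_left F _
  -- support of `e_0 + e_1`
  have hsupp : ∀ x y : Fin n, y ≤ x →
      (((eb (y0 hn) : Fin n → K) + eb (y1 hn) : Fin n → K)) x *
        F.sg ((((eb (y0 hn) : Fin n → K) + eb (y1 hn) : Fin n → K)) (Fin.rev y)) = 0 := by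
    intro x y hxy
    rw [Fin.le_def] at hxy
    by_cases hx : (x : ℕ) ≤ 1
    · have hy1 : Fin.rev y ≠ y0 hn := by
        intro e
        have := congrArg Fin.val e
        rw [Fin.val_rev, v0] at this
        have := y.2
        omega
      have hy2 : Fin.rev y ≠ y1 hn := by
        intro e
        have := congrArg Fin.val e
        rw [Fin.val_rev, v1] at this
        have := y.2
        omega
      rw [Pi.add_apply, Pi.add_apply, eb_ne hy1, eb_ne hy2, add_zero, map_zero, mul_zero]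
    · have hx1 : x ≠ y0 hn := by
        intro e
        have := congrArg Fin.val e
        rw [v0] at this
        omega
      have hx2 : x ≠ y1 hn := by
        intro e
        have := congrArg Fin.val e
        rw [v1] at this
        omega
      rw [Pi.add_apply, eb_ne hx1, eb_ne hx2, add_zero, zero_mul]
  have hbUU : SgT F ((eb (y0 hn) : Fin n → K) + eb (y1 hn)) 0 c0 ∈ (UU : Subgroup (SLn n K)) := by
    rw [mem_UU]
    refine ⟨fun x y hxy => ?_, fun x => ?_⟩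
    · rw [mt_SgT F c0 huu h0u, Sm_apply, Matrix.one_apply_ne (ne_of_gt hxy), hsupp x y hxy.le]
      simp
    · rw [mt_SgT F c0 huu h0u, Sm_apply, Matrix.one_apply_eq, hsupp x x le_rfl]
      simp
  have hbT : SgT F ((eb (y0 hn) : Fin n → K) + eb (y1 hn)) 0 c0 ∈ T := by
    rw [← hb'eq]
    apply h.closed _ hT _ hgS
    rw [hb'eq]
    exact hbUU
  have hbS : SgT F ((eb (y0 hn) : Fin n → K) + eb (y1 hn)) 0 c0 ∈ SUJ F := h.leS hbT
  -- the element `r`
  obtain ⟨a, ha⟩ : ∃ a : K, c0 * a = κ := ⟨κ / c0, mul_div_cancel₀ _ hc0⟩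
  have hr2 : hf F (a • (eb (Fin.rev (y1 hn)) : Fin n → K)) (eb (y0 hn)) = 0 := by
    rw [hf_smul_left, hf1e0, mul_zero]
  have hrr : hf F (a • (eb (Fin.rev (y1 hn)) : Fin n → K)) (a • eb (Fin.rev (y1 hn))) = 0 := by
    rw [hf_smul_left, hf_smul_right, hf1f1, mul_zero, mul_zero]
  have hrS : SgT F (eb (y0 hn)) (a • (eb (Fin.rev (y1 hn)) : Fin n → K)) 0 ∈ SUJ F :=
    SgT_mem_SUJ F h00 hr2 (by rw [map_zero, hrr]; ring)
  have hrUU : SgT F (eb (y0 hn)) (a • (eb (Fin.rev (y1 hn)) : Fin n → K)) 0 ∈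
      (UU : Subgroup (SLn n K)) := by
    apply SgT0_mem_UU F hn 0
    have hne : Fin.rev (y0 hn) ≠ Fin.rev (y1 hn) := by
      intro e
      have := congrArg Fin.val e
      rw [r0, r1] at this
      omega
    rw [Pi.smul_apply, eb_ne hne, smul_zero]
  -- the commutator lies in `T`
  have hcommT : SgT F ((eb (y0 hn) : Fin n → K) + eb (y1 hn)) 0 c0 *
      SgT F (eb (y0 hn)) (a • (eb (Fin.rev (y1 hn)) : Fin n → K)) 0 *
      (SgT F ((eb (y0 hn) : Fin n → K) + eb (y1 hn)) 0 c0)⁻¹ *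
      (SgT F (eb (y0 hn)) (a • (eb (Fin.rev (y1 hn)) : Fin n → K)) 0)⁻¹ ∈ T := by
    have e : SgT F ((eb (y0 hn) : Fin n → K) + eb (y1 hn)) 0 c0 *
        SgT F (eb (y0 hn)) (a • (eb (Fin.rev (y1 hn)) : Fin n → K)) 0 *
        (SgT F ((eb (y0 hn) : Fin n → K) + eb (y1 hn)) 0 c0)⁻¹ *
        (SgT F (eb (y0 hn)) (a • (eb (Fin.rev (y1 hn)) : Fin n → K)) 0)⁻¹ =
        SgT F ((eb (y0 hn) : Fin n → K) + eb (y1 hn)) 0 c0 *
        (SgT F (eb (y0 hn)) (a • (eb (Fin.rev (y1 hn)) : Fin n → K)) 0 *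
        (SgT F ((eb (y0 hn) : Fin n → K) + eb (y1 hn)) 0 c0)⁻¹ *
        (SgT F (eb (y0 hn)) (a • (eb (Fin.rev (y1 hn)) : Fin n → K)) 0)⁻¹) := by group
    rw [e]
    refine mul_mem hbT ?_
    apply h.closed _ (inv_mem hbT) _ hrS
    exact mul_mem (mul_mem hrUU (inv_mem (h.leU hbT))) (inv_mem hrUU)
  -- the commutator in Eichler coordinates
  have hb_e0 : mt (SgT F ((eb (y0 hn) : Fin n → K) + eb (y1 hn)) 0 c0) *ᵥ
      (eb (y0 hn) : Fin n → K) = eb (y0 hn) := by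
    apply SgT_mulVec_of_orth F c0 huu h0u
    · rw [hf_add_right, h00, h01, add_zero]
    · exact hf_zero_right F _
  have hb_w : mt (SgT F ((eb (y0 hn) : Fin n → K) + eb (y1 hn)) 0 c0) *ᵥ
      (a • (eb (Fin.rev (y1 hn)) : Fin n → K)) =
      a • (eb (Fin.rev (y1 hn)) : Fin n → K) + (c0 * a) • ((eb (y0 hn) : Fin n → K) + eb (y1 hn)) := by
    rw [SgT_mulVec F c0 huu h0u, hf_smul_left, hf_add_right, hf1e0, hf1e1, hf_zero_right]
    simp
  have hconj := conj_SgT F hbS (eb (y0 hn)) (a • (eb (Fin.rev (y1 hn)) : Fin n → K)) 0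
  rw [hb_e0, hb_w] at hconj
  have hinv := SgT_inv F 0 h00 hr2
  have hw2 : hf F (a • (eb (Fin.rev (y1 hn)) : Fin n → K) +
      (c0 * a) • ((eb (y0 hn) : Fin n → K) + eb (y1 hn))) (eb (y0 hn)) = 0 := by
    rw [hf_add_left, hr2, hf_smul_left, hf_add_left, h00, h10]
    ring
  have hw2' : hf F (-(a • (eb (Fin.rev (y1 hn)) : Fin n → K))) (eb (y0 hn)) = 0 := by
    rw [hf_neg_left, hr2, neg_zero]
  rw [hconj, hinv, SgT_mul F _ _ h00 hw2 hw2'] at hcommT
  have hvec : a • (eb (Fin.rev (y1 hn)) : Fin n → K) +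
      (c0 * a) • ((eb (y0 hn) : Fin n → K) + eb (y1 hn)) +
      -(a • (eb (Fin.rev (y1 hn)) : Fin n → K)) =
      κ • ((eb (y0 hn) : Fin n → K) + eb (y1 hn)) := by
    rw [ha]
    abel
  rw [hvec] at hcommT
  have hW1 : WT F hn T (κ • ((eb (y0 hn) : Fin n → K) + eb (y1 hn))) := by
    refine ⟨?_, _, hcommT⟩
    have hne0 : Fin.rev (y0 hn) ≠ y0 hn := (y0_ne_rev hn).symm
    have hne1 : Fin.rev (y0 hn) ≠ y1 hn := by
      intro e
      have := congrArg Fin.val e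
      rw [r0, v1] at this
      omega
    rw [Pi.smul_apply, Pi.add_apply, eb_ne hne0, eb_ne hne1, add_zero, smul_zero]
  have hW2 := WT_sub hn hW1 (WT_smul_y0 (F := F) (T := T) hn κ)
  have e : κ • ((eb (y0 hn) : Fin n → K) + eb (y1 hn)) - κ • (eb (y0 hn) : Fin n → K) =
      κ • (eb (y1 hn) : Fin n → K) := by
    rw [smul_add, add_sub_cancel_left]
  rw [e] at hW2
  exact hW2

end Cfsg.Agent.Lib.Helper20.SuF
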