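import Mathlib
import Cfsg.Agent.Lib.Helper20.SuClosedDefs

set_option autoImplicit false
set_option linter.style.haveILetI false
set_option linter.unusedSimpArgs false
set_option linter.unusedSectionVars false
set_option linter.unusedVariables false

/-!
# SU-G2: all vectors supported strictly between `0` and `rev 0` lie in `WT`
-/

namespace Cfsg.Agent.Lib.Helper20.SuF

open Matrix Subgroup Cfsg.Agent.Lib.Helper20.PslF

variable {n : ℕ} {K : Type*} [Field K] [Fintype K] {F : Inv K} {T : Subgroup (SLn n K)}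
  (hn : 4 ≤ n)

theorem g2_hf_eb_zero (F : Inv K) {a b : Fin n} (h : (a : ℕ) + (b : ℕ) + 1 ≠ n) :
    hf F (eb a : Fin n → K) (eb b) = 0 := by
  rw [hf_eb_eb, if_neg]
  intro e
  apply h
  have := congrArg Fin.val e
  rw [Fin.val_rev] at this
  have hb := b.2
  omega

theorem g2_hf_eb_one (F : Inv K) {a b : Fin n} (h : (a : ℕ) + (b : ℕ) + 1 = n) :
    hf F (eb a : Fin n → K) (eb b) = 1 := by
  rw [hf_eb_eb, if_pos]
  apply Fin.ext
  rw [Fin.val_rev]
  omega

/-- the basic step: conjugating by `SgT (eb (rev 1)) w' c'` -/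
theorem g2_step (h : SC F T) (h1 : ∀ κ : K, WT F hn T (κ • (eb (y1 hn) : Fin n → K)))
    (w' : Fin n → K) (hw' : ∀ x, w' x ≠ 0 → y1 hn < x ∧ x < Fin.rev (y1 hn)) (c' : K)
    (hc' : c' + F.sg c' + hf F w' w' = 0) (κ : K) :
    WT F hn T (κ • (w' + c' • (eb (Fin.rev (y1 hn)) : Fin n → K))) := by
  have v0 := y0_val hn
  have v1 := y1_val hn
  have r0 := rev_y0_val hn
  have r1 := rev_y1_val hn
  have hz : ∀ x, ¬ (y1 hn < x ∧ x < Fin.rev (y1 hn)) → w' x = 0 := by
    intro x hx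
    by_contra hne
    exact hx (hw' x hne)
  have hw1 : w' (y1 hn) = 0 := hz _ (fun hh => lt_irrefl _ hh.1)
  have hwr1 : w' (Fin.rev (y1 hn)) = 0 := hz _ (fun hh => lt_irrefl _ hh.2)
  have hwr0 : w' (Fin.rev (y0 hn)) = 0 := by
    apply hz
    rintro ⟨-, hh⟩
    rw [Fin.lt_def, r0, r1] at hh
    omega
  have hf1f1 : hf F (eb (Fin.rev (y1 hn)) : Fin n → K) (eb (Fin.rev (y1 hn))) = 0 :=
    g2_hf_eb_zero F (by rw [r1]; omega)
  have h2X : hf F w' (eb (Fin.rev (y1 hn))) = 0 := by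
    rw [hf_eb_right, Fin.rev_rev]
    exact hw1
  have hXS : SgT F (eb (Fin.rev (y1 hn))) w' c' ∈ SUJ F := SgT_mem_SUJ F hf1f1 h2X hc'
  have h0f1 : hf F (eb (y0 hn) : Fin n → K) (eb (Fin.rev (y1 hn))) = 0 :=
    g2_hf_eb_zero F (by rw [v0, r1]; omega)
  have h0w : hf F (eb (y0 hn) : Fin n → K) w' = 0 := by
    rw [hf_eb_left, hwr0, map_zero]
  have hX0 : mt (SgT F (eb (Fin.rev (y1 hn))) w' c') *ᵥ (eb (y0 hn) : Fin n → K) = eb (y0 hn) :=
    SgT_mulVec_of_orth F c' hf1f1 h2X h0f1 h0w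
  have h1f1 : hf F (eb (y1 hn) : Fin n → K) (eb (Fin.rev (y1 hn))) = 1 :=
    g2_hf_eb_one F (by rw [v1, r1]; omega)
  have h1w : hf F (eb (y1 hn) : Fin n → K) w' = 0 := by
    rw [hf_eb_left, hwr1, map_zero]
  have key := WT_conj_sub hn h hXS hX0 (h1 κ)
  have e : mt (SgT F (eb (Fin.rev (y1 hn))) w' c') *ᵥ (κ • (eb (y1 hn) : Fin n → K)) -
      κ • (eb (y1 hn) : Fin n → K) = κ • (w' + c' • (eb (Fin.rev (y1 hn)) : Fin n → K)) := by
    rw [SgT_mulVec F c' hf1f1 h2X, hf_smul_left, hf_smul_left, h1f1, h1w, mul_zero, mul_one,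
      zero_smul, sub_zero]
    module
  rw [e] at key
  exact key

/-- SU-G2 -/
theorem WT_all (h : SC F T) (h1 : ∀ κ : K, WT F hn T (κ • (eb (y1 hn) : Fin n → K)))
    (w : Fin n → K) (hw : ∀ x, w x ≠ 0 → y0 hn < x ∧ x < Fin.rev (y0 hn)) : WT F hn T w := by
  have v0 := y0_val hn
  have v1 := y1_val hn
  have r0 := rev_y0_val hn
  have r1 := rev_y1_val hn
  -- multiples of `e_{rev 1}`
  have hB : ∀ lam : K, WT F hn T (lam • (eb (Fin.rev (y1 hn)) : Fin n → K)) := by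
    intro lam
    obtain ⟨a, ha⟩ := F.nontriv
    have hc0 : a - F.sg a ≠ 0 := sub_ne_zero.mpr (Ne.symm ha)
    have hc : (a - F.sg a) + F.sg (a - F.sg a) + hf F (0 : Fin n → K) 0 = 0 := by
      rw [map_sub, F.invol, hf_zero_left]
      ring
    have := g2_step hn h h1 0 (fun x hx => absurd rfl hx) (a - F.sg a) hc (lam / (a - F.sg a))
    have e : (lam / (a - F.sg a)) • ((0 : Fin n → K) + (a - F.sg a) •
        (eb (Fin.rev (y1 hn)) : Fin n → K)) = lam • (eb (Fin.rev (y1 hn)) : Fin n → K) := by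
      rw [zero_add, smul_smul, div_mul_cancel₀ _ hc0]
    rw [e] at this
    exact this
  -- vectors supported strictly between `1` and `rev 1`
  have hC : ∀ w' : Fin n → K, (∀ x, w' x ≠ 0 → y1 hn < x ∧ x < Fin.rev (y1 hn)) →
      WT F hn T w' := by
    intro w' hw'
    have hfix : F.sg (-hf F w' w') = -hf F w' w' := by rw [map_neg, hf_conj]
    obtain ⟨c', hc'⟩ := F.tr_surj _ hfix
    have hc'' : c' + F.sg c' + hf F w' w' = 0 := by rw [hc']; ring
    have h2 := g2_step hn h h1 w' hw' c' hc'' 1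
    rw [one_smul] at h2
    have h3 := WT_sub hn h2 (hB c')
    rw [add_sub_cancel_right] at h3
    exact h3
  -- decomposition of `w`
  have hz : ∀ x, ¬ (y0 hn < x ∧ x < Fin.rev (y0 hn)) → w x = 0 := by
    intro x hx
    by_contra hne
    exact hx (hw x hne)
  obtain ⟨w', hw'def⟩ : ∃ w' : Fin n → K, w' = fun x =>
      if x = y1 hn ∨ x = Fin.rev (y1 hn) then 0 else w x := ⟨_, rfl⟩
  have hw'supp : ∀ x, w' x ≠ 0 → y1 hn < x ∧ x < Fin.rev (y1 hn) := by
    intro x hx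
    rw [hw'def] at hx
    by_cases hc : x = y1 hn ∨ x = Fin.rev (y1 hn)
    · simp only [if_pos hc] at hx
      exact absurd rfl hx
    · simp only [if_neg hc] at hx
      obtain ⟨hx1, hx2⟩ := hw x hx
      push Not at hc
      have hc1 : (x : ℕ) ≠ 1 := fun e => hc.1 (Fin.ext (by rw [e, v1]))
      have hc2 : (x : ℕ) ≠ n - 2 := fun e => hc.2 (Fin.ext (by rw [e, r1]))
      rw [Fin.lt_def] at hx1 hx2 ⊢
      rw [Fin.lt_def]
      rw [v0] at hx1
      rw [r0] at hx2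
      rw [v1, r1]
      omega
  have hdec : w = w (y1 hn) • (eb (y1 hn) : Fin n → K) +
      w (Fin.rev (y1 hn)) • (eb (Fin.rev (y1 hn)) : Fin n → K) + w' := by
    funext x
    rw [hw'def]
    simp only [Pi.add_apply, Pi.smul_apply, smul_eq_mul]
    have hne : y1 hn ≠ Fin.rev (y1 hn) := y1_ne_rev hn
    by_cases hx1 : x = y1 hn
    · rw [hx1, eb_same, eb_ne hne, if_pos (Or.inl rfl)]
      ring
    · by_cases hx2 : x = Fin.rev (y1 hn)
      · rw [hx2, eb_same, eb_ne hne.symm, if_pos (Or.inr rfl)]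
        ring
      · rw [eb_ne hx1, eb_ne hx2, if_neg (by rintro (hh | hh); exact hx1 hh; exact hx2 hh)]
        ring
  rw [hdec]
  exact WT_add hn (WT_add hn (h1 _) (hB _)) (hC w' hw'supp)

end Cfsg.Agent.Lib.Helper20.SuF
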