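import Mathlib
import Cfsg.Prelude.Def_GeometricClasses
import Cfsg.Agent.Lib.Helper44.TnsDefs

/-! # TNS-M (helper13, for helper44's S5979 hive): membership in the tensor subgroup vs `IsKronSimilar` -/

set_option autoImplicit false
open scoped MatrixGroups Kronecker
open Matrix Polynomial

namespace Cfsg.Agent.Lib.Helper44.Tns

universe v

variable {F : Type v} [Field F]

theorem tnsM_glReindex_val {n a b : ℕ} (e : Fin n ≃ Fin a × Fin b) (k : GL (Fin a × Fin b) F) :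
    ((Cfsg.Geo.glReindex e.symm k : GL (Fin n) F) : Matrix (Fin n) (Fin n) F) =
      Matrix.reindexAlgEquiv F F e.symm k.val := rfl

theorem tnsM_reindex_reindex {n a b : ℕ} (e : Fin n ≃ Fin a × Fin b)
    (K : Matrix (Fin a × Fin b) (Fin a × Fin b) F) :
    Matrix.reindexAlgEquiv F F e (Matrix.reindexAlgEquiv F F e.symm K) = K := by
  ext i j
  simp [Matrix.coe_reindexAlgEquiv]

theorem tnsM_reindex_reindex' {n a b : ℕ} (e : Fin n ≃ Fin a × Fin b)
    (K : Matrix (Fin n) (Fin n) F) :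
    Matrix.reindexAlgEquiv F F e.symm (Matrix.reindexAlgEquiv F F e K) = K := by
  ext i j
  simp [Matrix.coe_reindexAlgEquiv]

/-- TNS-M1 -/
theorem isKronSimilar_of_conj_mem {n a b : ℕ} (e : Fin n ≃ Fin a × Fin b) (P x g : GL (Fin n) F)
    (h : g⁻¹ * x * g ∈ Cfsg.Geo.tensorProductSubgroup a b e P) :
    IsKronSimilar a b e (x : Matrix (Fin n) (Fin n) F) := by
  unfold Cfsg.Geo.tensorProductSubgroup at h
  obtain ⟨y, hy, hyx⟩ := Subgroup.mem_map.1 h
  obtain ⟨k, hk, rfl⟩ := Subgroup.mem_map.1 hy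
  obtain ⟨A, B, hAB⟩ := hk
  have h1 : P * Cfsg.Geo.glReindex e.symm k * P⁻¹ = g⁻¹ * x * g := hyx
  have hx : x = (g * P) * (Cfsg.Geo.glReindex e.symm k) * (g * P)⁻¹ := by
    calc x = g * (g⁻¹ * x * g) * g⁻¹ := by group
      _ = _ := by rw [← h1]; group
  refine ⟨A.val, B.val, Matrix.reindexAlgEquiv F F e (g * P).val,
    Matrix.reindexAlgEquiv F F e ((g * P)⁻¹ : GL (Fin n) F).val, ?_, ?_, ?_, ?_⟩
  · exact (Matrix.isUnit_iff_isUnit_det _).1 A.isUnit
  · exact (Matrix.isUnit_iff_isUnit_det _).1 B.isUnit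
  · rw [← map_mul, ← Units.val_mul, mul_inv_cancel, Units.val_one, map_one]
  · have h2 : (x : Matrix (Fin n) (Fin n) F) =
        (g * P).val * Matrix.reindexAlgEquiv F F e.symm k.val * ((g * P)⁻¹ : GL (Fin n) F).val := by
      conv_lhs => rw [hx]
      rw [Units.val_mul, Units.val_mul, tnsM_glReindex_val]
    have h3 : Matrix.reindex e e (x : Matrix (Fin n) (Fin n) F) =
        Matrix.reindexAlgEquiv F F e (x : Matrix (Fin n) (Fin n) F) := rfl
    rw [h3, h2, map_mul, map_mul, tnsM_reindex_reindex, hAB]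

/-- TNS-M2 -/
theorem exists_conj_mem_of_isKronSimilar {n a b : ℕ} (e : Fin n ≃ Fin a × Fin b) (P x : GL (Fin n) F)
    (h : IsKronSimilar a b e (x : Matrix (Fin n) (Fin n) F)) :
    ∃ R : GL (Fin n) F, R * x * R⁻¹ ∈ Cfsg.Geo.tensorProductSubgroup a b e P := by
  obtain ⟨A, B, V, V', hA, hB, hVV, hx⟩ := h
  have hV'V : V' * V = 1 := mul_eq_one_comm.mp hVV
  -- GL elements
  let Ag : GL (Fin a) F := ((Matrix.isUnit_iff_isUnit_det A).2 hA).unit
  let Bg : GL (Fin b) F := ((Matrix.isUnit_iff_isUnit_det B).2 hB).unit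
  have hAg : Ag.val = A := rfl
  have hBg : Bg.val = B := rfl
  let k : GL (Fin a × Fin b) F :=
    ⟨A ⊗ₖ B, (Ag⁻¹ : GL (Fin a) F).val ⊗ₖ (Bg⁻¹ : GL (Fin b) F).val,
      by rw [← Matrix.mul_kronecker_mul, ← hAg, ← hBg, ← Units.val_mul, ← Units.val_mul,
        mul_inv_cancel, mul_inv_cancel, Units.val_one, Units.val_one, Matrix.one_kronecker_one],
      by rw [← Matrix.mul_kronecker_mul, ← hAg, ← hBg, ← Units.val_mul, ← Units.val_mul,
        inv_mul_cancel, inv_mul_cancel, Units.val_one, Units.val_one, Matrix.one_kronecker_one]⟩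
  have hk : k ∈ Cfsg.Geo.kroneckerSubgroup a b F := ⟨Ag, Bg, rfl⟩
  let W : GL (Fin n) F :=
    ⟨Matrix.reindexAlgEquiv F F e.symm V, Matrix.reindexAlgEquiv F F e.symm V',
      by rw [← map_mul, hVV, map_one], by rw [← map_mul, hV'V, map_one]⟩
  have hxW : x = W * Cfsg.Geo.glReindex e.symm k * W⁻¹ := by
    apply Units.ext
    rw [Units.val_mul, Units.val_mul, tnsM_glReindex_val]
    have h3 : Matrix.reindex e e (x : Matrix (Fin n) (Fin n) F) =
        Matrix.reindexAlgEquiv F F e (x : Matrix (Fin n) (Fin n) F) := rfl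
    rw [h3] at hx
    have := congrArg (Matrix.reindexAlgEquiv F F e.symm) hx
    rw [tnsM_reindex_reindex', map_mul, map_mul] at this
    exact this
  refine ⟨P * W⁻¹, ?_⟩
  unfold Cfsg.Geo.tensorProductSubgroup
  refine Subgroup.mem_map.2 ⟨Cfsg.Geo.glReindex e.symm k, Subgroup.mem_map.2 ⟨k, hk, rfl⟩, ?_⟩
  show P * Cfsg.Geo.glReindex e.symm k * P⁻¹ = _
  rw [hxW]
  group

end Cfsg.Agent.Lib.Helper44.Tns
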