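import Cfsg.Agent.Lib.Helper13.TrsF10core
import Cfsg.Agent.Lib.Helper73.TrsG5

/-! # TRS-F10 (helper88 Trs hive, S5156) -/

set_option autoImplicit false

namespace Cfsg.Agent.Lib.Helper88.Trs

open Cfsg Cfsg.FusionSystem

universe u

variable {Ω : Type*} [Group Ω] {S : Subgroup Ω} {p : ℕ} [Fact p.Prime]

/-- **TRS-F10** -/
theorem isPSolvable_autGroup_of_primeToP [Finite S] (F E : FusionSystem S)
    (hEF : E.HasPrimeToPIndexIn F p) {Q : Subgroup Ω} (hQS : Q ≤ S)
    (h : IsPSolvable p ↥(E.autGroup Q)) : IsPSolvable p ↥(F.autGroup Q) := by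
  have hfin : Finite ↥(F.autGroup Q) := f10_finite_autGroup F hQS
  exact f10_core F E hEF hQS (fun N hN hle => isPSolvable_of_pElements_le N hN hle) h

end Cfsg.Agent.Lib.Helper88.Trs
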