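import Cfsg.Agent.Lib.Helper13.TrsF9

/-! # TRS-F10 / TRS-F11 cores (helper88 Trs hive, S5156)

The two leaves with the pure group theory inputs TRS-G5 / TRS-G4 (specialised to the automizer) as hypotheses. -/

set_option autoImplicit false
set_option linter.style.haveILetI false

namespace Cfsg.Agent.Lib.Helper88.Trs

open Cfsg Cfsg.FusionSystem

universe u

variable {Ω : Type*} [Group Ω] {S : Subgroup Ω} {p : ℕ} [Fact p.Prime]

/-- the automizers of subgroups of a finite `S` are finite -/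
theorem f10_finite_autGroup [Finite S] (E : FusionSystem S) {Q : Subgroup Ω} (hQS : Q ≤ S) :
    Finite ↥(E.autGroup Q) := by
  haveI : Finite ↥Q := Finite.of_injective _ (Subgroup.inclusion_injective hQS)
  haveI : Finite (MulAut ↥Q) := Finite.of_injective (fun α : MulAut ↥Q => (α : ↥Q → ↥Q))
    (fun α β h => MulEquiv.ext (congrFun h))
  infer_instance

/-- core of **TRS-F10**: TRS-G5 for the automizer as a hypothesis -/
theorem f10_core (F E : FusionSystem S)
    (hEF : E.HasPrimeToPIndexIn F p) {Q : Subgroup Ω} (hQS : Q ≤ S)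
    (hG5 : ∀ N : Subgroup ↥(F.autGroup Q), IsPSolvable p ↥N →
      Subgroup.closure {a : ↥(F.autGroup Q) | ∃ k : ℕ, orderOf a = p ^ k} ≤ N →
      IsPSolvable p ↥(F.autGroup Q))
    (h : IsPSolvable p ↥(E.autGroup Q)) : IsPSolvable p ↥(F.autGroup Q) := by
  have hle : E.autGroup Q ≤ F.autGroup Q := f9_autGroup_le E F hEF.1 Q
  apply hG5 ((E.autGroup Q).subgroupOf (F.autGroup Q)) ((f9_subgroupOf_iff hle).2 h)
  have h1 := hEF.2 Q hQS
  rw [Subgroup.map_le_iff_le_comap] at h1
  exact h1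

/-- core of **TRS-F11**: TRS-G4 for the automizer as a hypothesis -/
theorem f11_core {T : Subgroup Ω} (E : FusionSystem S)
    (D : FusionSystem T) (hDE : D.HasPPowerIndexIn E p) {Q : Subgroup Ω} (hQT : Q ≤ T)
    (hG4 : ∀ N : Subgroup ↥(E.autGroup Q), IsPSolvable p ↥N →
      pResidual p ↥(E.autGroup Q) ≤ N → IsPSolvable p ↥(E.autGroup Q))
    (h : IsPSolvable p ↥(D.autGroup Q)) : IsPSolvable p ↥(E.autGroup Q) := by
  have hle : D.autGroup Q ≤ E.autGroup Q := f9_autGroup_le D E hDE.1 Q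
  apply hG4 ((D.autGroup Q).subgroupOf (E.autGroup Q)) ((f9_subgroupOf_iff hle).2 h)
  have h1 := hDE.2.2 Q hQT
  rw [Subgroup.map_le_iff_le_comap] at h1
  exact h1

end Cfsg.Agent.Lib.Helper88.Trs
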