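import Cfsg.Agent.Lib.Helper13.TrsF10core
import Cfsg.Agent.Lib.Helper73.TrsG4

/-! # TRS-F11 (helper88 Trs hive, S5156) -/

set_option autoImplicit false

namespace Cfsg.Agent.Lib.Helper88.Trs

open Cfsg Cfsg.FusionSystem

universe u

variable {Ω : Type*} [Group Ω] {S : Subgroup Ω} {p : ℕ} [Fact p.Prime]

/-- **TRS-F11** -/
theorem isPSolvable_autGroup_of_pPower [Finite S] {T : Subgroup Ω} (E : FusionSystem S)
    (D : FusionSystem T) (hDE : D.HasPPowerIndexIn E p) {Q : Subgroup Ω} (hQT : Q ≤ T) (hQS : Q ≤ S)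
    (h : IsPSolvable p ↥(D.autGroup Q)) : IsPSolvable p ↥(E.autGroup Q) := by
  have hfin : Finite ↥(E.autGroup Q) := f10_finite_autGroup E hQS
  exact f11_core E D hDE hQT (fun N hN hle => isPSolvable_of_pResidual_le N hN hle) h

end Cfsg.Agent.Lib.Helper88.Trs
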