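import Cfsg.Agent.Lib.Helper88.TrsDefs
import Cfsg.Agent.Lib.Helper76.PSolvable

/-! # TRS-F9 (helper88 Trs hive, S5156): `p`-solvability of automizers passes to subsystems -/

set_option autoImplicit false

namespace Cfsg.Agent.Lib.Helper88.Trs

open Cfsg Cfsg.FusionSystem

universe u

variable {Ω : Type*} [Group Ω] {S : Subgroup Ω} {p : ℕ} [Fact p.Prime]

/-- the automizers of a subsystem are subgroups of the automizers of the system -/
theorem f9_autGroup_le {T : Subgroup Ω} (D : FusionSystem T) (E : FusionSystem S)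
    (hDE : D.IsSubsystemOf E) (Q : Subgroup Ω) : D.autGroup Q ≤ E.autGroup Q :=
  Subgroup.closure_mono (fun _ hα => hDE Q hα)

/-- a subgroup `H ≤ K` read inside `K` is `p`-solvable iff `H` is -/
theorem f9_subgroupOf_iff {G : Type*} [Group G] {H K : Subgroup G} (hHK : H ≤ K) :
    IsPSolvable p ↥(H.subgroupOf K) ↔ IsPSolvable p ↥H :=
  ⟨Cfsg.Agent.Lib.Helper76.isPSolvable_of_mulEquiv (Subgroup.subgroupOfEquivOfLe hHK),
    Cfsg.Agent.Lib.Helper76.isPSolvable_of_mulEquiv (Subgroup.subgroupOfEquivOfLe hHK).symm⟩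

/-- **TRS-F9** -/
theorem isPSolvable_autGroup_of_subsystem {T : Subgroup Ω} (D : FusionSystem T) (E : FusionSystem S)
    (hDE : D.IsSubsystemOf E) (Q : Subgroup Ω) (h : IsPSolvable p ↥(E.autGroup Q)) :
    IsPSolvable p ↥(D.autGroup Q) := by
  have hle : D.autGroup Q ≤ E.autGroup Q := f9_autGroup_le D E hDE Q
  exact (f9_subgroupOf_iff hle).1
    (Cfsg.Agent.Lib.Helper76.isPSolvable_subgroup ((D.autGroup Q).subgroupOf (E.autGroup Q)) h)

end Cfsg.Agent.Lib.Helper88.Trs
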