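import Mathlib
import Cfsg.Prelude.Def_ClassicalGeometry
import Cfsg.Prelude.Def_GeometricClasses
import Cfsg.Agent.Lib.Helper48.TiDefs
import Cfsg.Agent.Lib.Helper67.TsDefs
import Cfsg.Agent.Lib.Helper25.TsBRIDGE
import Cfsg.Agent.Lib.Helper39.SpecD

/-! # TS hive (S5972, helper67): leaf TS-COUNT0 (helper13): the singular vectors orthogonal to a
totally singular `j`-space of the `(2d+1)`-dimensional orthogonal space: `q^(2d-j)` of them. -/

set_option autoImplicit false
set_option linter.unusedSectionVars false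
set_option linter.unusedVariables false

namespace Cfsg.Agent.Lib.Helper67.Ts

open Polynomial Module
open Cfsg.Agent.Lib.Helper2.BG Cfsg.Agent.Lib.Helper99 Cfsg.Agent.Lib.Helper48.Ti

section abstract

universe u v

variable {F : Type u} [Field F] [Fintype F] {V : Type v} [AddCommGroup V] [Module F V]
  [FiniteDimensional F V]

/-- a complement of `U ≤ P` inside `P` -/
theorem count0_exists_compl_in {P U : Submodule F V} (hUP : U ≤ P) :
    ∃ C : Submodule F V, C ≤ P ∧ U ⊓ C = ⊥ ∧ U ⊔ C = P ∧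
      finrank F ↥U + finrank F ↥C = finrank F ↥P := by
  obtain ⟨Q, hQ⟩ := Submodule.exists_isCompl U
  have h2 : U ⊔ Q ⊓ P = P := by
    rw [← sup_inf_assoc_of_le Q hUP, hQ.sup_eq_top, top_inf_eq]
  have h3 : U ⊓ (Q ⊓ P) = ⊥ := by
    rw [← disjoint_iff]
    exact hQ.disjoint.mono_right inf_le_left
  refine ⟨Q ⊓ P, inf_le_right, h3, h2, ?_⟩
  have h1 := Submodule.finrank_sup_add_finrank_inf_eq U (Q ⊓ P)
  rw [h2, h3, finrank_bot, add_zero] at h1
  exact h1.symm

/-- the abstract count -/
theorem count0_abstract (Q : QuadraticForm F V)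
    (hQ : (QuadraticMap.polarBilin Q).Nondegenerate) (d j : ℕ) (hdim : finrank F V = 2 * d + 1)
    (hjd : j ≤ d) (U : Submodule F V) (hUj : finrank F U = j) (hU : ∀ w ∈ U, Q w = 0) :
    Nat.card {v : V // Q v = 0 ∧ ∀ u ∈ U, QuadraticMap.polar Q u v = 0}
      = Fintype.card F ^ (2 * d - j) := by
  classical
  set B : LinearMap.BilinForm F V := QuadraticMap.polarBilin Q with hB
  have hBapp : ∀ x y, B x y = QuadraticMap.polar Q x y := fun x y => rfl
  have hrefl : LinearMap.BilinForm.IsRefl B := by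
    intro x y h
    rw [hBapp] at h ⊢
    rw [QuadraticMap.polar_comm]
    exact h
  set P := LinearMap.BilinForm.orthogonal B U with hP
  have hmemP : ∀ v, v ∈ P ↔ ∀ u ∈ U, QuadraticMap.polar Q u v = 0 := by
    intro v
    rw [hP, LinearMap.BilinForm.mem_orthogonal_iff]
    rfl
  have hUP : U ≤ P := by
    intro u' hu'
    rw [hmemP]
    intro u hu
    unfold QuadraticMap.polar
    rw [hU _ (U.add_mem hu hu'), hU u hu, hU u' hu']
    simp
  have hfinP : finrank F ↥P = 2 * d + 1 - j := by
    rw [hP, LinearMap.BilinForm.finrank_orthogonal hQ U, hdim, hUj]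
  obtain ⟨C, hCP, hUC, hsup, hfin⟩ := count0_exists_compl_in hUP
  have hfinC : finrank F ↥C = 2 * (d - j) + 1 := by omega
  -- `Q` restricted to `C` is nondegenerate
  have hndC : (QuadraticMap.polarBilin (Q.comp C.subtype)).Nondegenerate := by
    apply Cfsg.Agent.Lib.Helper43.nondegenerate_comp_subtype
    intro c hc hcc
    have hcP : c ∈ P := hCP hc
    have hcPP : c ∈ LinearMap.BilinForm.orthogonal B P := by
      rw [LinearMap.BilinForm.mem_orthogonal_iff]
      intro v hv
      rw [← hsup] at hv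
      obtain ⟨u, hu, c', hc', rfl⟩ := Submodule.mem_sup.mp hv
      show B (u + c') c = 0
      rw [map_add, LinearMap.add_apply, hBapp, hBapp, (hmemP c).mp hcP u hu, zero_add,
        QuadraticMap.polar_comm]
      exact hcc c' hc'
    rw [hP, LinearMap.BilinForm.orthogonal_orthogonal hQ hrefl U] at hcPP
    have : c ∈ U ⊓ C := ⟨hcPP, hc⟩
    rw [hUC] at this
    exact (Submodule.mem_bot F).mp this
  have hzeros := Cfsg.Agent.Lib.Helper39.Spec.card_zeros_odd ↥C (Q.comp C.subtype) hndC (d - j) hfinC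
  -- `Q (u + c) = Q c`
  have hQuc : ∀ u ∈ U, ∀ c ∈ C, Q (u + c) = Q c := by
    intro u hu c hc
    have h1 : QuadraticMap.polar Q u c = 0 := (hmemP c).mp (hCP hc) u hu
    unfold QuadraticMap.polar at h1
    rw [hU u hu] at h1
    linear_combination h1
  -- the bijection
  have hcard : Nat.card {v : V // Q v = 0 ∧ ∀ u ∈ U, QuadraticMap.polar Q u v = 0}
      = Nat.card (↥U × {c : ↥C // (Q.comp C.subtype) c = 0}) := by
    symm
    apply Nat.card_congr
    refine Equiv.ofBijective (fun x => ⟨(x.1 : V) + (x.2.1 : V), ?_, ?_⟩) ⟨?_, ?_⟩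
    · rw [hQuc _ x.1.2 _ x.2.1.2]
      exact x.2.2
    · rw [← hmemP]
      exact P.add_mem (hUP x.1.2) (hCP x.2.1.2)
    · rintro ⟨u, c, hc0⟩ ⟨u', c', hc0'⟩ h
      have h1 : (u : V) + (c : V) = (u' : V) + (c' : V) := congrArg Subtype.val h
      have h2 : (u : V) - (u' : V) = (c' : V) - (c : V) := by
        rw [sub_eq_sub_iff_add_eq_add, h1, add_comm]
      have h3 : (u : V) - (u' : V) ∈ U ⊓ C :=
        ⟨U.sub_mem u.2 u'.2, by rw [h2]; exact C.sub_mem c'.2 c.2⟩
      rw [hUC] at h3
      have h4 : (u : V) = (u' : V) := sub_eq_zero.mp ((Submodule.mem_bot F).mp h3)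
      have h5 : (c : V) = (c' : V) := by
        rw [h4] at h1
        exact add_left_cancel h1
      have hu : u = u' := Subtype.ext h4
      have hc : c = c' := Subtype.ext h5
      subst hu
      subst hc
      rfl
    · rintro ⟨v, hv0, hvU⟩
      have hvP : v ∈ P := (hmemP v).mpr hvU
      rw [← hsup] at hvP
      obtain ⟨u, hu, c, hc, rfl⟩ := Submodule.mem_sup.mp hvP
      refine ⟨⟨⟨u, hu⟩, ⟨⟨c, hc⟩, ?_⟩⟩, rfl⟩
      show Q c = 0
      rw [← hQuc u hu c hc]
      exact hv0
  rw [hcard, Nat.card_prod, hzeros, Module.natCard_eq_pow_finrank (K := F) (V := ↥U), hUj,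
    Nat.card_eq_fintype_card, ← pow_add]
  congr 1
  omega

end abstract

section concrete

variable {F : Type*} [Field F]

theorem count0_two_ne_zero [Fintype F] (hq : Odd (Fintype.card F)) : (2 : F) ≠ 0 := by
  intro h2
  have hchar : ringChar F = 2 := by
    have hdvd : ringChar F ∣ 2 := by
      rw [← ringChar.spec]
      exact_mod_cast h2
    rcases (Nat.dvd_prime Nat.prime_two).mp hdvd with h1 | h1
    · exact absurd h1 CharP.ringChar_ne_one
    · exact h1
  have := FiniteField.even_card_of_char_two hchar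
  rcases hq with ⟨k, hk⟩
  omega

/-- TS-COUNT0: singular vectors orthogonal to a totally singular `j`-space: `q^(2d-j)` of them -/
theorem card_sing_perp [Fintype F] (hq : Odd (Fintype.card F)) (d j : ℕ) (hjd : j ≤ d)
    (U : Submodule F (VO d F)) (hUj : finrank F U = j)
    (hU : ∀ w ∈ U, Cfsg.quadFormOdd d F w = 0) :
    Nat.card {v : VO d F // Cfsg.quadFormOdd d F v = 0 ∧ ∀ u ∈ U, oddB d u v = 0}
      = Fintype.card F ^ (2 * d - j) := by
  have h2 : (2 : F) ≠ 0 := count0_two_ne_zero hq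
  have hnd := Cfsg.Agent.Lib.Helper43.OddOrth.oddForm_nondegenerate (m := d) (F := F) h2
  have hU' : ∀ w ∈ U, (Cfsg.Agent.Lib.Helper43.oddForm d F) w = 0 := by
    intro w hw
    rw [← Cfsg.Agent.Lib.Helper43.oddForm_coe]
    exact hU w hw
  have key := count0_abstract (Cfsg.Agent.Lib.Helper43.oddForm d F) hnd d j (finrank_VO d) hjd U hUj hU'
  rw [← key]
  apply Nat.card_congr
  apply Equiv.subtypeEquivRight
  intro v
  rw [Cfsg.Agent.Lib.Helper43.oddForm_coe]
  constructor
  · rintro ⟨h0, hu⟩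
    refine ⟨h0, fun u hu' => ?_⟩
    have := hu u hu'
    rw [bridge_oddB_eq, QuadraticMap.polarBilin_apply_apply] at this
    exact this
  · rintro ⟨h0, hu⟩
    refine ⟨h0, fun u hu' => ?_⟩
    rw [bridge_oddB_eq, QuadraticMap.polarBilin_apply_apply]
    exact hu u hu'

end concrete

end Cfsg.Agent.Lib.Helper67.Ts
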