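import Mathlib
import Cfsg.Prelude.Def_Classical
import Cfsg.Prelude.Def_LieClassical
import Cfsg.Agent.Lib.Helper14.TuDefs
import Cfsg.Agent.Lib.Helper69.TuHALF

/-!
# Tu hive (S5953, owner helper14), leaf TU-D2B (helper13): `bad_diag`

`i = ord_r(q) = 2`, `n < r - 1 + 2m`: the diagonal matrix with entries
`ω, ω⁻¹, ω², ω⁻², …, ω^t, ω^{-t}, 1, …, 1` (`t = (n - 2m)/2 + 1`, `ω` of order `r`) lies in `SU_n(q)`, has order
`r`, is not scalar and fixes no totally isotropic `m`-space: an invariant totally isotropic `W` lies in the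
`1`-eigenspace, of dimension `n - 2t ≤ 2m - 1`.
-/

set_option autoImplicit false
set_option linter.unusedSectionVars false
set_option linter.unusedVariables false

namespace Cfsg.Agent.Lib.Helper14.Tu

open Cfsg.Agent.Lib.Helper40.Herm Cfsg.Agent.Lib.Helper2.BG Polynomial Module

/-- the exponents `+1, -1, +2, -2, …, +t, -t, 0, 0, …` -/
def d2b_e (t k : ℕ) : ℤ :=
  if k < 2 * t then (if k % 2 = 0 then ((k / 2 + 1 : ℕ) : ℤ) else -((k / 2 + 1 : ℕ) : ℤ)) else 0

theorem d2b_e_abs (t k : ℕ) : |d2b_e t k| ≤ (t : ℤ) := by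
  unfold d2b_e
  split_ifs with h1 h2
  · rw [abs_of_nonneg (by positivity)]
    have : k / 2 + 1 ≤ t := by omega
    exact_mod_cast this
  · rw [abs_neg, abs_of_nonneg (by positivity)]
    have : k / 2 + 1 ≤ t := by omega
    exact_mod_cast this
  · simp

theorem d2b_e_ne (t k k' : ℕ) (hk : k < 2 * t) (hne : k ≠ k') : d2b_e t k ≠ d2b_e t k' := by
  unfold d2b_e
  split_ifs <;> push_cast <;> omega

theorem d2b_sum_aux (t : ℕ) : ∀ s, s ≤ t → ∑ k ∈ Finset.range (2 * s), d2b_e t k = 0 := by
  intro s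
  induction s with
  | zero => intro _; simp
  | succ s ih =>
    intro hs
    rw [show 2 * (s + 1) = 2 * s + 1 + 1 by ring, Finset.sum_range_succ, Finset.sum_range_succ,
      ih (by omega)]
    unfold d2b_e
    rw [if_pos (by omega), if_pos (by omega), if_pos (by omega), if_neg (by omega)]
    have h1 : (2 * s) / 2 = s := by omega
    have h2 : (2 * s + 1) / 2 = s := by omega
    rw [h1, h2]
    ring

theorem d2b_sum (t n : ℕ) (h : 2 * t ≤ n) : ∑ k ∈ Finset.range n, d2b_e t k = 0 := by
  induction n, h using Nat.le_induction with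
  | base => exact d2b_sum_aux t t le_rfl
  | succ n hn ih =>
    rw [Finset.sum_range_succ, ih]
    unfold d2b_e
    rw [if_neg (by omega), add_zero]

section alg
variable {F : Type*} [Field F]

theorem d2b_prod_zpow {G : Type*} [CommGroup G] {ι : Type*} (ω : G) (s : Finset ι) (e : ι → ℤ) :
    ∏ k ∈ s, ω ^ e k = ω ^ ∑ k ∈ s, e k := by
  classical
  induction s using Finset.induction_on with
  | empty => simp
  | insert a s ha ih => rw [Finset.prod_insert ha, Finset.sum_insert ha, ih, zpow_add]

/-- distinct exponents of small absolute value give distinct powers -/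
theorem d2b_zpow_ne {G : Type*} [Group G] (ω : G) (r t : ℕ) (hord : orderOf ω = r) (htr : 2 * t < r)
    (k k' : ℕ) (hk : k < 2 * t) (hne : k ≠ k') : ω ^ d2b_e t k ≠ ω ^ d2b_e t k' := by
  intro h
  rw [zpow_eq_zpow_iff_modEq, hord] at h
  have h1 : (r : ℤ) ∣ d2b_e t k' - d2b_e t k := h.dvd
  have h2 : |d2b_e t k' - d2b_e t k| < (r : ℤ) := by
    have a1 := d2b_e_abs t k
    have a2 := d2b_e_abs t k'
    have a3 := abs_sub (d2b_e t k') (d2b_e t k)
    have : (2 * t : ℤ) < r := by exact_mod_cast htr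
    linarith
  have h3 := Int.eq_zero_of_abs_lt_dvd h1 h2
  exact d2b_e_ne t k k' hk hne (by omega)

theorem d2b_aeval_diagonal {n : ℕ} (d : Fin n → F) (f : F[X]) :
    aeval (Matrix.diagonal d) f = Matrix.diagonal (fun k => f.eval (d k)) := by
  induction f using Polynomial.induction_on' with
  | add p q hp hq =>
    rw [map_add, hp, hq, Matrix.diagonal_add]
    congr 1
    funext k
    simp
  | monomial k a =>
    rw [aeval_monomial, Matrix.diagonal_pow, Matrix.algebraMap_eq_diagonal,
      Matrix.diagonal_mul_diagonal]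
    congr 1
    funext j
    simp [eval_monomial]

/-- a subspace invariant under `A` is invariant under every polynomial in `A` -/
theorem d2b_aeval_mem {n : ℕ} (A : Matrix (Fin n) (Fin n) F) (W : Submodule F (Fin n → F))
    (hW : W.map (Matrix.toLin' A) ≤ W) (f : F[X]) (w : Fin n → F) (hw : w ∈ W) :
    (aeval A f).mulVec w ∈ W := by
  have hA : ∀ v ∈ W, A.mulVec v ∈ W := by
    intro v hv
    apply hW
    exact ⟨v, hv, by rw [Matrix.toLin'_apply]⟩
  have hpow : ∀ k : ℕ, ∀ v ∈ W, (A ^ k).mulVec v ∈ W := by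
    intro k
    induction k with
    | zero => intro v hv; simpa using hv
    | succ k ih =>
      intro v hv
      rw [pow_succ, ← Matrix.mulVec_mulVec]
      exact ih _ (hA v hv)
  induction f using Polynomial.induction_on' with
  | add p q hp hq =>
    rw [map_add, Matrix.add_mulVec]
    exact W.add_mem hp hq
  | monomial k a =>
    rw [aeval_monomial, Matrix.algebraMap_eq_diagonal, ← Matrix.mulVec_mulVec]
    have h1 := hpow k w hw
    have h2 : (Matrix.diagonal ((algebraMap F (Fin n → F)) a)).mulVec ((A ^ k).mulVec w)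
        = a • (A ^ k).mulVec w := by
      funext j
      rw [Matrix.mulVec_diagonal]
      rfl
    rw [h2]
    exact W.smul_mem a h1

/-- an invariant totally isotropic subspace has zero coordinate at a separated diagonal entry -/
theorem d2b_coord_zero {n : ℕ} (q : ℕ) (D : Fin n → F) (W : Submodule F (Fin n → F))
    (hinv : W.map (Matrix.toLin' (Matrix.diagonal D)) ≤ W)
    (hiso : ∀ u ∈ W, ∀ v ∈ W, Cfsg.hermForm n F q u v = 0) (k₀ : Fin n)
    (hsep : ∀ k, k ≠ k₀ → D k ≠ D k₀) (w : Fin n → F) (hw : w ∈ W) : w k₀ = 0 := by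
  classical
  set f : F[X] := ∏ k ∈ Finset.univ.erase k₀, (X - C (D k)) with hf
  have hv := d2b_aeval_mem (Matrix.diagonal D) W hinv f w hw
  rw [d2b_aeval_diagonal] at hv
  set v := (Matrix.diagonal fun k => eval (D k) f).mulVec w with hvdef
  have hvk : ∀ k, v k = eval (D k) f * w k := fun k => Matrix.mulVec_diagonal _ _ _
  have hzero : ∀ k, k ≠ k₀ → v k = 0 := by
    intro k hk
    rw [hvk, hf, eval_prod,
      Finset.prod_eq_zero (Finset.mem_erase.mpr ⟨hk, Finset.mem_univ k⟩) (by simp), zero_mul]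
  have hc : eval (D k₀) f ≠ 0 := by
    rw [hf, eval_prod, Finset.prod_ne_zero_iff]
    intro k hk
    rw [eval_sub, eval_X, eval_C, sub_ne_zero]
    exact (hsep k (Finset.ne_of_mem_erase hk)).symm
  have h0 := hiso v hv v hv
  unfold Cfsg.hermForm at h0
  rw [Finset.sum_eq_single k₀ (fun k _ hk => by rw [hzero k hk, zero_mul])
    (fun h => absurd (Finset.mem_univ _) h)] at h0
  have h1 : v k₀ = 0 := by
    rcases mul_eq_zero.mp h0 with h | h
    · exact h
    · exact eq_zero_of_pow_eq_zero h
  rw [hvk] at h1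
  exact (mul_eq_zero.mp h1).resolve_left hc

/-- the coordinate subspace where the coordinates `k < c` vanish -/
def d2b_E (F : Type*) [Field F] (n c : ℕ) : Submodule F (Fin n → F) :=
  LinearMap.ker (LinearMap.funLeft F F (Subtype.val : {k : Fin n // (k : ℕ) < c} → Fin n))

theorem d2b_mem_E {n c : ℕ} (w : Fin n → F) :
    w ∈ d2b_E F n c ↔ ∀ k : Fin n, (k : ℕ) < c → w k = 0 := by
  unfold d2b_E
  rw [LinearMap.mem_ker]
  constructor
  · intro h k hk
    have := congrFun h ⟨k, hk⟩
    simpa [LinearMap.funLeft_apply] using this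
  · intro h
    funext k
    simpa [LinearMap.funLeft_apply] using h k.1 k.2

theorem d2b_finrank_E {n c : ℕ} (hc : c ≤ n) : finrank F ↥(d2b_E F n c) + c = n := by
  classical
  have h1 := LinearMap.finrank_range_add_finrank_ker
    (LinearMap.funLeft F F (Subtype.val : {k : Fin n // (k : ℕ) < c} → Fin n))
  have h2 : LinearMap.range
      (LinearMap.funLeft F F (Subtype.val : {k : Fin n // (k : ℕ) < c} → Fin n)) = ⊤ :=
    LinearMap.range_eq_top.mpr
      (LinearMap.funLeft_surjective_of_injective F F _ Subtype.val_injective)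
  rw [h2, finrank_top, Module.finrank_fintype_fun_eq_card, Module.finrank_fintype_fun_eq_card,
    Fintype.card_fin, Fintype.card_subtype, Fin.card_filter_val_lt, min_eq_right hc] at h1
  unfold d2b_E
  omega

end alg

section herm
variable {F : Type*} [Field F] [Fintype F] {q : ℕ}

theorem d2b_nondeg_E (hq : Fintype.card F = q ^ 2) (n c : ℕ) :
    HNondegOn (stdHerm hq n) (d2b_E F n c) := by
  classical
  intro x hx hxy
  funext k
  by_cases hk : (k : ℕ) < c
  · exact (d2b_mem_E x).mp hx k hk
  · have hmem : (Pi.single k 1 : Fin n → F) ∈ d2b_E F n c := by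
      rw [d2b_mem_E]
      intro j hj
      have : j ≠ k := by
        intro h
        rw [h] at hj
        exact hk hj
      rw [Pi.single_eq_of_ne this]
    have h1 := hxy _ hmem
    rw [stdHerm_apply] at h1
    unfold Cfsg.hermForm at h1
    rw [Finset.sum_eq_single k] at h1
    · simpa using h1
    · intro j _ hj
      have hq0 : q ≠ 0 := by
        rintro rfl
        have : 1 < Fintype.card F := Fintype.one_lt_card
        rw [hq] at this
        simp at this
      rw [Pi.single_eq_of_ne hj, zero_pow hq0, mul_zero]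
    · intro h
      exact absurd (Finset.mem_univ k) h

end herm

section top
variable {F : Type*} [Field F] [Fintype F] {p : ℕ} [Fact p.Prime] [CharP F p] {q : ℕ}

/-- TU-D2B. -/
theorem bad_diag (hq : Fintype.card F = q ^ 2) (r : ℕ) (hr : r.Prime) (hr2 : r ≠ 2) (hrp : r ≠ p)
    (n m : ℕ) (hn : 3 ≤ n) (hm : 1 ≤ m) (hmn : 2 * m ≤ n)
    (hi : orderOf (q : ZMod r) = 2) (h : n < r - 1 + 2 * m) :
    ∃ x : Matrix.SpecialLinearGroup (Fin n) F, IsBad n q m r x := by
  classical
  have hfact : Fact r.Prime := ⟨hr⟩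
  -- `r ∣ q + 1`
  have hrq : r ∣ q + 1 := by
    have h1 : (q : ZMod r) ^ 2 = 1 := by rw [← hi]; exact pow_orderOf_eq_one _
    have h2 : (q : ZMod r) ≠ 1 := by
      intro h1'
      rw [h1', orderOf_one] at hi
      omega
    have h3 : ((q : ZMod r) - 1) * ((q : ZMod r) + 1) = 0 := by linear_combination h1
    rcases mul_eq_zero.mp h3 with h4 | h4
    · exact absurd (sub_eq_zero.mp h4) h2
    · rw [← ZMod.natCast_eq_zero_iff]
      push_cast
      exact h4
  have hr3 : 3 ≤ r := by have := hr.two_le; omega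
  have hrodd : r % 2 = 1 := hr.eq_two_or_odd.resolve_left hr2
  -- a unit of order `r`
  have hcardU : r ∣ Nat.card Fˣ := by
    rw [Nat.card_units, Nat.card_eq_fintype_card, hq]
    have : q ^ 2 - 1 = (q + 1) * (q - 1) := by
      have := Nat.sq_sub_sq q 1
      rwa [one_pow] at this
    rw [this]
    exact Dvd.dvd.mul_right hrq _
  obtain ⟨ωu, hωu⟩ := exists_prime_orderOf_dvd_card' r hcardU
  set t := (n - 2 * m) / 2 + 1 with ht
  have h2t_n : 2 * t ≤ n := by omega
  have h2t_r : 2 * t < r := by omega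
  have h2t_m : n < 2 * t + 2 * m := by omega
  have ht1 : 1 ≤ t := by omega
  have hωq : ωu ^ (q + 1) = 1 := by
    obtain ⟨c, hc⟩ := hrq
    rw [hc, pow_mul, ← hωu, pow_orderOf_eq_one, one_pow]
  have hωr : ωu ^ r = 1 := by rw [← hωu, pow_orderOf_eq_one]
  set D : Fin n → F := fun k => ((ωu ^ d2b_e t k : Fˣ) : F) with hD
  have hDpow : ∀ (N : ℕ), ωu ^ N = 1 → ∀ k, D k ^ N = 1 := by
    intro N hN k
    simp only [hD]
    rw [← Units.val_pow_eq_pow_val, ← zpow_natCast, ← zpow_mul, mul_comm, zpow_mul, zpow_natCast,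
      hN, one_zpow, Units.val_one]
  have hDnorm : ∀ k, D k ^ (q + 1) = 1 := hDpow _ hωq
  have hDr : ∀ k, D k ^ r = 1 := hDpow _ hωr
  have hDsep : ∀ k k' : Fin n, (k : ℕ) < 2 * t → k ≠ k' → D k ≠ D k' := by
    intro k k' hk hne hD'
    have h1 : ωu ^ d2b_e t k = ωu ^ d2b_e t k' := Units.ext hD'
    exact d2b_zpow_ne ωu r t hωu h2t_r k k' hk (fun h => hne (Fin.ext h)) h1
  have hdet : (Matrix.diagonal D).det = 1 := by
    rw [Matrix.det_diagonal]
    simp only [hD]
    rw [← Units.coe_prod, d2b_prod_zpow, Fin.sum_univ_eq_sum_range (fun k => d2b_e t k) n,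
      d2b_sum t n h2t_n, zpow_zero, Units.val_one]
  let x : Matrix.SpecialLinearGroup (Fin n) F := ⟨Matrix.diagonal D, hdet⟩
  have hx : (x : Matrix (Fin n) (Fin n) F) = Matrix.diagonal D := rfl
  refine ⟨x, ?_, ?_, ?_, ?_⟩
  · -- in `SU`
    intro u v
    show Cfsg.hermForm n F q ((Matrix.diagonal D).mulVec u) ((Matrix.diagonal D).mulVec v)
      = Cfsg.hermForm n F q u v
    unfold Cfsg.hermForm
    apply Finset.sum_congr rfl
    intro k _
    rw [Matrix.mulVec_diagonal, Matrix.mulVec_diagonal]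
    have := hDnorm k
    linear_combination (u k * v k ^ q) * this
  · -- `x ^ r = 1`
    refine ⟨1, ?_⟩
    rw [Matrix.SpecialLinearGroup.coe_pow, hx, Matrix.diagonal_pow, one_smul]
    have : D ^ r = 1 := by
      funext k
      exact hDr k
    rw [this]
    exact Matrix.diagonal_one
  · -- not scalar
    intro z hz
    have hz' : Matrix.diagonal D = z • (1 : Matrix (Fin n) (Fin n) F) := hz
    have e0 := congrFun (congrFun hz' ⟨0, by omega⟩) ⟨0, by omega⟩
    have e1 := congrFun (congrFun hz' ⟨1, by omega⟩) ⟨1, by omega⟩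
    rw [Matrix.diagonal_apply_eq, Matrix.smul_apply, Matrix.one_apply_eq] at e0 e1
    refine hDsep ⟨0, by omega⟩ ⟨1, by omega⟩ (by show 0 < 2 * t; omega) ?_ (e0.trans e1.symm)
    intro h01
    have := congrArg Fin.val h01
    simp at this
  · -- fixes no totally isotropic `m`-space
    rintro ⟨W, hWm, hWiso, hWinv⟩
    have hWinv' : W.map (Matrix.toLin' (Matrix.diagonal D)) ≤ W := hWinv
    have hWE : W ≤ d2b_E F n (2 * t) := by
      intro w hw
      rw [d2b_mem_E]
      intro k hk
      exact d2b_coord_zero q D W hWinv' hWiso k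
        (fun k' hne => (hDsep k k' hk (Ne.symm hne)).symm) w hw
    have hhalf := finrank_isotropic_le (stdHerm_isHermitian hq n) (d2b_nondeg_E hq n (2 * t)) hWE
      (fun x hx y hy => hWiso x hx y hy)
    have hfin := d2b_finrank_E (F := F) h2t_n
    omega

end top

end Cfsg.Agent.Lib.Helper14.Tu
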