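import Mathlib
import Cfsg.Agent.Lib.Helper13.SubfieldB
import Cfsg.Agent.Lib.Helper13.UnitaryGen5
import Cfsg.Agent.Lib.Helper44.HermSpace

set_option autoImplicit false

/-!
Subfield groups of the special unitary group for subfields of odd prime index: field facts.
-/

namespace Cfsg.Agent.Lib.Helper13.USub

open Matrix Cfsg.Agent.Lib.Helper99 Cfsg.Agent.Lib.Helper13

section fld

variable {F : Type*} [Field F] [Fintype F]

/-- the chosen `Fintype` structure on a subfield -/
@[reducible] noncomputable def fintypeSub (F₀ : Subfield F) : Fintype ↥F₀ := Fintype.ofFinite _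

attribute [local instance] fintypeSub

theorem two_le_card_sub (F₀ : Subfield F) : 2 ≤ Nat.card F₀ := by
  rw [Nat.card_eq_fintype_card]
  exact Fintype.one_lt_card

theorem pow_card_of_mem (F₀ : Subfield F) {x : F} (hx : x ∈ F₀) : x ^ Nat.card F₀ = x := by
  have h := FiniteField.pow_card (⟨x, hx⟩ : F₀)
  rw [← Nat.card_eq_fintype_card] at h
  have h2 := congrArg (Subtype.val) h
  simpa using h2

theorem pow_card_pow_of_mem (F₀ : Subfield F) (k : ℕ) {x : F} (hx : x ∈ F₀) :
    x ^ (Nat.card F₀ ^ k) = x := by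
  induction k with
  | zero => simp
  | succ k ih => rw [pow_succ, pow_mul, ih, pow_card_of_mem F₀ hx]

theorem mem_of_pow_card (F₀ : Subfield F) {x : F} (hx : x ^ Nat.card F₀ = x) : x ∈ F₀ := by
  classical
  set Q := Nat.card F₀ with hQ
  have hq2 : 2 ≤ Q := two_le_card_sub F₀
  set p : Polynomial F := Polynomial.X ^ Q - Polynomial.X with hp
  have hdeg : p.natDegree = Q := FiniteField.X_pow_card_sub_X_natDegree_eq F (by omega)
  have hp0 : p ≠ 0 := by
    intro h0
    rw [h0, Polynomial.natDegree_zero] at hdeg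
    omega
  have hroot : ∀ y : F, y ^ Q = y → y ∈ p.roots.toFinset := by
    intro y hy
    rw [Multiset.mem_toFinset, Polynomial.mem_roots hp0, Polynomial.IsRoot, hp]
    simp [hy]
  set S : Finset F := (Finset.univ : Finset F₀).image Subtype.val with hS
  have hScard : S.card = Q := by
    rw [hS, Finset.card_image_of_injective _ Subtype.val_injective, Finset.card_univ,
      ← Nat.card_eq_fintype_card]
  have hsub : S ⊆ p.roots.toFinset := by
    intro y hy
    rw [hS, Finset.mem_image] at hy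
    obtain ⟨z, -, rfl⟩ := hy
    exact hroot _ (pow_card_of_mem F₀ z.2)
  have hle : p.roots.toFinset.card ≤ S.card := by
    rw [hScard]
    calc p.roots.toFinset.card ≤ Multiset.card p.roots := Multiset.toFinset_card_le _
      _ ≤ p.natDegree := Polynomial.card_roots' p
      _ = Q := hdeg
  have heq := Finset.eq_of_subset_of_card_le hsub hle
  have hx' := hroot x hx
  rw [← heq, hS, Finset.mem_image] at hx'
  obtain ⟨z, -, rfl⟩ := hx'
  exact z.2

variable {q r : ℕ}

/-- the arithmetic of the orders: `|F₀| = q₁²`, `q = q₁ ^ r`, and the two Frobenius maps agree on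
`F₀` -/
theorem exists_q1 (hF : Fintype.card F = q ^ 2) (F₀ : Subfield F) (hro : Odd r)
    (hcard : Fintype.card F = Nat.card F₀ ^ r) :
    ∃ q1 : ℕ, Nat.card F₀ = q1 ^ 2 ∧ q = q1 ^ r ∧ ∀ x ∈ F₀, x ^ q = x ^ q1 := by
  obtain ⟨k, rfl⟩ := hro
  set Q := Nat.card F₀ with hQ
  have hQ2 : 2 ≤ Q := two_le_card_sub F₀
  have h1 : q ^ 2 = (Q ^ k) ^ 2 * Q := by
    rw [← hF, hcard]
    ring
  have hdvd : Q ^ k ∣ q := by
    rw [← Nat.pow_dvd_pow_iff (n := 2) (by norm_num)]
    exact Dvd.intro _ h1.symm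
  obtain ⟨q1, rfl⟩ := hdvd
  have hpos : 0 < (Q ^ k) ^ 2 := by positivity
  have h2 : q1 ^ 2 = Q := by
    have : (Q ^ k) ^ 2 * q1 ^ 2 = (Q ^ k) ^ 2 * Q := by
      rw [← h1]
      ring
    exact Nat.eq_of_mul_eq_mul_left hpos this
  refine ⟨q1, h2.symm, ?_, ?_⟩
  · rw [← h2]
    ring
  · intro x hx
    rw [pow_mul, pow_card_pow_of_mem F₀ k hx]

theorem r_ge_three (hr : r.Prime) (hro : Odd r) : 3 ≤ r := by
  have h2 := hr.two_le
  rcases hro with ⟨k, rfl⟩
  by_contra h
  have : k = 0 := by omega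
  subst this
  exact Nat.not_prime_one hr

end fld

end Cfsg.Agent.Lib.Helper13.USub
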