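import Mathlib
import Cfsg.Agent.Lib.Helper13.USubA

set_option autoImplicit false
set_option linter.unusedSectionVars false
set_option linter.style.haveILetI false

/-!
Subfield groups of the special unitary group: the standard rational structure `F₀ⁿ ⊆ Fⁿ`,
membership criteria for the subfield group.
-/

namespace Cfsg.Agent.Lib.Helper13.USub

open Matrix Cfsg.Agent.Lib.Helper99 Cfsg.Agent.Lib.Helper13

attribute [local instance] fintypeSub

section crit

variable {F : Type*} [Field F] [Fintype F] {n : ℕ}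

/-- the Frobenius of the subfield is additive -/
theorem frobQ_add (F₀ : Subfield F) (a b : F) :
    (a + b) ^ Nat.card F₀ = a ^ Nat.card F₀ + b ^ Nat.card F₀ := by
  obtain ⟨p, hp⟩ := CharP.exists F
  haveI : Fact p.Prime := ⟨CharP.char_is_prime F p⟩
  haveI : CharP ↥F₀ p := (RingHom.charP_iff F₀.subtype F₀.subtype_injective p).mpr hp
  obtain ⟨k, -, hk⟩ := FiniteField.card ↥F₀ p
  rw [Nat.card_eq_fintype_card, hk]
  exact add_pow_char_pow a b p k

/-- the embedding of the rational general linear group -/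
noncomputable def emb (F₀ : Subfield F) (n : ℕ) : GL (Fin n) ↥F₀ →* GL (Fin n) F :=
  Matrix.GeneralLinearGroup.map (F₀.subtype : F₀ →+* F)

theorem emb_mulVec (F₀ : Subfield F) (g : GL (Fin n) ↥F₀) (u : Fin n → ↥F₀) :
    ((emb F₀ n g : GL (Fin n) F) : Matrix (Fin n) (Fin n) F) *ᵥ sfι F₀ u =
      sfι F₀ ((g : Matrix (Fin n) (Fin n) ↥F₀) *ᵥ u) :=
  map_mulVec_sfι F₀ (g : Matrix (Fin n) (Fin n) ↥F₀) u

/-- two invertible matrices agreeing on the rational vectors are equal -/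
theorem gl_ext_rat (F₀ : Subfield F) (g g' : GL (Fin n) F)
    (h : ∀ u : Fin n → ↥F₀, (g : Matrix (Fin n) (Fin n) F) *ᵥ sfι F₀ u =
      (g' : Matrix (Fin n) (Fin n) F) *ᵥ sfι F₀ u) : g = g' := by
  apply Units.ext
  ext i j
  have := congrFun (h (Pi.single j 1)) i
  rw [sfι_single, Matrix.mulVec_single_one, Matrix.mulVec_single_one] at this
  exact this

theorem mat_ext_rat (F₀ : Subfield F) (A B : Matrix (Fin n) (Fin n) F)
    (h : ∀ u : Fin n → ↥F₀, A *ᵥ sfι F₀ u = B *ᵥ sfι F₀ u) : A = B := by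
  ext i j
  have := congrFun (h (Pi.single j 1)) i
  rw [sfι_single, Matrix.mulVec_single_one, Matrix.mulVec_single_one] at this
  exact this

/-- the subfield group of the standard rational structure -/
theorem mem_sub_one_iff (F₀ : Subfield F) (g : GL (Fin n) F) :
    g ∈ Cfsg.Geo.subfieldSubgroup F₀ (1 : GL (Fin n) F) ↔
      ∃ (A₀ : GL (Fin n) ↥F₀) (c : Fˣ), ∀ x : Fin n → F,
        (g : Matrix (Fin n) (Fin n) F) *ᵥ x =
          (c : F) • (((emb F₀ n A₀ : GL (Fin n) F) : Matrix (Fin n) (Fin n) F) *ᵥ x) := by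
  unfold Cfsg.Geo.subfieldSubgroup
  constructor
  · intro hg
    obtain ⟨x, hx, rfl⟩ := Subgroup.mem_map.mp hg
    rw [Subgroup.mem_sup_of_normal_right] at hx
    obtain ⟨y, ⟨A₀, rfl⟩, z, hz, rfl⟩ := hx
    obtain ⟨c, hc⟩ := (Cfsg.Geo.mem_scalars_iff z).mp hz
    refine ⟨A₀, c, fun v => ?_⟩
    have e1 : ((MulAut.conj (1 : GL (Fin n) F)).toMonoidHom
        (Matrix.GeneralLinearGroup.map F₀.subtype A₀ * z) : GL (Fin n) F) =
        Matrix.GeneralLinearGroup.map F₀.subtype A₀ * z := by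
      show 1 * (Matrix.GeneralLinearGroup.map F₀.subtype A₀ * z) * 1⁻¹ = _
      group
    rw [e1, Units.val_mul, ← mulVec_mulVec, hc, smul_mulVec, one_mulVec, mulVec_smul]
    rfl
  · rintro ⟨A₀, c, h⟩
    let sc : GL (Fin n) F :=
      Units.map (Matrix.scalar (Fin n) : F →+* Matrix (Fin n) (Fin n) F).toMonoidHom c
    have hsc : (sc : Matrix (Fin n) (Fin n) F) = (c : F) • (1 : Matrix (Fin n) (Fin n) F) := by
      simp [sc, Matrix.smul_one_eq_diagonal]
    have hscmem : sc ∈ Cfsg.Geo.scalars (Fin n) F :=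
      (Cfsg.Geo.mem_scalars_iff sc).mpr ⟨c, hsc⟩
    have hmapmem : emb F₀ n A₀ ∈
        (Matrix.GeneralLinearGroup.map (F₀.subtype : F₀ →+* F)).range := ⟨A₀, rfl⟩
    have hprod : emb F₀ n A₀ * sc = g := by
      apply Units.ext
      rw [Matrix.ext_iff_mulVec]
      intro x
      rw [Units.val_mul, ← mulVec_mulVec, hsc, smul_mulVec, one_mulVec, mulVec_smul, h x]
    refine Subgroup.mem_map.mpr ⟨emb F₀ n A₀ * sc, Subgroup.mul_mem_sup hmapmem hscmem, ?_⟩
    rw [hprod]
    show 1 * g * 1⁻¹ = g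
    group

theorem emb_mem_sub (F₀ : Subfield F) (g : GL (Fin n) ↥F₀) :
    emb F₀ n g ∈ Cfsg.Geo.subfieldSubgroup F₀ (1 : GL (Fin n) F) :=
  (mem_sub_one_iff F₀ _).mpr ⟨g, 1, fun x => by rw [Units.val_one, one_smul]⟩

/-- Core: a matrix mapping every `F₀`-rational vector to a multiple of an `F₀`-rational vector is a
scalar times an `F₀`-rational matrix (any subfield). -/
theorem exists_scalar_rational' (F₀ : Subfield F) (hn : 0 < n) (A : GL (Fin n) F)
    (h : ∀ u : Fin n → F₀, ∃ (l : F) (w : Fin n → F₀),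
      (A : Matrix (Fin n) (Fin n) F) *ᵥ sfι F₀ u = l • sfι F₀ w) :
    ∃ l : F, l ≠ 0 ∧ ∀ k i, l⁻¹ * (A : Matrix (Fin n) (Fin n) F) k i ∈ F₀ := by
  classical
  set Q := Nat.card F₀ with hQ
  have hQ2 : 2 ≤ Q := two_le_card_sub F₀
  -- Frobenius eigen-property
  have hfrob : ∀ u : Fin n → F₀, ∃ μ : F, ∀ k,
      (((A : Matrix (Fin n) (Fin n) F) *ᵥ sfι F₀ u) k) ^ Q =
        μ * ((A : Matrix (Fin n) (Fin n) F) *ᵥ sfι F₀ u) k := by
    intro u
    obtain ⟨l, w, hlw⟩ := h u
    by_cases hl : l = 0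
    · refine ⟨1, fun k => ?_⟩
      rw [hlw, hl, zero_smul, Pi.zero_apply, zero_pow (by omega), mul_zero]
    · refine ⟨l ^ Q / l, fun k => ?_⟩
      rw [hlw, Pi.smul_apply, smul_eq_mul, mul_pow]
      have hw : (sfι F₀ w k) ^ Q = sfι F₀ w k := pow_card_of_mem F₀ (w k).2
      rw [hw]
      field_simp
  -- columns
  have hcol : ∀ i : Fin n, ∃ μ : F, ∀ k, ((A : Matrix (Fin n) (Fin n) F) k i) ^ Q =
      μ * (A : Matrix (Fin n) (Fin n) F) k i := by
    intro i
    obtain ⟨μ, hμ⟩ := hfrob (Pi.single i 1)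
    refine ⟨μ, fun k => ?_⟩
    have := hμ k
    rw [sfι_single, Matrix.mulVec_single_one] at this
    exact this
  choose μ hμ using hcol
  have hinj : ∀ x : Fin n → F, (A : Matrix (Fin n) (Fin n) F) *ᵥ x = 0 → x = 0 := by
    intro x hx
    have := congrArg (fun y => ((A⁻¹ : GL (Fin n) F) : Matrix (Fin n) (Fin n) F) *ᵥ y) hx
    simp only [gl_inv_mulVec_mulVec, mulVec_zero] at this
    exact this
  have hμeq : ∀ i j : Fin n, μ i = μ j := by
    intro i j
    by_cases hij : i = j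
    · rw [hij]
    obtain ⟨ν, hν⟩ := hfrob (Pi.single i 1 + Pi.single j 1)
    have hsum : ∀ k, ((A : Matrix (Fin n) (Fin n) F) *ᵥ
        sfι F₀ (Pi.single i 1 + Pi.single j 1)) k =
        (A : Matrix (Fin n) (Fin n) F) k i + (A : Matrix (Fin n) (Fin n) F) k j := by
      intro k
      rw [sfι_add, sfι_single, sfι_single, mulVec_add, Matrix.mulVec_single_one,
        Matrix.mulVec_single_one]
      rfl
    have hz : (A : Matrix (Fin n) (Fin n) F) *ᵥ
        ((μ i - ν) • Pi.single i (1 : F) + (μ j - ν) • Pi.single j (1 : F)) = 0 := by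
      funext k
      rw [mulVec_add, mulVec_smul, mulVec_smul, Matrix.mulVec_single_one,
        Matrix.mulVec_single_one]
      have h1 := hν k
      rw [hsum k, frobQ_add F₀, hμ i k, hμ j k] at h1
      simp only [Pi.add_apply, Pi.smul_apply, smul_eq_mul, Pi.zero_apply, Matrix.col_apply]
      linear_combination h1
    have h0 := hinj _ hz
    have hi := congrFun h0 i
    have hj := congrFun h0 j
    simp only [Pi.add_apply, Pi.smul_apply, smul_eq_mul, Pi.zero_apply, Pi.single_eq_same,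
      Pi.single_eq_of_ne hij, Pi.single_eq_of_ne (Ne.symm hij), mul_one, mul_zero, add_zero,
      zero_add] at hi hj
    rw [sub_eq_zero.mp hi, sub_eq_zero.mp hj]
  let i₀ : Fin n := ⟨0, hn⟩
  have hall : ∀ k i, ((A : Matrix (Fin n) (Fin n) F) k i) ^ Q =
      μ i₀ * (A : Matrix (Fin n) (Fin n) F) k i := by
    intro k i
    rw [hμ i k, hμeq i i₀]
  -- a nonzero entry
  obtain ⟨k₀, hk₀⟩ : ∃ k₀, (A : Matrix (Fin n) (Fin n) F) k₀ i₀ ≠ 0 := by
    by_contra hcon
    push Not at hcon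
    have hz : (A : Matrix (Fin n) (Fin n) F) *ᵥ Pi.single i₀ (1 : F) = 0 := by
      funext k
      rw [Matrix.mulVec_single_one]
      exact hcon k
    have := congrFun (hinj _ hz) i₀
    simp at this
  refine ⟨(A : Matrix (Fin n) (Fin n) F) k₀ i₀, hk₀, fun k i => ?_⟩
  apply mem_of_pow_card F₀
  set l := (A : Matrix (Fin n) (Fin n) F) k₀ i₀ with hl
  have hlq : l ^ Q = μ i₀ * l := hall k₀ i₀
  have hμ0 : μ i₀ ≠ 0 := by
    intro h0
    rw [h0, zero_mul] at hlq
    exact hk₀ (pow_eq_zero_iff (by omega) |>.mp hlq)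
  rw [mul_pow, inv_pow, hlq, hall k i]
  field_simp

/-- An invertible matrix mapping every rational vector to a multiple of a rational vector lies in
the subfield group. -/
theorem mem_sub_of_forall (F₀ : Subfield F) (hn : 0 < n) (g : GL (Fin n) F)
    (h : ∀ u : Fin n → F₀, ∃ (l : F) (w : Fin n → F₀),
      (g : Matrix (Fin n) (Fin n) F) *ᵥ sfι F₀ u = l • sfι F₀ w) :
    g ∈ Cfsg.Geo.subfieldSubgroup F₀ (1 : GL (Fin n) F) := by
  classical
  obtain ⟨l, hl0, hl⟩ := exists_scalar_rational' F₀ hn g h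
  let A₀ : Matrix (Fin n) (Fin n) F₀ := fun k i => ⟨l⁻¹ * (g : Matrix (Fin n) (Fin n) F) k i, hl k i⟩
  have hmap : A₀.map F₀.subtype = l⁻¹ • (g : Matrix (Fin n) (Fin n) F) := by
    ext k i
    rfl
  have hdetA : (g : Matrix (Fin n) (Fin n) F).det ≠ 0 := by
    have := (Matrix.GeneralLinearGroup.det g).ne_zero
    simpa using this
  have hdet : A₀.det ≠ 0 := by
    intro h0
    have h1 : (A₀.map F₀.subtype).det = 0 := by
      have := RingHom.map_det F₀.subtype A₀
      rw [RingHom.mapMatrix_apply] at this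
      rw [← this, h0, map_zero]
    rw [hmap, Matrix.det_smul] at h1
    rcases mul_eq_zero.mp h1 with h2 | h2
    · exact inv_ne_zero hl0 (pow_eq_zero_iff (Nat.pos_iff_ne_zero.mp (by simpa using hn)) |>.mp h2)
    · exact hdetA h2
  let A₀' : GL (Fin n) F₀ := Matrix.GeneralLinearGroup.mkOfDetNeZero A₀ hdet
  rw [mem_sub_one_iff]
  refine ⟨A₀', Units.mk0 l hl0, fun x => ?_⟩
  have : ((emb F₀ n A₀' : GL (Fin n) F) : Matrix (Fin n) (Fin n) F) = A₀.map F₀.subtype := rfl
  rw [this, hmap, smul_mulVec, smul_smul]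
  show _ = (l * l⁻¹) • _
  rw [mul_inv_cancel₀ hl0, one_smul]

/-- elements of the subfield group map rational vectors to multiples of rational vectors -/
theorem forall_of_mem_sub (F₀ : Subfield F) (g : GL (Fin n) F)
    (hg : g ∈ Cfsg.Geo.subfieldSubgroup F₀ (1 : GL (Fin n) F)) :
    ∃ (c : F) (A₀ : GL (Fin n) ↥F₀), c ≠ 0 ∧ ∀ u : Fin n → ↥F₀,
      (g : Matrix (Fin n) (Fin n) F) *ᵥ sfι F₀ u =
        c • sfι F₀ ((A₀ : Matrix (Fin n) (Fin n) ↥F₀) *ᵥ u) := by
  obtain ⟨A₀, c, h⟩ := (mem_sub_one_iff F₀ g).mp hg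
  refine ⟨c, A₀, c.ne_zero, fun u => ?_⟩
  rw [h, emb_mulVec]

end crit

end Cfsg.Agent.Lib.Helper13.USub
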