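import Mathlib
import Cfsg.Agent.Lib.Helper13.USubB

set_option autoImplicit false
set_option linter.unusedSectionVars false
set_option linter.style.haveILetI false

/-!
Subfield groups of the special unitary group: the hermitian form on the standard rational
structure, rational transvections and transitivity of the subfield group.
-/

namespace Cfsg.Agent.Lib.Helper13.USub

open Matrix Cfsg.Agent.Lib.Helper99 Cfsg.Agent.Lib.Helper13

attribute [local instance] fintypeSub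

section std

variable {F : Type*} [Field F] [Fintype F] {q q1 n : ℕ}
variable (hF : Fintype.card F = q ^ 2) (F₀ : Subfield F)
variable (hQ : Nat.card F₀ = q1 ^ 2) (hfix : ∀ x ∈ F₀, x ^ q = x ^ q1)

local notation "hh" => Cfsg.hermForm n F q
local notation "kk" => Cfsg.hermForm n F₀ q1

include hQ in
theorem card_K : Fintype.card ↥F₀ = q1 ^ 2 := by
  rw [← Nat.card_eq_fintype_card]
  exact hQ

include hfix in
theorem hh_sfι (u v : Fin n → ↥F₀) : hh (sfι F₀ u) (sfι F₀ v) = ((kk u v : ↥F₀) : F) := by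
  unfold Cfsg.hermForm sfι
  push_cast
  refine Finset.sum_congr rfl fun i _ => ?_
  rw [hfix _ (v i).2]

include hfix in
theorem hh_sfι_mem (u v : Fin n → ↥F₀) : hh (sfι F₀ u) (sfι F₀ v) ∈ F₀ := by
  rw [hh_sfι F₀ hfix]
  exact (kk u v).2

include hfix in
theorem hh_sfι_eq_zero_iff (u v : Fin n → ↥F₀) : hh (sfι F₀ u) (sfι F₀ v) = 0 ↔ kk u v = 0 := by
  rw [hh_sfι F₀ hfix]
  exact ⟨fun h => Subtype.ext h, fun h => by rw [h]; rfl⟩

include hfix in
theorem coe_pow_q (c : ↥F₀) : ((c : F)) ^ q = ((c ^ q1 : ↥F₀) : F) := by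
  rw [hfix _ c.2]
  rfl

include hQ hfix in
theorem exists_c0 : ∃ c₀ : ↥F₀, c₀ ≠ 0 ∧ c₀ + c₀ ^ q1 = 0 ∧ (c₀ : F) + (c₀ : F) ^ q = 0 := by
  obtain ⟨τ, hτ0, hτ⟩ := exists_trace_zero (card_K F₀ hQ)
  refine ⟨τ, hτ0, hτ, ?_⟩
  rw [coe_pow_q F₀ hfix]
  exact_mod_cast congrArg Subtype.val hτ

include hQ hfix in
theorem exists_theta : ∃ θ : ↥F₀, (θ : F) ^ q ≠ θ := by
  obtain ⟨a, ha⟩ := exists_pow_q_ne (card_K F₀ hQ)
  refine ⟨a, fun h => ha ?_⟩
  rw [coe_pow_q F₀ hfix] at h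
  exact Subtype.ext h

include hF hQ hfix in
/-- the `θ`-trick -/
theorem mem_of_theta (a : F) (h : ∀ θ ∈ F₀, θ * a - θ ^ q * a ^ q ∈ F₀) : a ∈ F₀ := by
  obtain ⟨θ, hθ⟩ := exists_theta F₀ hQ hfix
  have h1 := h 1 F₀.one_mem
  rw [one_mul, one_pow, one_mul] at h1
  have h2 := h θ θ.2
  have hθq : (θ : F) ^ q ∈ F₀ := pow_mem θ.2 q
  have h3 : ((θ : F) ^ q - θ) * a ∈ F₀ := by
    have : ((θ : F) ^ q - θ) * a = (θ : F) ^ q * (a - a ^ q) - (θ * a - (θ : F) ^ q * a ^ q) := by ring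
    rw [this]
    exact F₀.sub_mem (F₀.mul_mem hθq h1) h2
  have hne : (θ : F) ^ q - θ ≠ 0 := sub_ne_zero.mpr hθ
  have h4 : a = ((θ : F) ^ q - θ)⁻¹ * (((θ : F) ^ q - θ) * a) := by
    rw [← mul_assoc, inv_mul_cancel₀ hne, one_mul]
  rw [h4]
  exact F₀.mul_mem (F₀.inv_mem (F₀.sub_mem hθq θ.2)) h3

include hF hQ hfix in
/-- second form of the `θ`-trick -/
theorem mem_of_theta' (z : F) (h : ∀ θ ∈ F₀, θ ^ q * z - θ * z ^ q ∈ F₀) : z ∈ F₀ := by
  apply mem_of_theta hF F₀ hQ hfix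
  intro θ hθ
  have := h (θ ^ q) (pow_mem hθ q)
  rw [pow_q_pow_q hF] at this
  exact this

include hQ hfix in
/-- rational solutions of the trace equation -/
theorem exists_rat_trace (k : F) (hk : k ∈ F₀) (hkq : k ^ q = k) :
    ∃ b : ↥F₀, (b : F) + (b : F) ^ q = k := by
  have h1 : (⟨k, hk⟩ : ↥F₀) ^ q1 = ⟨k, hk⟩ := by
    apply Subtype.ext
    show k ^ q1 = k
    rw [← hfix k hk, hkq]
  obtain ⟨c, hc⟩ := exists_trace_eq' (card_K F₀ hQ) (⟨k, hk⟩ : ↥F₀) h1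
  refine ⟨c, ?_⟩
  rw [coe_pow_q F₀ hfix]
  have := congrArg Subtype.val hc
  exact this

include hfix in
theorem emb_utv (u : Fin n → ↥F₀) (hu : kk u u = 0) (c : ↥F₀) :
    emb F₀ n (utv q1 u c) = utv q (sfι F₀ u) (c : F) := by
  have hu' : hh (sfι F₀ u) (sfι F₀ u) = 0 := (hh_sfι_eq_zero_iff F₀ hfix u u).mpr hu
  apply gl_ext_rat F₀
  intro x
  rw [emb_mulVec, utv_mulVec u hu, utv_mulVec _ hu', sfι_add, sfι_smul, hh_sfι F₀ hfix]
  rfl

/-- the subfield group inside the special unitary group, standard rational structure -/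
def Hs (F₀ : Subfield F) (n q : ℕ) : Subgroup (GL (Fin n) F) :=
  Cfsg.Geo.subfieldSubgroup F₀ (1 : GL (Fin n) F) ⊓ suGL (F := F) n q

include hF hQ hfix in
theorem emb_utvGroup_mem (g : GL (Fin n) ↥F₀) (hg : g ∈ utvGroup n q1 ↥F₀) :
    emb F₀ n g ∈ Hs F₀ n q := by
  refine ⟨emb_mem_sub F₀ g, ?_⟩
  unfold utvGroup at hg
  induction hg using Subgroup.closure_induction with
  | mem x hx =>
    obtain ⟨u, c, hu, hc, rfl⟩ := hx
    rw [emb_utv F₀ hfix u hu]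
    apply utv_mem_suGL hF _ ((hh_sfι_eq_zero_iff F₀ hfix u u).mpr hu)
    rw [coe_pow_q F₀ hfix]
    exact_mod_cast congrArg Subtype.val hc
  | one => rw [map_one]; exact Subgroup.one_mem _
  | mul x y _ _ hx hy => rw [map_mul]; exact Subgroup.mul_mem _ hx hy
  | inv x _ hx => rw [map_inv]; exact Subgroup.inv_mem _ hx

include hF hQ hfix in
/-- rational transvections lie in the subfield group -/
theorem utv_rat_mem (u : Fin n → ↥F₀) (hu : kk u u = 0) (c : ↥F₀) (hc : c + c ^ q1 = 0) :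
    utv q (sfι F₀ u) (c : F) ∈ Hs F₀ n q := by
  rw [← emb_utv F₀ hfix u hu]
  exact emb_utvGroup_mem hF F₀ hQ hfix _ (utv_mem_utvGroup u hu c hc)

include hF hQ hfix in
/-- the subfield group is transitive on non-zero rational isotropic vectors -/
theorem exists_Hs_map (hn : 3 ≤ n) (u v : Fin n → ↥F₀) (hu0 : u ≠ 0) (hv0 : v ≠ 0)
    (hu : kk u u = 0) (hv : kk v v = 0) :
    ∃ x ∈ Hs F₀ n q, (x : Matrix (Fin n) (Fin n) F) *ᵥ sfι F₀ u = sfι F₀ v := by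
  obtain ⟨t, ht, htu⟩ := utv_transitive_isotropic (card_K F₀ hQ) hn u v hu0 hv0 hu hv
  refine ⟨emb F₀ n t, emb_utvGroup_mem hF F₀ hQ hfix t ht, ?_⟩
  rw [emb_mulVec, htu]

include hF hQ hfix in
/-- the subfield group is transitive on rational hyperbolic pairs -/
theorem exists_Hs_map_pair (hn : 4 ≤ n) (e f e' f' : Fin n → ↥F₀)
    (hee : kk e e = 0) (hff : kk f f = 0) (hfe : kk f e = 1)
    (he'e' : kk e' e' = 0) (hf'f' : kk f' f' = 0) (hf'e' : kk f' e' = 1) :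
    ∃ x ∈ Hs F₀ n q, (x : Matrix (Fin n) (Fin n) F) *ᵥ sfι F₀ e = sfι F₀ e' ∧
      (x : Matrix (Fin n) (Fin n) F) *ᵥ sfι F₀ f = sfι F₀ f' := by
  obtain ⟨t, ht, hte, htf⟩ := utv_transitive_hyp (card_K F₀ hQ) hn e f e' f' hee hff hfe
    he'e' hf'f' hf'e'
  refine ⟨emb F₀ n t, emb_utvGroup_mem hF F₀ hQ hfix t ht, ?_, ?_⟩
  · rw [emb_mulVec, hte]
  · rw [emb_mulVec, htf]

end std

end Cfsg.Agent.Lib.Helper13.USub
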