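import Mathlib
import Cfsg.Agent.Lib.Helper13.USubC

set_option autoImplicit false
set_option linter.unusedSectionVars false
set_option linter.style.haveILetI false

/-!
Hermitian spaces over a finite field: isotropic vectors in subspaces of dimension at least two;
rational functionals.
-/

namespace Cfsg.Agent.Lib.Helper13.USub

open Matrix Module Cfsg.Agent.Lib.Helper99 Cfsg.Agent.Lib.Helper13

section iso

variable {K : Type*} [Field K] [Fintype K] {q n : ℕ}

local notation "hh" => Cfsg.hermForm n K q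

/-- every subspace of dimension at least two contains a non-zero isotropic vector -/
theorem exists_iso_in_sub (hK : Fintype.card K = q ^ 2) (W : Submodule K (Fin n → K))
    (hW : 2 ≤ finrank K W) : ∃ z ∈ W, z ≠ 0 ∧ hh z z = 0 := by
  have hq2 := two_le_q hK
  have hpos : 0 < finrank K W := by omega
  obtain ⟨z₁, hz₁⟩ := (Module.finrank_pos_iff_exists_ne_zero (R := K) (M := W)).mp hpos
  obtain ⟨z₂, hind⟩ := exists_linearIndependent_pair_of_one_lt_finrank (R := K) (by omega) hz₁
  rw [LinearIndependent.pair_iff] at hind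
  have hz₁0 : (z₁ : Fin n → K) ≠ 0 := fun h => hz₁ (Subtype.ext h)
  by_cases h1 : hh z₁ z₁ = 0
  · exact ⟨z₁, z₁.2, hz₁0, h1⟩
  set ν := hh (z₁ : Fin n → K) z₁ with hν
  have hνq : ν ^ q = ν := hermForm_self_pow hK _
  set a : K := hh (z₂ : Fin n → K) z₁ / ν with ha
  set y : Fin n → K := (z₂ : Fin n → K) - a • (z₁ : Fin n → K) with hy
  have hyW : y ∈ W := W.sub_mem z₂.2 (W.smul_mem _ z₁.2)
  have hy0 : y ≠ 0 := by
    intro h0
    have h2 : (-a) • z₁ + (1 : K) • z₂ = 0 := by
      apply Subtype.ext
      rw [Submodule.coe_add, Submodule.coe_smul, Submodule.coe_smul, Submodule.coe_zero, ← h0, hy]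
      module
    exact one_ne_zero (hind _ _ h2).2
  have hyz : hh y z₁ = 0 := by
    rw [hy, hermForm_sub_left, hermForm_smul_left, ← hν, ha, div_mul_cancel₀ _ h1, sub_self]
  have hzy : hh z₁ y = 0 := hermForm_eq_zero_comm hK hyz
  by_cases h2 : hh y y = 0
  · exact ⟨y, hyW, hy0, h2⟩
  set μ := hh y y with hμ
  have hμq : μ ^ q = μ := hermForm_self_pow hK _
  have hne : -μ / ν ≠ 0 := div_ne_zero (neg_ne_zero.mpr h2) h1
  have hfixd : (-μ / ν) ^ q = -μ / ν := by
    rw [div_pow, frob_neg hK, hμq, hνq]
  obtain ⟨c, hc⟩ := Cfsg.Agent.Lib.Helper44.exists_norm_eq hK (-μ / ν) hne hfixd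
  refine ⟨y + c • (z₁ : Fin n → K), W.add_mem hyW (W.smul_mem _ z₁.2), ?_, ?_⟩
  · intro h0
    have h3 : (c - a) • z₁ + (1 : K) • z₂ = 0 := by
      apply Subtype.ext
      rw [Submodule.coe_add, Submodule.coe_smul, Submodule.coe_smul, Submodule.coe_zero, ← h0, hy]
      module
    exact one_ne_zero (hind _ _ h3).2
  · rw [hermForm_add_left, hermForm_add_right hK, hermForm_add_right hK, hermForm_smul_left,
      hermForm_smul_left, hermForm_smul_right, hermForm_smul_right, ← hμ, ← hν, hyz, hzy]
    have : c * (c ^ q * ν) = c ^ (q + 1) * ν := by ring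
    rw [mul_zero, mul_zero, add_zero, zero_add, this, hc, div_mul_cancel₀ _ h1]
    ring

/-- a non-zero isotropic vector orthogonal to `m` given vectors, `m + 2 ≤ n` -/
theorem exists_iso_perp (hK : Fintype.card K = q ^ 2) {m : ℕ} (hm : m + 2 ≤ n)
    (a : Fin m → (Fin n → K)) : ∃ z : Fin n → K, z ≠ 0 ∧ hh z z = 0 ∧ ∀ i, hh z (a i) = 0 := by
  let L : (Fin n → K) →ₗ[K] (Fin m → K) :=
    { toFun := fun z i => hh z (a i)
      map_add' := fun x y => by funext i; exact hermForm_add_left n q x y (a i)
      map_smul' := fun c x => by funext i; exact hermForm_smul_left n q c x (a i) }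
  have h1 := LinearMap.finrank_range_add_finrank_ker L
  have h2 : finrank K (LinearMap.range L) ≤ m := by
    have := Submodule.finrank_le (LinearMap.range L)
    rwa [Module.finrank_fin_fun] at this
  rw [Module.finrank_fin_fun] at h1
  obtain ⟨z, hz, hz0, hzz⟩ := exists_iso_in_sub hK (LinearMap.ker L) (by omega)
  refine ⟨z, hz0, hzz, fun i => ?_⟩
  have := LinearMap.mem_ker.mp hz
  exact congrFun this i

end iso

section dual

variable {F : Type*} [Field F] {n : ℕ}

/-- the `F`-linear extension of a rational functional -/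
def extD (F₀ : Subfield F) (f : Module.Dual F₀ (Fin n → F₀)) (v : Fin n → F) : F :=
  ∑ i, (f (Pi.single i 1) : F) * v i

theorem extD_add (F₀ : Subfield F) (f : Module.Dual F₀ (Fin n → F₀)) (v w : Fin n → F) :
    extD F₀ f (v + w) = extD F₀ f v + extD F₀ f w := by
  unfold extD
  rw [← Finset.sum_add_distrib]
  exact Finset.sum_congr rfl fun i _ => by rw [Pi.add_apply]; ring

theorem extD_smul (F₀ : Subfield F) (f : Module.Dual F₀ (Fin n → F₀)) (c : F) (v : Fin n → F) :
    extD F₀ f (c • v) = c * extD F₀ f v := by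
  unfold extD
  rw [Finset.mul_sum]
  exact Finset.sum_congr rfl fun i _ => by rw [Pi.smul_apply, smul_eq_mul]; ring

theorem extD_sfι (F₀ : Subfield F) (f : Module.Dual F₀ (Fin n → F₀)) (x : Fin n → F₀) :
    extD F₀ f (sfι F₀ x) = ((f x : F₀) : F) := by
  have hx : x = ∑ i, x i • (Pi.single i 1 : Fin n → F₀) := by
    funext j
    simp [Finset.sum_apply, Pi.single_apply]
  conv_rhs => rw [hx]
  rw [map_sum]
  unfold extD sfι
  push_cast
  refine Finset.sum_congr rfl fun i _ => ?_
  rw [map_smul, smul_eq_mul]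
  push_cast
  ring

/-- a rational functional vanishing on two vectors but not on a third one outside their span -/
theorem exists_dual_sep (F₀ : Subfield F) (u u' x : Fin n → F₀)
    (hx : x ∉ Submodule.span F₀ {u, u'}) :
    ∃ f : Module.Dual F₀ (Fin n → F₀), f x ≠ 0 ∧ f u = 0 ∧ f u' = 0 := by
  obtain ⟨f, hf, hmap⟩ := Submodule.exists_dual_map_eq_bot_of_notMem hx inferInstance
  refine ⟨f, hf, ?_, ?_⟩
  · have : f u ∈ (Submodule.span F₀ {u, u'}).map f :=
      Submodule.mem_map_of_mem (Submodule.subset_span (by simp))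
    rw [hmap] at this
    exact (Submodule.mem_bot _).mp this
  · have : f u' ∈ (Submodule.span F₀ {u, u'}).map f :=
      Submodule.mem_map_of_mem (Submodule.subset_span (by simp))
    rw [hmap] at this
    exact (Submodule.mem_bot _).mp this

end dual

end Cfsg.Agent.Lib.Helper13.USub
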