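import Mathlib
import Cfsg.Agent.Lib.Helper13.USubD

set_option autoImplicit false
set_option linter.unusedSectionVars false
set_option linter.style.haveILetI false

/-!
Subfield groups of the special unitary group: the Sylow argument for two transvections.
-/

namespace Cfsg.Agent.Lib.Helper13.USub

open Matrix Module Cfsg.Agent.Lib.Helper99 Cfsg.Agent.Lib.Helper13

attribute [local instance] fintypeSub

/-- two elements of order `p` of a finite group: some conjugate of the first one, by an element of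
the subgroup they generate, generates a `p`-group together with the second one -/
theorem exists_conj_pow_eq_one {G : Type*} [Group G] [Finite G] (p : ℕ) [Fact p.Prime]
    (T T' : G) (hTp : T ^ p = 1) (hT'p : T' ^ p = 1) :
    ∃ d ∈ Subgroup.closure ({T, T'} : Set G), ∃ k : ℕ, (T' * (d * T * d⁻¹)) ^ (p ^ k) = 1 := by
  set L := Subgroup.closure ({T, T'} : Set G) with hL
  have hTL : T ∈ L := Subgroup.subset_closure (by simp)
  have hT'L : T' ∈ L := Subgroup.subset_closure (by simp)
  let t : L := ⟨T, hTL⟩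
  let t' : L := ⟨T', hT'L⟩
  have ht : t ^ p = 1 := Subtype.ext (by simpa using hTp)
  have ht' : t' ^ p = 1 := Subtype.ext (by simpa using hT'p)
  have hP : ∀ s : L, s ^ p = 1 → IsPGroup p (Subgroup.zpowers s) := by
    rintro s hs ⟨x, hx⟩
    obtain ⟨j, rfl⟩ := Subgroup.mem_zpowers_iff.mp hx
    refine ⟨1, Subtype.ext ?_⟩
    simp only [pow_one, Subgroup.coe_pow, Subgroup.coe_one]
    rw [← zpow_natCast, ← _root_.zpow_mul, mul_comm, _root_.zpow_mul, zpow_natCast, hs, _root_.one_zpow]
  obtain ⟨Q₁, hQ₁⟩ := (hP t ht).exists_le_sylow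
  obtain ⟨Q₂, hQ₂⟩ := (hP t' ht').exists_le_sylow
  obtain ⟨d, hd⟩ := MulAction.exists_smul_eq L Q₁ Q₂
  have h1 : t ∈ (Q₁ : Subgroup L) := hQ₁ (Subgroup.mem_zpowers t)
  have h2 : t' ∈ (Q₂ : Subgroup L) := hQ₂ (Subgroup.mem_zpowers t')
  have h3 : d * t * d⁻¹ ∈ (Q₂ : Subgroup L) := by
    rw [← hd, Sylow.coe_subgroup_smul]
    have := Subgroup.smul_mem_pointwise_smul t (MulAut.conj d) (Q₁ : Subgroup L) h1
    simpa [MulAut.smul_def] using this
  obtain ⟨k, hk⟩ := Q₂.isPGroup' ⟨t' * (d * t * d⁻¹), Subgroup.mul_mem _ h2 h3⟩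
  refine ⟨d, d.2, k, ?_⟩
  have := congrArg (fun z : (Q₂ : Subgroup L) => ((z : L) : G)) hk
  simpa using this

section plane

variable {F : Type*} [Field F] {n : ℕ}

/-- `g` acts trivially modulo the plane `⟨u, w⟩` -/
def InPlane (u w : Fin n → F) (g : GL (Fin n) F) : Prop :=
  ∀ x : Fin n → F, ∃ a b : F, (g : Matrix (Fin n) (Fin n) F) *ᵥ x = x + a • u + b • w

theorem inPlane_one (u w : Fin n → F) : InPlane u w 1 := fun x =>
  ⟨0, 0, by rw [Units.val_one, one_mulVec, zero_smul, zero_smul, add_zero, add_zero]⟩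

theorem inPlane_mul (u w : Fin n → F) (g g' : GL (Fin n) F) (hg : InPlane u w g)
    (hg' : InPlane u w g') : InPlane u w (g * g') := by
  intro x
  obtain ⟨a', b', h'⟩ := hg' x
  obtain ⟨a, b, h⟩ := hg ((g' : Matrix (Fin n) (Fin n) F) *ᵥ x)
  refine ⟨a + a', b + b', ?_⟩
  rw [Units.val_mul, ← mulVec_mulVec, h, h']
  module

theorem inPlane_inv (u w : Fin n → F) (g : GL (Fin n) F) (hg : InPlane u w g) :
    InPlane u w g⁻¹ := by
  intro x
  obtain ⟨a, b, h⟩ := hg (((g⁻¹ : GL (Fin n) F) : Matrix (Fin n) (Fin n) F) *ᵥ x)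
  rw [gl_mulVec_inv_mulVec] at h
  refine ⟨-a, -b, ?_⟩
  conv_rhs => rw [h]
  module

theorem inPlane_closure (u w : Fin n → F) (S : Set (GL (Fin n) F)) (hS : ∀ g ∈ S, InPlane u w g)
    (g : GL (Fin n) F) (hg : g ∈ Subgroup.closure S) : InPlane u w g := by
  induction hg using Subgroup.closure_induction with
  | mem x hx => exact hS x hx
  | one => exact inPlane_one u w
  | mul x y _ _ hx hy => exact inPlane_mul u w x y hx hy
  | inv x _ hx => exact inPlane_inv u w x hx

end plane

section unip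

variable {F : Type*} [Field F] [Fintype F] {q n : ℕ}

local notation "hh" => Cfsg.hermForm n F q

theorem inPlane_utv_left (u w : Fin n → F) (hu : hh u u = 0) (c : F) :
    InPlane u w (utv q u c) := fun x =>
  ⟨c * hh x u, 0, by rw [utv_mulVec u hu, zero_smul, add_zero]⟩

theorem inPlane_utv_right (u w : Fin n → F) (hw : hh w w = 0) (c : F) :
    InPlane u w (utv q w c) := fun x =>
  ⟨0, c * hh x w, by rw [utv_mulVec w hw, zero_smul, add_zero]⟩

/-- if the product of two transvections has `p`-power order then their centres are orthogonal -/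
theorem hh_eq_zero_of_pow (hF : Fintype.card F = q ^ 2) (hn : 0 < n) (p k : ℕ) [Fact p.Prime]
    [CharP F p] (w w' : Fin n → F) (hw : hh w w = 0) (hw' : hh w' w' = 0) (hw0 : w ≠ 0) (c : F)
    (hc0 : c ≠ 0) (hX : (utv q w c * utv q w' c) ^ (p ^ k) = 1) : hh w w' = 0 := by
  haveI : Nonempty (Fin n) := ⟨⟨0, hn⟩⟩
  set A : Matrix (Fin n) (Fin n) F :=
    ((utv q w c * utv q w' c : GL (Fin n) F) : Matrix (Fin n) (Fin n) F) with hA
  have hApow : A ^ (p ^ k) = 1 := by
    have := congrArg (fun g : GL (Fin n) F => (g : Matrix (Fin n) (Fin n) F)) hX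
    simp only [Units.val_pow_eq_pow_val, Units.val_one] at this
    exact this
  set γ := hh w w' with hγ
  have hγ' : hh w' w = γ ^ q := (hermForm_conj hF n w w').symm
  set τ : F := c * c * γ * γ ^ q with hτ
  have hAv : ∀ v, A *ᵥ v = v + (c * hh v w') • w' + (c * (hh v w + c * hh v w' * γ ^ q)) • w := by
    intro v
    rw [hA, Units.val_mul, ← mulVec_mulVec, utv_mulVec w' hw', utv_mulVec w hw,
      hermForm_add_left, hermForm_smul_left, hγ']
  have hAw : A *ᵥ w = w + (c * γ) • w' + τ • w := by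
    rw [hAv, hw, ← hγ, hτ]
    module
  have hAw' : A *ᵥ w' = w' + (c * γ ^ q) • w := by
    rw [hAv, hw', hγ']
    try module
  set Y : Matrix (Fin n) (Fin n) F := A - 1 with hY
  have hYv : ∀ v, Y *ᵥ v = A *ᵥ v - v := fun v => by rw [hY, sub_mulVec, one_mulVec]
  have hYY : Y *ᵥ (Y *ᵥ w) = τ • (A *ᵥ w) := by
    rw [hYv w, hAw]
    have e1 : w + (c * γ) • w' + τ • w - w = (c * γ) • w' + τ • w := by module
    rw [e1, mulVec_add, mulVec_smul, mulVec_smul, hYv w', hYv w, hAw', hAw, hτ]
    module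
  have hcomm : ∀ j : ℕ, Commute (Y ^ j) A := fun j =>
    ((Commute.refl A).sub_left (Commute.one_left A)).pow_left j
  have hind : ∀ j : ℕ, (Y ^ (2 * j)) *ᵥ w = τ ^ j • ((A ^ j) *ᵥ w) := by
    intro j
    induction j with
    | zero => simp
    | succ j ih =>
      have e1 : Y ^ (2 * (j + 1)) = Y ^ (2 * j) * (Y * Y) := by
        rw [← pow_two, ← pow_add, mul_add, mul_one]
      rw [e1, ← mulVec_mulVec, ← mulVec_mulVec, hYY, mulVec_smul, mulVec_mulVec,
        (hcomm (2 * j)).eq, ← mulVec_mulVec, ih, mulVec_smul, mulVec_mulVec, ← pow_succ', smul_smul,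
        ← pow_succ']
  have hYpow : Y ^ (p ^ k) = 0 := by
    rw [hY, sub_pow_char_pow_of_commute p k (Commute.one_right A), hApow, one_pow, sub_self]
  have h0 := hind (p ^ k)
  rw [two_mul, pow_add, hYpow, zero_mul, zero_mulVec, hApow, one_mulVec] at h0
  have hτ0 : τ = 0 := by
    rcases smul_eq_zero.mp h0.symm with h | h
    · exact pow_eq_zero_iff (pow_ne_zero _ (Fact.out : p.Prime).ne_zero) |>.mp h
    · exact absurd h hw0
  rw [hτ] at hτ0
  have : γ * γ ^ q = 0 := by
    have h1 : c * c * (γ * γ ^ q) = 0 := by rw [← hτ0]; ring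
    rcases mul_eq_zero.mp h1 with h | h
    · exact absurd (mul_self_eq_zero.mp h) hc0
    · exact h
  rcases mul_eq_zero.mp this with h | h
  · exact h
  · exact pow_eq_zero_iff (by have := two_le_q hF; omega) |>.mp h

end unip

end Cfsg.Agent.Lib.Helper13.USub
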