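import Mathlib
import Cfsg.Agent.Lib.Helper13.USubE

set_option autoImplicit false
set_option linter.unusedSectionVars false
set_option linter.style.haveILetI false

/-!
Subfield groups of the special unitary group: genericity and the Sylow move.
-/

namespace Cfsg.Agent.Lib.Helper13.USub

open Matrix Module Cfsg.Agent.Lib.Helper99 Cfsg.Agent.Lib.Helper13

attribute [local instance] fintypeSub

section aux

variable {F : Type*} [Field F] {n : ℕ}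

theorem sfι_neg (F₀ : Subfield F) (u : Fin n → F₀) : sfι F₀ (-u) = -sfι F₀ u := by
  funext i; simp [sfι]

theorem sfι_sub (F₀ : Subfield F) (u v : Fin n → F₀) : sfι F₀ (u - v) = sfι F₀ u - sfι F₀ v := by
  funext i; simp [sfι]

theorem sfι_ne_zero (F₀ : Subfield F) {u : Fin n → F₀} (hu : u ≠ 0) : sfι F₀ u ≠ 0 := by
  intro h
  apply hu
  apply sfι_injective F₀
  rw [h, sfι_zero]

theorem sfι_smul' (F₀ : Subfield F) (s : F₀) (u : Fin n → F₀) :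
    sfι F₀ (s • u) = (s : F) • sfι F₀ u := sfι_smul F₀ s u

theorem exists_ne_zero_coord {K : Type*} [Zero K] {u : Fin n → K} (hu : u ≠ 0) : ∃ i, u i ≠ 0 := by
  by_contra hcon
  push Not at hcon
  exact hu (funext hcon)

end aux

section partII

variable {F : Type*} [Field F] [Fintype F] {q q1 n : ℕ}
variable (hF : Fintype.card F = q ^ 2) (F₀ : Subfield F)
variable (hQ : Nat.card F₀ = q1 ^ 2) (hfix : ∀ x ∈ F₀, x ^ q = x ^ q1)
variable (M : Subgroup (GL (Fin n) F)) (hHM : Hs F₀ n q ≤ M) (hMG : M ≤ suGL (F := F) n q)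

local notation "hh" => Cfsg.hermForm n F q
local notation "kk" => Cfsg.hermForm n F₀ q1

theorem utv_pow (v : Fin n → F) (hv : hh v v = 0) (c : F) (k : ℕ) :
    (utv q v c) ^ k = utv q v (k * c) := by
  induction k with
  | zero => rw [pow_zero, Nat.cast_zero, zero_mul, utv_zero v hv]
  | succ k ih =>
    rw [pow_succ, ih, utv_add v hv]
    congr 1
    push_cast
    ring

theorem utv_pow_char (p : ℕ) [CharP F p] (v : Fin n → F) (hv : hh v v = 0) (c : F) :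
    (utv q v c) ^ p = 1 := by
  rw [utv_pow v hv, CharP.cast_eq_zero, zero_mul, utv_zero v hv]

/-- the stabiliser in `M` of every rational isotropic point lies in the subfield group -/
def PtStab (F₀ : Subfield F) (q1 q : ℕ) (M : Subgroup (GL (Fin n) F)) : Prop :=
  ∀ m ∈ M, ∀ (e : Fin n → F₀) (l : F), e ≠ 0 → Cfsg.hermForm n F₀ q1 e e = 0 →
    (m : Matrix (Fin n) (Fin n) F) *ᵥ sfι F₀ e = l • sfι F₀ e → m ∈ Hs F₀ n q

include hF hQ hfix hHM hMG in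
/-- conjugates of rational transvections -/
theorem conj_rat_utv_mem (g : GL (Fin n) F) (hgM : g ∈ M) (u₁ : Fin n → F₀) (hu1 : kk u₁ u₁ = 0)
    (c₀ : F₀) (hc0 : c₀ + c₀ ^ q1 = 0) :
    utv q ((g : Matrix (Fin n) (Fin n) F) *ᵥ sfι F₀ u₁) (c₀ : F) ∈ M := by
  have hgGU : g ∈ Cfsg.GU n F q := (hMG hgM).1
  have hu1F : hh (sfι F₀ u₁) (sfι F₀ u₁) = 0 := (hh_sfι_eq_zero_iff F₀ hfix _ _).mpr hu1
  rw [← conj_utv g hgGU _ hu1F]
  exact M.mul_mem (M.mul_mem hgM (hHM (utv_rat_mem hF F₀ hQ hfix u₁ hu1 c₀ hc0))) (M.inv_mem hgM)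

include hF hQ hfix hHM hMG in
/-- genericity: an element of `M` outside the subfield group maps no rational isotropic vector to a
vector orthogonal to a rational isotropic vector -/
theorem generic (hn : 3 ≤ n) (hA2 : PtStab F₀ q1 q M) (g : GL (Fin n) F) (hgM : g ∈ M)
    (hgH : g ∉ Hs F₀ n q) (u u₁ : Fin n → F₀) (hu0 : u ≠ 0) (hu10 : u₁ ≠ 0) (hu : kk u u = 0)
    (hu1 : kk u₁ u₁ = 0) :
    hh (sfι F₀ u) ((g : Matrix (Fin n) (Fin n) F) *ᵥ sfι F₀ u₁) ≠ 0 := by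
  intro h0
  obtain ⟨c₀, hc00, hc0K, hc0F⟩ := exists_c0 F₀ hQ hfix
  have hc00F : (c₀ : F) ≠ 0 := fun h => hc00 (Subtype.ext h)
  set w := (g : Matrix (Fin n) (Fin n) F) *ᵥ sfι F₀ u₁ with hw
  have hgGU : g ∈ Cfsg.GU n F q := (hMG hgM).1
  have hu1F : hh (sfι F₀ u₁) (sfι F₀ u₁) = 0 := (hh_sfι_eq_zero_iff F₀ hfix _ _).mpr hu1
  have hww : hh w w = 0 := by rw [hw, GU_preserves hgGU, hu1F]
  have hTM : utv q w (c₀ : F) ∈ M := conj_rat_utv_mem hF F₀ hQ hfix M hHM hMG g hgM u₁ hu1 c₀ hc0K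
  have hTu : ((utv q w (c₀ : F) : GL (Fin n) F) : Matrix (Fin n) (Fin n) F) *ᵥ sfι F₀ u =
      (1 : F) • sfι F₀ u := by
    rw [utv_mulVec w hww, h0, mul_zero, zero_smul, add_zero, one_smul]
  have hTH := hA2 _ hTM u 1 hu0 hu hTu
  obtain ⟨c, A₀, hc, hA₀⟩ := forall_of_mem_sub F₀ _ hTH.1
  have hcF₀ : c ∈ F₀ := by
    have h1 := hA₀ u
    rw [hTu, one_smul] at h1
    obtain ⟨i, hi⟩ := exists_ne_zero_coord hu0
    have h2 := congrFun h1 i
    simp only [sfι, Pi.smul_apply, smul_eq_mul] at h2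
    have hne : ((((A₀ : Matrix (Fin n) (Fin n) F₀) *ᵥ u) i : F₀) : F) ≠ 0 := by
      intro h
      rw [h, mul_zero] at h2
      exact hi (Subtype.ext h2)
    have h3 : c = (u i : F) / ((((A₀ : Matrix (Fin n) (Fin n) F₀) *ᵥ u) i : F₀) : F) := by
      rw [h2, mul_div_assoc, div_self hne, mul_one]
    rw [h3]
    exact F₀.div_mem (u i).2 (((A₀ : Matrix (Fin n) (Fin n) F₀) *ᵥ u) i).2
  have hw0 : w ≠ 0 := gl_mulVec_ne_zero g _ (sfι_ne_zero F₀ hu10)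
  obtain ⟨j, hj⟩ := exists_ne_zero_coord hw0
  have h3 := hA₀ (Pi.single j 1)
  rw [utv_mulVec w hww, sfι_single] at h3
  have h4 : hh (Pi.single j 1) w = (w j) ^ q := by
    rw [← hermForm_conj hF n w (Pi.single j 1), hermForm_single_right hF]
  rw [h4] at h3
  set β : F := (c₀ : F) * (w j) ^ q with hβ
  have hβ0 : β ≠ 0 := mul_ne_zero hc00F (pow_ne_zero _ hj)
  let v₁ : Fin n → F₀ :=
    (⟨c, hcF₀⟩ : F₀) • ((A₀ : Matrix (Fin n) (Fin n) F₀) *ᵥ Pi.single j 1) - Pi.single j 1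
  have hv₁ : sfι F₀ v₁ = β • w := by
    show sfι F₀ ((⟨c, hcF₀⟩ : F₀) • ((A₀ : Matrix (Fin n) (Fin n) F₀) *ᵥ Pi.single j 1) -
      Pi.single j 1) = β • w
    rw [sfι_sub, sfι_smul', sfι_single]
    show c • sfι F₀ ((A₀ : Matrix (Fin n) (Fin n) F₀) *ᵥ Pi.single j 1) - Pi.single j 1 = β • w
    rw [← h3]
    abel
  have hv₁0 : v₁ ≠ 0 := by
    intro h
    rw [h, sfι_zero] at hv₁
    exact (smul_ne_zero hβ0 hw0) hv₁.symm
  have hv₁v₁ : kk v₁ v₁ = 0 := by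
    rw [← hh_sfι_eq_zero_iff F₀ hfix, hv₁, hermForm_smul_left, hermForm_smul_right, hww]
    ring
  obtain ⟨x₀, hx₀, hx₀v⟩ := exists_Hs_map hF F₀ hQ hfix hn v₁ u₁ hv₁0 hu10 hv₁v₁ hu1
  have h5 : ((x₀ * g : GL (Fin n) F) : Matrix (Fin n) (Fin n) F) *ᵥ sfι F₀ u₁ =
      β⁻¹ • sfι F₀ u₁ := by
    rw [Units.val_mul, ← mulVec_mulVec, ← hw]
    have : w = β⁻¹ • sfι F₀ v₁ := by rw [hv₁, smul_smul, inv_mul_cancel₀ hβ0, one_smul]
    rw [this, mulVec_smul, hx₀v]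
  have h6 := hA2 _ (M.mul_mem (hHM hx₀) hgM) u₁ β⁻¹ hu10 hu1 h5
  apply hgH
  have : g = x₀⁻¹ * (x₀ * g) := by group
  rw [this]
  exact (Hs F₀ n q).mul_mem ((Hs F₀ n q).inv_mem hx₀) h6

include hF hQ hfix hHM hMG in
/-- the Sylow move -/
theorem sylow_move (hn : 3 ≤ n) (hA2 : PtStab F₀ q1 q M) (g : GL (Fin n) F) (hgM : g ∈ M)
    (u u₁ : Fin n → F₀) (hu0 : u ≠ 0) (hu10 : u₁ ≠ 0) (hu : kk u u = 0) (hu1 : kk u₁ u₁ = 0)
    (hne : hh (sfι F₀ u) ((g : Matrix (Fin n) (Fin n) F) *ᵥ sfι F₀ u₁) ≠ 0) :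
    ∃ d ∈ M, ∃ κ : F, κ ≠ 0 ∧
      (d : Matrix (Fin n) (Fin n) F) *ᵥ sfι F₀ u =
        κ • ((g : Matrix (Fin n) (Fin n) F) *ᵥ sfι F₀ u₁) ∧
      InPlane (sfι F₀ u) ((g : Matrix (Fin n) (Fin n) F) *ᵥ sfι F₀ u₁) d ∧
      g⁻¹ * d ∈ Hs F₀ n q := by
  obtain ⟨p, hp⟩ := CharP.exists F
  haveI : Fact p.Prime := ⟨CharP.char_is_prime F p⟩
  obtain ⟨c₀, hc00, hc0K, hc0F⟩ := exists_c0 F₀ hQ hfix
  have hc00F : (c₀ : F) ≠ 0 := fun h => hc00 (Subtype.ext h)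
  set w := (g : Matrix (Fin n) (Fin n) F) *ᵥ sfι F₀ u₁ with hw
  have hgGU : g ∈ Cfsg.GU n F q := (hMG hgM).1
  have hu1F : hh (sfι F₀ u₁) (sfι F₀ u₁) = 0 := (hh_sfι_eq_zero_iff F₀ hfix _ _).mpr hu1
  have huF : hh (sfι F₀ u) (sfι F₀ u) = 0 := (hh_sfι_eq_zero_iff F₀ hfix _ _).mpr hu
  have hww : hh w w = 0 := by rw [hw, GU_preserves hgGU, hu1F]
  have hw0 : w ≠ 0 := gl_mulVec_ne_zero g _ (sfι_ne_zero F₀ hu10)
  set T : GL (Fin n) F := utv q (sfι F₀ u) (c₀ : F) with hT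
  set T' : GL (Fin n) F := utv q w (c₀ : F) with hT'
  have hTM : T ∈ M := hHM (utv_rat_mem hF F₀ hQ hfix u hu c₀ hc0K)
  have hT'M : T' ∈ M := conj_rat_utv_mem hF F₀ hQ hfix M hHM hMG g hgM u₁ hu1 c₀ hc0K
  have hTp : T ^ p = 1 := utv_pow_char p _ huF _
  have hT'p : T' ^ p = 1 := utv_pow_char p _ hww _
  obtain ⟨d, hdL, k, hk⟩ := exists_conj_pow_eq_one p T T' hTp hT'p
  have hdM : d ∈ M := by
    have hle : Subgroup.closure ({T, T'} : Set (GL (Fin n) F)) ≤ M := by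
      rw [Subgroup.closure_le]
      intro x hx
      rcases hx with rfl | rfl
      · exact hTM
      · exact hT'M
    exact hle hdL
  have hdP : InPlane (sfι F₀ u) w d := by
    apply inPlane_closure _ _ ({T, T'} : Set (GL (Fin n) F)) _ d hdL
    intro x hx
    rcases hx with rfl | rfl
    · exact inPlane_utv_left _ _ huF _
    · exact inPlane_utv_right _ _ hww _
  have hdGU : d ∈ Cfsg.GU n F q := (hMG hdM).1
  set w'' := (d : Matrix (Fin n) (Fin n) F) *ᵥ sfι F₀ u with hw''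
  have hw''w'' : hh w'' w'' = 0 := by rw [hw'', GU_preserves hdGU, huF]
  have hconj : d * T * d⁻¹ = utv q w'' (c₀ : F) := conj_utv d hdGU _ huF _
  rw [hconj] at hk
  have hγ : hh w w'' = 0 :=
    hh_eq_zero_of_pow hF (by omega) p k w w'' hww hw''w'' hw0 (c₀ : F) hc00F hk
  obtain ⟨a, b, hab⟩ := hdP (sfι F₀ u)
  have hwu : hh w (sfι F₀ u) ≠ 0 := by
    intro h
    exact hne (hermForm_eq_zero_comm hF h)
  have ha : 1 + a = 0 := by
    have h1 : hh w w'' = (1 + a) ^ q * hh w (sfι F₀ u) := by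
      rw [hw'', hab, hermForm_add_right hF, hermForm_add_right hF, hermForm_smul_right,
        hermForm_smul_right, hww, frob_add hF, one_pow]
      ring
    rw [hγ] at h1
    rcases mul_eq_zero.mp h1.symm with h | h
    · exact pow_eq_zero_iff (by have := two_le_q hF; omega) |>.mp h
    · exact absurd h hwu
  have hdu : w'' = b • w := by
    rw [hw'', hab]
    have : a = -1 := by linear_combination ha
    rw [this]
    module
  have hb0 : b ≠ 0 := by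
    rintro rfl
    rw [zero_smul] at hdu
    exact gl_mulVec_ne_zero d _ (sfι_ne_zero F₀ hu0) hdu
  refine ⟨d, hdM, b, hb0, hdu, hdP, ?_⟩
  obtain ⟨x₀, hx₀, hx₀v⟩ := exists_Hs_map hF F₀ hQ hfix hn u₁ u hu10 hu0 hu1 hu
  have h5 : ((x₀ * (g⁻¹ * d) : GL (Fin n) F) : Matrix (Fin n) (Fin n) F) *ᵥ sfι F₀ u =
      b • sfι F₀ u := by
    rw [Units.val_mul, Units.val_mul, ← mulVec_mulVec, ← mulVec_mulVec, ← hw'', hdu, mulVec_smul,
      hw, gl_inv_mulVec_mulVec, mulVec_smul, hx₀v]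
  have h6 := hA2 _ (M.mul_mem (hHM hx₀) (M.mul_mem (M.inv_mem hgM) hdM)) u b hu0 hu h5
  have : g⁻¹ * d = x₀⁻¹ * (x₀ * (g⁻¹ * d)) := by group
  rw [this]
  exact (Hs F₀ n q).mul_mem ((Hs F₀ n q).inv_mem hx₀) h6

end partII

end Cfsg.Agent.Lib.Helper13.USub
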