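import Mathlib
import Cfsg.Agent.Lib.Helper13.USubF

set_option autoImplicit false
set_option linter.unusedSectionVars false
set_option linter.style.haveILetI false
set_option maxHeartbeats 800000

/-!
Subfield groups of the special unitary group: if the stabilisers of the rational isotropic points
are rational then the overgroup is the subfield group.
-/

namespace Cfsg.Agent.Lib.Helper13.USub

open Matrix Module Cfsg.Agent.Lib.Helper99 Cfsg.Agent.Lib.Helper13

attribute [local instance] fintypeSub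

section partII

variable {F : Type*} [Field F] [Fintype F] {q q1 n : ℕ}
variable (hF : Fintype.card F = q ^ 2) (F₀ : Subfield F)
variable (hQ : Nat.card F₀ = q1 ^ 2) (hfix : ∀ x ∈ F₀, x ^ q = x ^ q1)
variable (M : Subgroup (GL (Fin n) F)) (hHM : Hs F₀ n q ≤ M) (hMG : M ≤ suGL (F := F) n q)

local notation "hh" => Cfsg.hermForm n F q
local notation "kk" => Cfsg.hermForm n F₀ q1

include hfix in
theorem hh_sfι_zero {u v : Fin n → F₀} (h : kk u v = 0) : hh (sfι F₀ u) (sfι F₀ v) = 0 :=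
  (hh_sfι_eq_zero_iff F₀ hfix u v).mpr h

include hF hQ hfix hHM hMG in
/-- the core of the generic position argument -/
theorem false_of_inPlane (hn : 6 ≤ n) (hA2 : PtStab F₀ q1 q M) (g : GL (Fin n) F) (hgM : g ∈ M)
    (hgH : g ∉ Hs F₀ n q) (u : Fin n → F₀) (hu0 : u ≠ 0) (hu : kk u u = 0)
    (hP : InPlane (sfι F₀ u) ((g : Matrix (Fin n) (Fin n) F) *ᵥ sfι F₀ u) g) : False := by
  have hK := card_K F₀ hQ
  have hq1 : q1 ≠ 0 := by have := two_le_q hK; omega
  set w := (g : Matrix (Fin n) (Fin n) F) *ᵥ sfι F₀ u with hw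
  -- the auxiliary rational vectors
  obtain ⟨j, hj⟩ := exists_ne_zero_coord hu0
  set f : Fin n → F₀ := Pi.single j 1 with hf
  have huf : kk u f = u j := hermForm_single_right hK u j
  obtain ⟨x, hx0, hxx, hxp⟩ := exists_iso_perp hK (m := 2) (by omega) ![u, f]
  have hxu : kk x u = 0 := hxp 0
  have hxf : kk x f = 0 := hxp 1
  have hux : kk u x = 0 := hermForm_eq_zero_comm hK hxu
  obtain ⟨j', hj'⟩ := exists_ne_zero_coord hx0
  set f₂ : Fin n → F₀ := Pi.single j' 1 with hf₂
  have hxf₂ : kk x f₂ = x j' := hermForm_single_right hK x j'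
  obtain ⟨u', hu'0, hu'u', hu'p⟩ := exists_iso_perp hK (m := 2) (by omega) ![f, f₂]
  have hu'f : kk u' f = 0 := hu'p 0
  have hu'f₂ : kk u' f₂ = 0 := hu'p 1
  -- `u'` is not in the span of `u`, `x`
  have hu'span : ∀ α β : F₀, u' = α • u + β • x → False := by
    intro α β h
    have h1 : kk u' f = α * u j := by
      rw [h, hermForm_add_left, hermForm_smul_left, hermForm_smul_left, huf, hxf, mul_zero,
        add_zero]
    rw [hu'f] at h1
    have hα : α = 0 := by
      rcases mul_eq_zero.mp h1.symm with h | h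
      · exact h
      · exact absurd h hj
    have h2 : kk u' f₂ = β * x j' := by
      rw [h, hα, zero_smul, zero_add, hermForm_smul_left, hxf₂]
    rw [hu'f₂] at h2
    have hβ : β = 0 := by
      rcases mul_eq_zero.mp h2.symm with h | h
      · exact h
      · exact absurd h hj'
    apply hu'0
    rw [h, hα, hβ, zero_smul, zero_smul, add_zero]
  have hx_span : x ∉ Submodule.span F₀ {u, u'} := by
    intro h
    obtain ⟨α, β, hαβ⟩ := Submodule.mem_span_pair.mp h
    by_cases hβ : β = 0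
    · rw [hβ, zero_smul, add_zero] at hαβ
      have h1 : kk x f = α * u j := by rw [← hαβ, hermForm_smul_left, huf]
      rw [hxf] at h1
      have hα : α = 0 := by
        rcases mul_eq_zero.mp h1.symm with h | h
        · exact h
        · exact absurd h hj
      apply hx0
      rw [← hαβ, hα, zero_smul]
    · apply hu'span (-(β⁻¹ * α)) β⁻¹
      rw [← hαβ, smul_add, smul_smul, smul_smul, inv_mul_cancel₀ hβ, one_smul]
      module
  have hu_span : u ∉ Submodule.span F₀ {u', u'} := by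
    intro h
    obtain ⟨α, β, hαβ⟩ := Submodule.mem_span_pair.mp h
    rw [← add_smul] at hαβ
    have hne : α + β ≠ 0 := by
      intro h0
      rw [h0, zero_smul] at hαβ
      exact hu0 hαβ.symm
    apply hu'span (α + β)⁻¹ 0
    rw [← hαβ, smul_smul, inv_mul_cancel₀ hne, one_smul, zero_smul, add_zero]
  -- the plane decomposition of `g x`
  obtain ⟨a, b, hab⟩ := hP (sfι F₀ x)
  -- second Sylow move
  have hgen : hh (sfι F₀ u') w ≠ 0 :=
    generic hF F₀ hQ hfix M hHM hMG (by omega) hA2 g hgM hgH u' u hu'0 hu0 hu'u' hu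
  obtain ⟨d', hd'M, κ', hκ', hd'u', hd'P, hd'H⟩ :=
    sylow_move hF F₀ hQ hfix M hHM hMG (by omega) hA2 g hgM u' u hu'0 hu0 hu'u' hu hgen
  have hinvH : d'⁻¹ * g ∈ Hs F₀ n q := by
    have : d'⁻¹ * g = (g⁻¹ * d')⁻¹ := by group
    rw [this]
    exact (Hs F₀ n q).inv_mem hd'H
  obtain ⟨c, A₀, hc, hA₀⟩ := forall_of_mem_sub F₀ _ hinvH.1
  set y : Fin n → F₀ := (A₀ : Matrix (Fin n) (Fin n) F₀) *ᵥ x with hy
  have hgx : (g : Matrix (Fin n) (Fin n) F) *ᵥ sfι F₀ x =
      c • ((d' : Matrix (Fin n) (Fin n) F) *ᵥ sfι F₀ y) := by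
    have h1 := hA₀ x
    rw [Units.val_mul, ← mulVec_mulVec] at h1
    have h2 := congrArg (fun v => (d' : Matrix (Fin n) (Fin n) F) *ᵥ v) h1
    simp only [gl_mulVec_inv_mulVec, mulVec_smul] at h2
    exact h2
  obtain ⟨a', b', ha'b'⟩ := hd'P (sfι F₀ y)
  -- the main identity
  have hmain : sfι F₀ x + a • sfι F₀ u + b • w =
      c • (sfι F₀ y + a' • sfι F₀ u' + b' • w) := by
    rw [← hab, ← ha'b', hgx]
  -- a rational isotropic vector orthogonal to `x, u, u', y`
  obtain ⟨z, hz0, hzz, hzp⟩ := exists_iso_perp hK (m := 4) (by omega) ![x, u, u', y]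
  have hzx : hh (sfι F₀ z) (sfι F₀ x) = 0 := hh_sfι_zero F₀ hfix (hzp 0)
  have hzu : hh (sfι F₀ z) (sfι F₀ u) = 0 := hh_sfι_zero F₀ hfix (hzp 1)
  have hzu' : hh (sfι F₀ z) (sfι F₀ u') = 0 := hh_sfι_zero F₀ hfix (hzp 2)
  have hzy : hh (sfι F₀ z) (sfι F₀ y) = 0 := hh_sfι_zero F₀ hfix (hzp 3)
  have hzw : hh (sfι F₀ z) w ≠ 0 :=
    generic hF F₀ hQ hfix M hHM hMG (by omega) hA2 g hgM hgH z u hz0 hu0 hzz hu
  have hb : b = c * b' := by
    have h1 := congrArg (fun v => hh (sfι F₀ z) v) hmain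
    simp only [hermForm_add_right hF, hermForm_smul_right, hzx, hzu, hzu', hzy, mul_zero,
      zero_add, add_zero] at h1
    have h2 : (b ^ q - (c * b') ^ q) * hh (sfι F₀ z) w = 0 := by
      rw [mul_pow]
      linear_combination h1
    have h3 : b ^ q = (c * b') ^ q := by
      rcases mul_eq_zero.mp h2 with h | h
      · exact sub_eq_zero.mp h
      · exact absurd h hzw
    have h4 := congrArg (fun t => t ^ q) h3
    simp only [pow_q_pow_q hF] at h4
    exact h4
  have hmain2 : sfι F₀ x + a • sfι F₀ u = c • sfι F₀ y + (c * a') • sfι F₀ u' := by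
    have h1 : sfι F₀ x + a • sfι F₀ u + b • w =
        (c • sfι F₀ y + (c * a') • sfι F₀ u') + b • w := by
      rw [hmain, hb]
      module
    exact add_right_cancel h1
  -- `c` is rational
  obtain ⟨f₃, hf₃x, hf₃u, hf₃u'⟩ := exists_dual_sep F₀ u u' x hx_span
  have hcF₀ : c ∈ F₀ := by
    have h1 := congrArg (extD F₀ f₃) hmain2
    rw [extD_add, extD_add, extD_smul, extD_smul, extD_smul, extD_sfι, extD_sfι, extD_sfι,
      extD_sfι, hf₃u, hf₃u'] at h1
    simp only [ZeroMemClass.coe_zero, mul_zero, add_zero] at h1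
    have hne : ((f₃ y : F₀) : F) ≠ 0 := by
      intro h
      rw [h, mul_zero] at h1
      exact hf₃x (Subtype.ext h1)
    have h3 : c = ((f₃ x : F₀) : F) / ((f₃ y : F₀) : F) := by
      rw [h1, mul_div_assoc, div_self hne, mul_one]
    rw [h3]
    exact F₀.div_mem (f₃ x).2 (f₃ y).2
  -- `a` is rational
  obtain ⟨f₄, hf₄u, hf₄u', -⟩ := exists_dual_sep F₀ u' u' u hu_span
  have haF₀ : a ∈ F₀ := by
    have h1 := congrArg (extD F₀ f₄) hmain2
    rw [extD_add, extD_add, extD_smul, extD_smul, extD_smul, extD_sfι, extD_sfι, extD_sfι,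
      extD_sfι, hf₄u'] at h1
    simp only [ZeroMemClass.coe_zero, mul_zero, add_zero] at h1
    have hne : ((f₄ u : F₀) : F) ≠ 0 := fun h => hf₄u (Subtype.ext h)
    have h3 : a = (c * ((f₄ y : F₀) : F) - ((f₄ x : F₀) : F)) / ((f₄ u : F₀) : F) := by
      field_simp
      linear_combination h1
    rw [h3]
    exact F₀.div_mem (F₀.sub_mem (F₀.mul_mem hcF₀ (f₄ y).2) (f₄ x).2) (f₄ u).2
  -- the rational vector `v = x + a u`
  set a₀ : F₀ := ⟨a, haF₀⟩ with ha₀
  set v : Fin n → F₀ := x + a₀ • u with hv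
  have hvv : kk v v = 0 := by
    rw [hv, hermForm_add_left, hermForm_add_right hK, hermForm_add_right hK, hermForm_smul_left,
      hermForm_smul_left, hermForm_smul_right, hermForm_smul_right, hxx, hxu, hux, hu]
    ring
  have hv0 : v ≠ 0 := by
    intro h
    have h1 : kk v f = a₀ * u j := by
      rw [hv, hermForm_add_left, hermForm_smul_left, hxf, huf, zero_add]
    rw [h, hermForm_zero_left] at h1
    have ha0 : a₀ = 0 := by
      rcases mul_eq_zero.mp h1.symm with h | h
      · exact h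
      · exact absurd h hj
    rw [hv, ha0, zero_smul, add_zero] at h
    exact hx0 h
  have hgv : ((g⁻¹ : GL (Fin n) F) : Matrix (Fin n) (Fin n) F) *ᵥ sfι F₀ v =
      sfι F₀ x - b • sfι F₀ u := by
    have h1 : (g : Matrix (Fin n) (Fin n) F) *ᵥ (sfι F₀ x - b • sfι F₀ u) = sfι F₀ v := by
      rw [mulVec_sub, mulVec_smul, ← hw, hab, hv, sfι_add, sfι_smul']
      show sfι F₀ x + a • sfι F₀ u + b • w - b • w = sfι F₀ x + a • sfι F₀ u
      abel
    rw [← h1, gl_inv_mulVec_mulVec]
  -- contradiction with genericity of `g⁻¹`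
  obtain ⟨z', hz'0, hz'z', hz'p⟩ := exists_iso_perp hK (m := 2) (by omega) ![x, u]
  have hz'x : hh (sfι F₀ z') (sfι F₀ x) = 0 := hh_sfι_zero F₀ hfix (hz'p 0)
  have hz'u : hh (sfι F₀ z') (sfι F₀ u) = 0 := hh_sfι_zero F₀ hfix (hz'p 1)
  have hginv : g⁻¹ ∉ Hs F₀ n q := fun h => hgH (by simpa using (Hs F₀ n q).inv_mem h)
  have hgen' := generic hF F₀ hQ hfix M hHM hMG (by omega) hA2 g⁻¹ (M.inv_mem hgM) hginv z' v
    hz'0 hv0 hz'z' hvv
  apply hgen'
  rw [hgv, hermForm_sub_right hF, hermForm_smul_right, hz'x, hz'u, mul_zero, sub_zero]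

include hF hQ hfix hHM hMG in
/-- generic position: if the stabilisers in `M` of the rational isotropic points lie in the
subfield group, then so does `M` -/
theorem le_Hs_of_ptStab (hn : 6 ≤ n) (hA2 : PtStab F₀ q1 q M) : M ≤ Hs F₀ n q := by
  intro g hgM
  by_contra hgH
  have hK := card_K F₀ hQ
  obtain ⟨u, hu0, hu, -⟩ := exists_iso_perp hK (m := 0) (n := n) (show 0 + 2 ≤ n by omega) (fun i => i.elim0)
  have hgen := generic hF F₀ hQ hfix M hHM hMG (by omega) hA2 g hgM hgH u u hu0 hu0 hu hu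
  obtain ⟨d, hdM, κ, hκ, hdu, hdP, hdH⟩ :=
    sylow_move hF F₀ hQ hfix M hHM hMG (by omega) hA2 g hgM u u hu0 hu0 hu hu hgen
  have hdH' : d ∉ Hs F₀ n q := by
    intro h
    apply hgH
    have : g = d * (g⁻¹ * d)⁻¹ := by group
    rw [this]
    exact (Hs F₀ n q).mul_mem h ((Hs F₀ n q).inv_mem hdH)
  apply false_of_inPlane hF F₀ hQ hfix M hHM hMG hn hA2 d hdM hdH' u hu0 hu
  intro x
  obtain ⟨a, b, hab⟩ := hdP x
  refine ⟨a, b / κ, ?_⟩
  rw [hab, hdu, smul_smul, div_mul_cancel₀ _ hκ]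

end partII

end Cfsg.Agent.Lib.Helper13.USub
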