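import Mathlib
import Cfsg.Agent.Lib.Helper13.USubG

set_option autoImplicit false
set_option linter.unusedSectionVars false
set_option linter.style.haveILetI false

/-!
Identities for the Eichler elements `Gel`.
-/

namespace Cfsg.Agent.Lib.Helper13.USub

open Matrix Module Cfsg.Agent.Lib.Helper99 Cfsg.Agent.Lib.Helper13

attribute [local instance] fintypeSub

section gel

variable {F : Type*} [Field F] [Fintype F] {q n : ℕ}
variable (hF : Fintype.card F = q ^ 2)

local notation "hh" => Cfsg.hermForm n F q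

include hF in
theorem Gel_mulVec' (e w : Fin n → F) (α : F) (hee : hh e e = 0) (hwe : hh w e = 0)
    (x : Fin n → F) :
    ((Gel q e w α : GL (Fin n) F) : Matrix (Fin n) (Fin n) F) *ᵥ x
      = x + hh x e • w + (α * hh x e - hh x w) • e :=
  Gel_mulVec e w α hee (hermForm_eq_zero_comm hF hwe) hwe x

include hF in
/-- the product of two Eichler elements with the same centre -/
theorem Gel_mul (e y y' : Fin n → F) (α α' : F) (hee : hh e e = 0) (hye : hh y e = 0)
    (hy'e : hh y' e = 0) :
    Gel q e y α * Gel q e y' α' = Gel q e (y + y') (α + α' - hh y' y) := by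
  have hey : hh e y = 0 := hermForm_eq_zero_comm hF hye
  have hey' : hh e y' = 0 := hermForm_eq_zero_comm hF hy'e
  have hsum : hh (y + y') e = 0 := by rw [hermForm_add_left, hye, hy'e, add_zero]
  apply Units.ext
  rw [Matrix.ext_iff_mulVec]
  intro x
  rw [Units.val_mul, ← mulVec_mulVec, Gel_mulVec' hF e y' α' hee hy'e, Gel_mulVec' hF e y α hee hye,
    Gel_mulVec' hF e (y + y') _ hee hsum]
  simp only [hermForm_add_left, hermForm_smul_left, hermForm_add_right hF, hee, hey, hey', hye,
    hy'e, mul_zero, add_zero]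
  module

include hF in
theorem Gel_zero (e : Fin n → F) (c : F) (hee : hh e e = 0) : Gel q e 0 c = utv q e c := by
  apply Units.ext
  rw [Matrix.ext_iff_mulVec]
  intro x
  rw [Gel_mulVec' hF e 0 c hee (hermForm_zero_left e), utv_mulVec e hee, hermForm_zero_right hF]
  module

include hF in
/-- scaling the centre -/
theorem Gel_smul_center (e w : Fin n → F) (α l : F) (hee : hh e e = 0) (hwe : hh w e = 0) :
    Gel q (l • e) w α = Gel q e (l ^ q • w) (l ^ (q + 1) * α) := by
  have h1 : hh (l • e) (l • e) = 0 := by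
    rw [hermForm_smul_left, hermForm_smul_right, hee, mul_zero, mul_zero]
  have h2 : hh w (l • e) = 0 := by rw [hermForm_smul_right, hwe, mul_zero]
  have h3 : hh (l ^ q • w) e = 0 := by rw [hermForm_smul_left, hwe, mul_zero]
  apply Units.ext
  rw [Matrix.ext_iff_mulVec]
  intro x
  rw [Gel_mulVec' hF _ w α h1 h2, Gel_mulVec' hF e _ _ hee h3]
  simp only [hermForm_smul_right, pow_q_pow_q hF]
  rw [pow_succ]
  module

include hF in
/-- changing the vector by a multiple of the centre -/
theorem Gel_add_center (e w : Fin n → F) (α β : F) (hee : hh e e = 0) (hwe : hh w e = 0) :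
    Gel q e (w + β • e) α = Gel q e w (α + β - β ^ q) := by
  have h3 : hh (w + β • e) e = 0 := by
    rw [hermForm_add_left, hermForm_smul_left, hwe, hee, mul_zero, add_zero]
  apply Units.ext
  rw [Matrix.ext_iff_mulVec]
  intro x
  rw [Gel_mulVec' hF _ _ α hee h3, Gel_mulVec' hF e w _ hee hwe]
  simp only [hermForm_add_right hF, hermForm_smul_right]
  module

include hF in
theorem Gel_mem_suGL (e w : Fin n → F) (α : F) (hee : hh e e = 0) (hwe : hh w e = 0)
    (hα : α + α ^ q + hh w w = 0) : Gel q e w α ∈ suGL (F := F) n q :=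
  ⟨Gel_mem_GU hF e w α hee hwe hα, Gel_mem_SL e w α hee (hermForm_eq_zero_comm hF hwe) hwe⟩

include hF in
/-- the commutator of two Eichler elements with the same centre -/
theorem Gel_comm (e y y' : Fin n → F) (α α' : F) (hee : hh e e = 0) (hye : hh y e = 0)
    (hy'e : hh y' e = 0) :
    (Gel q e y' α' * Gel q e y α)⁻¹ * (Gel q e y α * Gel q e y' α') =
      utv q e (hh y y' - hh y' y) := by
  rw [inv_mul_eq_iff_eq_mul, ← Gel_zero hF e _ hee, Gel_mul hF e y y' α α' hee hye hy'e,
    Gel_mul hF e y' y α' α hee hy'e hye,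
    Gel_mul hF e (y' + y) 0 _ _ hee (by rw [hermForm_add_left, hye, hy'e, add_zero])
      (hermForm_zero_left e),
    hermForm_zero_left, add_zero, add_comm y' y]
  congr 1
  ring

end gel

section gelrat

variable {F : Type*} [Field F] [Fintype F] {q q1 n : ℕ}
variable (hF : Fintype.card F = q ^ 2) (F₀ : Subfield F)
variable (hQ : Nat.card F₀ = q1 ^ 2) (hfix : ∀ x ∈ F₀, x ^ q = x ^ q1)

local notation "hh" => Cfsg.hermForm n F q
local notation "kk" => Cfsg.hermForm n F₀ q1

include hF hQ hfix in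
/-- rational Eichler elements lie in the subfield group -/
theorem Gel_rat_mem (e w : Fin n → F₀) (α : F₀) (hee : kk e e = 0) (hwe : kk w e = 0)
    (hα : α + α ^ q1 + kk w w = 0) :
    Gel q (sfι F₀ e) (sfι F₀ w) (α : F) ∈ Hs F₀ n q := by
  have hK := card_K F₀ hQ
  have heeF : hh (sfι F₀ e) (sfι F₀ e) = 0 := hh_sfι_zero F₀ hfix hee
  have hweF : hh (sfι F₀ w) (sfι F₀ e) = 0 := hh_sfι_zero F₀ hfix hwe
  have hαF : (α : F) + (α : F) ^ q + hh (sfι F₀ w) (sfι F₀ w) = 0 := by
    rw [coe_pow_q F₀ hfix, hh_sfι F₀ hfix]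
    have := congrArg Subtype.val hα
    exact this
  refine ⟨?_, Gel_mem_suGL hF _ _ _ heeF hweF hαF⟩
  have : Gel q (sfι F₀ e) (sfι F₀ w) (α : F) = emb F₀ n (Gel q1 e w α) := by
    apply gl_ext_rat F₀
    intro x
    rw [emb_mulVec, Gel_mulVec' hK e w α hee hwe, Gel_mulVec' hF _ _ _ heeF hweF, sfι_add, sfι_add,
      sfι_smul', sfι_smul', hh_sfι F₀ hfix, hh_sfι F₀ hfix]
    rfl
  rw [this]
  exact emb_mem_sub F₀ _

include hQ hfix in
/-- a rational parameter for a rational Eichler element -/
theorem exists_rat_param (w : Fin n → F₀) : ∃ α : F₀, α + α ^ q1 + kk w w = 0 := by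
  have hK := card_K F₀ hQ
  have h1 : (-(kk w w)) ^ q1 = -(kk w w) := by
    rw [frob_neg hK, hermForm_self_pow hK]
  obtain ⟨c, hc⟩ := exists_trace_eq' hK (-(kk w w)) h1
  exact ⟨c, by rw [hc]; ring⟩

end gelrat

end Cfsg.Agent.Lib.Helper13.USub
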