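import Mathlib
import Cfsg.Agent.Lib.Helper13.USubH

set_option autoImplicit false
set_option linter.unusedSectionVars false
set_option linter.style.haveILetI false
set_option maxHeartbeats 800000

/-!
Subfield groups of the special unitary group: a non-rational element of `M` fixing a rational
isotropic point gives a non-rational transvection in `M` (part 1: rationality of images).
-/

namespace Cfsg.Agent.Lib.Helper13.USub

open Matrix Module Cfsg.Agent.Lib.Helper99 Cfsg.Agent.Lib.Helper13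

attribute [local instance] fintypeSub

section partI1

variable {F : Type*} [Field F] [Fintype F] {q q1 n : ℕ}
variable (hF : Fintype.card F = q ^ 2) (F₀ : Subfield F)
variable (hQ : Nat.card F₀ = q1 ^ 2) (hfix : ∀ x ∈ F₀, x ^ q = x ^ q1)
variable (M : Subgroup (GL (Fin n) F)) (hHM : Hs F₀ n q ≤ M) (hMG : M ≤ suGL (F := F) n q)

local notation "hh" => Cfsg.hermForm n F q
local notation "kk" => Cfsg.hermForm n F₀ q1

include hQ in
/-- a rational hyperbolic partner -/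
theorem exists_partner (hn : 3 ≤ n) (e : Fin n → F₀) (he0 : e ≠ 0) (hee : kk e e = 0) :
    ∃ f : Fin n → F₀, kk f f = 0 ∧ kk f e = 1 ∧ kk e f = 1 := by
  have hK := card_K F₀ hQ
  obtain ⟨e₀, f₀, h1, h2, h3, -⟩ := exists_hyp_pair_coords hK (⟨0, by omega⟩ : Fin n)
    ⟨1, by omega⟩ (by simp [Fin.ext_iff])
  have he₀0 : e₀ ≠ 0 := by
    rintro rfl
    rw [hermForm_zero_left] at h3
    exact zero_ne_one h3
  obtain ⟨t, ht, hte⟩ := utv_transitive_isotropic hK hn e₀ e he₀0 he0 h1 hee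
  have htG : t ∈ Cfsg.GU n F₀ q1 := (utvGroup_le_suGL hK ht).1
  refine ⟨(t : Matrix (Fin n) (Fin n) F₀) *ᵥ f₀, ?_, ?_, ?_⟩
  · rw [GU_preserves htG, h2]
  · rw [← hte, GU_preserves htG, ← hermForm_conj hK n e₀ f₀, h3, one_pow]
  · rw [← hte, GU_preserves htG, h3]

include hfix in
theorem hh_sfι_one {u v : Fin n → F₀} (h : kk u v = 1) : hh (sfι F₀ u) (sfι F₀ v) = 1 := by
  rw [hh_sfι F₀ hfix, h]
  rfl

include hF hQ hfix hHM hMG in
/-- if a transvection with rational isotropic centre lies in `M` for one centre, then for all -/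
theorem utv_all_of_one (hn : 3 ≤ n) (e : Fin n → F₀) (he0 : e ≠ 0) (hee : kk e e = 0) (c : F)
    (hc : utv q (sfι F₀ e) c ∈ M) (u : Fin n → F₀) (hu0 : u ≠ 0) (hu : kk u u = 0) :
    utv q (sfι F₀ u) c ∈ M := by
  obtain ⟨x, hx, hxe⟩ := exists_Hs_map hF F₀ hQ hfix hn e u he0 hu0 hee hu
  have hxG : x ∈ Cfsg.GU n F q := hx.2.1
  rw [← hxe, ← conj_utv x hxG _ (hh_sfι_zero F₀ hfix hee)]
  exact M.mul_mem (M.mul_mem (hHM hx) hc) (M.inv_mem (hHM hx))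

include hF hQ hfix hHM hMG in
/-- a vector `Y ⊥ e` with `Gel e Y α ∈ M` is rational modulo the centre, when all transvections in
`M` with centre `e` are rational -/
theorem rat_mod_center (e f : Fin n → F₀) (hee : kk e e = 0) (hff : kk f f = 0)
    (hfe : kk f e = 1) (hef : kk e f = 1)
    (hR : ∀ c : F, c + c ^ q = 0 → utv q (sfι F₀ e) c ∈ M → c ∈ F₀)
    (Y : Fin n → F) (α' : F) (hYe : hh Y (sfι F₀ e) = 0) (hG : Gel q (sfι F₀ e) Y α' ∈ M) :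
    ∃ y' : Fin n → F₀, kk y' e = 0 ∧ Y = sfι F₀ y' + hh Y (sfι F₀ f) • sfι F₀ e := by
  have hK := card_K F₀ hQ
  have heeF : hh (sfι F₀ e) (sfι F₀ e) = 0 := hh_sfι_zero F₀ hfix hee
  have hefF : hh (sfι F₀ e) (sfι F₀ f) = 1 := hh_sfι_one F₀ hfix hef
  have hfeF : hh (sfι F₀ f) (sfι F₀ e) = 1 := hh_sfι_one F₀ hfix hfe
  -- values on rational vectors orthogonal to `e`
  have hval : ∀ y₀ : Fin n → F₀, kk y₀ e = 0 → hh Y (sfι F₀ y₀) ∈ F₀ := by
    intro y₀ hy₀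
    apply mem_of_theta' hF F₀ hQ hfix
    intro θ hθ
    set θ₀ : F₀ := ⟨θ, hθ⟩ with hθ₀
    have hy₁ : kk (θ₀ • y₀) e = 0 := by rw [hermForm_smul_left, hy₀, mul_zero]
    obtain ⟨α₁, hα₁⟩ := exists_rat_param F₀ hQ hfix (θ₀ • y₀)
    have hB : Gel q (sfι F₀ e) (sfι F₀ (θ₀ • y₀)) (α₁ : F) ∈ M :=
      hHM (Gel_rat_mem hF F₀ hQ hfix e (θ₀ • y₀) α₁ hee hy₁ hα₁)
    have hy₁F : hh (sfι F₀ (θ₀ • y₀)) (sfι F₀ e) = 0 := hh_sfι_zero F₀ hfix hy₁
    have hcomm := Gel_comm hF (sfι F₀ e) Y (sfι F₀ (θ₀ • y₀)) α' (α₁ : F) heeF hYe hy₁F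
    have hmem : utv q (sfι F₀ e) (hh Y (sfι F₀ (θ₀ • y₀)) - hh (sfι F₀ (θ₀ • y₀)) Y) ∈ M := by
      rw [← hcomm]
      exact M.mul_mem (M.inv_mem (M.mul_mem hB hG)) (M.mul_mem hG hB)
    have htr : (hh Y (sfι F₀ (θ₀ • y₀)) - hh (sfι F₀ (θ₀ • y₀)) Y) +
        (hh Y (sfι F₀ (θ₀ • y₀)) - hh (sfι F₀ (θ₀ • y₀)) Y) ^ q = 0 := by
      rw [frob_sub hF, hermForm_conj hF, hermForm_conj hF]
      ring
    have h1 := hR _ htr hmem
    have e1 : hh Y (sfι F₀ (θ₀ • y₀)) = θ ^ q * hh Y (sfι F₀ y₀) := by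
      rw [sfι_smul', hermForm_smul_right]
    have e2 : hh (sfι F₀ (θ₀ • y₀)) Y = θ * (hh Y (sfι F₀ y₀)) ^ q := by
      rw [sfι_smul', hermForm_smul_left, hermForm_conj hF]
    rw [e1, e2] at h1
    exact h1
  set a := hh Y (sfι F₀ f) with ha
  set Y' : Fin n → F := Y - a • sfι F₀ e with hY'
  have hY'f : hh Y' (sfι F₀ f) = 0 := by
    rw [hY', hermForm_sub_left, hermForm_smul_left, hefF, mul_one, sub_self]
  have hY'e : hh Y' (sfι F₀ e) = 0 := by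
    rw [hY', hermForm_sub_left, hermForm_smul_left, heeF, hYe, mul_zero, sub_zero]
  have hcoord : ∀ i, Y' i ∈ F₀ := by
    intro i
    set x : Fin n → F₀ := Pi.single i 1 with hx
    set x₀ : Fin n → F₀ := x - (kk x e) • f with hx₀
    have hx₀e : kk x₀ e = 0 := by
      rw [hx₀, hermForm_sub_left, hermForm_smul_left, hfe, mul_one, sub_self]
    have h1 : Y' i = hh Y' (sfι F₀ x) := by
      rw [hx, sfι_single, hermForm_single_right hF]
    have h2 : sfι F₀ x = sfι F₀ x₀ + ((kk x e : F₀) : F) • sfι F₀ f := by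
      rw [hx₀, sfι_sub, sfι_smul']
      abel
    have h3 : hh (sfι F₀ e) (sfι F₀ x₀) = 0 :=
      hermForm_eq_zero_comm hF (hh_sfι_zero F₀ hfix hx₀e)
    rw [h1, h2, hermForm_add_right hF, hermForm_smul_right, hY'f, mul_zero, add_zero, hY',
      hermForm_sub_left, hermForm_smul_left, h3, mul_zero, sub_zero]
    exact hval x₀ hx₀e
  refine ⟨fun i => ⟨Y' i, hcoord i⟩, ?_, ?_⟩
  · rw [← hh_sfι_eq_zero_iff F₀ hfix]
    exact hY'e
  · have : sfι F₀ (fun i => (⟨Y' i, hcoord i⟩ : F₀)) = Y' := rfl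
    rw [this, hY']
    abel

include hF hQ hfix hHM hMG in
/-- the coefficient of the centre -/
theorem coef_sub_mem (e f : Fin n → F₀) (hee : kk e e = 0) (hff : kk f f = 0)
    (hfe : kk f e = 1) (hef : kk e f = 1)
    (hR : ∀ c : F, c + c ^ q = 0 → utv q (sfι F₀ e) c ∈ M → c ∈ F₀)
    (m : GL (Fin n) F) (hmM : m ∈ M) (l : F) (hl : l ^ (q + 1) ∈ F₀)
    (hme : (m : Matrix (Fin n) (Fin n) F) *ᵥ sfι F₀ e = l • sfι F₀ e)
    (w₀ : Fin n → F₀) (hw₀e : kk w₀ e = 0) :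
    ∃ y' : Fin n → F₀, kk y' e = 0 ∧
      l ^ q • ((m : Matrix (Fin n) (Fin n) F) *ᵥ sfι F₀ w₀) =
        sfι F₀ y' + hh (l ^ q • ((m : Matrix (Fin n) (Fin n) F) *ᵥ sfι F₀ w₀)) (sfι F₀ f) •
          sfι F₀ e ∧
      hh (l ^ q • ((m : Matrix (Fin n) (Fin n) F) *ᵥ sfι F₀ w₀)) (sfι F₀ f) -
        (hh (l ^ q • ((m : Matrix (Fin n) (Fin n) F) *ᵥ sfι F₀ w₀)) (sfι F₀ f)) ^ q ∈ F₀ := by
  have hK := card_K F₀ hQ
  have hmG : m ∈ Cfsg.GU n F q := (hMG hmM).1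
  have heeF : hh (sfι F₀ e) (sfι F₀ e) = 0 := hh_sfι_zero F₀ hfix hee
  have hw₀eF : hh (sfι F₀ w₀) (sfι F₀ e) = 0 := hh_sfι_zero F₀ hfix hw₀e
  obtain ⟨α₀, hα₀⟩ := exists_rat_param F₀ hQ hfix w₀
  have hG₀ : Gel q (sfι F₀ e) (sfι F₀ w₀) (α₀ : F) ∈ M :=
    hHM (Gel_rat_mem hF F₀ hQ hfix e w₀ α₀ hee hw₀e hα₀)
  set W := (m : Matrix (Fin n) (Fin n) F) *ᵥ sfι F₀ w₀ with hW
  set Y := l ^ q • W with hY
  set α' := l ^ (q + 1) * (α₀ : F) with hα'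
  have hWe : hh W (l • sfι F₀ e) = 0 := by
    rw [hW, ← hme, GU_preserves hmG, hw₀eF]
  have hl0 : l ≠ 0 := by
    rintro rfl
    rw [zero_smul] at hme
    by_cases he0 : e = 0
    · -- degenerate: everything is zero; `l = 0` impossible unless `e = 0`
      exact absurd hef (by rw [he0, hermForm_zero_left]; exact zero_ne_one)
    · exact gl_mulVec_ne_zero m _ (sfι_ne_zero F₀ he0) hme
  have hWe' : hh W (sfι F₀ e) = 0 := by
    rw [hermForm_smul_right] at hWe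
    rcases mul_eq_zero.mp hWe with h | h
    · exact absurd (pow_eq_zero_iff (by have := two_le_q hF; omega) |>.mp h) hl0
    · exact h
  have hYe : hh Y (sfι F₀ e) = 0 := by rw [hY, hermForm_smul_left, hWe', mul_zero]
  have hG₁ : Gel q (sfι F₀ e) Y α' ∈ M := by
    have h1 := Gel_conj hF m hmG (sfι F₀ e) (sfι F₀ w₀) (α₀ : F) heeF hw₀eF
    rw [hme, ← hW, Gel_smul_center hF _ _ _ _ heeF hWe'] at h1
    rw [hY, hα', ← h1]
    exact M.mul_mem (M.mul_mem hmM hG₀) (M.inv_mem hmM)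
  obtain ⟨y', hy'e, hYdec⟩ := rat_mod_center hF F₀ hQ hfix M hHM hMG e f hee hff hfe hef hR Y α'
    hYe hG₁
  refine ⟨y', hy'e, hYdec, ?_⟩
  set a := hh Y (sfι F₀ f) with ha
  have hy'eF : hh (sfι F₀ y') (sfι F₀ e) = 0 := hh_sfι_zero F₀ hfix hy'e
  -- the element `Gel e y' α''`
  have hG₂ : Gel q (sfι F₀ e) (sfι F₀ y') (α' + a - a ^ q) ∈ M := by
    rw [← Gel_add_center hF _ _ _ _ heeF hy'eF, ← hYdec]
    exact hG₁
  obtain ⟨αr, hαr⟩ := exists_rat_param F₀ hQ hfix y'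
  have hG₃ : Gel q (sfι F₀ e) (sfι F₀ y') (αr : F) ∈ M :=
    hHM (Gel_rat_mem hF F₀ hQ hfix e y' αr hee hy'e hαr)
  set c := α' + a - a ^ q - (αr : F) with hc
  have hprod : Gel q (sfι F₀ e) (sfι F₀ y') (αr : F) * Gel q (sfι F₀ e) 0 c =
      Gel q (sfι F₀ e) (sfι F₀ y') (α' + a - a ^ q) := by
    rw [Gel_mul hF _ _ _ _ _ heeF hy'eF (hermForm_zero_left _), add_zero, hermForm_zero_left,
      sub_zero, hc]
    congr 1
    ring
  have hutv : utv q (sfι F₀ e) c ∈ M := by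
    rw [← Gel_zero hF _ _ heeF]
    have : Gel q (sfι F₀ e) 0 c =
        (Gel q (sfι F₀ e) (sfι F₀ y') (αr : F))⁻¹ *
          Gel q (sfι F₀ e) (sfι F₀ y') (α' + a - a ^ q) := by
      rw [← hprod]
      group
    rw [this]
    exact M.mul_mem (M.inv_mem hG₃) hG₂
  -- `c` has trace zero
  have hαrF : (αr : F) + (αr : F) ^ q + hh (sfι F₀ y') (sfι F₀ y') = 0 := by
    rw [coe_pow_q F₀ hfix, hh_sfι F₀ hfix]
    exact congrArg Subtype.val hαr
  have hα₀F : (α₀ : F) + (α₀ : F) ^ q + hh (sfι F₀ w₀) (sfι F₀ w₀) = 0 := by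
    rw [coe_pow_q F₀ hfix, hh_sfι F₀ hfix]
    exact congrArg Subtype.val hα₀
  have hlq : (l ^ (q + 1)) ^ q = l ^ (q + 1) := by
    rw [pow_succ, mul_pow, pow_q_pow_q hF]
    ring
  have hYY : hh Y Y = l ^ (q + 1) * hh (sfι F₀ w₀) (sfι F₀ w₀) := by
    rw [hY, hermForm_smul_left, hermForm_smul_right, pow_q_pow_q hF, hW, GU_preserves hmG]
    ring
  have hYY' : hh Y Y = hh (sfι F₀ y') (sfι F₀ y') := by
    conv_lhs => rw [hYdec]
    have h1 : hh (sfι F₀ e) (sfι F₀ y') = 0 := hermForm_eq_zero_comm hF hy'eF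
    simp only [hermForm_add_left, hermForm_add_right hF, hermForm_smul_left, hermForm_smul_right,
      heeF, hy'eF, h1, mul_zero, add_zero]
  have hctr : c + c ^ q = 0 := by
    rw [hc, frob_sub hF, frob_sub hF, frob_add hF, pow_q_pow_q hF, hα', mul_pow, hlq]
    have h1 : l ^ (q + 1) * ((α₀ : F) + (α₀ : F) ^ q + hh (sfι F₀ w₀) (sfι F₀ w₀)) = 0 := by
      rw [hα₀F, mul_zero]
    have h2 : l ^ (q + 1) * hh (sfι F₀ w₀) (sfι F₀ w₀) = hh (sfι F₀ y') (sfι F₀ y') := by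
      rw [← hYY, hYY']
    linear_combination h1 - hαrF - h2
  have hcF₀ := hR c hctr hutv
  have hα'F₀ : α' ∈ F₀ := F₀.mul_mem hl α₀.2
  have : a - a ^ q = c - α' + (αr : F) := by rw [hc]; ring
  rw [this]
  exact F₀.add_mem (F₀.sub_mem hcF₀ hα'F₀) αr.2

include hF hQ hfix hHM hMG in
/-- images of rational vectors orthogonal to the centre are rational -/
theorem rat_image (e f : Fin n → F₀) (hee : kk e e = 0) (hff : kk f f = 0)
    (hfe : kk f e = 1) (hef : kk e f = 1)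
    (hR : ∀ c : F, c + c ^ q = 0 → utv q (sfι F₀ e) c ∈ M → c ∈ F₀)
    (m : GL (Fin n) F) (hmM : m ∈ M) (l : F) (hl : l ^ (q + 1) ∈ F₀)
    (hme : (m : Matrix (Fin n) (Fin n) F) *ᵥ sfι F₀ e = l • sfι F₀ e)
    (w₀ : Fin n → F₀) (hw₀e : kk w₀ e = 0) :
    ∃ y : Fin n → F₀, l ^ q • ((m : Matrix (Fin n) (Fin n) F) *ᵥ sfι F₀ w₀) = sfι F₀ y := by
  obtain ⟨y', hy'e, hdec, -⟩ := coef_sub_mem hF F₀ hQ hfix M hHM hMG e f hee hff hfe hef hR m hmM l
    hl hme w₀ hw₀e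
  set a := hh (l ^ q • ((m : Matrix (Fin n) (Fin n) F) *ᵥ sfι F₀ w₀)) (sfι F₀ f) with ha
  have haF₀ : a ∈ F₀ := by
    apply mem_of_theta hF F₀ hQ hfix
    intro θ hθ
    set θ₀ : F₀ := ⟨θ, hθ⟩ with hθ₀
    have hw₁ : kk (θ₀ • w₀) e = 0 := by rw [hermForm_smul_left, hw₀e, mul_zero]
    obtain ⟨-, -, -, h1⟩ := coef_sub_mem hF F₀ hQ hfix M hHM hMG e f hee hff hfe hef hR m hmM l
      hl hme (θ₀ • w₀) hw₁
    have e1 : hh (l ^ q • ((m : Matrix (Fin n) (Fin n) F) *ᵥ sfι F₀ (θ₀ • w₀))) (sfι F₀ f) =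
        θ * a := by
      rw [sfι_smul', mulVec_smul, smul_comm, hermForm_smul_left]
    rw [e1, mul_pow] at h1
    exact h1
  refine ⟨y' + (⟨a, haF₀⟩ : F₀) • e, ?_⟩
  rw [sfι_add, sfι_smul']
  exact hdec

end partI1

end Cfsg.Agent.Lib.Helper13.USub
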