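import Mathlib
import Cfsg.Agent.Lib.Helper13.USubI

set_option autoImplicit false
set_option linter.unusedSectionVars false
set_option linter.style.haveILetI false
set_option maxHeartbeats 1600000

/-!
Subfield groups of the special unitary group: a non-rational element of `M` fixing a rational
isotropic point gives a non-rational transvection in `M` (part 2).
-/

namespace Cfsg.Agent.Lib.Helper13.USub

open Matrix Module Cfsg.Agent.Lib.Helper99 Cfsg.Agent.Lib.Helper13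

attribute [local instance] fintypeSub

section partI1

variable {F : Type*} [Field F] [Fintype F] {q q1 n : ℕ}
variable (hF : Fintype.card F = q ^ 2) (F₀ : Subfield F)
variable (hQ : Nat.card F₀ = q1 ^ 2) (hfix : ∀ x ∈ F₀, x ^ q = x ^ q1)
variable (M : Subgroup (GL (Fin n) F)) (hHM : Hs F₀ n q ≤ M) (hMG : M ≤ suGL (F := F) n q)

local notation "hh" => Cfsg.hermForm n F q
local notation "kk" => Cfsg.hermForm n F₀ q1

include hF in
theorem norm_pow_q (l : F) : (l ^ (q + 1)) ^ q = l ^ (q + 1) := by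
  rw [pow_succ, mul_pow, pow_q_pow_q hF]
  ring

include hF hQ hfix hHM hMG in
/-- if some stabiliser of a rational isotropic point is not rational then `M` contains a
non-rational transvection with rational centre -/
theorem exists_nonrat_of_not_ptStab (hn : 4 ≤ n) (hA2 : ¬ PtStab F₀ q1 q M) :
    ∃ (e : Fin n → F₀) (c : F), e ≠ 0 ∧ kk e e = 0 ∧ c + c ^ q = 0 ∧ c ∉ F₀ ∧
      utv q (sfι F₀ e) c ∈ M := by
  unfold PtStab at hA2
  push Not at hA2
  obtain ⟨m, hmM, e, l, he0, hee, hme, hmH⟩ := hA2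
  by_contra hcon
  have hR : ∀ c : F, c + c ^ q = 0 → utv q (sfι F₀ e) c ∈ M → c ∈ F₀ := by
    intro c hc hu
    by_contra hcF
    exact hcon ⟨e, c, he0, hee, hc, hcF, hu⟩
  apply hmH
  have hK := card_K F₀ hQ
  have hq2 := two_le_q hF
  obtain ⟨f, hff, hfe, hef⟩ := exists_partner F₀ hQ (by omega) e he0 hee
  obtain ⟨c₀, hc00, hc0K, hc0F⟩ := exists_c0 F₀ hQ hfix
  have hc00F : (c₀ : F) ≠ 0 := fun h => hc00 (Subtype.ext h)
  have hmG : m ∈ Cfsg.GU n F q := (hMG hmM).1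
  have heeF : hh (sfι F₀ e) (sfι F₀ e) = 0 := hh_sfι_zero F₀ hfix hee
  have hefF : hh (sfι F₀ e) (sfι F₀ f) = 1 := hh_sfι_one F₀ hfix hef
  have hfeF : hh (sfι F₀ f) (sfι F₀ e) = 1 := hh_sfι_one F₀ hfix hfe
  have hffF : hh (sfι F₀ f) (sfι F₀ f) = 0 := hh_sfι_zero F₀ hfix hff
  have hl0 : l ≠ 0 := by
    rintro rfl
    rw [zero_smul] at hme
    exact gl_mulVec_ne_zero m _ (sfι_ne_zero F₀ he0) hme
  -- the norm of `l` is rational
  have hl : l ^ (q + 1) ∈ F₀ := by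
    have h1 : utv q (sfι F₀ e) ((c₀ : F) * l ^ (q + 1)) ∈ M := by
      rw [← utv_smul _ heeF, ← hme, ← conj_utv m hmG _ heeF]
      exact M.mul_mem (M.mul_mem hmM (hHM (utv_rat_mem hF F₀ hQ hfix e hee c₀ hc0K)))
        (M.inv_mem hmM)
    have h2 : (c₀ : F) * l ^ (q + 1) + ((c₀ : F) * l ^ (q + 1)) ^ q = 0 := by
      rw [mul_pow, norm_pow_q hF]
      linear_combination (l ^ (q + 1)) * hc0F
    have h3 := hR _ h2 h1
    have h4 : l ^ (q + 1) = (c₀ : F)⁻¹ * ((c₀ : F) * l ^ (q + 1)) := by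
      rw [← mul_assoc, inv_mul_cancel₀ hc00F, one_mul]
    rw [h4]
    exact F₀.mul_mem (F₀.inv_mem c₀.2) h3
  have hme' : ((m⁻¹ : GL (Fin n) F) : Matrix (Fin n) (Fin n) F) *ᵥ sfι F₀ e = l⁻¹ • sfι F₀ e := by
    have h1 : sfι F₀ e = l⁻¹ • ((m : Matrix (Fin n) (Fin n) F) *ᵥ sfι F₀ e) := by
      rw [hme, smul_smul, inv_mul_cancel₀ hl0, one_smul]
    conv_lhs => rw [h1]
    rw [mulVec_smul, gl_inv_mulVec_mulVec]
  have hl' : (l⁻¹) ^ (q + 1) ∈ F₀ := by
    rw [inv_pow]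
    exact F₀.inv_mem hl
  have hrat := fun (w₀ : Fin n → F₀) (hw₀ : kk w₀ e = 0) =>
    rat_image hF F₀ hQ hfix M hHM hMG e f hee hff hfe hef hR m hmM l hl hme w₀ hw₀
  have hrat' := fun (w₀ : Fin n → F₀) (hw₀ : kk w₀ e = 0) =>
    rat_image hF F₀ hQ hfix M hHM hMG e f hee hff hfe hef hR m⁻¹ (M.inv_mem hmM) l⁻¹ hl' hme'
      w₀ hw₀
  -- the image of `f`
  set f' : Fin n → F := l ^ q • ((m : Matrix (Fin n) (Fin n) F) *ᵥ sfι F₀ f) with hf'
  have hf'val : ∀ y₀ : Fin n → F₀, kk y₀ e = 0 → hh f' (sfι F₀ y₀) ∈ F₀ := by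
    intro y₀ hy₀
    obtain ⟨w₀', hw₀'⟩ := hrat' y₀ hy₀
    have h1 : sfι F₀ y₀ = l ^ q • ((m : Matrix (Fin n) (Fin n) F) *ᵥ sfι F₀ w₀') := by
      rw [← hw₀', mulVec_smul, gl_mulVec_inv_mulVec, smul_smul, ← mul_pow, mul_inv_cancel₀ hl0,
        one_pow, one_smul]
    rw [h1, hf', hermForm_smul_left, hermForm_smul_right, pow_q_pow_q hF, GU_preserves hmG,
      hh_sfι F₀ hfix]
    have : l ^ q * (l * ((kk f w₀' : F₀) : F)) = l ^ (q + 1) * ((kk f w₀' : F₀) : F) := by ring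
    rw [this]
    exact F₀.mul_mem hl (kk f w₀').2
  set b := hh f' (sfι F₀ f) with hb
  set f'' : Fin n → F := f' - b • sfι F₀ e with hf''
  have hf''f : hh f'' (sfι F₀ f) = 0 := by
    rw [hf'', hermForm_sub_left, hermForm_smul_left (a := b), hefF, mul_one, ← hb, sub_self]
  have hcoord : ∀ i, f'' i ∈ F₀ := by
    intro i
    set x : Fin n → F₀ := Pi.single i 1 with hx
    set x₀ : Fin n → F₀ := x - (kk x e) • f with hx₀
    have hx₀e : kk x₀ e = 0 := by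
      rw [hx₀, hermForm_sub_left, hermForm_smul_left, hfe, mul_one, sub_self]
    have h1 : f'' i = hh f'' (sfι F₀ x) := by
      rw [hx, sfι_single, hermForm_single_right hF]
    have h2 : sfι F₀ x = sfι F₀ x₀ + ((kk x e : F₀) : F) • sfι F₀ f := by
      rw [hx₀, sfι_sub, sfι_smul']
      abel
    have h3 : hh (sfι F₀ e) (sfι F₀ x₀) = 0 :=
      hermForm_eq_zero_comm hF (hh_sfι_zero F₀ hfix hx₀e)
    rw [h1, h2, hermForm_add_right hF, hermForm_smul_right, hf''f, mul_zero, add_zero, hf'',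
      hermForm_sub_left, hermForm_smul_left (a := b), h3, mul_zero, sub_zero]
    exact hf'val x₀ hx₀e
  set f_r : Fin n → F₀ := fun i => ⟨f'' i, hcoord i⟩ with hf_r
  have hf_rι : sfι F₀ f_r = f'' := rfl
  have hf'dec : f' = sfι F₀ f_r + b • sfι F₀ e := by
    rw [hf_rι, hf'']
    abel
  have hf'f' : hh f' f' = 0 := by
    rw [hf', hermForm_smul_left, hermForm_smul_right, GU_preserves hmG, hffF, mul_zero, mul_zero]
  have hf'e : hh f' (sfι F₀ e) = 1 := by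
    have h1 : sfι F₀ e = l⁻¹ • ((m : Matrix (Fin n) (Fin n) F) *ᵥ sfι F₀ e) := by
      rw [hme, smul_smul, inv_mul_cancel₀ hl0, one_smul]
    rw [hf', h1, hermForm_smul_left, hermForm_smul_right, GU_preserves hmG, hfeF, inv_pow,
      mul_one]
    exact mul_inv_cancel₀ (pow_ne_zero _ hl0)
  have hfre : hh (sfι F₀ f_r) (sfι F₀ e) = 1 := by
    rw [hf_rι, hf'', hermForm_sub_left, hermForm_smul_left (a := b), heeF, mul_zero, sub_zero, hf'e]
  have hefr : hh (sfι F₀ e) (sfι F₀ f_r) = 1 := by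
    rw [← hermForm_conj hF, hfre, one_pow]
  have hbtr : b + b ^ q = -(hh (sfι F₀ f_r) (sfι F₀ f_r)) := by
    have h1 := hf'f'
    rw [hf'dec] at h1
    simp only [hermForm_add_left, hermForm_add_right hF, hermForm_smul_left, hermForm_smul_right,
      heeF, hfre, hefr, mul_zero, mul_one, add_zero] at h1
    linear_combination h1
  have hbmem : b + b ^ q ∈ F₀ := by
    rw [hbtr]
    exact F₀.neg_mem (hh_sfι_mem F₀ hfix f_r f_r)
  have hbfix : (b + b ^ q) ^ q = b + b ^ q := by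
    rw [frob_add hF, pow_q_pow_q hF]
    ring
  obtain ⟨b₀, hb₀⟩ := exists_rat_trace F₀ hQ hfix (b + b ^ q) hbmem hbfix
  set N := l ^ (q + 1) with hN
  have hN0 : N ≠ 0 := pow_ne_zero _ hl0
  have hNq : N ^ q = N := norm_pow_q hF l
  set c : F := ((b₀ : F) - b) / N with hc
  have hctr : c + c ^ q = 0 := by
    rw [hc, div_pow, frob_sub hF, hNq, ← add_div]
    have : (b₀ : F) - b + ((b₀ : F) ^ q - b ^ q) = 0 := by linear_combination hb₀
    rw [this, zero_div]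
  set m₁ : GL (Fin n) F := m * utv q (sfι F₀ e) c with hm₁
  have hm₁x : ∀ x : Fin n → F₀, ∃ y : Fin n → F₀,
      l ^ q • ((m₁ : Matrix (Fin n) (Fin n) F) *ᵥ sfι F₀ x) = sfι F₀ y := by
    intro x
    set k₀ : F₀ := kk x e with hk₀
    set x₀ : Fin n → F₀ := x - k₀ • f with hx₀
    have hx₀e : kk x₀ e = 0 := by
      rw [hx₀, hermForm_sub_left, hermForm_smul_left, hfe, mul_one, sub_self]
    obtain ⟨y₀, hy₀⟩ := hrat x₀ hx₀e
    have h2 : sfι F₀ x = sfι F₀ x₀ + (k₀ : F) • sfι F₀ f := by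
      rw [hx₀, sfι_sub, sfι_smul']
      abel
    refine ⟨y₀ + k₀ • f_r + (k₀ * b₀) • e, ?_⟩
    rw [hm₁, Units.val_mul, ← mulVec_mulVec, utv_mulVec _ heeF, hh_sfι F₀ hfix, ← hk₀, mulVec_add,
      mulVec_smul, hme, h2, mulVec_add, mulVec_smul, sfι_add, sfι_add, sfι_smul', sfι_smul', ← hy₀]
    have e1 : l ^ q • ((m : Matrix (Fin n) (Fin n) F) *ᵥ sfι F₀ f) =
        sfι F₀ f_r + b • sfι F₀ e := hf'dec
    have e2 : c * N = (b₀ : F) - b := by rw [hc, div_mul_cancel₀ _ hN0]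
    have e3 : l ^ q • (((m : Matrix (Fin n) (Fin n) F) *ᵥ sfι F₀ x₀ +
        (k₀ : F) • ((m : Matrix (Fin n) (Fin n) F) *ᵥ sfι F₀ f)) +
        (c * (k₀ : F)) • (l • sfι F₀ e)) =
        l ^ q • ((m : Matrix (Fin n) (Fin n) F) *ᵥ sfι F₀ x₀) +
        (k₀ : F) • (l ^ q • ((m : Matrix (Fin n) (Fin n) F) *ᵥ sfι F₀ f)) +
        ((k₀ : F) * (c * N)) • sfι F₀ e := by
      rw [hN, pow_succ]
      module
    rw [e3, e1, e2]
    push_cast
    module
  have hm₁sub : m₁ ∈ Cfsg.Geo.subfieldSubgroup F₀ (1 : GL (Fin n) F) := by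
    apply mem_sub_of_forall F₀ (by omega) m₁
    intro u
    obtain ⟨y, hy⟩ := hm₁x u
    refine ⟨(l ^ q)⁻¹, y, ?_⟩
    rw [← hy, smul_smul, inv_mul_cancel₀ (pow_ne_zero _ hl0), one_smul]
  have hm₁G : m₁ ∈ suGL (F := F) n q :=
    Subgroup.mul_mem _ (hMG hmM) (utv_mem_suGL hF _ heeF c hctr)
  have hm₁H : m₁ ∈ Hs F₀ n q := ⟨hm₁sub, hm₁G⟩
  have hutvM : utv q (sfι F₀ e) c ∈ M := by
    have : utv q (sfι F₀ e) c = m⁻¹ * m₁ := by rw [hm₁]; group
    rw [this]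
    exact M.mul_mem (M.inv_mem hmM) (hHM hm₁H)
  have hcF₀ := hR c hctr hutvM
  have hutvH : utv q (sfι F₀ e) c ∈ Hs F₀ n q := by
    have h1 : (⟨c, hcF₀⟩ : F₀) + (⟨c, hcF₀⟩ : F₀) ^ q1 = 0 := by
      apply Subtype.ext
      show c + c ^ q1 = 0
      rw [← hfix c hcF₀]
      exact hctr
    exact utv_rat_mem hF F₀ hQ hfix e hee ⟨c, hcF₀⟩ h1
  have : m = m₁ * (utv q (sfι F₀ e) c)⁻¹ := by rw [hm₁]; group
  rw [this]
  exact (Hs F₀ n q).mul_mem hm₁H ((Hs F₀ n q).inv_mem hutvH)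

end partI1

end Cfsg.Agent.Lib.Helper13.USub
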