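import Mathlib
import Cfsg.Agent.Lib.Helper13.USubJ

set_option autoImplicit false
set_option linter.unusedSectionVars false
set_option linter.style.haveILetI false
set_option maxHeartbeats 1600000

/-!
Subfield groups of the special unitary group: the parameters of the transvections in `M` with
rational centres; commutator relations.
-/

namespace Cfsg.Agent.Lib.Helper13.USub

open Matrix Module Cfsg.Agent.Lib.Helper99 Cfsg.Agent.Lib.Helper13

attribute [local instance] fintypeSub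

section comm

variable {F : Type*} [Field F] [Fintype F] {q n : ℕ}
variable (hF : Fintype.card F = q ^ 2)

local notation "hh" => Cfsg.hermForm n F q

include hF in
/-- the inverse of an Eichler element with isotropic vector and parameter zero -/
theorem Gel_inv_iso (e w : Fin n → F) (hee : hh e e = 0) (hwe : hh w e = 0) (hww : hh w w = 0) :
    (Gel q e w 0)⁻¹ = Gel q e (-w) 0 := by
  apply inv_eq_of_mul_eq_one_right
  have hnwe : hh (-w) e = 0 := by rw [hermForm_neg_left, hwe, neg_zero]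
  rw [Gel_mul hF e w (-w) 0 0 hee hwe hnwe, hermForm_neg_left, hww, add_neg_cancel, add_zero,
    neg_zero, sub_zero, Gel_zero hF e 0 hee, utv_zero e hee]

include hF in
/-- the commutator of a long root element and a short root element -/
theorem comm_long_short (e f e₂ : Fin n → F) (hee : hh e e = 0) (hff : hh f f = 0)
    (hef : hh e f = 1) (hfe : hh f e = 1) (h22 : hh e₂ e₂ = 0) (h2e : hh e₂ e = 0)
    (h2f : hh e₂ f = 0) (s l : F) (hs : s + s ^ q = 0) :
    utv q f s * Gel q e (l • e₂) 0 * (utv q f s)⁻¹ * (Gel q e (l • e₂) 0)⁻¹ =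
      Gel q f ((-(s * l)) • e₂) 0 * utv q e₂ (-(s * l ^ (q + 1))) := by
  have hsq : s ^ q = -s := eq_neg_of_add_eq_zero_right hs
  have he2 : hh e e₂ = 0 := hermForm_eq_zero_comm hF h2e
  have hf2 : hh f e₂ = 0 := hermForm_eq_zero_comm hF h2f
  have htG : utv q f s ∈ Cfsg.GU n F q := utv_mem_GU hF f hff s hs
  have hle : hh (l • e₂) e = 0 := by rw [hermForm_smul_left, h2e, mul_zero]
  have hll : hh (l • e₂) (l • e₂) = 0 := by
    rw [hermForm_smul_left, hermForm_smul_right, h22, mul_zero, mul_zero]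
  have h1 := Gel_conj hF (utv q f s) htG e (l • e₂) 0 hee hle
  rw [utv_mulVec f hff, utv_mulVec f hff, hef, mul_one, hermForm_smul_left, h2f, mul_zero,
    mul_zero, zero_smul, add_zero] at h1
  rw [h1, Gel_inv_iso hF e (l • e₂) hee hle hll]
  set e' : Fin n → F := e + s • f with he'
  have he'e' : hh e' e' = 0 := by
    rw [he', hermForm_add_left, hermForm_add_right hF, hermForm_add_right hF, hermForm_smul_left,
      hermForm_smul_left, hermForm_smul_right, hermForm_smul_right, hee, hff, hef, hfe, hsq]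
    ring
  have hle' : hh (l • e₂) e' = 0 := by
    rw [he', hermForm_smul_left, hermForm_add_right hF, hermForm_smul_right, h2e, h2f]
    ring
  have hnle : hh (-(l • e₂)) e = 0 := by rw [hermForm_neg_left, hle, neg_zero]
  have hf2' : hh ((-(s * l)) • e₂) f = 0 := by rw [hermForm_smul_left, h2f, mul_zero]
  have hcq : (-(s * l)) ^ q = s * l ^ q := by
    rw [frob_neg hF, mul_pow, hsq]
    ring
  apply Units.ext
  rw [Matrix.ext_iff_mulVec]
  intro x
  rw [Units.val_mul, Units.val_mul, ← mulVec_mulVec, ← mulVec_mulVec,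
    Gel_mulVec' hF e (-(l • e₂)) 0 hee hnle, Gel_mulVec' hF e' (l • e₂) 0 he'e' hle',
    utv_mulVec e₂ h22, Gel_mulVec' hF f _ 0 hff hf2']
  have k1 : hh x (-(l • e₂)) = -(l ^ q * hh x e₂) := by
    rw [hermForm_neg_right hF, hermForm_smul_right]
  have k2 : hh x e' = hh x e - s * hh x f := by
    rw [he', hermForm_add_right hF, hermForm_smul_right, hsq]
    ring
  have k3 : hh (-(l • e₂)) e' = 0 := by rw [hermForm_neg_left, hle', neg_zero]
  have k4 : hh e e' = -s := by
    rw [he', hermForm_add_right hF, hermForm_smul_right, hee, hef, hsq]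
    ring
  have k5 : hh (-(l • e₂)) (l • e₂) = 0 := by rw [hermForm_neg_left, hll, neg_zero]
  have k6 : hh e (l • e₂) = 0 := by rw [hermForm_smul_right, he2, mul_zero]
  have k7 : hh e₂ f = 0 := h2f
  have k8 : hh x ((-(s * l)) • e₂) = s * l ^ q * hh x e₂ := by
    rw [hermForm_smul_right, hcq]
  have k9 : hh e₂ ((-(s * l)) • e₂) = 0 := by rw [hermForm_smul_right, h22, mul_zero]
  have k10 : hh x (l • e₂) = l ^ q * hh x e₂ := hermForm_smul_right n q l x e₂
  simp only [hermForm_add_left, hermForm_smul_left, k1, k2, k3, k4, k5, k6, k7, k8, k9, k10,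
    mul_zero, zero_mul, add_zero, zero_add, sub_zero, zero_sub, neg_neg]
  rw [he', pow_succ]
  module

end comm

section good

variable {F : Type*} [Field F] [Fintype F] {q q1 n : ℕ}
variable (hF : Fintype.card F = q ^ 2) (F₀ : Subfield F)
variable (hQ : Nat.card F₀ = q1 ^ 2) (hfix : ∀ x ∈ F₀, x ^ q = x ^ q1)
variable (M : Subgroup (GL (Fin n) F)) (hHM : Hs F₀ n q ≤ M) (hMG : M ≤ suGL (F := F) n q)

local notation "hh" => Cfsg.hermForm n F q
local notation "kk" => Cfsg.hermForm n F₀ q1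

/-- a parameter all of whose transvections with rational centre lie in `M` -/
def Good (F₀ : Subfield F) (q1 q : ℕ) (M : Subgroup (GL (Fin n) F)) (c : F) : Prop :=
  c + c ^ q = 0 ∧ ∀ u : Fin n → F₀, Cfsg.hermForm n F₀ q1 u u = 0 → utv q (sfι F₀ u) c ∈ M

include hF hQ hfix hHM hMG in
theorem good_of_one (hn : 3 ≤ n) (e : Fin n → F₀) (he0 : e ≠ 0) (hee : kk e e = 0) (c : F)
    (hc : c + c ^ q = 0) (hmem : utv q (sfι F₀ e) c ∈ M) : Good F₀ q1 q M c := by
  refine ⟨hc, fun u hu => ?_⟩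
  by_cases hu0 : u = 0
  · rw [hu0, sfι_zero]
    have : utv q (0 : Fin n → F) c = 1 := by
      apply Units.ext
      rw [Matrix.ext_iff_mulVec]
      intro x
      rw [utv_mulVec 0 (hermForm_zero_left _), smul_zero, add_zero, Units.val_one, one_mulVec]
    rw [this]
    exact M.one_mem
  · exact utv_all_of_one hF F₀ hQ hfix M hHM hMG hn e he0 hee c hmem u hu0 hu

include hF hfix in
theorem good_add (c c' : F) (h : Good F₀ q1 q M c) (h' : Good F₀ q1 q M c') :
    Good F₀ q1 q M (c + c') := by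
  refine ⟨?_, fun u hu => ?_⟩
  · rw [frob_add hF]
    linear_combination h.1 + h'.1
  · rw [← utv_add _ (hh_sfι_zero F₀ hfix hu)]
    exact M.mul_mem (h.2 u hu) (h'.2 u hu)

include hF hfix in
theorem good_neg (c : F) (h : Good F₀ q1 q M c) : Good F₀ q1 q M (-c) := by
  refine ⟨?_, fun u hu => ?_⟩
  · rw [frob_neg hF]
    linear_combination -h.1
  · rw [← utv_inv _ (hh_sfι_zero F₀ hfix hu)]
    exact M.inv_mem (h.2 u hu)

include hF hQ hfix hHM in
theorem good_rat (c : F₀) (hc : c + c ^ q1 = 0) : Good F₀ q1 q M (c : F) := by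
  refine ⟨?_, fun u hu => hHM (utv_rat_mem hF F₀ hQ hfix u hu c hc)⟩
  rw [coe_pow_q F₀ hfix]
  exact congrArg Subtype.val hc

include hF hfix in
theorem good_norm (c : F) (h : Good F₀ q1 q M c) (l : F₀) :
    Good F₀ q1 q M (c * (l : F) ^ (q + 1)) := by
  refine ⟨?_, fun u hu => ?_⟩
  · rw [mul_pow, norm_pow_q hF]
    linear_combination ((l : F) ^ (q + 1)) * h.1
  · have hlu : kk (l • u) (l • u) = 0 := by
      rw [hermForm_smul_left, hermForm_smul_right, hu, mul_zero, mul_zero]
    have := h.2 (l • u) hlu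
    rw [sfι_smul', utv_smul _ (hh_sfι_zero F₀ hfix hu)] at this
    exact this

include hF hQ hfix hHM hMG in
/-- short root elements with parameters in `Good · F₀` -/
theorem short_mem (e f e₂ : Fin n → F₀) (hee : kk e e = 0) (hff : kk f f = 0) (hef : kk e f = 1)
    (hfe : kk f e = 1) (h22 : kk e₂ e₂ = 0) (h2e : kk e₂ e = 0) (h2f : kk e₂ f = 0) (s : F)
    (hs : Good F₀ q1 q M s) (l : F₀) :
    Gel q (sfι F₀ f) ((s * (l : F)) • sfι F₀ e₂) 0 ∈ M := by
  have hK := card_K F₀ hQ
  have hns := good_neg hF F₀ hfix M s hs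
  have hlw : kk (l • e₂) e = 0 := by rw [hermForm_smul_left, h2e, mul_zero]
  have hα : (0 : F₀) + (0 : F₀) ^ q1 + kk (l • e₂) (l • e₂) = 0 := by
    have hq1 : q1 ≠ 0 := by have := two_le_q hK; omega
    rw [hermForm_smul_left, hermForm_smul_right, h22, zero_pow hq1]
    ring
  have hE : Gel q (sfι F₀ e) ((l : F) • sfι F₀ e₂) 0 ∈ M := by
    have := hHM (Gel_rat_mem hF F₀ hQ hfix e (l • e₂) 0 hee hlw hα)
    rw [sfι_smul'] at this
    exact this
  have ht : utv q (sfι F₀ f) (-s) ∈ M := hns.2 f hff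
  have hcomm := comm_long_short hF (sfι F₀ e) (sfι F₀ f) (sfι F₀ e₂) (hh_sfι_zero F₀ hfix hee)
    (hh_sfι_zero F₀ hfix hff) (hh_sfι_one F₀ hfix hef) (hh_sfι_one F₀ hfix hfe)
    (hh_sfι_zero F₀ hfix h22) (hh_sfι_zero F₀ hfix h2e) (hh_sfι_zero F₀ hfix h2f) (-s) (l : F) hns.1
  have hC : utv q (sfι F₀ f) (-s) * Gel q (sfι F₀ e) ((l : F) • sfι F₀ e₂) 0 *
      (utv q (sfι F₀ f) (-s))⁻¹ * (Gel q (sfι F₀ e) ((l : F) • sfι F₀ e₂) 0)⁻¹ ∈ M :=
    M.mul_mem (M.mul_mem (M.mul_mem ht hE) (M.inv_mem ht)) (M.inv_mem hE)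
  rw [hcomm] at hC
  have hu : utv q (sfι F₀ e₂) (-(-s * (l : F) ^ (q + 1))) ∈ M := by
    have h1 := good_norm hF F₀ hfix M s hs l
    have : -(-s * (l : F) ^ (q + 1)) = s * (l : F) ^ (q + 1) := by ring
    rw [this]
    exact h1.2 e₂ h22
  have : Gel q (sfι F₀ f) ((s * (l : F)) • sfι F₀ e₂) 0 =
      (Gel q (sfι F₀ f) ((-(-s * (l : F))) • sfι F₀ e₂) 0 *
        utv q (sfι F₀ e₂) (-(-s * (l : F) ^ (q + 1)))) *
      (utv q (sfι F₀ e₂) (-(-s * (l : F) ^ (q + 1))))⁻¹ := by
    rw [mul_inv_cancel_right]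
    congr 2
    ring
  rw [this]
  exact M.mul_mem hC (M.inv_mem hu)

end good

end Cfsg.Agent.Lib.Helper13.USub
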