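import Mathlib
import Cfsg.Agent.Lib.Helper13.USubK

set_option autoImplicit false
set_option linter.unusedSectionVars false
set_option linter.style.haveILetI false
set_option maxHeartbeats 1600000

/-!
Subfield groups of the special unitary group: if `M` contains one non-rational transvection with
rational centre then it contains all of them, and all the short root elements.
-/

namespace Cfsg.Agent.Lib.Helper13.USub

open Matrix Module Cfsg.Agent.Lib.Helper99 Cfsg.Agent.Lib.Helper13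

attribute [local instance] fintypeSub

/-- between a subfield of prime index and the whole field there is nothing -/
theorem subfield_eq_of_prime {F : Type*} [Field F] [Fintype F] (F₀ E : Subfield F) (r : ℕ)
    (hr : r.Prime) (hcard : Fintype.card F = Nat.card F₀ ^ r) (hle : F₀ ≤ E) :
    E = F₀ ∨ E = ⊤ := by
  classical
  haveI : Fintype F₀ := Fintype.ofFinite _
  haveI : Fintype E := Fintype.ofFinite _
  letI : Algebra F₀ E := (Subfield.inclusion hle).toAlgebra
  have h1 : Fintype.card F = Fintype.card E ^ Module.finrank E F := Module.card_eq_pow_finrank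
  have h2 : Fintype.card E = Fintype.card F₀ ^ Module.finrank F₀ E := Module.card_eq_pow_finrank
  have hQ2 : 2 ≤ Fintype.card F₀ := Fintype.one_lt_card
  rw [Nat.card_eq_fintype_card] at hcard
  have h3 : Fintype.card F₀ ^ r =
      Fintype.card F₀ ^ (Module.finrank F₀ E * Module.finrank E F) := by
    rw [← hcard, h1, h2, pow_mul]
  have h4 : r = Module.finrank F₀ E * Module.finrank E F :=
    Nat.pow_right_injective hQ2 h3
  rcases (Nat.dvd_prime hr).mp (Dvd.intro _ h4.symm) with h5 | h5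
  · left
    rw [h5, pow_one] at h2
    symm
    apply SetLike.coe_injective
    apply Set.eq_of_subset_of_ncard_le hle _ (Set.toFinite _)
    rw [← Nat.card_coe_set_eq, ← Nat.card_coe_set_eq]
    show Nat.card E ≤ Nat.card F₀
    rw [Nat.card_eq_fintype_card, Nat.card_eq_fintype_card, h2]
  · right
    rw [h5] at h4
    have h6 : Module.finrank E F = 1 := by
      have := hr.pos
      have h7 : r * 1 = r * Module.finrank E F := by rw [mul_one]; exact h4
      exact (Nat.eq_of_mul_eq_mul_left this h7).symm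
    rw [h6, pow_one] at h1
    apply SetLike.coe_injective
    apply Set.eq_of_subset_of_ncard_le (Set.subset_univ _) _ (Set.toFinite _)
    rw [← Nat.card_coe_set_eq, ← Nat.card_coe_set_eq]
    show Nat.card (Set.univ : Set F) ≤ Nat.card E
    rw [Nat.card_eq_fintype_card, Nat.card_eq_fintype_card, ← h1]
    simp

section config

variable {K : Type*} [Field K] [Fintype K] {q1 n : ℕ}

local notation "kk" => Cfsg.hermForm n K q1

/-- two orthogonal hyperbolic pairs supported on disjoint pairs of coordinates -/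
theorem exists_config (hK : Fintype.card K = q1 ^ 2) (i j k l : Fin n) (hij : i ≠ j) (hkl : k ≠ l)
    (hki : k ≠ i) (hkj : k ≠ j) (hli : l ≠ i) (hlj : l ≠ j) :
    ∃ e f e₂ f₂ : Fin n → K, kk e e = 0 ∧ kk f f = 0 ∧ kk e f = 1 ∧ kk f e = 1 ∧
      kk e₂ e₂ = 0 ∧ kk f₂ f₂ = 0 ∧ kk e₂ f₂ = 1 ∧ kk f₂ e₂ = 1 ∧
      kk e₂ e = 0 ∧ kk e₂ f = 0 ∧ kk f₂ e = 0 ∧ kk f₂ f = 0 ∧
      (∀ m, m ≠ i → m ≠ j → e m = 0 ∧ f m = 0) ∧
      (∀ m, m ≠ k → m ≠ l → e₂ m = 0 ∧ f₂ m = 0) := by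
  have hq0 : q1 ≠ 0 := by have := two_le_q hK; omega
  obtain ⟨e, f, hee, hff, hef, hsup⟩ := exists_hyp_pair_coords (n := n) hK i j hij
  obtain ⟨e₂, f₂, h22, hff2, hef2, hsup2⟩ := exists_hyp_pair_coords (n := n) hK k l hkl
  have hfe : kk f e = 1 := by rw [← hermForm_conj hK n e f, hef, one_pow]
  have hfe2 : kk f₂ e₂ = 1 := by rw [← hermForm_conj hK n e₂ f₂, hef2, one_pow]
  have hdis : ∀ (x y : Fin n → K), (∀ m, m ≠ k → m ≠ l → x m = 0) →
      (∀ m, m ≠ i → m ≠ j → y m = 0) → kk x y = 0 := by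
    intro x y hx hy
    apply hermForm_eq_zero_of_disjoint x y _ hq0
    intro m
    by_cases hmk : m = k
    · right
      exact hy m (by rw [hmk]; exact hki) (by rw [hmk]; exact hkj)
    · by_cases hml : m = l
      · right
        exact hy m (by rw [hml]; exact hli) (by rw [hml]; exact hlj)
      · left
        exact hx m hmk hml
  refine ⟨e, f, e₂, f₂, hee, hff, hef, hfe, h22, hff2, hef2, hfe2, ?_, ?_, ?_, ?_, hsup, hsup2⟩
  · exact hdis e₂ e (fun m h1 h2 => (hsup2 m h1 h2).1) (fun m h1 h2 => (hsup m h1 h2).1)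
  · exact hdis e₂ f (fun m h1 h2 => (hsup2 m h1 h2).1) (fun m h1 h2 => (hsup m h1 h2).2)
  · exact hdis f₂ e (fun m h1 h2 => (hsup2 m h1 h2).2) (fun m h1 h2 => (hsup m h1 h2).1)
  · exact hdis f₂ f (fun m h1 h2 => (hsup2 m h1 h2).2) (fun m h1 h2 => (hsup m h1 h2).2)

/-- the same with the first four coordinates -/
theorem exists_config' (hK : Fintype.card K = q1 ^ 2) (hn : 4 ≤ n) :
    ∃ e f e₂ f₂ : Fin n → K, kk e e = 0 ∧ kk f f = 0 ∧ kk e f = 1 ∧ kk f e = 1 ∧
      kk e₂ e₂ = 0 ∧ kk f₂ f₂ = 0 ∧ kk e₂ f₂ = 1 ∧ kk f₂ e₂ = 1 ∧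
      kk e₂ e = 0 ∧ kk e₂ f = 0 ∧ kk f₂ e = 0 ∧ kk f₂ f = 0 := by
  obtain ⟨e, f, e₂, f₂, h1, h2, h3, h4, h5, h6, h7, h8, h9, h10, h11, h12, -, -⟩ :=
    exists_config hK (⟨0, by omega⟩ : Fin n) ⟨1, by omega⟩ ⟨2, by omega⟩ ⟨3, by omega⟩
      (by simp [Fin.ext_iff]) (by simp [Fin.ext_iff]) (by simp [Fin.ext_iff])
      (by simp [Fin.ext_iff]) (by simp [Fin.ext_iff]) (by simp [Fin.ext_iff])
  exact ⟨e, f, e₂, f₂, h1, h2, h3, h4, h5, h6, h7, h8, h9, h10, h11, h12⟩

end config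

section mult

variable {F : Type*} [Field F] [Fintype F]

/-- the multipliers of an additive subgroup of a finite field form a subfield -/
def multField (S : AddSubgroup F) : Subfield F where
  carrier := {x | ∀ μ ∈ S, x * μ ∈ S}
  mul_mem' := by
    intro a b ha hb μ hμ
    rw [mul_assoc]
    exact ha _ (hb _ hμ)
  one_mem' := by
    intro μ hμ
    rw [one_mul]
    exact hμ
  add_mem' := by
    intro a b ha hb μ hμ
    rw [add_mul]
    exact S.add_mem (ha _ hμ) (hb _ hμ)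
  zero_mem' := by
    intro μ _
    rw [zero_mul]
    exact S.zero_mem
  neg_mem' := by
    intro a ha μ hμ
    rw [neg_mul]
    exact S.neg_mem (ha _ hμ)
  inv_mem' := by
    intro a ha
    by_cases ha0 : a = 0
    · rw [ha0, _root_.inv_zero]
      intro μ _
      rw [zero_mul]
      exact S.zero_mem
    · have hpow : ∀ k : ℕ, ∀ μ ∈ S, a ^ k * μ ∈ S := by
        intro k
        induction k with
        | zero =>
          intro μ hμ
          rw [pow_zero, one_mul]
          exact hμ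
        | succ k ih =>
          intro μ hμ
          rw [pow_succ, mul_assoc]
          exact ih _ (ha _ hμ)
      have h1 : a ^ (Fintype.card F - 1) = 1 := FiniteField.pow_card_sub_one_eq_one a ha0
      have hc2 : 2 ≤ Fintype.card F := Fintype.one_lt_card
      have h2 : a⁻¹ = a ^ (Fintype.card F - 2) := by
        apply inv_eq_of_mul_eq_one_right
        rw [← pow_succ']
        have : Fintype.card F - 2 + 1 = Fintype.card F - 1 := by omega
        rw [this, h1]
      rw [h2]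
      exact hpow _

theorem mem_multField (S : AddSubgroup F) (x : F) :
    x ∈ multField S ↔ ∀ μ ∈ S, x * μ ∈ S := Iff.rfl

end mult

section all

variable {F : Type*} [Field F] [Fintype F] {q q1 n : ℕ}
variable (hF : Fintype.card F = q ^ 2) (F₀ : Subfield F)
variable (hQ : Nat.card F₀ = q1 ^ 2) (hfix : ∀ x ∈ F₀, x ^ q = x ^ q1)
variable (M : Subgroup (GL (Fin n) F)) (hHM : Hs F₀ n q ≤ M) (hMG : M ≤ suGL (F := F) n q)

local notation "hh" => Cfsg.hermForm n F q
local notation "kk" => Cfsg.hermForm n F₀ q1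

include hF hQ hfix hHM hMG in
/-- products of good parameters -/
theorem good_mul (hn : 4 ≤ n) (s s' : F) (hs : Good F₀ q1 q M s) (hs' : Good F₀ q1 q M s')
    (θ : F₀) : Good F₀ q1 q M (s * s' * ((θ : F) - (θ : F) ^ q)) := by
  have hK := card_K F₀ hQ
  obtain ⟨e, f, e₂, f₂, hee, hff, hef, hfe, h22, hff2, hef2, hfe2, h2e, h2f, hf2e, hf2f⟩ :=
    exists_config' hK hn
  have hA := short_mem hF F₀ hQ hfix M hHM hMG e f e₂ hee hff hef hfe h22 h2e h2f s hs 1
  have hB := short_mem hF F₀ hQ hfix M hHM hMG e f f₂ hee hff hef hfe hff2 hf2e hf2f s' hs' θ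
  have hffF := hh_sfι_zero F₀ hfix hff
  have h1 : hh ((s * ((1 : F₀) : F)) • sfι F₀ e₂) (sfι F₀ f) = 0 := by
    rw [hermForm_smul_left, hh_sfι_zero F₀ hfix h2f, mul_zero]
  have h2 : hh ((s' * (θ : F)) • sfι F₀ f₂) (sfι F₀ f) = 0 := by
    rw [hermForm_smul_left, hh_sfι_zero F₀ hfix hf2f, mul_zero]
  have hcomm := Gel_comm hF (sfι F₀ f) _ _ 0 0 hffF h1 h2
  have hmem : utv q (sfι F₀ f) (hh ((s * ((1 : F₀) : F)) • sfι F₀ e₂) ((s' * (θ : F)) • sfι F₀ f₂) -
      hh ((s' * (θ : F)) • sfι F₀ f₂) ((s * ((1 : F₀) : F)) • sfι F₀ e₂)) ∈ M := by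
    rw [← hcomm]
    exact M.mul_mem (M.inv_mem (M.mul_mem hB hA)) (M.mul_mem hA hB)
  have hsq : s ^ q = -s := eq_neg_of_add_eq_zero_right hs.1
  have hsq' : s' ^ q = -s' := eq_neg_of_add_eq_zero_right hs'.1
  have hpar : hh ((s * ((1 : F₀) : F)) • sfι F₀ e₂) ((s' * (θ : F)) • sfι F₀ f₂) -
      hh ((s' * (θ : F)) • sfι F₀ f₂) ((s * ((1 : F₀) : F)) • sfι F₀ e₂) =
      s * s' * ((θ : F) - (θ : F) ^ q) := by
    rw [hermForm_smul_left, hermForm_smul_right, hermForm_smul_left, hermForm_smul_right,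
      hh_sfι_one F₀ hfix hef2, hh_sfι_one F₀ hfix hfe2, mul_pow, mul_pow, hsq, hsq']
    simp only [Subfield.coe_one, one_pow]
    ring
  rw [hpar] at hmem
  have hf0 : f ≠ 0 := by
    rintro rfl
    rw [hermForm_zero_left] at hfe
    exact zero_ne_one hfe
  refine good_of_one hF F₀ hQ hfix M hHM hMG (by omega) f hf0 hff _ ?_ hmem
  rw [mul_pow, mul_pow, hsq, hsq', frob_sub hF, pow_q_pow_q hF]
  ring

/-- the additive group generated by the rational multiples of the good parameters -/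
def Sg (F₀ : Subfield F) (q1 q : ℕ) (M : Subgroup (GL (Fin n) F)) : AddSubgroup F :=
  AddSubgroup.closure {x | ∃ l ∈ F₀, ∃ s, Good F₀ q1 q M s ∧ x = l * s}

/-- the multipliers of `Sg` -/
def mulField (F₀ : Subfield F) (q1 q : ℕ) (M : Subgroup (GL (Fin n) F)) : Subfield F :=
  multField (Sg F₀ q1 q M)

theorem mem_mulField (x : F) :
    x ∈ mulField F₀ q1 q M ↔ ∀ μ ∈ Sg F₀ q1 q M, x * μ ∈ Sg F₀ q1 q M := Iff.rfl

theorem le_mulField : F₀ ≤ mulField F₀ q1 q M := by
  intro x hx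
  rw [mem_mulField]
  intro μ hμ
  unfold Sg at hμ ⊢
  induction hμ using AddSubgroup.closure_induction with
  | mem y hy =>
    obtain ⟨l, hl, s, hs, rfl⟩ := hy
    apply AddSubgroup.subset_closure
    exact ⟨x * l, F₀.mul_mem hx hl, s, hs, by ring⟩
  | zero =>
    rw [mul_zero]
    exact AddSubgroup.zero_mem _
  | add a b _ _ ha hb =>
    rw [mul_add]
    exact AddSubgroup.add_mem _ ha hb
  | neg a _ ha =>
    rw [mul_neg]
    exact AddSubgroup.neg_mem _ ha

include hF hQ hfix hHM hMG in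
theorem good_mem_mulField (hn : 4 ≤ n) (s' : F) (hs' : Good F₀ q1 q M s') (θ : F₀) :
    s' * ((θ : F) - (θ : F) ^ q) ∈ mulField F₀ q1 q M := by
  rw [mem_mulField]
  intro μ hμ
  unfold Sg at hμ ⊢
  induction hμ using AddSubgroup.closure_induction with
  | mem y hy =>
    obtain ⟨l, hl, s, hs, rfl⟩ := hy
    apply AddSubgroup.subset_closure
    refine ⟨l, hl, s * s' * ((θ : F) - (θ : F) ^ q),
      good_mul hF F₀ hQ hfix M hHM hMG hn s s' hs hs' θ, by ring⟩
  | zero =>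
    rw [mul_zero]
    exact AddSubgroup.zero_mem _
  | add a b _ _ ha hb =>
    rw [mul_add]
    exact AddSubgroup.add_mem _ ha hb
  | neg a _ ha =>
    rw [mul_neg]
    exact AddSubgroup.neg_mem _ ha

include hF hQ hfix hHM hMG in
/-- if there is a good parameter outside `F₀` then `Sg` is everything -/
theorem Sg_eq_top (hn : 4 ≤ n) (r : ℕ) (hr : r.Prime) (hcard : Fintype.card F = Nat.card F₀ ^ r)
    (c₀ : F) (hc₀ : Good F₀ q1 q M c₀) (hc₀' : c₀ ∉ F₀) (μ : F) : μ ∈ Sg F₀ q1 q M := by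
  have hK := card_K F₀ hQ
  obtain ⟨θ, hθ⟩ := exists_pow_q_ne hK
  have hθ' : (θ : F) - (θ : F) ^ q ≠ 0 := by
    rw [coe_pow_q F₀ hfix]
    intro h
    apply hθ
    apply Subtype.ext
    exact (sub_eq_zero.mp h).symm
  have hθmem : (θ : F) - (θ : F) ^ q ∈ F₀ := by
    rw [coe_pow_q F₀ hfix]
    exact F₀.sub_mem θ.2 (θ ^ q1).2
  have hx := good_mem_mulField hF F₀ hQ hfix M hHM hMG hn c₀ hc₀ θ
  have hne : mulField F₀ q1 q M ≠ F₀ := by
    intro h
    rw [h] at hx
    apply hc₀'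
    have := F₀.mul_mem hx (F₀.inv_mem hθmem)
    rwa [mul_assoc, mul_inv_cancel₀ hθ', mul_one] at this
  have htop : mulField F₀ q1 q M = ⊤ :=
    (subfield_eq_of_prime F₀ _ r hr hcard (le_mulField F₀ M)).resolve_left hne
  have hc0 : c₀ ≠ 0 := by
    rintro rfl
    exact hc₀' F₀.zero_mem
  have hcS : c₀ ∈ Sg F₀ q1 q M := by
    apply AddSubgroup.subset_closure
    exact ⟨1, F₀.one_mem, c₀, hc₀, by ring⟩
  have hall : μ * c₀⁻¹ ∈ mulField F₀ q1 q M := by
    rw [htop]
    exact Subfield.mem_top _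
  have := (mem_mulField F₀ M _).mp hall c₀ hcS
  rwa [mul_assoc, inv_mul_cancel₀ hc0, mul_one] at this

include hF hQ hfix hHM hMG in
/-- all short root elements of a rational configuration lie in `M` -/
theorem short_all (hn : 4 ≤ n) (r : ℕ) (hr : r.Prime) (hcard : Fintype.card F = Nat.card F₀ ^ r)
    (c₀ : F) (hc₀ : Good F₀ q1 q M c₀) (hc₀' : c₀ ∉ F₀)
    (e f e₂ : Fin n → F₀) (hee : kk e e = 0) (hff : kk f f = 0) (hef : kk e f = 1)
    (hfe : kk f e = 1) (h22 : kk e₂ e₂ = 0) (h2e : kk e₂ e = 0) (h2f : kk e₂ f = 0) (μ : F) :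
    Gel q (sfι F₀ f) (μ • sfι F₀ e₂) 0 ∈ M := by
  have hμ := Sg_eq_top hF F₀ hQ hfix M hHM hMG hn r hr hcard c₀ hc₀ hc₀' μ
  have hffF := hh_sfι_zero F₀ hfix hff
  have h22F := hh_sfι_zero F₀ hfix h22
  have h2fF := hh_sfι_zero F₀ hfix h2f
  have hperp : ∀ a : F, hh (a • sfι F₀ e₂) (sfι F₀ f) = 0 := by
    intro a
    rw [hermForm_smul_left, h2fF, mul_zero]
  unfold Sg at hμ
  induction hμ using AddSubgroup.closure_induction with
  | mem y hy =>
    obtain ⟨l, hl, s, hs, rfl⟩ := hy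
    have := short_mem hF F₀ hQ hfix M hHM hMG e f e₂ hee hff hef hfe h22 h2e h2f s hs ⟨l, hl⟩
    rwa [mul_comm] at this
  | zero =>
    rw [zero_smul, Gel_zero hF _ 0 hffF, utv_zero _ hffF]
    exact M.one_mem
  | add a b _ _ ha hb =>
    have := M.mul_mem ha hb
    rw [Gel_mul hF _ _ _ 0 0 hffF (hperp a) (hperp b), hermForm_smul_left, hermForm_smul_right,
      h22F, mul_zero, mul_zero, add_zero, sub_zero, ← add_smul] at this
    exact this
  | neg a _ ha =>
    have := M.inv_mem ha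
    rw [Gel_inv_iso hF _ _ hffF (hperp a) (by
      rw [hermForm_smul_left, hermForm_smul_right, h22F, mul_zero, mul_zero]), ← neg_smul] at this
    exact this

include hF hQ hfix hHM hMG in
/-- every transvection with rational centre lies in `M` -/
theorem all_good (hn : 4 ≤ n) (r : ℕ) (hr : r.Prime) (hcard : Fintype.card F = Nat.card F₀ ^ r)
    (c₀ : F) (hc₀ : Good F₀ q1 q M c₀) (hc₀' : c₀ ∉ F₀) (c : F) (hc : c + c ^ q = 0) :
    Good F₀ q1 q M c := by
  have hK := card_K F₀ hQ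
  have hq1 : q1 ≠ 0 := by have := two_le_q hK; omega
  obtain ⟨e, f, e₂, f₂, hee, hff, hef, hfe, h22, hff2, hef2, hfe2, h2e, h2f, hf2e, hf2f⟩ :=
    exists_config' hK hn
  obtain ⟨τ, hτ0, hτ⟩ := exists_trace_zero hF
  have hτq : τ ^ q = -τ := eq_neg_of_add_eq_zero_right hτ
  have hcq : c ^ q = -c := eq_neg_of_add_eq_zero_right hc
  have hfixed : (c * τ⁻¹) ^ q = c * τ⁻¹ := by
    rw [mul_pow, inv_pow, hτq, hcq]
    field_simp
  obtain ⟨ν, hν⟩ := exists_trace_eq' hF (c * τ⁻¹) hfixed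
  have hA := short_all hF F₀ hQ hfix M hHM hMG hn r hr hcard c₀ hc₀ hc₀' e f e₂ hee hff hef hfe
    h22 h2e h2f (τ * ν)
  have hα : (0 : F₀) + (0 : F₀) ^ q1 + kk f₂ f₂ = 0 := by
    rw [hff2, zero_pow hq1]
    ring
  have hB : Gel q (sfι F₀ f) (sfι F₀ f₂) 0 ∈ M :=
    hHM (Gel_rat_mem hF F₀ hQ hfix f f₂ 0 hff hf2f hα)
  have hffF := hh_sfι_zero F₀ hfix hff
  have h1 : hh ((τ * ν) • sfι F₀ e₂) (sfι F₀ f) = 0 := by
    rw [hermForm_smul_left, hh_sfι_zero F₀ hfix h2f, mul_zero]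
  have h2 : hh (sfι F₀ f₂) (sfι F₀ f) = 0 := hh_sfι_zero F₀ hfix hf2f
  have hcomm := Gel_comm hF (sfι F₀ f) _ _ 0 0 hffF h1 h2
  have hmem : utv q (sfι F₀ f) (hh ((τ * ν) • sfι F₀ e₂) (sfι F₀ f₂) -
      hh (sfι F₀ f₂) ((τ * ν) • sfι F₀ e₂)) ∈ M := by
    rw [← hcomm]
    exact M.mul_mem (M.inv_mem (M.mul_mem hB hA)) (M.mul_mem hA hB)
  have hpar : hh ((τ * ν) • sfι F₀ e₂) (sfι F₀ f₂) - hh (sfι F₀ f₂) ((τ * ν) • sfι F₀ e₂) = c := by
    rw [hermForm_smul_left, hermForm_smul_right, hh_sfι_one F₀ hfix hef2,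
      hh_sfι_one F₀ hfix hfe2, mul_pow, hτq]
    have : c = τ * (ν + ν ^ q) := by
      rw [hν]
      field_simp
    rw [this]
    ring
  rw [hpar] at hmem
  have hf0 : f ≠ 0 := by
    rintro rfl
    rw [hermForm_zero_left] at hfe
    exact zero_ne_one hfe
  exact good_of_one hF F₀ hQ hfix M hHM hMG (by omega) f hf0 hff c hc hmem

end all

end Cfsg.Agent.Lib.Helper13.USub
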