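import Mathlib
import Cfsg.Agent.Lib.Helper13.USubL

set_option autoImplicit false
set_option linter.unusedSectionVars false
set_option linter.style.haveILetI false
set_option maxHeartbeats 1600000

/-!
Subfield groups of the special unitary group: an overgroup containing all the transvections with
rational centres and all the short root elements is the whole special unitary group.
-/

namespace Cfsg.Agent.Lib.Helper13.USub

open Matrix Module Cfsg.Agent.Lib.Helper99 Cfsg.Agent.Lib.Helper13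

attribute [local instance] fintypeSub

section coords

variable {K : Type*} [Field K] {q n : ℕ}

local notation "hk" => Cfsg.hermForm n K q

/-- the form when the second vector is supported on two coordinates -/
theorem hermForm_support_right (hq : q ≠ 0) (i j : Fin n) (hij : i ≠ j) (x y : Fin n → K)
    (hy : ∀ m, m ≠ i → m ≠ j → y m = 0) : hk x y = x i * y i ^ q + x j * y j ^ q := by
  unfold Cfsg.hermForm
  apply Finset.sum_eq_add i j hij
  · intro c _ hc
    rw [hy c hc.1 hc.2, zero_pow hq, mul_zero]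
  · intro h
    exact absurd (Finset.mem_univ _) h
  · intro h
    exact absurd (Finset.mem_univ _) h

/-- the vector with entries `1` and `ζ` at the places `k` and `l` -/
def pv (k l : Fin n) (ζ : K) : Fin n → K := fun m => if m = k then 1 else if m = l then ζ else 0

theorem pv_left (k l : Fin n) (ζ : K) : pv k l ζ k = 1 := by simp [pv]

theorem pv_right (k l : Fin n) (hkl : k ≠ l) (ζ : K) : pv k l ζ l = ζ := by
  simp [pv, hkl.symm]

theorem pv_other (k l : Fin n) (ζ : K) (m : Fin n) (hmk : m ≠ k) (hml : m ≠ l) :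
    pv k l ζ m = 0 := by
  simp [pv, hmk, hml]

theorem pv_ne_zero (k l : Fin n) (ζ : K) : pv k l ζ ≠ 0 := by
  intro h
  have := congrFun h k
  rw [pv_left] at this
  exact one_ne_zero this

theorem pv_isotropic (hq : q ≠ 0) (k l : Fin n) (hkl : k ≠ l) (ζ : K) (hζ : ζ * ζ ^ q = -1) :
    hk (pv k l ζ) (pv k l ζ) = 0 := by
  rw [hermForm_support_right hq k l hkl _ _ (fun m h1 h2 => pv_other k l ζ m h1 h2), pv_left,
    pv_right k l hkl, one_pow, one_mul, hζ]
  ring

/-- a vector orthogonal to a hyperbolic pair supported on two coordinates vanishes there -/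
theorem eq_zero_of_perp_pair (hq : q ≠ 0) (i j : Fin n) (hij : i ≠ j) (e f v : Fin n → K)
    (he : ∀ m, m ≠ i → m ≠ j → e m = 0) (hf : ∀ m, m ≠ i → m ≠ j → f m = 0)
    (hee : hk e e = 0) (hff : hk f f = 0) (hef : hk e f = 1) (hfe : hk f e = 1)
    (hve : hk v e = 0) (hvf : hk v f = 0) : v i = 0 ∧ v j = 0 := by
  rw [hermForm_support_right hq i j hij _ _ he] at hee hfe hve
  rw [hermForm_support_right hq i j hij _ _ hf] at hff hef hvf
  have hΔ : e i ^ q * f j ^ q - e j ^ q * f i ^ q ≠ 0 := by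
    intro h
    have : (1 : K) = 0 := by
      linear_combination (f i * f i ^ q + f j * f j ^ q) * hee - (e i * f j - e j * f i) * h -
        (f i * e i ^ q + f j * e j ^ q) * hef - hfe
    exact one_ne_zero this
  have h1 : v i * (e i ^ q * f j ^ q - e j ^ q * f i ^ q) = 0 := by
    linear_combination (f j ^ q) * hve - (e j ^ q) * hvf
  have h2 : v j * (e i ^ q * f j ^ q - e j ^ q * f i ^ q) = 0 := by
    linear_combination (e i ^ q) * hvf - (f i ^ q) * hve
  exact ⟨(mul_eq_zero.mp h1).resolve_right hΔ, (mul_eq_zero.mp h2).resolve_right hΔ⟩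

end coords

section two

variable {K : Type*} [Field K] [Fintype K] {q : ℕ}

/-- two different elements of norm `-1` -/
theorem exists_two_norm_neg_one (hK : Fintype.card K = q ^ 2) :
    ∃ ζ ζ' : K, ζ * ζ ^ q = -1 ∧ ζ' * ζ' ^ q = -1 ∧ ζ ≠ ζ' := by
  obtain ⟨ζ, hζ⟩ := exists_norm_neg_one hK
  obtain ⟨ε, hε, hε1⟩ := exists_normOne_ne_one hK
  have hζ0 : ζ ≠ 0 := by
    rintro rfl
    rw [zero_mul] at hζ
    exact one_ne_zero (neg_eq_zero.mp hζ.symm)
  refine ⟨ζ, ε * ζ, hζ, ?_, ?_⟩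
  · rw [mul_pow]
    have : ε * ε ^ q = 1 := by rw [← pow_succ']; exact hε
    linear_combination (ζ * ζ ^ q) * this + hζ
  · intro h
    apply hε1
    have : (1 : K) * ζ = ε * ζ := by rw [one_mul]; exact h
    exact (mul_right_cancel₀ hζ0 this).symm

/-- an index different from three given ones -/
theorem exists_fin_ne {n : ℕ} (hn : 4 ≤ n) (i j k : Fin n) : ∃ l : Fin n, l ≠ i ∧ l ≠ j ∧ l ≠ k := by
  classical
  by_contra hcon
  push Not at hcon
  have hsub : (Finset.univ : Finset (Fin n)) ⊆ {i, j, k} := by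
    intro l _
    simp only [Finset.mem_insert, Finset.mem_singleton]
    by_cases h1 : l = i
    · exact Or.inl h1
    · by_cases h2 : l = j
      · exact Or.inr (Or.inl h2)
      · exact Or.inr (Or.inr (hcon l h1 h2))
  have := Finset.card_le_card hsub
  rw [Finset.card_univ, Fintype.card_fin] at this
  have h3 : ({i, j, k} : Finset (Fin n)).card ≤ 3 := Finset.card_le_three
  omega

end two

section partI3

variable {F : Type*} [Field F] [Fintype F] {q q1 n : ℕ}
variable (hF : Fintype.card F = q ^ 2) (F₀ : Subfield F)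
variable (hQ : Nat.card F₀ = q1 ^ 2) (hfix : ∀ x ∈ F₀, x ^ q = x ^ q1)
variable (M : Subgroup (GL (Fin n) F)) (hHM : Hs F₀ n q ≤ M) (hMG : M ≤ suGL (F := F) n q)

local notation "hh" => Cfsg.hermForm n F q
local notation "kk" => Cfsg.hermForm n F₀ q1

theorem sfι_pv (k l : Fin n) (ζ : F₀) : sfι F₀ (pv k l ζ) = pv k l (ζ : F) := by
  funext m
  unfold sfι pv
  split_ifs <;> simp

/-- all the transvections with rational centres lie in `M` -/
def AllGood (F₀ : Subfield F) (q1 q : ℕ) (M : Subgroup (GL (Fin n) F)) : Prop :=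
  ∀ c : F, c + c ^ q = 0 → Good F₀ q1 q M c

/-- all the short root elements of rational configurations lie in `M` -/
def AllShort (F₀ : Subfield F) (q1 q : ℕ) (M : Subgroup (GL (Fin n) F)) : Prop :=
  ∀ e f e₂ : Fin n → F₀, Cfsg.hermForm n F₀ q1 e e = 0 → Cfsg.hermForm n F₀ q1 f f = 0 →
    Cfsg.hermForm n F₀ q1 e f = 1 → Cfsg.hermForm n F₀ q1 f e = 1 →
    Cfsg.hermForm n F₀ q1 e₂ e₂ = 0 → Cfsg.hermForm n F₀ q1 e₂ e = 0 →
    Cfsg.hermForm n F₀ q1 e₂ f = 0 → ∀ μ : F, Gel q (sfι F₀ f) (μ • sfι F₀ e₂) 0 ∈ M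

/-- the vectors `w` for which some Eichler element with centre `f` and vector `w` lies in `M` -/
def PA (F₀ : Subfield F) (q : ℕ) (M : Subgroup (GL (Fin n) F)) (f : Fin n → F₀)
    (w : Fin n → F) : Prop :=
  Cfsg.hermForm n F q w (sfι F₀ f) = 0 ∧
    ∃ α : F, α + α ^ q + Cfsg.hermForm n F q w w = 0 ∧ Gel q (sfι F₀ f) w α ∈ M

include hF hfix in
theorem PA_zero (f : Fin n → F₀) (hff : kk f f = 0) : PA F₀ q M f 0 := by
  have hq0 : q ≠ 0 := by have := two_le_q hF; omega
  have hffF := hh_sfι_zero F₀ hfix hff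
  refine ⟨hermForm_zero_left _, 0, ?_, ?_⟩
  · rw [hermForm_zero_left, zero_pow hq0]
    ring
  · rw [Gel_zero hF _ 0 hffF, utv_zero _ hffF]
    exact M.one_mem

include hF hfix in
theorem PA_add (f : Fin n → F₀) (hff : kk f f = 0) (w w' : Fin n → F) (h : PA F₀ q M f w)
    (h' : PA F₀ q M f w') : PA F₀ q M f (w + w') := by
  have hffF := hh_sfι_zero F₀ hfix hff
  obtain ⟨hwf, α, hα, hmem⟩ := h
  obtain ⟨hwf', α', hα', hmem'⟩ := h'
  refine ⟨by rw [hermForm_add_left, hwf, hwf', add_zero], α + α' - hh w' w, ?_, ?_⟩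
  · rw [frob_sub hF, frob_add hF, hermForm_conj hF n w' w, hermForm_add_left,
      hermForm_add_right hF, hermForm_add_right hF]
    linear_combination hα + hα'
  · rw [← Gel_mul hF _ w w' α α' hffF hwf hwf']
    exact M.mul_mem hmem hmem'

include hF hQ hfix in
theorem PA_single (hn : 4 ≤ n) (hS : AllShort F₀ q1 q M) (i j : Fin n) (e f : Fin n → F₀)
    (hee : kk e e = 0) (hff : kk f f = 0) (hef : kk e f = 1) (hfe : kk f e = 1)
    (hsup : ∀ m, m ≠ i → m ≠ j → e m = 0 ∧ f m = 0) (k : Fin n) (hki : k ≠ i) (hkj : k ≠ j)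
    (μ : F) : PA F₀ q M f (Pi.single k μ) := by
  classical
  have hK := card_K F₀ hQ
  have hq0 : q ≠ 0 := by have := two_le_q hF; omega
  have hq1 : q1 ≠ 0 := by have := two_le_q hK; omega
  have hffF := hh_sfι_zero F₀ hfix hff
  obtain ⟨l, hli, hlj, hlk⟩ := exists_fin_ne hn i j k
  obtain ⟨ζ, ζ', hζ, hζ', hne⟩ := exists_two_norm_neg_one hK
  have hdis : ∀ (z : F₀) (x : Fin n → F₀), (∀ m, m ≠ i → m ≠ j → x m = 0) →
      kk (pv k l z) x = 0 := by
    intro z x hx
    apply hermForm_eq_zero_of_disjoint _ _ _ hq1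
    intro m
    by_cases hmk : m = k
    · right
      rw [hmk]
      exact hx k hki hkj
    · by_cases hml : m = l
      · right
        rw [hml]
        exact hx l hli hlj
      · left
        exact pv_other k l z m hmk hml
  have hmem : ∀ (z : F₀), z * z ^ q1 = -1 → ∀ a : F, PA F₀ q M f (a • sfι F₀ (pv k l z)) := by
    intro z hz a
    have h1 := pv_isotropic hq1 k l hlk.symm z hz
    have h2 := hdis z e (fun m hm1 hm2 => (hsup m hm1 hm2).1)
    have h3 := hdis z f (fun m hm1 hm2 => (hsup m hm1 hm2).2)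
    have h1F := hh_sfι_zero F₀ hfix h1
    have h3F := hh_sfι_zero F₀ hfix h3
    refine ⟨by rw [hermForm_smul_left, h3F, mul_zero], 0, ?_, ?_⟩
    · rw [hermForm_smul_left, hermForm_smul_right, h1F, zero_pow hq0]
      ring
    · exact hS e f (pv k l z) hee hff hef hfe h1 h2 h3 a
  have hd : (ζ' : F) - (ζ : F) ≠ 0 := by
    intro h
    apply hne
    apply Subtype.ext
    exact (sub_eq_zero.mp h).symm
  have hdec : Pi.single k μ = (μ * (ζ' : F) / ((ζ' : F) - (ζ : F))) • sfι F₀ (pv k l ζ) +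
      (-(μ * (ζ : F)) / ((ζ' : F) - (ζ : F))) • sfι F₀ (pv k l ζ') := by
    rw [sfι_pv, sfι_pv]
    funext m
    by_cases hmk : m = k
    · rw [hmk]
      simp only [Pi.single_eq_same, Pi.add_apply, Pi.smul_apply, pv_left, smul_eq_mul, mul_one]
      field_simp
      ring
    · by_cases hml : m = l
      · rw [hml]
        simp only [Pi.single_eq_of_ne hlk, Pi.add_apply, Pi.smul_apply, pv_right k l hlk.symm,
          smul_eq_mul]
        field_simp
        ring
      · simp only [Pi.single_eq_of_ne hmk, Pi.add_apply, Pi.smul_apply, pv_other k l _ m hmk hml,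
          smul_eq_mul, mul_zero, add_zero]
  rw [hdec]
  exact PA_add hF F₀ hfix M f hff _ _ (hmem ζ hζ _) (hmem ζ' hζ' _)

include hF hQ hfix in
/-- all the Eichler elements with a rational centre lie in `M` -/
theorem claimA (hn : 4 ≤ n) (hA : AllGood F₀ q1 q M) (hS : AllShort F₀ q1 q M) (i j : Fin n)
    (e f : Fin n → F₀) (hee : kk e e = 0) (hff : kk f f = 0) (hef : kk e f = 1) (hfe : kk f e = 1)
    (hsup : ∀ m, m ≠ i → m ≠ j → e m = 0 ∧ f m = 0) (w : Fin n → F) (hwi : w i = 0)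
    (hwj : w j = 0) (α : F) (hα : α + α ^ q + hh w w = 0) : Gel q (sfι F₀ f) w α ∈ M := by
  classical
  have hffF := hh_sfι_zero F₀ hfix hff
  have hsum : PA F₀ q M f (∑ m, Pi.single m (w m)) := by
    apply Finset.sum_induction _ (PA F₀ q M f) (PA_add hF F₀ hfix M f hff)
      (PA_zero hF F₀ hfix M f hff)
    intro m _
    by_cases hmi : m = i
    · rw [hmi, hwi, Pi.single_zero]
      exact PA_zero hF F₀ hfix M f hff
    · by_cases hmj : m = j
      · rw [hmj, hwj, Pi.single_zero]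
        exact PA_zero hF F₀ hfix M f hff
      · exact PA_single hF F₀ hQ hfix M hn hS i j e f hee hff hef hfe hsup m hmi hmj _
  rw [Finset.univ_sum_single] at hsum
  obtain ⟨hwf, α₀, hα₀, hmem⟩ := hsum
  have htr : (α - α₀) + (α - α₀) ^ q = 0 := by
    rw [frob_sub hF]
    linear_combination hα - hα₀
  have ht : utv q (sfι F₀ f) (α - α₀) ∈ M := (hA _ htr).2 f hff
  have : Gel q (sfι F₀ f) w α = Gel q (sfι F₀ f) w α₀ * utv q (sfι F₀ f) (α - α₀) := by
    rw [← Gel_zero hF _ _ hffF, Gel_mul hF _ w 0 α₀ (α - α₀) hffF hwf (hermForm_zero_left _),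
      add_zero, hermForm_zero_left, sub_zero]
    congr 1
    ring
  rw [this]
  exact M.mul_mem hmem ht

include hF hQ hfix hMG in
/-- transvections whose centre is not orthogonal to `f` -/
theorem utv_mem_of_not_perp (hn : 4 ≤ n) (hA : AllGood F₀ q1 q M) (hS : AllShort F₀ q1 q M)
    (i j : Fin n) (hij : i ≠ j)
    (e f : Fin n → F₀) (hee : kk e e = 0) (hff : kk f f = 0) (hef : kk e f = 1) (hfe : kk f e = 1)
    (hsup : ∀ m, m ≠ i → m ≠ j → e m = 0 ∧ f m = 0) (y : Fin n → F) (hyy : hh y y = 0)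
    (hyf : hh y (sfι F₀ f) ≠ 0) (c : F) (hc : c + c ^ q = 0) : utv q y c ∈ M := by
  have hq0 : q ≠ 0 := by have := two_le_q hF; omega
  have heeF := hh_sfι_zero F₀ hfix hee
  have hffF := hh_sfι_zero F₀ hfix hff
  have hefF := hh_sfι_one F₀ hfix hef
  have hfeF := hh_sfι_one F₀ hfix hfe
  obtain ⟨lam, hlam⟩ : ∃ lam : F, lam = (hh y (sfι F₀ f))⁻¹ := ⟨_, rfl⟩
  have hlam0 : lam ≠ 0 := by rw [hlam]; exact inv_ne_zero hyf
  obtain ⟨y', hy'⟩ : ∃ y' : Fin n → F, y' = lam • y := ⟨_, rfl⟩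
  have h1 : hh y' (sfι F₀ f) = 1 := by
    rw [hy', hermForm_smul_left, hlam, inv_mul_cancel₀ hyf]
  have hy'y' : hh y' y' = 0 := by
    rw [hy', hermForm_smul_left, hermForm_smul_right, hyy, mul_zero, mul_zero]
  obtain ⟨β, hβ⟩ : ∃ β : F, β = hh y' (sfι F₀ e) := ⟨_, rfl⟩
  obtain ⟨w, hw⟩ : ∃ w : Fin n → F, w = y' - sfι F₀ e - β • sfι F₀ f := ⟨_, rfl⟩
  have hwe : hh w (sfι F₀ e) = 0 := by
    rw [hw, hermForm_sub_left, hermForm_sub_left, hermForm_smul_left, heeF, hfeF, ← hβ]
    ring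
  have hwf : hh w (sfι F₀ f) = 0 := by
    rw [hw, hermForm_sub_left, hermForm_sub_left, hermForm_smul_left, hefF, hffF, h1]
    ring
  have hey' : hh (sfι F₀ e) y' = β ^ q := by rw [hβ, hermForm_conj hF]
  have hfy' : hh (sfι F₀ f) y' = 1 := by rw [← hermForm_conj hF n y', h1, one_pow]
  have hwy' : hh w y' = -(β ^ q) - β := by
    rw [hw, hermForm_sub_left, hermForm_sub_left, hermForm_smul_left, hy'y', hey', hfy']
    ring
  have hww : β + β ^ q + hh w w = 0 := by
    have : hh w w = hh w y' := by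
      have h2 : hh w (y' - sfι F₀ e - β • sfι F₀ f) = hh w y' := by
        rw [hermForm_sub_right hF, hermForm_sub_right hF, hermForm_smul_right, hwe, hwf]
        ring
      rwa [← hw] at h2
    rw [this, hwy']
    ring
  obtain ⟨hwi, hwj⟩ := eq_zero_of_perp_pair hq0 i j hij (sfι F₀ e) (sfι F₀ f) w
    (fun m hm1 hm2 => by unfold sfι; rw [(hsup m hm1 hm2).1]; rfl)
    (fun m hm1 hm2 => by unfold sfι; rw [(hsup m hm1 hm2).2]; rfl) heeF hffF hefF hfeF hwe hwf
  have hx := claimA hF F₀ hQ hfix M hn hA hS i j e f hee hff hef hfe hsup w hwi hwj β hww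
  have hxG : Gel q (sfι F₀ f) w β ∈ Cfsg.GU n F q := (hMG hx).1
  have hxe : ((Gel q (sfι F₀ f) w β : GL (Fin n) F) : Matrix (Fin n) (Fin n) F) *ᵥ sfι F₀ e =
      y' := by
    rw [Gel_mulVec' hF _ w β hffF hwf, hefF, hermForm_eq_zero_comm hF hwe, hw]
    module
  obtain ⟨c', hc'⟩ : ∃ c' : F, c' = c * (lam ^ (q + 1))⁻¹ := ⟨_, rfl⟩
  have hN0 : lam ^ (q + 1) ≠ 0 := pow_ne_zero _ hlam0
  have hc'tr : c' + c' ^ q = 0 := by
    rw [hc', mul_pow, inv_pow, norm_pow_q hF]
    linear_combination ((lam ^ (q + 1))⁻¹) * hc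
  have hE : utv q (sfι F₀ e) c' ∈ M := (hA c' hc'tr).2 e hee
  have hconj := conj_utv _ hxG (sfι F₀ e) heeF c'
  have hcc : c' * lam ^ (q + 1) = c := by rw [hc', inv_mul_cancel_right₀ hN0]
  rw [hxe, hy', utv_smul y hyy, hcc] at hconj
  rw [← hconj]
  exact M.mul_mem (M.mul_mem hx hE) (M.inv_mem hx)

include hF hQ hfix in
/-- every non-zero vector is non-orthogonal to some rational isotropic vector -/
theorem exists_rat_not_perp (hn : 2 ≤ n) (y : Fin n → F) (hy0 : y ≠ 0) :
    ∃ f' : Fin n → F₀, f' ≠ 0 ∧ kk f' f' = 0 ∧ hh y (sfι F₀ f') ≠ 0 := by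
  have hK := card_K F₀ hQ
  have hq0 : q ≠ 0 := by have := two_le_q hF; omega
  have hq1 : q1 ≠ 0 := by have := two_le_q hK; omega
  obtain ⟨k, hk⟩ := exists_ne_zero_coord hy0
  obtain ⟨l, hlk⟩ : ∃ l : Fin n, l ≠ k := by
    by_cases hk0 : k.val = 0
    · exact ⟨⟨1, by omega⟩, fun h => by rw [← h] at hk0; simp at hk0⟩
    · exact ⟨⟨0, by omega⟩, fun h => by rw [← h] at hk0; simp at hk0⟩
  obtain ⟨ζ, ζ', hζ, hζ', hne⟩ := exists_two_norm_neg_one hK
  have hval : ∀ z : F₀, hh y (sfι F₀ (pv l k z)) = y l + y k * (z : F) ^ q := by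
    intro z
    rw [sfι_pv, hermForm_support_right hq0 l k hlk _ _
      (fun m h1 h2 => pv_other l k (z : F) m h1 h2), pv_left, pv_right l k hlk, one_pow, mul_one]
  by_cases h1 : hh y (sfι F₀ (pv l k ζ)) = 0
  · refine ⟨pv l k ζ', pv_ne_zero l k ζ', pv_isotropic hq1 l k hlk ζ' hζ', ?_⟩
    intro h2
    rw [hval] at h1 h2
    have h3 : y k * ((ζ : F) ^ q - (ζ' : F) ^ q) = 0 := by linear_combination h1 - h2
    have h4 : (ζ : F) ^ q = (ζ' : F) ^ q := sub_eq_zero.mp ((mul_eq_zero.mp h3).resolve_left hk)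
    apply hne
    apply Subtype.ext
    rw [← pow_q_pow_q hF (ζ : F), h4, pow_q_pow_q hF]
  · exact ⟨pv l k ζ, pv_ne_zero l k ζ, pv_isotropic hq1 l k hlk ζ hζ, h1⟩

include hF hQ hfix hHM hMG in
/-- an overgroup of the subfield group containing all the transvections with rational centres and
all the short root elements is the whole group -/
theorem suGL_le_of_all (hn : 4 ≤ n) (hA : AllGood F₀ q1 q M) (hS : AllShort F₀ q1 q M) :
    suGL (F := F) n q ≤ M := by
  have hK := card_K F₀ hQ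
  refine (suGL_le_utvGroup hF n (by omega) (by omega)).trans ?_
  unfold utvGroup
  rw [Subgroup.closure_le]
  rintro g ⟨u, c, hu, hc, rfl⟩
  by_cases hu0 : u = 0
  · have : utv q u c = 1 := by
      apply Units.ext
      rw [Matrix.ext_iff_mulVec]
      intro x
      rw [utv_mulVec u hu, hu0, smul_zero, add_zero, Units.val_one, one_mulVec]
    rw [this]
    exact M.one_mem
  · have hij : (⟨0, by omega⟩ : Fin n) ≠ ⟨1, by omega⟩ := by simp [Fin.ext_iff]
    obtain ⟨e, f, hee, hff, hef, hsup⟩ := exists_hyp_pair_coords (n := n) hK _ _ hij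
    have hfe : kk f e = 1 := by rw [← hermForm_conj hK n e f, hef, one_pow]
    have hf0 : f ≠ 0 := by
      rintro rfl
      rw [hermForm_zero_left] at hfe
      exact zero_ne_one hfe
    obtain ⟨f', hf'0, hf'f', hne⟩ := exists_rat_not_perp hF F₀ hQ hfix (by omega) u hu0
    obtain ⟨x, hx, hxf⟩ := exists_Hs_map hF F₀ hQ hfix (by omega) f f' hf0 hf'0 hff hf'f'
    have hxG : x ∈ Cfsg.GU n F q := hx.2.1
    have hxiG : x⁻¹ ∈ Cfsg.GU n F q := (Cfsg.GU n F q).inv_mem hxG
    have hy1 : hh (((x⁻¹ : GL (Fin n) F) : Matrix (Fin n) (Fin n) F) *ᵥ u)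
        (((x⁻¹ : GL (Fin n) F) : Matrix (Fin n) (Fin n) F) *ᵥ u) = 0 := by
      rw [GU_preserves hxiG, hu]
    have hy2 : hh (((x⁻¹ : GL (Fin n) F) : Matrix (Fin n) (Fin n) F) *ᵥ u) (sfι F₀ f) ≠ 0 := by
      rw [GU_preserves_inv hxG, hxf]
      exact hne
    have h1 := utv_mem_of_not_perp hF F₀ hQ hfix M hMG hn hA hS _ _ hij e f hee hff hef hfe hsup _
      hy1 hy2 c hc
    have hconj := conj_utv x hxG _ hy1 c
    rw [gl_mulVec_inv_mulVec] at hconj
    rw [← hconj]
    exact M.mul_mem (M.mul_mem (hHM hx) h1) (M.inv_mem (hHM hx))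

end partI3

end Cfsg.Agent.Lib.Helper13.USub
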