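import Mathlib
import Cfsg.Agent.Lib.Helper13.USubM

set_option autoImplicit false
set_option linter.unusedSectionVars false
set_option linter.style.haveILetI false
set_option maxHeartbeats 1600000

/-!
Subfield groups of the special unitary group: the subfield group of the standard rational
structure is maximal.
-/

namespace Cfsg.Agent.Lib.Helper13.USub

open Matrix Module Cfsg.Agent.Lib.Helper99 Cfsg.Agent.Lib.Helper13

attribute [local instance] fintypeSub

section std

variable {F : Type*} [Field F] [Fintype F] {q q1 n : ℕ}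
variable (hF : Fintype.card F = q ^ 2) (F₀ : Subfield F)
variable (hQ : Nat.card F₀ = q1 ^ 2) (hfix : ∀ x ∈ F₀, x ^ q = x ^ q1)

local notation "hh" => Cfsg.hermForm n F q
local notation "kk" => Cfsg.hermForm n F₀ q1

include hF hQ hfix in
/-- a parameter of a transvection outside the subfield -/
theorem exists_trace_zero_not_mem (r : ℕ) (hr2 : 2 ≤ r)
    (hcard : Fintype.card F = Nat.card F₀ ^ r) : ∃ s : F, s + s ^ q = 0 ∧ s ∉ F₀ := by
  by_contra hcon
  push Not at hcon
  have hall : ∀ a : F, a ∈ F₀ := by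
    intro a
    apply mem_of_theta hF F₀ hQ hfix
    intro θ hθ
    apply hcon
    rw [frob_sub hF, mul_pow, mul_pow, pow_q_pow_q hF, pow_q_pow_q hF]
    ring
  have h1 : Nat.card F₀ = Fintype.card F := by
    rw [← Nat.card_eq_fintype_card]
    exact Nat.card_congr (Equiv.subtypeUnivEquiv hall)
  have h2 := two_le_card_sub F₀
  rw [← h1] at hcard
  have : Nat.card F₀ ^ 1 < Nat.card F₀ ^ r := Nat.pow_lt_pow_right (by omega) (by omega)
  rw [pow_one] at this
  omega

include hF hQ hfix in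
/-- the subfield group is a proper subgroup -/
theorem Hs_lt (hn : 2 ≤ n) (r : ℕ) (hr2 : 2 ≤ r) (hcard : Fintype.card F = Nat.card F₀ ^ r) :
    Hs F₀ n q < suGL (F := F) n q := by
  have hK := card_K F₀ hQ
  refine lt_of_le_of_ne inf_le_right ?_
  intro heq
  obtain ⟨s, hs, hsF⟩ := exists_trace_zero_not_mem hF F₀ hQ hfix r hr2 hcard
  have hij : (⟨0, by omega⟩ : Fin n) ≠ ⟨1, by omega⟩ := by simp [Fin.ext_iff]
  obtain ⟨e, f, hee, hff, hef, -⟩ := exists_hyp_pair_coords (n := n) hK _ _ hij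
  have hfe : kk f e = 1 := by rw [← hermForm_conj hK n e f, hef, one_pow]
  have he0 : e ≠ 0 := by
    rintro rfl
    rw [hermForm_zero_left] at hef
    exact zero_ne_one hef
  have heeF := hh_sfι_zero F₀ hfix hee
  have hfeF := hh_sfι_one F₀ hfix hfe
  have hg : utv q (sfι F₀ e) s ∈ Hs F₀ n q := by
    rw [heq]
    exact utv_mem_suGL hF _ heeF s hs
  obtain ⟨c, A₀, hc0, hA⟩ := forall_of_mem_sub F₀ _ hg.1
  obtain ⟨k, hk⟩ := exists_ne_zero_coord he0
  have hkF : ((e k : F₀) : F) ≠ 0 := fun h => hk (Subtype.ext h)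
  have h1 := hA e
  rw [utv_mulVec _ heeF, heeF, mul_zero, zero_smul, add_zero] at h1
  have h1k : ((e k : F₀) : F) = c * (((A₀ : Matrix (Fin n) (Fin n) F₀) *ᵥ e) k : F₀) :=
    congrFun h1 k
  have hne : ((((A₀ : Matrix (Fin n) (Fin n) F₀) *ᵥ e) k : F₀) : F) ≠ 0 := by
    intro h
    rw [h, mul_zero] at h1k
    exact hkF h1k
  have hcF : c ∈ F₀ := by
    have : c = ((e k : F₀) : F) * ((((A₀ : Matrix (Fin n) (Fin n) F₀) *ᵥ e) k : F₀) : F)⁻¹ := by
      rw [h1k, mul_assoc, mul_inv_cancel₀ hne, mul_one]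
    rw [this]
    exact F₀.mul_mem (e k).2 (F₀.inv_mem (Subtype.mem _))
  have h2 := hA f
  rw [utv_mulVec _ heeF, hfeF, mul_one] at h2
  have h2k : ((f k : F₀) : F) + s * ((e k : F₀) : F) =
      c * (((A₀ : Matrix (Fin n) (Fin n) F₀) *ᵥ f) k : F₀) := congrFun h2 k
  apply hsF
  have : s = (c * (((A₀ : Matrix (Fin n) (Fin n) F₀) *ᵥ f) k : F₀) - ((f k : F₀) : F)) *
      (((e k : F₀) : F))⁻¹ := by
    rw [← h2k, add_sub_cancel_left, mul_assoc, mul_inv_cancel₀ hkF, mul_one]
  rw [this]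
  exact F₀.mul_mem (F₀.sub_mem (F₀.mul_mem hcF (Subtype.mem _)) (f k).2) (F₀.inv_mem (e k).2)

include hF hQ hfix in
/-- maximality of the subfield group of the standard rational structure -/
theorem isMaximalIn_std (hn : 6 ≤ n) (r : ℕ) (hr : r.Prime)
    (hcard : Fintype.card F = Nat.card F₀ ^ r) :
    Cfsg.Geo.IsMaximalIn (suGL (F := F) n q) (Hs F₀ n q) := by
  refine ⟨Hs_lt hF F₀ hQ hfix (by omega) r hr.two_le hcard, ?_⟩
  intro M hHM hMG
  by_cases hPt : PtStab F₀ q1 q M
  · left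
    exact le_antisymm (le_Hs_of_ptStab hF F₀ hQ hfix M hHM hMG hn hPt) hHM
  · right
    obtain ⟨e, c, he0, hee, hc, hcF, hmem⟩ :=
      exists_nonrat_of_not_ptStab hF F₀ hQ hfix M hHM hMG (by omega) hPt
    have hgood := good_of_one hF F₀ hQ hfix M hHM hMG (by omega) e he0 hee c hc hmem
    have hA : AllGood F₀ q1 q M := fun c' hc' =>
      all_good hF F₀ hQ hfix M hHM hMG (by omega) r hr hcard c hgood hcF c' hc'
    have hS : AllShort F₀ q1 q M := fun e f e₂ h1 h2 h3 h4 h5 h6 h7 μ =>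
      short_all hF F₀ hQ hfix M hHM hMG (by omega) r hr hcard c hgood hcF e f e₂ h1 h2 h3 h4 h5 h6
        h7 μ
    exact le_antisymm hMG (suGL_le_of_all hF F₀ hQ hfix M hHM hMG (by omega) hA hS)

end std

end Cfsg.Agent.Lib.Helper13.USub
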