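import Mathlib
import Cfsg.Agent.Lib.Helper13.USubN
import Cfsg.Agent.Lib.Helper44.HermSpace

set_option autoImplicit false
set_option linter.unusedSectionVars false
set_option linter.style.haveILetI false
set_option maxHeartbeats 1600000

/-!
Subfield groups of the special unitary group: reduction of a general rational structure to the
standard one, and the maximality theorem.
-/

namespace Cfsg.Agent.Lib.Helper13.USub

open Matrix Module Cfsg.Agent.Lib.Helper99 Cfsg.Agent.Lib.Helper13

attribute [local instance] fintypeSub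

section grp

variable {G : Type*} [Group G]

theorem map_conj_eq_self (H : Subgroup G) (g : G) (hg : g ∈ H) :
    H.map (MulAut.conj g).toMonoidHom = H := by
  ext x
  constructor
  · rintro ⟨y, hy, rfl⟩
    exact H.mul_mem (H.mul_mem hg hy) (H.inv_mem hg)
  · intro hx
    refine ⟨g⁻¹ * x * g, H.mul_mem (H.mul_mem (H.inv_mem hg) hx) hg, ?_⟩
    show g * (g⁻¹ * x * g) * g⁻¹ = x
    group

theorem isMaximalIn_map_conj (φ : G ≃* G) (S K : Subgroup G)
    (hS : S.map φ.toMonoidHom = S) (h : Cfsg.Geo.IsMaximalIn S K) :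
    Cfsg.Geo.IsMaximalIn S (K.map φ.toMonoidHom) := by
  obtain ⟨hlt, hmax⟩ := h
  have hinj : Function.Injective φ.toMonoidHom := φ.injective
  have hsurj : Function.Surjective φ.toMonoidHom := φ.surjective
  refine ⟨lt_of_le_of_ne ?_ ?_, ?_⟩
  · calc K.map φ.toMonoidHom ≤ S.map φ.toMonoidHom := Subgroup.map_mono hlt.le
      _ = S := hS
  · intro heq
    rw [← hS] at heq
    exact hlt.ne (Subgroup.map_injective hinj heq)
  · intro M hKM hMS
    have h1 : K ≤ M.comap φ.toMonoidHom := Subgroup.map_le_iff_le_comap.mp hKM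
    have h2 : M.comap φ.toMonoidHom ≤ S := by
      intro x hx
      have h3 : φ.toMonoidHom x ∈ S := hMS hx
      rw [← hS] at h3
      obtain ⟨y, hy, hyx⟩ := h3
      rw [← hinj hyx]
      exact hy
    have hM : M = (M.comap φ.toMonoidHom).map φ.toMonoidHom :=
      (Subgroup.map_comap_eq_self_of_surjective hsurj M).symm
    rcases hmax _ h1 h2 with h | h
    · left; rw [hM, h]
    · right; rw [hM, h, hS]

end grp

section lin

variable {F : Type*} [Field F] {q n : ℕ}

local notation "hh" => Cfsg.hermForm n F q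

/-- a linear identity for the form need only be checked on the standard basis -/
theorem hermForm_ext_single (A : Matrix (Fin n) (Fin n) F) (w z : Fin n → F)
    (h : ∀ j, hh (A *ᵥ Pi.single j 1) w = hh (Pi.single j 1) z) (x : Fin n → F) :
    hh (A *ᵥ x) w = hh x z := by
  classical
  let φ : (Fin n → F) →ₗ[F] F :=
    { toFun := fun x => hh (A *ᵥ x) w - hh x z
      map_add' := fun x y => by
        simp only [mulVec_add, hermForm_add_left]
        ring
      map_smul' := fun c x => by
        simp only [mulVec_smul, hermForm_smul_left, smul_eq_mul, RingHom.id_apply]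
        ring }
  have hφ : φ = 0 := by
    apply LinearMap.pi_ext
    intro i c
    have h1 : (Pi.single i c : Fin n → F) = c • Pi.single i 1 := by
      rw [← Pi.single_smul, smul_eq_mul, mul_one]
    rw [h1, map_smul]
    show c • (hh (A *ᵥ Pi.single i 1) w - hh (Pi.single i 1) z) = _
    rw [h i, sub_self, smul_zero]
    rfl
  have := LinearMap.congr_fun hφ x
  exact sub_eq_zero.mp this

theorem map_conj_specialLinear' (P : GL (Fin n) F) :
    (Cfsg.Geo.specialLinear (Fin n) F).map (MulAut.conj P).toMonoidHom =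
      Cfsg.Geo.specialLinear (Fin n) F := by
  have key : ∀ (Q x : GL (Fin n) F), x ∈ Cfsg.Geo.specialLinear (Fin n) F →
      Q * x * Q⁻¹ ∈ Cfsg.Geo.specialLinear (Fin n) F := by
    intro Q x hx
    unfold Cfsg.Geo.specialLinear at hx ⊢
    rw [MonoidHom.mem_ker] at hx ⊢
    rw [map_mul, map_mul, map_inv, hx, mul_one, mul_inv_cancel]
  ext x
  constructor
  · rintro ⟨y, hy, rfl⟩
    exact key P y hy
  · intro hx
    refine ⟨P⁻¹ * x * P, ?_, ?_⟩
    · have := key P⁻¹ x hx
      rwa [inv_inv] at this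
    · show P * (P⁻¹ * x * P) * P⁻¹ = x
      group

theorem map_conj_suGL (P : GL (Fin n) F) (hP : P ∈ Cfsg.GU n F q) :
    (suGL (F := F) n q).map (MulAut.conj P).toMonoidHom = suGL (F := F) n q := by
  unfold suGL
  rw [Subgroup.map_inf _ _ _ (MulAut.conj P).injective, map_conj_specialLinear',
    map_conj_eq_self _ P hP]

theorem subfieldSubgroup_eq_map (F₀ : Subfield F) (P : GL (Fin n) F) :
    Cfsg.Geo.subfieldSubgroup F₀ P =
      (Cfsg.Geo.subfieldSubgroup F₀ (1 : GL (Fin n) F)).map (MulAut.conj P).toMonoidHom := by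
  have hid : (MulAut.conj (1 : GL (Fin n) F)).toMonoidHom = MonoidHom.id (GL (Fin n) F) := by
    ext x
    simp
  unfold Cfsg.Geo.subfieldSubgroup
  rw [hid, Subgroup.map_id]

end lin

section red

variable {F : Type*} [Field F] [Fintype F] {q q1 n : ℕ}
variable (hF : Fintype.card F = q ^ 2) (F₀ : Subfield F)
variable (hQ : Nat.card F₀ = q1 ^ 2) (hfix : ∀ x ∈ F₀, x ^ q = x ^ q1)
variable (P : GL (Fin n) F)
variable (hP : Cfsg.Geo.IsFormRationalStructure (Cfsg.hermForm n F q) F₀ 1 P)

local notation "hh" => Cfsg.hermForm n F q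
local notation "kk" => Cfsg.hermForm n F₀ q1

/-- the restriction of the form to the rational structure -/
def rH (hP : Cfsg.Geo.IsFormRationalStructure (Cfsg.hermForm n F q) F₀ 1 P)
    (u v : Fin n → F₀) : F₀ :=
  ⟨Cfsg.hermForm n F q ((P : Matrix (Fin n) (Fin n) F) *ᵥ sfι F₀ u)
    ((P : Matrix (Fin n) (Fin n) F) *ᵥ sfι F₀ v), by
    have := hP (sfι F₀ u) (sfι F₀ v) (fun i => (u i).2) (fun i => (v i).2)
    rwa [one_mul] at this⟩

theorem rH_coe (u v : Fin n → F₀) : ((rH F₀ P hP u v : F₀) : F) =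
    hh ((P : Matrix (Fin n) (Fin n) F) *ᵥ sfι F₀ u) ((P : Matrix (Fin n) (Fin n) F) *ᵥ sfι F₀ v) :=
  rfl

include hF hfix in
theorem rH_isHermSpace : Cfsg.Agent.Lib.Helper44.IsHermSpace q1 (rH F₀ P hP) where
  add_left u u' v := by
    apply Subtype.ext
    rw [Subfield.coe_add, rH_coe, rH_coe, rH_coe, sfι_add, mulVec_add, hermForm_add_left]
  smul_left c u v := by
    apply Subtype.ext
    rw [Subfield.coe_mul, rH_coe, rH_coe, sfι_smul, mulVec_smul, hermForm_smul_left]
  conj u v := by
    apply Subtype.ext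
    rw [← coe_pow_q F₀ hfix, rH_coe, rH_coe]
    exact hermForm_conj hF n _ _
  nondeg v h := by
    have h1 : ∀ j, hh ((P : Matrix (Fin n) (Fin n) F) *ᵥ Pi.single j 1)
        ((P : Matrix (Fin n) (Fin n) F) *ᵥ sfι F₀ v) = hh (Pi.single j 1) 0 := by
      intro j
      rw [hermForm_zero_right hF, ← sfι_single F₀ j, ← rH_coe F₀ P hP, h]
      rfl
    have h2 := hermForm_ext_single (P : Matrix (Fin n) (Fin n) F) _ 0 h1
    have h3 : (P : Matrix (Fin n) (Fin n) F) *ᵥ sfι F₀ v = 0 := by
      apply hermForm_nd_right hF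
      intro y
      have := h2 (((P⁻¹ : GL (Fin n) F) : Matrix (Fin n) (Fin n) F) *ᵥ y)
      rwa [gl_mulVec_inv_mulVec, hermForm_zero_right hF] at this
    have h4 : sfι F₀ v = 0 := by
      rw [← gl_inv_mulVec_mulVec P (sfι F₀ v), h3, mulVec_zero]
    apply sfι_injective F₀
    rw [h4, sfι_zero]

include hF hQ hfix hP in
/-- a change of the rational basis makes the rational structure unitary -/
theorem exists_unitary_structure : ∃ E : GL (Fin n) F₀, P * emb F₀ n E ∈ Cfsg.GU n F q := by
  have hK := card_K F₀ hQ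
  have hH := rH_isHermSpace hF F₀ hfix P hP
  obtain ⟨Θ, hΘ⟩ := Cfsg.Agent.Lib.Helper44.exists_herm_coords hK (Fin n → F₀) (rH F₀ P hP) hH n
    (Module.finrank_fin_fun F₀)
  refine ⟨glOfEquiv' Θ.symm, ?_⟩
  set P' : GL (Fin n) F := P * emb F₀ n (glOfEquiv' Θ.symm) with hP'
  have hrat : ∀ u v : Fin n → F₀, hh ((P' : Matrix (Fin n) (Fin n) F) *ᵥ sfι F₀ u)
      ((P' : Matrix (Fin n) (Fin n) F) *ᵥ sfι F₀ v) = hh (sfι F₀ u) (sfι F₀ v) := by
    intro u v
    rw [hP', Units.val_mul, ← mulVec_mulVec, ← mulVec_mulVec, emb_mulVec, emb_mulVec,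
      glOfEquiv'_mulVec, glOfEquiv'_mulVec, ← rH_coe F₀ P hP, ← hΘ, LinearEquiv.apply_symm_apply,
      LinearEquiv.apply_symm_apply, hh_sfι F₀ hfix]
  have hstep1 : ∀ (v : Fin n → F₀) (x : Fin n → F),
      hh ((P' : Matrix (Fin n) (Fin n) F) *ᵥ x) ((P' : Matrix (Fin n) (Fin n) F) *ᵥ sfι F₀ v) =
        hh x (sfι F₀ v) := by
    intro v
    apply hermForm_ext_single
    intro j
    rw [← sfι_single F₀ j]
    exact hrat _ _
  have hstep2 : ∀ (x y : Fin n → F),
      hh ((P' : Matrix (Fin n) (Fin n) F) *ᵥ y) ((P' : Matrix (Fin n) (Fin n) F) *ᵥ x) =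
        hh y x := by
    intro x
    apply hermForm_ext_single
    intro j
    rw [← sfι_single F₀ j, ← hermForm_conj hF n, hstep1, hermForm_conj hF n]
  rw [mem_GU_iff]
  intro x y
  exact hstep2 y x

include hF hP in
/-- the subfield group of a rational structure compatible with the unitary form is maximal in the
special unitary group -/
theorem isMaximalIn_general (hn : 6 ≤ n) (r : ℕ) (hr : r.Prime) (hro : Odd r)
    (hcard : Fintype.card F = Nat.card F₀ ^ r) :
    Cfsg.Geo.IsMaximalIn (suGL (F := F) n q) (Cfsg.Geo.subfieldSubgroup F₀ P ⊓ suGL (F := F) n q) := by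
  obtain ⟨q1, hQ, -, hfix⟩ := exists_q1 hF F₀ hro hcard
  obtain ⟨E, hE⟩ := exists_unitary_structure hF F₀ hQ hfix P hP
  have e1 : Cfsg.Geo.subfieldSubgroup F₀ P =
      (Cfsg.Geo.subfieldSubgroup F₀ (1 : GL (Fin n) F)).map
        (MulAut.conj (P * emb F₀ n E)).toMonoidHom := by
    rw [subfieldSubgroup_eq_map F₀ P]
    have h1 : (MulAut.conj (P * emb F₀ n E)).toMonoidHom =
        (MulAut.conj P).toMonoidHom.comp (MulAut.conj (emb F₀ n E)).toMonoidHom := by
      ext x
      simp [mul_assoc]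
    rw [h1, ← Subgroup.map_map, map_conj_eq_self _ _ (emb_mem_sub F₀ E)]
  have e2 : Cfsg.Geo.subfieldSubgroup F₀ P ⊓ suGL (F := F) n q =
      (Hs F₀ n q).map (MulAut.conj (P * emb F₀ n E)).toMonoidHom := by
    unfold Hs
    rw [Subgroup.map_inf _ _ _ (MulAut.conj (P * emb F₀ n E)).injective, map_conj_suGL _ hE, ← e1]
  rw [e2]
  exact isMaximalIn_map_conj (MulAut.conj (P * emb F₀ n E)) _ _ (map_conj_suGL _ hE)
    (isMaximalIn_std hF F₀ hQ hfix hn r hr hcard)

end red

end Cfsg.Agent.Lib.Helper13.USub
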