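import Mathlib
import Cfsg.Prelude.Def_GeometricClasses
import Cfsg.Agent.Lib.Helper44.UfDefs
import Cfsg.Agent.Lib.Helper44.HermSpace
import Cfsg.Agent.Lib.Helper44.SLInvExt

/-! # S5982 hive (helper44), leaf UF-PERM (helper13): a similitude of a permutation-hermitian form
is `GL`-conjugate into the similarity group of the standard hermitian form -/

set_option autoImplicit false
set_option linter.unusedSectionVars false
set_option linter.unusedVariables false
open scoped MatrixGroups
open Matrix

namespace Cfsg.Agent.Lib.Helper44.Uf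

universe v

variable {F : Type v} [Field F]

/-- the permutation-hermitian form of an involution is a hermitian space -/
theorem perm_isHermSpace [Fintype F] {q₀ : ℕ} (hF : Fintype.card F = q₀ ^ 2)
    {I : Type} [Fintype I] [DecidableEq I] {V : Type*} [AddCommGroup V] [Module F V]
    (b : Module.Basis I F V) (ι : I → I) (hι : ∀ i, ι (ι i) = i) :
    Cfsg.Agent.Lib.Helper44.IsHermSpace q₀ (PH q₀ b ι) where
  add_left := by
    intro u u' v
    unfold PH
    simp only [map_add, Finsupp.coe_add, Pi.add_apply, add_mul, Finset.sum_add_distrib]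
  smul_left := by
    intro c u v
    unfold PH
    simp only [map_smul, Finsupp.coe_smul, Pi.smul_apply, smul_eq_mul, Finset.mul_sum, mul_assoc]
  conj := by
    intro u v
    unfold PH
    rw [frobK_sum hF]
    have hιbij : Function.Bijective ι := Function.Involutive.bijective hι
    rw [← (Equiv.ofBijective ι hιbij).sum_comp (fun j => b.repr v j * (b.repr u (ι j)) ^ q₀)]
    apply Finset.sum_congr rfl
    intro i _
    simp only [Equiv.ofBijective_apply, hι, mul_pow, frobK_frobK hF]
    ring
  nondeg := by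
    intro v hv
    have hq : q₀ ≠ 0 := by
      have := two_le_q_of_card hF
      omega
    have h1 : ∀ k, b.repr v (ι k) = 0 := by
      intro k
      have h := hv (b k)
      unfold PH at h
      simp only [Module.Basis.repr_self, Finsupp.single_apply, ite_mul, one_mul, zero_mul,
        Finset.sum_ite_eq, Finset.mem_univ, if_true] at h
      exact (pow_eq_zero_iff hq).mp h
    have h3 : b.repr v = 0 := by
      ext i
      have := h1 (ι i)
      rw [hι] at this
      simpa using this
    exact (LinearEquiv.map_eq_zero_iff b.repr).mp h3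

/-- sesquilinear expansion along a basis -/
theorem perm_expand [Fintype F] {q₀ : ℕ} (hF : Fintype.card F = q₀ ^ 2)
    {I : Type} [Fintype I] [DecidableEq I] {V : Type*} [AddCommGroup V] [Module F V]
    (H : V → V → F) (hH : Cfsg.Agent.Lib.Helper44.IsHermSpace q₀ H)
    (b : Module.Basis I F V) (T : V →ₗ[F] V) (u v : V) :
    H (T u) (T v) = ∑ i, ∑ j, b.repr u i * ((b.repr v j) ^ q₀ * H (T (b i)) (T (b j))) := by
  have hu := b.sum_repr u
  have hv := b.sum_repr v
  conv_lhs => rw [← hu, ← hv]
  rw [map_sum, map_sum, hH.sum_left]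
  apply Finset.sum_congr rfl
  intro i _
  rw [map_smul, hH.smul_left, hH.sum_right hF, Finset.mul_sum]
  apply Finset.sum_congr rfl
  intro j _
  rw [map_smul, hH.smul_right]

/-- a similitude on a basis is a similitude -/
theorem perm_extend [Fintype F] {q₀ : ℕ} (hF : Fintype.card F = q₀ ^ 2)
    {I : Type} [Fintype I] [DecidableEq I] {V : Type*} [AddCommGroup V] [Module F V]
    (H : V → V → F) (hH : Cfsg.Agent.Lib.Helper44.IsHermSpace q₀ H)
    (b : Module.Basis I F V) (T : V →ₗ[F] V) (c : F)
    (hx : ∀ i j, H (T (b i)) (T (b j)) = c * H (b i) (b j)) (u v : V) :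
    H (T u) (T v) = c * H u v := by
  have e1 := perm_expand hF H hH b T u v
  have e2 := perm_expand hF H hH b LinearMap.id u v
  simp only [LinearMap.id_apply] at e2
  rw [e1, e2, Finset.mul_sum]
  apply Finset.sum_congr rfl
  intro i _
  rw [Finset.mul_sum]
  apply Finset.sum_congr rfl
  intro j _
  rw [hx]
  ring

/-- UF-PERM -/
theorem exists_conj_mem_of_PH [Fintype F] {n q₀ : ℕ} (hF : Fintype.card F = q₀ ^ 2)
    {I : Type} [Fintype I] [DecidableEq I] (b : Module.Basis I F (Fin n → F)) (ι : I → I)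
    (hι : ∀ i, ι (ι i) = i) (c : F) (hc : c ≠ 0) (x : GL (Fin n) F)
    (hx : ∀ i j, PH q₀ b ι ((x : Matrix (Fin n) (Fin n) F) *ᵥ b i) ((x : Matrix (Fin n) (Fin n) F) *ᵥ b j)
      = c * PH q₀ b ι (b i) (b j)) :
    ∃ R : GL (Fin n) F, R * x * R⁻¹ ∈ HS n F q₀ := by
  have hH := perm_isHermSpace hF b ι hι
  have hext : ∀ u v, PH q₀ b ι ((x : Matrix (Fin n) (Fin n) F) *ᵥ u)
      ((x : Matrix (Fin n) (Fin n) F) *ᵥ v) = c * PH q₀ b ι u v := by
    intro u v
    have := perm_extend hF _ hH b (Matrix.toLin' (x : Matrix (Fin n) (Fin n) F)) c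
      (by intro i j; rw [Matrix.toLin'_apply, Matrix.toLin'_apply]; exact hx i j) u v
    rw [Matrix.toLin'_apply, Matrix.toLin'_apply] at this
    exact this
  obtain ⟨Θ, hΘ⟩ := exists_herm_coords hF (Fin n → F) (PH q₀ b ι) hH n (Module.finrank_fin_fun F)
  refine ⟨SLInv.glOfEquiv Θ, ?_⟩
  refine ⟨Units.mk0 c hc, ?_⟩
  intro u v
  have key : ∀ w, ((SLInv.glOfEquiv Θ * x * (SLInv.glOfEquiv Θ)⁻¹ : GL (Fin n) F) :
      Matrix (Fin n) (Fin n) F) *ᵥ w = Θ ((x : Matrix (Fin n) (Fin n) F) *ᵥ Θ.symm w) := by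
    intro w
    rw [Units.val_mul, Units.val_mul, ← Matrix.mulVec_mulVec, ← Matrix.mulVec_mulVec,
      SLInv.glOfEquiv_inv_mulVec, SLInv.glOfEquiv_mulVec]
  rw [key, key, hΘ, hext, ← hΘ, Θ.apply_symm_apply, Θ.apply_symm_apply]
  rfl

end Cfsg.Agent.Lib.Helper44.Uf
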