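import Mathlib
import Cfsg.Prelude.Def_GeometricClasses
import Cfsg.Agent.Lib.Helper44.UfDefs
import Cfsg.Agent.Lib.Helper44.HermSpace
import Cfsg.Agent.Lib.Helper13.UfPERM

/-! # S5982 hive (helper44), leaf UF-DIAGSIM (helper13): an element with an eigenbasis whose
eigenvalues satisfy `dᵢ · d_{ι i}^q₀ = c` for an involution `ι` is `GL`-conjugate into `HS` -/

set_option autoImplicit false
set_option linter.unusedSectionVars false
set_option linter.unusedVariables false
open scoped MatrixGroups
open Matrix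

namespace Cfsg.Agent.Lib.Helper44.Uf

universe v

variable {F : Type v} [Field F]

/-- the Gram matrix of the permutation-hermitian form -/
theorem diagsim_PH_basis [Fintype F] {q₀ : ℕ} (hF : Fintype.card F = q₀ ^ 2)
    {I : Type} [Fintype I] [DecidableEq I] {V : Type*} [AddCommGroup V] [Module F V]
    (b : Module.Basis I F V) (ι : I → I) (i j : I) :
    PH q₀ b ι (b i) (b j) = if j = ι i then 1 else 0 := by
  have hq : q₀ ≠ 0 := by
    have := two_le_q_of_card hF
    omega
  unfold PH
  simp only [Module.Basis.repr_self, Finsupp.single_apply, ite_mul, one_mul, zero_mul,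
    Finset.sum_ite_eq, Finset.mem_univ, if_true]
  split_ifs with h
  · rw [one_pow]
  · rw [zero_pow hq]

/-- UF-DIAGSIM -/
theorem exists_conj_mem_of_eigenbasis [Fintype F] {n q₀ : ℕ} (hF : Fintype.card F = q₀ ^ 2)
    {I : Type} [Fintype I] [DecidableEq I] (b : Module.Basis I F (Fin n → F)) (d : I → F) (ι : I → I)
    (hι : ∀ i, ι (ι i) = i) (c : F) (hc : c ≠ 0) (hd : ∀ i, d i * (d (ι i)) ^ q₀ = c) (x : GL (Fin n) F)
    (hx : ∀ i, (x : Matrix (Fin n) (Fin n) F) *ᵥ b i = d i • b i) :
    ∃ R : GL (Fin n) F, R * x * R⁻¹ ∈ HS n F q₀ := by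
  apply exists_conj_mem_of_PH hF b ι hι c hc x
  intro i j
  have hH := perm_isHermSpace hF b ι hι
  rw [hx, hx, hH.smul_left, hH.smul_right, diagsim_PH_basis hF b ι i j]
  by_cases h : j = ι i
  · rw [if_pos h, h, mul_one, mul_one]
    exact hd i
  · rw [if_neg h]
    ring

end Cfsg.Agent.Lib.Helper44.Uf
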