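import Mathlib
import Cfsg.Prelude.Def_GeometricClasses
import Cfsg.Agent.Lib.Helper44.UfDefs
import Cfsg.Agent.Lib.Helper44.HermSpace

/-! # S5982 hive (helper44), leaf UF-NOTSIM (helper13): if `h ∈ HS` and `h * h = z • 1` then `z` is a
square (odd characteristic) -/

set_option autoImplicit false
set_option linter.unusedSectionVars false
set_option linter.unusedVariables false
open scoped MatrixGroups
open Matrix

namespace Cfsg.Agent.Lib.Helper44.Uf

universe v

variable {F : Type v} [Field F]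

/-- the hermitian norm is fixed by Frobenius -/
theorem notsim_norm_pow [Fintype F] {n q₀ : ℕ} (hF : Fintype.card F = q₀ ^ 2) (w : Fin n → F) :
    (Cfsg.hermForm n F q₀ w w) ^ q₀ = Cfsg.hermForm n F q₀ w w := by
  unfold Cfsg.hermForm
  rw [frobK_sum hF]
  apply Finset.sum_congr rfl
  intro i _
  rw [mul_pow, frobK_frobK hF, mul_comm]

/-- the norm of a standard basis vector -/
theorem notsim_norm_single [Fintype F] {n q₀ : ℕ} (hF : Fintype.card F = q₀ ^ 2) (i : Fin n) (a : F) :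
    Cfsg.hermForm n F q₀ (Pi.single i a) (Pi.single i a) = a * a ^ q₀ := by
  have hq : q₀ ≠ 0 := by
    have := two_le_q_of_card hF
    omega
  unfold Cfsg.hermForm
  rw [Finset.sum_eq_single i]
  · rw [Pi.single_eq_same]
  · intro j _ hj
    rw [Pi.single_eq_of_ne hj, zero_mul]
  · intro hi
    exact absurd (Finset.mem_univ i) hi

/-- UF-NOTSIM -/
theorem isSquare_of_mem_HS [Fintype F] {n q₀ : ℕ} (hF : Fintype.card F = q₀ ^ 2) (h2 : (2 : F) ≠ 0)
    (hn : 1 ≤ n) (h : GL (Fin n) F) (hh : h ∈ HS n F q₀) (z : F)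
    (hzz : (h : Matrix (Fin n) (Fin n) F) * (h : Matrix (Fin n) (Fin n) F) = z • (1 : Matrix (Fin n) (Fin n) F)) :
    IsSquare z := by
  obtain ⟨c, hc⟩ := hh
  set i0 : Fin n := ⟨0, by omega⟩ with hi0
  set e0 : Fin n → F := Pi.single i0 1 with he0
  have hN0 : Cfsg.hermForm n F q₀ e0 e0 = 1 := by
    rw [he0, notsim_norm_single hF, one_pow, one_mul]
  -- `c` is a norm value
  have hc1 : (c : F) = Cfsg.hermForm n F q₀ ((h : Matrix (Fin n) (Fin n) F) *ᵥ e0)
      ((h : Matrix (Fin n) (Fin n) F) *ᵥ e0) := by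
    rw [hc, hN0, mul_one]
  have hcq : (c : F) ^ q₀ = c := by
    rw [hc1]
    exact notsim_norm_pow hF _
  -- `c² = z^(q₀+1)`
  have hc2 : (c : F) * c = z * z ^ q₀ := by
    have h1 := hc ((h : Matrix (Fin n) (Fin n) F) *ᵥ e0) ((h : Matrix (Fin n) (Fin n) F) *ᵥ e0)
    rw [← hc1, Matrix.mulVec_mulVec, hzz, Matrix.smul_mulVec, Matrix.one_mulVec] at h1
    rw [← h1]
    have : z • e0 = Pi.single i0 z := by
      rw [he0]
      ext j
      by_cases hj : j = i0
      · subst hj; simp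
      · simp [Pi.single_eq_of_ne hj]
    rw [this, notsim_norm_single hF]
  have hc0 : (c : F) ≠ 0 := c.ne_zero
  have hz0 : z ≠ 0 := by
    rintro rfl
    rw [zero_mul] at hc2
    exact hc0 (mul_self_eq_zero.mp hc2)
  -- parity
  have hchar : ringChar F ≠ 2 := by
    intro hh2
    apply h2
    have h3 : ((ringChar F : ℕ) : F) = 0 := CharP.cast_eq_zero F (ringChar F)
    rw [hh2] at h3
    exact_mod_cast h3
  have hcard : Fintype.card F % 2 = 1 := FiniteField.odd_card_of_char_ne_two hchar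
  have hqodd : Odd q₀ := by
    rw [hF, pow_two] at hcard
    have : Odd (q₀ * q₀) := Nat.odd_iff.mpr hcard
    exact (Nat.odd_mul.mp this).1
  obtain ⟨t, ht⟩ := hqodd
  have hdiv : Fintype.card F / 2 = (q₀ + 1) * t := by
    rw [hF]
    have : q₀ ^ 2 = 2 * ((q₀ + 1) * t) + 1 := by rw [ht]; ring
    omega
  rw [FiniteField.isSquare_iff hchar hz0, hdiv, pow_mul]
  have hz1 : z ^ (q₀ + 1) = (c : F) * c := by
    rw [hc2, pow_succ, mul_comm]
  rw [hz1, ← pow_two, ← pow_mul]
  -- `c^(2t) = 1`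
  have h5 : (c : F) ^ (2 * t) * c = 1 * c := by
    rw [one_mul, ← pow_succ, ← ht]
    exact hcq
  exact mul_right_cancel₀ hc0 h5

end Cfsg.Agent.Lib.Helper44.Uf
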