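import Mathlib
import Cfsg.Prelude.Def_GeometricClasses
import Cfsg.Agent.Lib.Helper44.UfDefs
import Cfsg.Agent.Lib.Helper44.HermSpace
import Cfsg.Agent.Lib.Helper13.UfNOTSIM

/-! # S5982 hive (helper44), leaf UF-SPEC (helper13): elements of the similarity group `HS` of the
standard hermitian form are spectrally symmetric -/

set_option autoImplicit false
set_option linter.unusedSectionVars false
set_option linter.unusedVariables false
open scoped MatrixGroups
open Matrix

namespace Cfsg.Agent.Lib.Helper44.Uf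

universe v

variable {F : Type v} [Field F]

/-- Frobenius `x ↦ x ^ q₀` as a ring homomorphism -/
def spec_frob [Fintype F] {q₀ : ℕ} (hF : Fintype.card F = q₀ ^ 2) : F →+* F where
  toFun x := x ^ q₀
  map_one' := one_pow q₀
  map_mul' := fun a b => mul_pow a b q₀
  map_zero' := zero_pow (by have := two_le_q_of_card hF; omega)
  map_add' := frobK_add hF

theorem spec_frob_apply [Fintype F] {q₀ : ℕ} (hF : Fintype.card F = q₀ ^ 2) (x : F) :
    spec_frob hF x = x ^ q₀ := rfl

theorem spec_frob_frob [Fintype F] {q₀ : ℕ} (hF : Fintype.card F = q₀ ^ 2) (x : F) :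
    spec_frob hF (spec_frob hF x) = x := frobK_frobK hF x

theorem spec_map_map [Fintype F] {n q₀ : ℕ} (hF : Fintype.card F = q₀ ^ 2)
    (A : Matrix (Fin n) (Fin n) F) : (A.map (spec_frob hF)).map (spec_frob hF) = A := by
  ext i j
  simp only [Matrix.map_apply, spec_frob_frob]

theorem spec_mulVec_map {n : ℕ} (σ : F →+* F) (B : Matrix (Fin n) (Fin n) F) (v : Fin n → F) :
    (B.map σ) *ᵥ (fun i => σ (v i)) = fun i => σ ((B *ᵥ v) i) := by
  ext i
  simp only [Matrix.mulVec, dotProduct, Matrix.map_apply, map_sum, map_mul]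

/-- the kernels of `A` and of its Frobenius twist are in bijection -/
theorem spec_card_ker [Fintype F] {n q₀ : ℕ} (hF : Fintype.card F = q₀ ^ 2)
    (A : Matrix (Fin n) (Fin n) F) :
    Nat.card (LinearMap.ker (A.map (spec_frob hF)).mulVecLin)
      = Nat.card (LinearMap.ker A.mulVecLin) := by
  apply Nat.card_congr
  refine ⟨fun v => ⟨fun i => spec_frob hF (v.1 i), ?_⟩,
    fun v => ⟨fun i => spec_frob hF (v.1 i), ?_⟩, ?_, ?_⟩
  · have hv := v.2
    rw [LinearMap.mem_ker, Matrix.mulVecLin_apply] at hv ⊢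
    have := spec_mulVec_map (spec_frob hF) (A.map (spec_frob hF)) v.1
    rw [spec_map_map, hv] at this
    rw [this]
    ext i
    simp
  · have hv := v.2
    rw [LinearMap.mem_ker, Matrix.mulVecLin_apply] at hv ⊢
    have := spec_mulVec_map (spec_frob hF) A v.1
    rw [hv] at this
    rw [this]
    ext i
    simp
  · intro v
    apply Subtype.ext
    funext i
    exact spec_frob_frob hF _
  · intro v
    apply Subtype.ext
    funext i
    exact spec_frob_frob hF _

/-- the rank is invariant under the Frobenius twist -/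
theorem spec_rank_map [Fintype F] {n q₀ : ℕ} (hF : Fintype.card F = q₀ ^ 2)
    (A : Matrix (Fin n) (Fin n) F) : (A.map (spec_frob hF)).rank = A.rank := by
  have h1 := spec_card_ker hF A
  have h1a := Module.natCard_eq_pow_finrank (K := F)
    (V := LinearMap.ker (A.map (spec_frob hF)).mulVecLin)
  have h1b := Module.natCard_eq_pow_finrank (K := F) (V := LinearMap.ker A.mulVecLin)
  rw [h1a, h1b] at h1
  have hq : 2 ≤ Nat.card F := Finite.one_lt_card
  have h3 := Nat.pow_right_injective hq h1
  have e1 := LinearMap.finrank_range_add_finrank_ker (A.map (spec_frob hF)).mulVecLin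
  have e2 := LinearMap.finrank_range_add_finrank_ker A.mulVecLin
  unfold Matrix.rank
  omega

/-- UF-SPEC -/
theorem specSym_of_mem [Fintype F] {n q₀ : ℕ} (hF : Fintype.card F = q₀ ^ 2) (h : GL (Fin n) F)
    (hh : h ∈ HS n F q₀) : SpecSym q₀ (h : Matrix (Fin n) (Fin n) F) := by
  rcases Nat.eq_zero_or_pos n with hn | hn
  · subst hn
    refine ⟨1, one_ne_zero, one_pow _, fun μ _ => ?_⟩
    congr 1
    exact Subsingleton.elim _ _
  obtain ⟨c, hc⟩ := hh
  have hq : q₀ ≠ 0 := by
    have := two_le_q_of_card hF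
    omega
  set A : Matrix (Fin n) (Fin n) F := (h : Matrix (Fin n) (Fin n) F) with hA
  -- `c` is Frobenius-fixed
  set i0 : Fin n := ⟨0, hn⟩ with hi0
  have hc1 : (c : F) = Cfsg.hermForm n F q₀ (A *ᵥ Pi.single i0 1) (A *ᵥ Pi.single i0 1) := by
    rw [hc, notsim_norm_single hF, one_pow, one_mul, mul_one]
  have hcq : (c : F) ^ q₀ = c := by
    rw [hc1]
    exact notsim_norm_pow hF _
  have hc0 : (c : F) ≠ 0 := c.ne_zero
  -- the Gram identity
  have hgram : Aᵀ * A.map (spec_frob hF) = (c : F) • (1 : Matrix (Fin n) (Fin n) F) := by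
    ext i j
    have h1 := hc (Pi.single i 1) (Pi.single j 1)
    rw [Matrix.mulVec_single_one, Matrix.mulVec_single_one] at h1
    unfold Cfsg.hermForm at h1
    rw [Matrix.mul_apply, Matrix.smul_apply, Matrix.one_apply, smul_eq_mul]
    simp only [Matrix.transpose_apply, Matrix.map_apply, spec_frob_apply]
    simp only [Matrix.col_apply] at h1
    rw [h1]
    congr 1
    rw [Finset.sum_eq_single i]
    · rw [Pi.single_eq_same, one_mul]
      by_cases hij : i = j
      · rw [if_pos hij, hij, Pi.single_eq_same, one_pow]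
      · rw [if_neg hij, Pi.single_eq_of_ne hij, zero_pow hq]
    · intro k _ hk
      rw [Pi.single_eq_of_ne hk, zero_mul]
    · intro hi
      exact absurd (Finset.mem_univ i) hi
  have hdetAs : IsUnit (A.map (spec_frob hF)).det := by
    have h1 := congrArg Matrix.det hgram
    rw [Matrix.det_mul, Matrix.det_smul, Matrix.det_one, mul_one] at h1
    have h3 : (A.map (spec_frob hF)).det ≠ 0 := by
      intro h0
      rw [h0, mul_zero] at h1
      exact pow_ne_zero _ hc0 h1.symm
    exact isUnit_iff_ne_zero.mpr h3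
  refine ⟨c, hc0, hcq, ?_⟩
  intro μ hμ
  set ν : F := (c : F) / μ ^ q₀ with hν
  have hσν : spec_frob hF ν = (c : F) / μ := by
    rw [spec_frob_apply, hν, div_pow, hcq, frobK_frobK hF]
  -- the twist of `A - ν`
  have hmap : (A - ν • (1 : Matrix (Fin n) (Fin n) F)).map (spec_frob hF)
      = A.map (spec_frob hF) - ((c : F) / μ) • (1 : Matrix (Fin n) (Fin n) F) := by
    ext i j
    simp only [Matrix.map_apply, Matrix.sub_apply, Matrix.smul_apply, Matrix.one_apply, smul_eq_mul,
      map_sub, map_mul, hσν]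
    by_cases hij : i = j
    · simp [hij]
    · simp [hij]
  -- transpose side
  have hprod : (A - μ • (1 : Matrix (Fin n) (Fin n) F))ᵀ * A.map (spec_frob hF)
      = (-μ) • (A.map (spec_frob hF) - ((c : F) / μ) • (1 : Matrix (Fin n) (Fin n) F)) := by
    rw [Matrix.transpose_sub, Matrix.transpose_smul, Matrix.transpose_one, Matrix.sub_mul, hgram,
      Matrix.smul_mul, Matrix.one_mul, smul_sub, smul_smul]
    have : -μ * ((c : F) / μ) = -(c : F) := by field_simp
    rw [this]
    simp only [neg_smul, sub_neg_eq_add]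
    abel
  have hμ' : (-μ) ∈ nonZeroDivisors F := mem_nonZeroDivisors_of_ne_zero (neg_ne_zero.mpr hμ)
  calc (A - μ • (1 : Matrix (Fin n) (Fin n) F)).rank
      = ((A - μ • (1 : Matrix (Fin n) (Fin n) F))ᵀ).rank := (Matrix.rank_transpose _).symm
    _ = ((A - μ • (1 : Matrix (Fin n) (Fin n) F))ᵀ * A.map (spec_frob hF)).rank :=
        (Matrix.rank_mul_eq_left_of_isUnit_det _ _ hdetAs).symm
    _ = (A.map (spec_frob hF) - ((c : F) / μ) • (1 : Matrix (Fin n) (Fin n) F)).rank := by
        rw [hprod, Matrix.rank_smul_of_mem_nonZeroDivisors _ hμ']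
    _ = ((A - ν • (1 : Matrix (Fin n) (Fin n) F)).map (spec_frob hF)).rank := by rw [hmap]
    _ = (A - ν • (1 : Matrix (Fin n) (Fin n) F)).rank := spec_rank_map hF _

end Cfsg.Agent.Lib.Helper44.Uf
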